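import Mathlib
import Cfsg.Agent.H43.Cent

set_option autoImplicit false
set_option maxRecDepth 200000
set_option linter.style.longLine false

namespace Cfsg.Agent.H59.U43P

open Cfsg.Agent.H43

theorem p_hn : NOk 280 := by decide

theorem p_hk : 280 ≤ 2 ^ 9 := by decide

noncomputable def p_g1 : Net := (Net.cons (nat_lit 1) (nat_lit 0x4401550545514010101455011441115450015404405411504045005144010040400400) (Net.cons (nat_lit 2) (nat_lit 0x2223131201200012200003011233110232023000013203010020120313332120022200) (Net.cons (nat_lit 4) (nat_lit 0xc07000a080000070d0301080a0a030500020f020c0103020d080704030105090c0e00) (Net.cons (nat_lit 8) (nat_lit 0xd300e400b000a8004c003b00ab00c0002e00b900d50023009d004400b000e00008) (Net.cons (nat_lit 16) (nat_lit 0x9200001956000028a9000090d4000065830000bc2900005fd30000004300000600) (Net.cons (nat_lit 32) (nat_lit 0xcf788a0000000083c6d4a50000000042405cb300000000005a1112) (Net.cons (nat_lit 64) (nat_lit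 0x53189450889676e0000000000000000000000000004e54ed) (Net.cons (nat_lit 128) (nat_lit 0x53d7d406a0045e1d28cd425a5a7276a8) (Net.cons (nat_lit 256) (nat_lit 0xffffff) (Net.cons (nat_lit 128) (nat_lit 0xa1745b) (Net.cons (nat_lit 64) (nat_lit 0xfa486d0535c0ff1b00000000000000001104febb9064c147) (Net.cons (nat_lit 32) (nat_lit 0x490b71b200000000cb420ad7000000006f827bc900000000e4b594ea) (Net.cons (nat_lit 16) (nat_lit 0xdc000096800000a9af00005117000004850000cf9e0000bc1d00009131000046c7) (Net.cons (nat_lit 8) (nat_lit 0x50004c003900b800d7002f00b1005b00dd00b800c700920097008d00ba00d10010) (Net.cons (nat_lit 4) (nat_lit 0x50e0a02000808070c010108020b0b0f08080c080609010206010f040c0a0c00070308) (Net.cons (nat_lit 2) (nat_lit 0x2203111021000030203001211011110332003300212203030220132312310102222302) (Net.cons (nat_lit 1) (nat_lit 0x5501550545414010101455011445115450005404404411504045015144050040410400) Net.nil)))))))))))))))))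

theorem p_g1_ok : Net.ok 280 p_g1 = true := by decide +kernel

noncomputable def p_g2 : Net := (Net.cons (nat_lit 1) (nat_lit 0x4011141511440415155515415451411105010101110141501000001411114014040500) (Net.cons (nat_lit 2) (nat_lit 0x3113121103222333201322111200212220021100021030002102210300103032122100) (Net.cons (nat_lit 4) (nat_lit 0xc01030200060406000f0e0303050f040e08040b000d0f0105080e05060b040d0b0300) (Net.cons (nat_lit 8) (nat_lit 0x4b004a009d00e000bf002700690036002100a800e400e2004f004000f300700098) (Net.cons (nat_lit 16) (nat_lit 0x7a000019b40000a1a100006af30000c23800002d2400004a9000001e3d00006c00) (Net.cons (nat_lit 32) (nat_lit 0x24aa385200000000204e79d0000000002a31589c0000000000221801) (Net.cons (nat_lit 64) (nat_lit 0x80e50f38880b80a5000000000000000000000000004888f8) (Net.cons (nat_lit 128) (nat_lit 0xbb0a15138725b78420ed6a691ac7b584) (Net.cons (nat_lit 256) (nat_lit 0xffffff) (Net.cons (nat_lit 128) (nat_lit 0x8b83ab)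 (Net.cons (nat_lit 64) (nat_lit 0x30656b9072c59d5c00000000000000004fae60587ef99044) (Net.cons (nat_lit 32) (nat_lit 0xd1b3cb60000000076b848f7000000004a8d19ed00000000cc8341da) (Net.cons (nat_lit 16) (nat_lit 0x8800001ff00000cce8000000fc0000fbe7000034800000bb570000f08f0000b0a1) (Net.cons (nat_lit 8) (nat_lit 0x200011009000a800b8006f003a0087002a00b100320003009b0040001e00e6008b) (Net.cons (nat_lit 4) (nat_lit 0x401050f0d020f080001000f0b010f0505090b050b0f00000f0c050406090c0a080703) (Net.cons (nat_lit 2) (nat_lit 0x2310210031210033230112003012000303132230001333111233031223001303010232) (Net.cons (nat_lit 1) (nat_lit 0x504140405004454111514005554411004445504040551405000514005405414155514) Net.nil)))))))))))))))))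

theorem p_g2_ok : Net.ok 280 p_g2 = true := by decide +kernel

noncomputable def p_g3 : Net := (Net.cons (nat_lit 1) (nat_lit 0x1451454010415150001100114405441504445551414001541015445510114050000500) (Net.cons (nat_lit 2) (nat_lit 0x1012303111312330311230112030020233101011130002023123322131102010202010) (Net.cons (nat_lit 4) (nat_lit 0xa020e06090f0a0c03030d060a0b0a0301000f05050b04080b080e0c0b020900060800) (Net.cons (nat_lit 8) (nat_lit 0x400018005d003500ec00d600c3009c00d300840097004f00c10040008100e20020) (Net.cons (nat_lit 16) (nat_lit 0x320000e844000062150000e45c0000dfe00000646f000063e50000d92800004500) (Net.cons (nat_lit 32) (nat_lit 0x6d3c54120000000008a0024f0000000022e4584500000000002e2a82) (Net.cons (nat_lit 64) (nat_lit 0xb140904132a8a7c40000000000000000000000000034cad6) (Net.cons (nat_lit 128) (nat_lit 0xb5ce059889b74ab70400f17132cd134a) (Net.cons (nat_lit 256) (nat_lit 0xffffff) (Net.cons (nat_lit 128) (nat_lit 0x85ee03)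 (Net.cons (nat_lit 64) (nat_lit 0x4e04bd2db0998962000000000000000061e1bf0787774cda) (Net.cons (nat_lit 32) (nat_lit 0xffb67735000000009751b8a3000000007f5bec2d00000000f633a36a) (Net.cons (nat_lit 16) (nat_lit 0x64000068580000d03f0000e3f20000433800003f230000f6ba00000ca500005639) (Net.cons (nat_lit 8) (nat_lit 0x48008f0052007c0063002e00e5001b000a00d700d80065000900c3004200c6003b) (Net.cons (nat_lit 4) (nat_lit 0x406090f060b0a0e0a0f0d0f090f030f0c0c0e0b0d0f020c0b09050a0d020309050c0a) (Net.cons (nat_lit 2) (nat_lit 0x3120200122233212120100200033230223113312221003213113311222000011101121) (Net.cons (nat_lit 1) (nat_lit 0x1440444011455150415140514154400400005551414005545014154510105540510500) Net.nil)))))))))))))))))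

theorem p_g3_ok : Net.ok 280 p_g3 = true := by decide +kernel

noncomputable def p_g4 : Net := (Net.cons (nat_lit 1) (nat_lit 0x4440104405401150044105500100041545440110405551100040054510014000154000) (Net.cons (nat_lit 2) (nat_lit 0x1302011120033230133032121223301201310031113122103333310200103210303020) (Net.cons (nat_lit 4) (nat_lit 0x80a070b0e02000a0e00000a0600000d0d08020102000f000d0f09090204080e0b0300) (Net.cons (nat_lit 8) (nat_lit 0xf60001000300e800b300520098001e00f500d9000400c8001400f1006c00c8004d) (Net.cons (nat_lit 16) (nat_lit 0x680000e7470000334b00008108000009b50000229e000094db000007a400001800) (Net.cons (nat_lit 32) (nat_lit 0x68627ae0000000008070a83400000000921184be0000000000382160) (Net.cons (nat_lit 64) (nat_lit 0x781c391089013f5b000000000000000000000000003f81ef) (Net.cons (nat_lit 128) (nat_lit 0xbb9980df8bc849c9c0a4f9ca422077b9) (Net.cons (nat_lit 256) (nat_lit 0xffffff) (Net.cons (nat_lit 128) (nat_lit 0x41738f)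 (Net.cons (nat_lit 64) (nat_lit 0x192e9df0c68d71470000000000000000f5d00baaccf74d32) (Net.cons (nat_lit 32) (nat_lit 0x573ab6ba00000000b5ac44f800000000cc12fbfd00000000fe832a3a) (Net.cons (nat_lit 16) (nat_lit 0x56000024960000379700006b1d0000a2eb00005221000048cb0000eb170000f0d3) (Net.cons (nat_lit 8) (nat_lit 0x3d000a00290085003b0086001400c30084005000600005004f00cb00cd00620052) (Net.cons (nat_lit 4) (nat_lit 0x502030b0e0c020e0e0500020200020d01030302020f0d04080c010b03040f0f0a0b00) (Net.cons (nat_lit 2) (nat_lit 0x3300211120013230133012121023101203130033113122101333310200122010303022) (Net.cons (nat_lit 1) (nat_lit 0x5444504405401040044105500100041545140114415451101040045111001104554001) Net.nil)))))))))))))))))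

theorem p_g4_ok : Net.ok 280 p_g4 = true := by decide +kernel

noncomputable def p_g5 : Net := (Net.cons (nat_lit 1) (nat_lit 0x4015110411451111104101400515441440555414514014540151405000500101400410) (Net.cons (nat_lit 2) (nat_lit 0x120333312322303212112200321103103311312320302310102002322302131100130) (Net.cons (nat_lit 4) (nat_lit 0x2020608050d07070d0e02010b01000305000b0901070e020706060707050809000100) (Net.cons (nat_lit 8) (nat_lit 0x6000da0022005b009a00ad00fd00b5007b003500520072000000c4001600000080) (Net.cons (nat_lit 16) (nat_lit 0x2a0000b838000095c200006d900000ac0900008424000034a40000a54a00000400) (Net.cons (nat_lit 32) (nat_lit 0x26a42d4c000000009805fd6000000000eb39462200000000007a0472) (Net.cons (nat_lit 64) (nat_lit 0xa140400a80bc51f00000000000000000000000000435815) (Net.cons (nat_lit 128) (nat_lit 0xa2d7bfa62e6f997669eba82f9406363c) (Net.cons (nat_lit 256) (nat_lit 0x7fff7f) (Net.cons (nat_lit 128) (nat_lit 0x12523d)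 (Net.cons (nat_lit 64) (nat_lit 0x863c258eec9d14e50000000000000000c56074b086c62b90) (Net.cons (nat_lit 32) (nat_lit 0xbb851d9500000000260cdf1a00000000783f34d200000000f36745e6) (Net.cons (nat_lit 16) (nat_lit 0x900000a753000065d20000aeef0000da5e000086400000d2970000844b0000490a) (Net.cons (nat_lit 8) (nat_lit 0x5300e5002b008500bf001f00a500e10004001d0030007e002300980002002d009d) (Net.cons (nat_lit 4) (nat_lit 0x40609070e0f020a080306050106060701020c03010701040200000503030e030a03) (Net.cons (nat_lit 2) (nat_lit 0x30300312222321032113110320113103311303320233311102102323302031102030) (Net.cons (nat_lit 1) (nat_lit 0x4415145411451554454101044455451440041414115051145151405000501501501410) Net.nil)))))))))))))))))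

theorem p_g5_ok : Net.ok 280 p_g5 = true := by decide +kernel

noncomputable def p_g6 : Net := (Net.cons (nat_lit 1) (nat_lit 0x1005450105554141015444451414054401505515100045551005140511115451111510) (Net.cons (nat_lit 2) (nat_lit 0x131133311230301021102122230012130021023211030132113320031311122133020) (Net.cons (nat_lit 4) (nat_lit 0x70c010c00090809080b0b0d09010f010e0c0f0a0d030a0102030e0a0f0a0102090200) (Net.cons (nat_lit 8) (nat_lit 0x200052001600f800dd002200df00c1000f00a300e3000500aa00e4000a00200008) (Net.cons (nat_lit 16) (nat_lit 0x84000032cd0000a18100000138000041c3000000290000388c00005b880000b000) (Net.cons (nat_lit 32) (nat_lit 0x83f0e3460000000022c0f0b900000000d52904f10000000000ac8264) (Net.cons (nat_lit 64) (nat_lit 0x3110f82100a60c5a000000000000000000000000005d6911) (Net.cons (nat_lit 128) (nat_lit 0x891acf062ec8d869bce8357fbfd3e4f2) (Net.cons (nat_lit 256) (nat_lit 0xfffff7) (Net.cons (nat_lit 128) (nat_lit 0x6c5220)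 (Net.cons (nat_lit 64) (nat_lit 0x632d7edff78b601d0000000000000000a71d5accd76c7d5b) (Net.cons (nat_lit 32) (nat_lit 0x7473f9720000000075d0c4a200000000f12310fb00000000fcfccd7a) (Net.cons (nat_lit 16) (nat_lit 0xf3000068c90000c5a100007ceb00008d9200009967000011ae0000c1f00000ffd9) (Net.cons (nat_lit 8) (nat_lit 0x7700c3004d0084006e008a0002008100f500e500a2006f007000cc00c8003f0062) (Net.cons (nat_lit 4) (nat_lit 0x80605010c0d020f0f0a07010204020108020d0504010f06030b0d0a0d0a0d010c0909) (Net.cons (nat_lit 2) (nat_lit 0x132020301322301221133321100313310232223100211132131321201133031120102) (Net.cons (nat_lit 1) (nat_lit 0x151155045540500514451054545155401540441500015510144004541011550545005) Net.nil)))))))))))))))))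

theorem p_g6_ok : Net.ok 280 p_g6 = true := by decide +kernel

noncomputable def p_g7 : Net := (Net.cons (nat_lit 1) (nat_lit 0x541411505044151150141550115145545010455111410051100500451111500404104) (Net.cons (nat_lit 2) (nat_lit 0x2021310310300331232000001332001030223100203130003110210002202002330100) (Net.cons (nat_lit 4) (nat_lit 0x50c0e0d010d080e0a090d080a0d060609040d0f0e0100090e0c0401080d0309000200) (Net.cons (nat_lit 8) (nat_lit 0xd00075004d009d003b001500ae00b500b7006c002600e4006f004200260006006e) (Net.cons (nat_lit 16) (nat_lit 0x590000a7660000d15300009a200000c2620000c4de000031650000620300001400) (Net.cons (nat_lit 32) (nat_lit 0x1894368300000000f580bb790000000040d4c00a000000000067700a) (Net.cons (nat_lit 64) (nat_lit 0x1d01200803aa836b00000000000000000000000000506482) (Net.cons (nat_lit 128) (nat_lit 0xcf0f1fd28beaa6dab0106bfe1490970a) (Net.cons (nat_lit 256) (nat_lit 0xf7ffde) (Net.cons (nat_lit 128) (nat_lit 0x80642f)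 (Net.cons (nat_lit 64) (nat_lit 0xde0748e2075245ce0000000000000000c9092988101eec0f) (Net.cons (nat_lit 32) (nat_lit 0x8dae974c0000000092a55d1500000000cafbe1ca00000000925faf3d) (Net.cons (nat_lit 16) (nat_lit 0x1f0000761e00007a1500001f6d0000c31600003cca00003ea30000e17400001210) (Net.cons (nat_lit 8) (nat_lit 0xc8005100f9009a0030008a008f00d400a5007300a400f700d700e300bc00840009) (Net.cons (nat_lit 4) (nat_lit 0x70f040e0b09090c0a0907070d0a000309020d020c0a0a040f0809060d0c0903070a) (Net.cons (nat_lit 2) (nat_lit 0x2331313313230130302333203221130200301100002332003322021213222220102301) (Net.cons (nat_lit 1) (nat_lit 0x5111411014440551551001415505554541440150511444540450110445051444444504) Net.nil)))))))))))))))))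

theorem p_g7_ok : Net.ok 280 p_g7 = true := by decide +kernel

noncomputable def p_g8 : Net := (Net.cons (nat_lit 1) (nat_lit 0x4144044511411100405044101451155555011540054500501011555000014001411500) (Net.cons (nat_lit 2) (nat_lit 0x2000113021022030013300231310121001330013200200313001203303130012203100) (Net.cons (nat_lit 4) (nat_lit 0x504030902060f04090708000508040507070202030f08030005040804080b04040000) (Net.cons (nat_lit 8) (nat_lit 0xad001d00cf0039005c0085008200110008002a000100f300ff00480002004c00a8) (Net.cons (nat_lit 16) (nat_lit 0xc8000007da000038a20000dca2000002390000f3230000d956000027b500000600) (Net.cons (nat_lit 32) (nat_lit 0x1ec5499c0000000002c063cf00000000dce4c8a200000000000530d2) (Net.cons (nat_lit 64) (nat_lit 0x835afb4962c5d842000000000000000000000000002e1dfc) (Net.cons (nat_lit 128) (nat_lit 0xb5d648caea3f80176aa8b72188afc147) (Net.cons (nat_lit 256) (nat_lit 0xffffff) (Net.cons (nat_lit 128) (nat_lit 0x7e7894)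 (Net.cons (nat_lit 64) (nat_lit 0x38ca5bc6c2e0cbf50000000000000000ecb12a13f1fd570a) (Net.cons (nat_lit 32) (nat_lit 0xed89f4d400000000edf4574c00000000af8ee8ca00000000ea6f8f9e) (Net.cons (nat_lit 16) (nat_lit 0x370000243e000001d90000c0bd0000bd4a00005be90000f1380000bcc000000877) (Net.cons (nat_lit 8) (nat_lit 0xbc009700de0097006500f2008200370082002e003e00f7005d0066002400ea00ae) (Net.cons (nat_lit 4) (nat_lit 0x607080003070e050a0e09010409050404040103080e0902010c050105030a07050101) (Net.cons (nat_lit 2) (nat_lit 0x2202311211020010313120033310321203112211022000313223221123310032003102) (Net.cons (nat_lit 1) (nat_lit 0x4144044511411100405044101451155555011540054500501011555000014001411500) Net.nil)))))))))))))))))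

theorem p_g8_ok : Net.ok 280 p_g8 = true := by decide +kernel

noncomputable def p_g9 : Net := (Net.cons (nat_lit 1) (nat_lit 0x4004544144444114445451045550410045154014151511040504001101011445451000) (Net.cons (nat_lit 2) (nat_lit 0x3311103012031123202301012302322201200230113021332231213000122201333020) (Net.cons (nat_lit 4) (nat_lit 0xe0b080600080d0803030d0d080a0e0201030601070a0e0a060b0c0f0502000a0d0900) (Net.cons (nat_lit 8) (nat_lit 0xd8000e000000720059007000670021009b00dc00310019001000520092000400a8) (Net.cons (nat_lit 16) (nat_lit 0xc80000ffb8000071090000076100007941000032870000f5bc0000438700008a00) (Net.cons (nat_lit 32) (nat_lit 0xf644232700000000315098310000000038353a020000000000206013) (Net.cons (nat_lit 64) (nat_lit 0x3007e02350491102000000000000000000000000001d2eab) (Net.cons (nat_lit 128) (nat_lit 0x8d56240411b27e653c09c5e34343534a) (Net.cons (nat_lit 256) (nat_lit 0xffffff) (Net.cons (nat_lit 128) (nat_lit 0x5a9a11)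 (Net.cons (nat_lit 64) (nat_lit 0x56e5c9de454f1010000000000000000081a614baeb1765b4) (Net.cons (nat_lit 32) (nat_lit 0x761ab78600000000032151da000000004dfaf34f0000000063654dac) (Net.cons (nat_lit 16) (nat_lit 0xd700007f020000d08a000053d1000067690000b684000034230000464000002206) (Net.cons (nat_lit 8) (nat_lit 0xc30084001000be00310028002500eb0081000600d4004b0018009e004a005a0008) (Net.cons (nat_lit 4) (nat_lit 0x20a0d050b0f00090506030d0404050704010309070f0900060a0003050a0f0d0c090c) (Net.cons (nat_lit 2) (nat_lit 0x2301130020121022212201031130313310013321312222133232311210100113233200) (Net.cons (nat_lit 1) (nat_lit 0x5044544154444114545451045550410045154014150411441514001101410545451010) Net.nil)))))))))))))))))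

theorem p_g9_ok : Net.ok 280 p_g9 = true := by decide +kernel

noncomputable def p_g10 : Net := (Net.cons (nat_lit 1) (nat_lit 0x5505114414104011140000410104154004054440444140405414544544010545544140) (Net.cons (nat_lit 2) (nat_lit 0x312130321021202211001331031012002033123012121111221232120112101133220) (Net.cons (nat_lit 4) (nat_lit 0xb0f0b0e08030b0d0c090f090b0206030e0b0c0007020a040505080e070100090f0900) (Net.cons (nat_lit 8) (nat_lit 0x4700fc0017008200e800e0002300480028005f001600a1003500b700ec002d0002) (Net.cons (nat_lit 16) (nat_lit 0xca00008c390000f566000077dd00001ea400004d360000a7460000887300000a00) (Net.cons (nat_lit 32) (nat_lit 0x4d211c2c000000003431150e000000003c01e0350000000000c402b3) (Net.cons (nat_lit 64) (nat_lit 0x21db61239530988c0000000000000000000000000011a015) (Net.cons (nat_lit 128) (nat_lit 0x7085ef748a29389fcd5e005775335764) (Net.cons (nat_lit 256) (nat_lit 0xf7ffff) (Net.cons (nat_lit 128) (nat_lit 0x8bd017)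 (Net.cons (nat_lit 64) (nat_lit 0x123608e97c2a34ed00000000000000009bfc1e579c70d74c) (Net.cons (nat_lit 32) (nat_lit 0xebefcac900000000bb2bb8110000000065f295020000000032dfa288) (Net.cons (nat_lit 16) (nat_lit 0xc1000004eb0000e8670000f85e000082050000f50d0000bba500000dca00001306) (Net.cons (nat_lit 8) (nat_lit 0x26005e0091001c00c1008f00f3008200a3006e008e006100c50089004900cf002a) (Net.cons (nat_lit 4) (nat_lit 0x10a000a020d0f0a04030e050003010e080d0108070c0f000a0b0b0a010f0006070b05) (Net.cons (nat_lit 2) (nat_lit 0x21123032320023120203000012302131212201130102011130203322102201232332) (Net.cons (nat_lit 1) (nat_lit 0x1401541040050055005555405514444501055110154000450010554100444544541040) Net.nil)))))))))))))))))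

theorem p_g10_ok : Net.ok 280 p_g10 = true := by decide +kernel

noncomputable def p_O : List Net := [p_g1, p_g2, p_g3, p_g4, p_g5, p_g6, p_g7, p_g8, p_g9, p_g10]

theorem p_O_ok : okE 280 p_O = true := (okE_cons.2 ⟨p_g1_ok, (okE_cons.2 ⟨p_g2_ok, (okE_cons.2 ⟨p_g3_ok, (okE_cons.2 ⟨p_g4_ok, (okE_cons.2 ⟨p_g5_ok, (okE_cons.2 ⟨p_g6_ok, (okE_cons.2 ⟨p_g7_ok, (okE_cons.2 ⟨p_g8_ok, (okE_cons.2 ⟨p_g9_ok, (okE_cons.2 ⟨p_g10_ok, (okE_nil 280)⟩)⟩)⟩)⟩)⟩)⟩)⟩)⟩)⟩)⟩)

noncomputable def p_g11 : Net := (Net.cons (nat_lit 1) (nat_lit 0x4055505141115545545555114441101500505055044541401454104501111410510000) (Net.cons (nat_lit 2) (nat_lit 0x220201323111120211102220032233131323123102210022133302330321201001000) (Net.cons (nat_lit 4) (nat_lit 0x107000600040c040804080b0006020709030208030e04080c020102030f0006090100) (Net.cons (nat_lit 8) (nat_lit 0x3b007400a200e70067005400c20004004800c8009300fa0040009d00fc00050018) (Net.cons (nat_lit 16) (nat_lit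 0xd50000b2e1000043c40000cdfd00006844000094080000df60000009a500000800) (Net.cons (nat_lit 32) (nat_lit 0x14af46f10000000005000000000000000c428c680000000000015d42) (Net.cons (nat_lit 64) (nat_lit 0x5821c15d0400000400000000000000000000000000485800) (Net.cons (nat_lit 128) (nat_lit 0xc6fe5a6d81298cd89895893257bffffa) (Net.cons (nat_lit 256) (nat_lit 0xffffff) (Net.cons (nat_lit 128) (nat_lit 0x3da876) (Net.cons (nat_lit 64) (nat_lit 0xedb1212bacf524d700000000000000007a1994c823573582) (Net.cons (nat_lit 32) (nat_lit 0xa94d69b9000000000263a26700000000042ff82a00000000216c108f) (Net.cons (nat_lit 16) (nat_lit 0x490000130b000052e100001163000068d20000840800005e1200002ec40000f914) (Net.cons (nat_lit 8) (nat_lit 0x21004300cf0011002a00fc00f7006300f7006d005700c400100088003c002d00fa) (Net.cons (nat_lit 4) (nat_lit 0x20f040c0e020700030a0106030a0f050f0b02090d0408010c0006040f05070d0a0d07) (Net.cons (nat_lit 2) (nat_lit 0x13003312213320213132002012310030030203103301222321220213120033233312)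 (Net.cons (nat_lit 1) (nat_lit 0x5515004400445151114511010400455140150015054011004050441541540001450004) Net.nil)))))))))))))))))

theorem p_g11_ok : Net.ok 280 p_g11 = true := by decide +kernel

noncomputable def p_V12 : List Net := [p_g11]

theorem p_V12_ok : okE 280 p_V12 = true := (okE_cons.2 ⟨p_g11_ok, (okE_nil 280)⟩)

noncomputable def p_g14 : Net := (Net.cons (nat_lit 1) (nat_lit 0x5511550554040015410054150541411004114454040041411400501040515405445500) (Net.cons (nat_lit 2) (nat_lit 0x2003012300211010031101312122313020132031121010202132213012132203100220) (Net.cons (nat_lit 4) (nat_lit 0xd080a0609000f050f01090f0603010b090f000e040907090d0f0a05010905080a0b00) (Net.cons (nat_lit 8) (nat_lit 0x99009e0007008f000400bb00bb000300090067006d003b00a700a8000c00cd0000) (Net.cons (nat_lit 16) (nat_lit 0x1200009ee200009a6f0000a2080000ce9b000011c4000024870000900c00001000) (Net.cons (nat_lit 32) (nat_lit 0x8f0222d7000000006a2d98a100000000a836d4170000000000490b32)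 (Net.cons (nat_lit 64) (nat_lit 0xec81601013d0306a000000000000000000000000000da029) (Net.cons (nat_lit 128) (nat_lit 0x7657a4725b3156e488f8d0c020d22c53) (Net.cons (nat_lit 256) (nat_lit 0xdfbf7b) (Net.cons (nat_lit 128) (nat_lit 0xde0558) (Net.cons (nat_lit 64) (nat_lit 0x38c05f1b9a7d69d60000000000000000f19eb44d2004b839) (Net.cons (nat_lit 32) (nat_lit 0x5c876ef800000000e21c6e2800000000cab568c3000000005cb2b44e) (Net.cons (nat_lit 16) (nat_lit 0x980000b0d60000cf7c000014040000ac1c0000ed260000145800005c930000aa92) (Net.cons (nat_lit 8) (nat_lit 0xa3005500ca00fe007200ec00db00b8002d007600d000f40044000e00a1008600fa) (Net.cons (nat_lit 4) (nat_lit 0x80705040b0f05090a0b050c070d0d08090c0c020f0a00050a030c040309090707000c) (Net.cons (nat_lit 2) (nat_lit 0x2233233302031301302013003002030222101220310332331022213121212002202000) (Net.cons (nat_lit 1) (nat_lit 0x4050555005511044154515455515115014044404454011041441554504115405441040) Net.nil)))))))))))))))))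

theorem p_g14_ok : Net.ok 280 p_g14 = true := by decide +kernel

noncomputable def p_g15 : Net := (Net.cons (nat_lit 1) (nat_lit 0x4055105011150415141145410054145440155045010044014055555454450040011100) (Net.cons (nat_lit 2) (nat_lit 0x1202133010102300020103133111331011120303200311303221323302331031213000) (Net.cons (nat_lit 4) (nat_lit 0xa00040c000a05030500050f0b04010a040a07010e0001000a00010c000e00020e0000) (Net.cons (nat_lit 8) (nat_lit 0x1b003900f3008b0038009e00830007006600a30046004f00cb0043001400bb0040) (Net.cons (nat_lit 16) (nat_lit 0x220000c7280000329200007f340000766a000008120000c37600005a0200004200) (Net.cons (nat_lit 32) (nat_lit 0x9073ce60000000003c90422200000000201485960000000000000200) (Net.cons (nat_lit 64) (nat_lit 0xba0d604044384fe800000000000000000000000000004020) (Net.cons (nat_lit 128) (nat_lit 0x9352ac9b4b986570681d575bac004620) (Net.cons (nat_lit 256) (nat_lit 17958) (Net.cons (nat_lit 128) (nat_lit 0xa0cabc)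 (Net.cons (nat_lit 64) (nat_lit 0x9c096e6af49853ff0000000000000000928a338a78ae93f4) (Net.cons (nat_lit 32) (nat_lit 0x6077f3ec000000000581b934000000003e148a78000000002342b988) (Net.cons (nat_lit 16) (nat_lit 0xfb0000d76c0000a8160000c56000008e9400005a0200003b7d00004c3600001200) (Net.cons (nat_lit 8) (nat_lit 0x97003d00db0021009a00ba00290065004e00a3004c004d00250045001200310064) (Net.cons (nat_lit 4) (nat_lit 0x30b0d0d000a050b0d00050b0b04010e000e07010e0401040a040d06000e000b0e0400) (Net.cons (nat_lit 2) (nat_lit 0x1202133010300122220103331331113213300301022311123221101100311033211200) (Net.cons (nat_lit 1) (nat_lit 0x4055105011154415541145410054145440155055010044014055555454450040011100) Net.nil)))))))))))))))))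

theorem p_g15_ok : Net.ok 280 p_g15 = true := by decide +kernel

noncomputable def p_g16 : Net := (Net.cons (nat_lit 1) (nat_lit 0x1010111014151101104105101145511441104115001400551001115140554415000000) (Net.cons (nat_lit 2) (nat_lit 0x20030103230130100222100112133212210033233333020332111002110021120100) (Net.cons (nat_lit 4) (nat_lit 0x500030206060b0b010b070f07010e060f060c04070c020e04080a06000c0908080200) (Net.cons (nat_lit 8) (nat_lit 0x20001c002300c00009002f006300d400df0070002a004500e500ac00a200a8001d) (Net.cons (nat_lit 16) (nat_lit 0x1000001024000052260000071b0000637f00001e010000546d0000827100005e00) (Net.cons (nat_lit 32) (nat_lit 0x60a58b35000000000bb0d30e000000006800b20f0000000000670800) (Net.cons (nat_lit 64) (nat_lit 0x92408000094829e10000000000000000000000000090d4a3) (Net.cons (nat_lit 128) (nat_lit 0xbaca87b705eb840724a628d37cdb871d) (Net.cons (nat_lit 256) (nat_lit 0xffffff) (Net.cons (nat_lit 128) (nat_lit 0x8ffffd)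 (Net.cons (nat_lit 64) (nat_lit 0x1b5b27fe03000020000000000000000619a51042a3be8d8) (Net.cons (nat_lit 32) (nat_lit 0x478a5842000000009350000000000000e4fcc64500000000539ba07c) (Net.cons (nat_lit 16) (nat_lit 0x230000a5f7000091fe000002a40000e81100006645000033360000590a00005e7c) (Net.cons (nat_lit 8) (nat_lit 0x46001600c1007a0029009a009d00ec00a000ff00a9005400fc00b200eb00660011) (Net.cons (nat_lit 4) (nat_lit 0x70d0c0d0d0a06040007010907090208070704040b02050605090602080e03040a0704) (Net.cons (nat_lit 2) (nat_lit 0x23310131301220113101223010213222222032112103012011021033331111231332) (Net.cons (nat_lit 1) (nat_lit 0x4515504110405554001110405540541545141511445440110454541510151541154510) Net.nil)))))))))))))))))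

theorem p_g16_ok : Net.ok 280 p_g16 = true := by decide +kernel

noncomputable def p_g17 : Net := (Net.cons (nat_lit 1) (nat_lit 0x5005141410054045055051104151511440501101100040154411141001010500501404) (Net.cons (nat_lit 2) (nat_lit 0x20121100112003220330102011113010011233330221100322022022211203112320) (Net.cons (nat_lit 4) (nat_lit 0x704000f0f08020e010d0b06040b030e0401030a050e01080d0f0f0b000c060e040800) (Net.cons (nat_lit 8) (nat_lit 0xec00710066001100120011007600cf00a10040003c006500c300a5004400820030) (Net.cons (nat_lit 16) (nat_lit 0xed00004250000041200000839d0000ce76000049390000936a0000ea410000b500) (Net.cons (nat_lit 32) (nat_lit 0x42828d1100000000838da0c800000000194e18790000000000370800) (Net.cons (nat_lit 64) (nat_lit 0x49409308a485e4400000000000000000000000000e418e9) (Net.cons (nat_lit 128) (nat_lit 0xc23d02608f447688e4a32d91612e2305) (Net.cons (nat_lit 256) (nat_lit 0xffbffd) (Net.cons (nat_lit 128) (nat_lit 0x8eaaea)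 (Net.cons (nat_lit 64) (nat_lit 0x48be8c718f6874460000000000000000f6c51c9fce666309) (Net.cons (nat_lit 32) (nat_lit 0xca8b4f2a00000000e9e3005f000000001775243900000000a2d55010) (Net.cons (nat_lit 16) (nat_lit 0x5b0000bad50000d62f0000ff130000ce4c0000ddf50000af0b00005ff10000f73c) (Net.cons (nat_lit 8) (nat_lit 0xba007900d3001f00bc004300b500ec008e007b0089006800ae000000b7002f000e) (Net.cons (nat_lit 4) (nat_lit 0x3050d080a080e0d010c000a02070a0c0b0709080f070b0c090e07020a050a010e0d00) (Net.cons (nat_lit 2) (nat_lit 0x1010132212233131210011320333101201312130221033030020323013331203303100) (Net.cons (nat_lit 1) (nat_lit 0x5155510010500010440505011551040045540450500150415144110540005551454) Net.nil)))))))))))))))))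

theorem p_g17_ok : Net.ok 280 p_g17 = true := by decide +kernel

noncomputable def p_V18 : List Net := [p_g14, p_g15, p_g16, p_g17]

theorem p_V18_ok : okE 280 p_V18 = true := (okE_cons.2 ⟨p_g14_ok, (okE_cons.2 ⟨p_g15_ok, (okE_cons.2 ⟨p_g16_ok, (okE_cons.2 ⟨p_g17_ok, (okE_nil 280)⟩)⟩)⟩)⟩)

noncomputable def p_g20 : Net := (Net.cons (nat_lit 1) (nat_lit 0x5110001544551044054010505110414011445155544510014501011144445404000) (Net.cons (nat_lit 2) (nat_lit 0x3320201231202012331131112211010311111101031222133222111211200211203300) (Net.cons (nat_lit 4) (nat_lit 0xa0c080c00080f07030109010705020d0b0a0406010a050e000000080401010c0f0c00) (Net.cons (nat_lit 8) (nat_lit 0x8500b7009600ce008800080059004c00520033007e0000000900a300a500fa0035) (Net.cons (nat_lit 16) (nat_lit 0xa00003301000037c70000fdbc0000a25a0000e8620000d6ea00003d4600001000) (Net.cons (nat_lit 32) (nat_lit 0x12d3541100000000a5a820450000000083d416060000000000a4e721) (Net.cons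 (nat_lit 64) (nat_lit 0x422040315511490c00000000000000000000000000b4170b) (Net.cons (nat_lit 128) (nat_lit 0x2304d4bf45c8f92a6d64148c9a625164) (Net.cons (nat_lit 256) (nat_lit 0xffff6f) (Net.cons (nat_lit 128) (nat_lit 0x9917e4) (Net.cons (nat_lit 64) (nat_lit 0xe218df9c47926fb40000000000000000d661b60f0680c2af) (Net.cons (nat_lit 32) (nat_lit 0x12cbe75500000000972bef9c00000000168f89be00000000b787654c) (Net.cons (nat_lit 16) (nat_lit 0x7a0000ad1a000072e700002c2e00003a950000d711000060880000b36b0000628d) (Net.cons (nat_lit 8) (nat_lit 0x58000900e200cd0083007f00830071005100ad00b600af00d500e1007f00110085) (Net.cons (nat_lit 4) (nat_lit 0xe0c0f01000b0b04000105080705020200010e010f0c040c0f020c06010d030a080a0a) (Net.cons (nat_lit 2) (nat_lit 0x3113303232233133302002100033221123033031303210301210211211010310003100) (Net.cons (nat_lit 1) (nat_lit 0x4010115044040444404514105504104541110555055511055011544144150154154150) Net.nil)))))))))))))))))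

theorem p_g20_ok : Net.ok 280 p_g20 = true := by decide +kernel

noncomputable def p_V21 : List Net := [p_g20]

theorem p_V21_ok : okE 280 p_V21 = true := (okE_cons.2 ⟨p_g20_ok, (okE_nil 280)⟩)

noncomputable def p_g23 : Net := (Net.cons (nat_lit 1) (nat_lit 0x555450455551440551111100040111401140144445511544505541414551004540104) (Net.cons (nat_lit 2) (nat_lit 0x3102033000013313031303101330102331100313002002303001333010013100010200) (Net.cons (nat_lit 4) (nat_lit 0x7060d0302020a090900070e0f0900070002040a0f0608080805070208010502080800) (Net.cons (nat_lit 8) (nat_lit 0xc200bf00a60005001e000b0049004f00da001800bd00a40026004c005600000080) (Net.cons (nat_lit 16) (nat_lit 0xb70000035800008d3e0000d44b0000118f00008dfa0000570a0000910100002700) (Net.cons (nat_lit 32) (nat_lit 0x38820df30000000053dba7ee00000000a429252e0000000000200443) (Net.cons (nat_lit 64) (nat_lit 0x522228a4459c50f700000000000000000000000000299350) (Net.cons (nat_lit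 128) (nat_lit 0xebc44cec8191c17691232210f42a0cfc) (Net.cons (nat_lit 256) (nat_lit 0x3bbfff) (Net.cons (nat_lit 128) (nat_lit 0x4698fd) (Net.cons (nat_lit 64) (nat_lit 0x73cb8b2ac70d1ad700000000000000006b71b34a8540557c) (Net.cons (nat_lit 32) (nat_lit 0xa663cfa90000000008670718000000006f5cd51a0000000083cdbf2d) (Net.cons (nat_lit 16) (nat_lit 0xaa00007b790000886100006ea100009a200000d6c6000099c5000095c4000057de) (Net.cons (nat_lit 8) (nat_lit 0x360051002200760016003900fc00a30073006f00c6000b0043005d002a00b50070) (Net.cons (nat_lit 4) (nat_lit 0x70e040a0b0d0109060f090a060a0a060809000f0000050e040a0c0a0605000c0b0002) (Net.cons (nat_lit 2) (nat_lit 0x2311031022302010330032220203131000213112111232022001012013220212210022) (Net.cons (nat_lit 1) (nat_lit 0x1114150400144045544514004101150455405445044514050501041404455045501104) Net.nil)))))))))))))))))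

theorem p_g23_ok : Net.ok 280 p_g23 = true := by decide +kernel

noncomputable def p_g24 : Net := (Net.cons (nat_lit 1) (nat_lit 0x5051455405544054404405100500151154045111101014001510044100454154415100) (Net.cons (nat_lit 2) (nat_lit 0x3310013033122121331333231012011032202102020100212021003320230120121000) (Net.cons (nat_lit 4) (nat_lit 0xc0c02000b0f0c06000a020f09080d040a0c08020b0601070203020c050b05000a0100) (Net.cons (nat_lit 8) (nat_lit 0x25006c00d50050008c00040030008e003700d700b5009200c000eb000700440040) (Net.cons (nat_lit 16) (nat_lit 0x4a0000fbfb0000f5380000e08e000075e700001ea50000daa70000404500000000) (Net.cons (nat_lit 32) (nat_lit 0x6c7ec3ec000000009e22aa01000000001101c8000000000000000060) (Net.cons (nat_lit 64) (nat_lit 0x21000e0628996200000000000000000000000000008040) (Net.cons (nat_lit 128) (nat_lit 0x5797a953a762e962b824654c51008060) (Net.cons (nat_lit 256) (nat_lit 32878) (Net.cons (nat_lit 128) (nat_lit 0x8d92e0)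 (Net.cons (nat_lit 64) (nat_lit 0x30dbe6764dd8a9e70000000000000000a15e82ab73c07840) (Net.cons (nat_lit 32) (nat_lit 0x99b4836d000000001d1d263b00000000b419d12e000000002336eef0) (Net.cons (nat_lit 16) (nat_lit 0x510000bf7b00005eb80000c6df00005fab0000fffd00002ea40000cce800002220) (Net.cons (nat_lit 8) (nat_lit 0x94006c009300b0000c00570012009e00440025005300da004200a2002400260000) (Net.cons (nat_lit 4) (nat_lit 0x80808000a0b0c0c0e0c060e0e0b0f0c0606090a02040a040f000008090b0f030b0700) (Net.cons (nat_lit 2) (nat_lit 0x3310231222300321131121222032211002123123100121312000223201211031123232) (Net.cons (nat_lit 1) (nat_lit 0x5051455014401455411104055541040100414114501014411110455115440014404410) Net.nil)))))))))))))))))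

theorem p_g24_ok : Net.ok 280 p_g24 = true := by decide +kernel

noncomputable def p_g25 : Net := (Net.cons (nat_lit 1) (nat_lit 0x1111441500154415411455000511411114055451445105451140000040550444100400) (Net.cons (nat_lit 2) (nat_lit 0x1013232231220312210332110133102230000332230013003230010020320121001000) (Net.cons (nat_lit 4) (nat_lit 0x703020904010300030205050a0b0d0e030c0e05020101070d03000d000704020b0400) (Net.cons (nat_lit 8) (nat_lit 0x6100d40037006700c6000a009a002a0049007b009900ca00b5004300cc00070002) (Net.cons (nat_lit 16) (nat_lit 0xb40000f62700001c900000bf4400005191000030960000402e0000022600002400) (Net.cons (nat_lit 32) (nat_lit 0xe6f86f2800000000184fb01d00000000082ec4860000000000240a80) (Net.cons (nat_lit 64) (nat_lit 0x87e42cd06080a92a00000000000000000000000000326084) (Net.cons (nat_lit 128) (nat_lit 0xbed14373a3da22280124ac8c49c8a52e) (Net.cons (nat_lit 256) (nat_lit 0xfeffee) (Net.cons (nat_lit 128) (nat_lit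 0xdf7868) (Net.cons (nat_lit 64) (nat_lit 0xccf5f0b4968b79db0000000000000000012ed4d181b91bd6) (Net.cons (nat_lit 32) (nat_lit 0x686a48cb000000007a798dc8000000003e40a27f00000000fdffc622) (Net.cons (nat_lit 16) (nat_lit 0x9f0000db9f0000488b0000999600006ccb0000c0880000240d00000bec00004892) (Net.cons (nat_lit 8) (nat_lit 0x7f009a00d500d8001600ca0002008a007b00fb00eb0017005b00a700f1008800d4) (Net.cons (nat_lit 4) (nat_lit 0x30b060e0a0409060800000f0801050e06050a030b060306020e090c0f060b0303050c) (Net.cons (nat_lit 2) (nat_lit 0x1230101100033102011323123331111030312122022220123033123120331122220010) (Net.cons (nat_lit 1) (nat_lit 0x501040014551011511145451540510445550001140550054051501415101411151044) Net.nil)))))))))))))))))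

theorem p_g25_ok : Net.ok 280 p_g25 = true := by decide +kernel

noncomputable def p_V26 : List Net := [p_g23, p_g24, p_g25]

theorem p_V26_ok : okE 280 p_V26 = true := (okE_cons.2 ⟨p_g23_ok, (okE_cons.2 ⟨p_g24_ok, (okE_cons.2 ⟨p_g25_ok, (okE_nil 280)⟩)⟩)⟩)

noncomputable def p_g28 : Net := (Net.cons (nat_lit 1) (nat_lit 0x1114050510140045544504004101150455405445044514050501001400455045101104) (Net.cons (nat_lit 2) (nat_lit 0x2110023032302332211202330221130223011132011212202201010202102030231000) (Net.cons (nat_lit 4) (nat_lit 0x70c0d00010e0d0b03000f0d07080e0c000a0e000004060b030b0d0902040604040200) (Net.cons (nat_lit 8) (nat_lit 0x800ca00f300fa001100e400e700c2001400c50031001600b500f60052003a0004) (Net.cons (nat_lit 16) (nat_lit 0xe50000baa0000004b00000e05f00001e8d0000c6750000dee00000089c00009200) (Net.cons (nat_lit 32) (nat_lit 0xb98ee8a8000000002c058466000000008269c6130000000000ea2610) (Net.cons (nat_lit 64) (nat_lit 0x38030a41885e705900000000000000000000000000012403)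 (Net.cons (nat_lit 128) (nat_lit 0x9cc608d094a0e6042281f39d785232ab) (Net.cons (nat_lit 256) (nat_lit 0xfff6bb) (Net.cons (nat_lit 128) (nat_lit 0x8c37f8) (Net.cons (nat_lit 64) (nat_lit 0xb6a249e911c8ddd300000000000000003f0d829ee9a4d45f) (Net.cons (nat_lit 32) (nat_lit 0x5f2f5bba00000000b26f64e100000000ce056505000000006f66592e) (Net.cons (nat_lit 16) (nat_lit 0xc900009a7e000017f4000044690000f75600006f2b00001252000096a20000c782) (Net.cons (nat_lit 8) (nat_lit 0xc300e000de00f2009000f600b800f20054002200ca002b0065000a0092006f0032) (Net.cons (nat_lit 4) (nat_lit 0xe0e04090a000a02090c0404070d02000708050f0d0b090d040600090f00060e080004) (Net.cons (nat_lit 2) (nat_lit 0x2300203031032333233303332012302020122332000202203213311213012102233000) (Net.cons (nat_lit 1) (nat_lit 0x4555450454551440151111100140111501150144445511144505541414551005540104) Net.nil)))))))))))))))))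

theorem p_g28_ok : Net.ok 280 p_g28 = true := by decide +kernel

noncomputable def p_V29 : List Net := [p_g28]

theorem p_V29_ok : okE 280 p_V29 = true := (okE_cons.2 ⟨p_g28_ok, (okE_nil 280)⟩)

noncomputable def p_g31 : Net := (Net.cons (nat_lit 1) (nat_lit 0x404000051041400155055010100001441050005541545541545541544155004155004) (Net.cons (nat_lit 2) (nat_lit 0x33330000221110320300221033002231222003210103210103210100301200301200) (Net.cons (nat_lit 4) (nat_lit 0xf0100000a0502000a0c0008000c00090900000b0602000d010b0602000400090c0900) (Net.cons (nat_lit 8) (nat_lit 0x90004e00490000000800280000004a000000180002004800180002006800c50000) (Net.cons (nat_lit 16) (nat_lit 0x44000035000000400000000000000000080000000d000094220000284000000000) (Net.cons (nat_lit 32) (nat_lit 0x6e3000000000004000000800000000942208400000000000000000) (Net.cons (nat_lit 64) (nat_lit 0x40000008004e300000000000000000000000000000000000) (Net.cons (nat_lit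 128) (nat_lit 0x400000080000000000000000004e3000) (Net.cons (nat_lit 256) (nat_lit 0x4e3000) (Net.cons (nat_lit 128) (nat_lit 0x4e3000) (Net.cons (nat_lit 64) (nat_lit 0x40200008404e300000000000000000009422084000000000) (Net.cons (nat_lit 32) (nat_lit 0x2f6e7000000000006000000800000000942f0a400000000028410000) (Net.cons (nat_lit 16) (nat_lit 0x9600003b01000040cd0000a21e0000480700009c6f0000d72a00002a4d00005590) (Net.cons (nat_lit 8) (nat_lit 0x42004e00020000006f002300070050002d00a800d200a100a800d20035004300f0) (Net.cons (nat_lit 4) (nat_lit 0x60901060a0400000e000800000c00090902080b030400000f0b030400030a090a0200) (Net.cons (nat_lit 2) (nat_lit 0x2111220001301333321101211130122231222000210130210130210131130211130212) (Net.cons (nat_lit 1) (nat_lit 0x1414141455041400011444450505051541050000451110451110451115411045411040) Net.nil)))))))))))))))))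

theorem p_g31_ok : Net.ok 280 p_g31 = true := by decide +kernel

noncomputable def p_g32 : Net := (Net.cons (nat_lit 1) (nat_lit 0x5051455455410440011104141401415110044044410054400005010000115445550400) (Net.cons (nat_lit 2) (nat_lit 0x3310013013220123221132111302010202302030101012021011033303201021002200) (Net.cons (nat_lit 4) (nat_lit 0xc0c0200040a0b0f080d070e070204050f07030405090c0b060e080e04080b0e010400) (Net.cons (nat_lit 8) (nat_lit 0x8500c30070001200ee008000ae002600a100fd00ad002000ea001200dc004b0040) (Net.cons (nat_lit 16) (nat_lit 0xa0000e18d0000affb00008c210000b56c0000526600008eb30000a41400000000) (Net.cons (nat_lit 32) (nat_lit 0x187967e1000000008510418a0000000092c088c80000000000000000) (Net.cons (nat_lit 64) (nat_lit 0xea089b553d40678d00000000000000000000000000000080) (Net.cons (nat_lit 128) (nat_lit 0xe0a928c69be692bd1ee5931326402080) (Net.cons (nat_lit 256) (nat_lit 0x40208e) (Net.cons (nat_lit 128) (nat_lit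 0x597de0) (Net.cons (nat_lit 64) (nat_lit 0x7a50dd44ddc47ced00000000000000006c7cc7cbdb4d2630) (Net.cons (nat_lit 32) (nat_lit 0x3958ed9f00000000bf60d8f60000000021f99f940000000033e46830) (Net.cons (nat_lit 16) (nat_lit 0x11000020890000bf0d00005a2f0000803700005a8300009c99000003ee000086e0) (Net.cons (nat_lit 8) (nat_lit 0x3400c3000c001a006800e900dc0068003b00a200c400a700a100a2001d002c0000) (Net.cons (nat_lit 4) (nat_lit 0x8080800020d080a0c09050e02090202010e050e01080f0605020d02000a0202090200) (Net.cons (nat_lit 2) (nat_lit 0x3310231211312113020100300112102302133011133333322030100002222322210322) (Net.cons (nat_lit 1) (nat_lit 0x5051455054011554150001005501054455405154005555040411115101051041145550) Net.nil)))))))))))))))))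

theorem p_g32_ok : Net.ok 280 p_g32 = true := by decide +kernel

noncomputable def p_g33 : Net := (Net.cons (nat_lit 1) (nat_lit 0x5051455405015544151004444514005540540540510040454010045151115115014400) (Net.cons (nat_lit 2) (nat_lit 0x3310013001330222131002003031130012132103122222202133301100302110020000) (Net.cons (nat_lit 4) (nat_lit 0xc0c02000e0b0801000e0809030c010a050b0903030c05080b08000500010b0a010500) (Net.cons (nat_lit 8) (nat_lit 0x50054002900250005004f0038001c008d009200c0002c009e0001003800ae0000) (Net.cons (nat_lit 16) (nat_lit 0x4a0000e1580000e32900008f4e0000acc500002e0300002b1e0000028900008000) (Net.cons (nat_lit 32) (nat_lit 0xd019f44400000000488d3890000000003184146b0000000000008000) (Net.cons (nat_lit 64) (nat_lit 0x38c911476196a27000000000000000000000000000000040) (Net.cons (nat_lit 128) (nat_lit 0x9941112737a154efe09cae78ca00a040) (Net.cons (nat_lit 256) (nat_lit 41038) (Net.cons (nat_lit 128) (nat_lit 0x36b2d0)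 (Net.cons (nat_lit 64) (nat_lit 0xb9bbcba3425cfd5c000000000000000089dc54cb1ed336d0) (Net.cons (nat_lit 32) (nat_lit 0x253bf2e60000000094cec760000000002e990c8b00000000ca494570) (Net.cons (nat_lit 16) (nat_lit 0x510000f5d8000029800000ff590000c80800006f890000dba50000a07600000da0) (Net.cons (nat_lit 8) (nat_lit 0xb4005400ab001600d500ce00d3004a00ae00fe00f80002000900c7004e005900d0) (Net.cons (nat_lit 4) (nat_lit 0x80808000e0e0b0b02050d070906090a07080003080b0a070909050302000a0a080200) (Net.cons (nat_lit 2) (nat_lit 0x3310231213103133013130321130010011311023123010100203301122012020322102) (Net.cons (nat_lit 1) (nat_lit 0x5051455004000001151000541400050514501401505411400540054515414100444000) Net.nil)))))))))))))))))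

theorem p_g33_ok : Net.ok 280 p_g33 = true := by decide +kernel

noncomputable def p_g34 : Net := (Net.cons (nat_lit 1) (nat_lit 0x5100401040414410014114155510455501455550150511440141404141444041054000) (Net.cons (nat_lit 2) (nat_lit 0x3300130103322030122302113032133100010323201300122032121020322310320300) (Net.cons (nat_lit 4) (nat_lit 0xe0203020d0b060e0e09020e0c0703070502000402020302040e060105000d0a0b0600) (Net.cons (nat_lit 8) (nat_lit 0xc005a000600ac003300140039009700ab00a1009c008c009f009f0054005c0010) (Net.cons (nat_lit 16) (nat_lit 0x5c0000a9a500004f440000b9860000b71b0000e496000031df0000262c00002000) (Net.cons (nat_lit 32) (nat_lit 0xebf822dc00000000e574100800000000a000c5d40000000000502000) (Net.cons (nat_lit 64) (nat_lit 0x87d47d0ac158225600000000000000000000000000000000) (Net.cons (nat_lit 128) (nat_lit 0x3f120f07c263c2a498e5f0bc29582000) (Net.cons (nat_lit 256) (nat_lit 0x58200c) (Net.cons (nat_lit 128) (nat_lit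 0xd0a9fa) (Net.cons (nat_lit 64) (nat_lit 0x276501f29b7fad4e0000000000000000a11ac878b924ed82) (Net.cons (nat_lit 32) (nat_lit 0x59f0769f00000000ceee4fc100000000d5d251bb00000000360258c2) (Net.cons (nat_lit 16) (nat_lit 0xe80000eb8e0000471c00008fdb000027a70000fce90000ec720000b71a0000c7ea) (Net.cons (nat_lit 8) (nat_lit 0x28005a00b400dc0096001a00d000c1002b0041002d00420029001c00ce00de0020) (Net.cons (nat_lit 4) (nat_lit 0x70205010c0c0c080a0d00090b0e090e0d0e0d0f0008090c0f0c07040300020f070200) (Net.cons (nat_lit 2) (nat_lit 0x2120321323002202303133300203133102031113212211130322313333211101231032) (Net.cons (nat_lit 1) (nat_lit 0x5510400055500154105114411551401440140514000111145450405455105404411414) Net.nil)))))))))))))))))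

theorem p_g34_ok : Net.ok 280 p_g34 = true := by decide +kernel

noncomputable def p_V35 : List Net := [p_g31, p_g32, p_g33, p_g34]

theorem p_V35_ok : okE 280 p_V35 = true := (okE_cons.2 ⟨p_g31_ok, (okE_cons.2 ⟨p_g32_ok, (okE_cons.2 ⟨p_g33_ok, (okE_cons.2 ⟨p_g34_ok, (okE_nil 280)⟩)⟩)⟩)⟩)

noncomputable def p_g37 : Net := (Net.cons (nat_lit 1) (nat_lit 0x4115110005455505141510101054110115011111445504000155540550055410000500) (Net.cons (nat_lit 2) (nat_lit 0x330302022100330222331230122002331210011302011121320320202233110230300) (Net.cons (nat_lit 4) (nat_lit 0x107040c090f01030005010c0502040f000f0d0f0a09080006040e0d04050e050b0000) (Net.cons (nat_lit 8) (nat_lit 0x1a009800420063000e0014008900fc0071001b00f0002c0097009800a800920000) (Net.cons (nat_lit 16) (nat_lit 0x9a00002f6d000001f400005c38000085180000d1a8000027210000808500000000) (Net.cons (nat_lit 32) (nat_lit 0x39f5e6db000000007b34ef860000000050c283940000000000000200) (Net.cons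 (nat_lit 64) (nat_lit 0xa54600687b11bd800000000000000000000000000000000) (Net.cons (nat_lit 128) (nat_lit 0x1c9684c82ee295b4434af2f6a9900208) (Net.cons (nat_lit 256) (nat_lit 0x90020e) (Net.cons (nat_lit 128) (nat_lit 0xdb6c46) (Net.cons (nat_lit 64) (nat_lit 0xb97bc8d8c8b05f5f00000000000000005888f23faba91d36) (Net.cons (nat_lit 32) (nat_lit 0x339bf64f000000004b8e54f0000000005aa88090000000003ae18804) (Net.cons (nat_lit 16) (nat_lit 0x800000332e0000e63f0000e96c0000f1220000e0290000fbbb000072de000010f2) (Net.cons (nat_lit 8) (nat_lit 0x86009e005400fc004900ef00d500ca00eb002c00a800b3006900bf000e002400c6) (Net.cons (nat_lit 4) (nat_lit 0x1030000040c0505000e04030804030f0e0a0e04020904000a0b0a03050704090d0b00) (Net.cons (nat_lit 2) (nat_lit 0x1131303232233101322013002331131131200110313103310200131013113233332212) (Net.cons (nat_lit 1) (nat_lit 0x5511050410010500000110445444114111045400155551500411141411051400010050) Net.nil)))))))))))))))))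

theorem p_g37_ok : Net.ok 280 p_g37 = true := by decide +kernel

noncomputable def p_g38 : Net := (Net.cons (nat_lit 1) (nat_lit 0x1144500550114114110041440544451040041051040514044041451454541011400004) (Net.cons (nat_lit 2) (nat_lit 0x210212202212003010301111033323111130230010132123032121133203302320200) (Net.cons (nat_lit 4) (nat_lit 0xf050e0e0d0b080708070f0d0301080d0b030a030f0a020b09000a0408010305080000) (Net.cons (nat_lit 8) (nat_lit 0x35006e007000c200fa00ad00a4005a00cd00f000dd0003000e000e00d800e50000) (Net.cons (nat_lit 16) (nat_lit 0x480000135d00002dfe000069260000438c0000d5a80000449700007c8000000000) (Net.cons (nat_lit 32) (nat_lit 0x22a85c4e00000000001ed14000000000c06090430000000000000000) (Net.cons (nat_lit 64) (nat_lit 0x512470a73e905400000000000000000000000000200000) (Net.cons (nat_lit 128) (nat_lit 0x835ec9621e431ec67ce986a96201044) (Net.cons (nat_lit 256) (nat_lit 0x20104e) (Net.cons (nat_lit 128) (nat_lit 0x7b9558)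 (Net.cons (nat_lit 64) (nat_lit 0x6bd9120b6db6f8de00000000000000006944fa6b8d2e13b8) (Net.cons (nat_lit 32) (nat_lit 0x4a7854fe00000000e272d3be00000000e0e47e6400000000c9222410) (Net.cons (nat_lit 16) (nat_lit 0x230000334d000021d00000882a0000c2fe0000143c0000c0f90000d48e00009130) (Net.cons (nat_lit 8) (nat_lit 0x34006e003a00bf00be006700ad005b00fd0099001f00ef00c40003007a008100a0) (Net.cons (nat_lit 4) (nat_lit 0x705060b0c0b0a05020f0303030905080201030a0a09060b00010e050c010b0d020000) (Net.cons (nat_lit 2) (nat_lit 0x2212012223112202000103013002023212123123100133200100102112031312030222) (Net.cons (nat_lit 1) (nat_lit 0x1550500140010151004100154115450444001045400414540441451540514144101004) Net.nil)))))))))))))))))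

theorem p_g38_ok : Net.ok 280 p_g38 = true := by decide +kernel

noncomputable def p_V39 : List Net := [p_g37, p_g38, p_g34]

theorem p_V39_ok : okE 280 p_V39 = true := (okE_cons.2 ⟨p_g37_ok, (okE_cons.2 ⟨p_g38_ok, (okE_cons.2 ⟨p_g34_ok, (okE_nil 280)⟩)⟩)⟩)

noncomputable def p_g41 : Net := (Net.cons (nat_lit 1) (nat_lit 0x55455444401111110510445004551100044445401005500000040404100000) (Net.cons (nat_lit 2) (nat_lit 0x1311332333203322223232113223333000002202200000000200000200000) (Net.cons (nat_lit 4) (nat_lit 0xe070e0100040d020d000006050100020400000e03040c03000b0000000000) (Net.cons (nat_lit 8) (nat_lit 0x7000830060004c008f002400a6007800af0010002e00840000000000f00000) (Net.cons (nat_lit 16) (nat_lit 0x1874000048700000008400008ee4000000800000c7000000f70f00000000) (Net.cons (nat_lit 32) (nat_lit 0x4000008f0000000028fdf78400000000000000800000000000000000) (Net.cons (nat_lit 64) (nat_lit 0x100200003000008400000000000000000000000000000000)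 (Net.cons (nat_lit 128) (nat_lit 0x5002008f38fff7840000000000000000) (Net.cons (nat_lit 64) (nat_lit 0x28fdf780c700087f0000000000000000ffffffff08fff700) (Net.cons (nat_lit 32) (nat_lit 0x4000008f00000000d700087f00000000f70008ff00000000fffffff0) (Net.cons (nat_lit 16) (nat_lit 0x787f000008f0000073e4000044ad0000c7ff000008ff000008ff0000af90) (Net.cons (nat_lit 8) (nat_lit 0x70000700f000ff0097008d00c400d700840000000b00ff000000b300a60010) (Net.cons (nat_lit 4) (nat_lit 0xc05060902020b04080d08000e020c04030f000402000009000c0c020b0b00) (Net.cons (nat_lit 2) (nat_lit 0x22021000000020001000111322322321122001103312201322011121100110) (Net.cons (nat_lit 1) (nat_lit 0x55550050055111045445554444444440055555511005500141055404111050) Net.nil)))))))))))))))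

theorem p_g41_ok : Net.ok 280 p_g41 = true := by decide +kernel

noncomputable def p_g42 : Net := (Net.cons (nat_lit 1) (nat_lit 0x50550050114400045445554440440005500000000000044444100004100000) (Net.cons (nat_lit 2) (nat_lit 0x12112212331133322232323100000100000000010000011003200001100000) (Net.cons (nat_lit 4) (nat_lit 0x305090404040e07040400060c020003080408080009010000060608010000) (Net.cons (nat_lit 8) (nat_lit 0xc0001d00e000cf001b002600130000000700c6000000ef00000029003e0000) (Net.cons (nat_lit 16) (nat_lit 0x40290000000000002d1300000002000038cb0000000f0000000000000000) (Net.cons (nat_lit 32) (nat_lit 0xbfe7fffd00000000000ffffd000000000000000f0000000000000000) (Net.cons (nat_lit 64) (nat_lit 0xffffd4038000100000000000000000000000000000000) (Net.cons (nat_lit 128) (nat_lit 0xc000000000000003000fffff40000000) (Net.cons (nat_lit 128) (nat_lit 0x380000) (Net.cons (nat_lit 64) (nat_lit 0xffffffffc027ffff0000000000000000000ffffffffffff0)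 (Net.cons (nat_lit 32) (nat_lit 0x3fdfffff000000003ff8000200000000bff7fff200000000fff00000) (Net.cons (nat_lit 16) (nat_lit 0xc0110000402f000001e60000a9570000bf0000003ff0000079f1000010f0) (Net.cons (nat_lit 8) (nat_lit 0xc0001f00c000d6003e00db00b900c200bf00000077000700c6008600790000) (Net.cons (nat_lit 4) (nat_lit 0xd0f0c0600020e0e01020a0b050400080f0a00070203070808070809090100) (Net.cons (nat_lit 2) (nat_lit 0x33032100111321100001110000000003100020233131122001123213211120) (Net.cons (nat_lit 1) (nat_lit 0x55455444554005154554445004550500055410111110055551014101055400) Net.nil))))))))))))))))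

theorem p_g42_ok : Net.ok 280 p_g42 = true := by decide +kernel

noncomputable def p_V43 : List Net := [p_g41, p_g42]

theorem p_V43_ok : okE 280 p_V43 = true := (okE_cons.2 ⟨p_g41_ok, (okE_cons.2 ⟨p_g42_ok, (okE_nil 280)⟩)⟩)

noncomputable def p_V45 : List Net := [p_g41]

theorem p_V45_ok : okE 280 p_V45 = true := (okE_cons.2 ⟨p_g41_ok, (okE_nil 280)⟩)

noncomputable def p_E5 : List Net := []

theorem p_E5_ok : okE 280 p_E5 = true := (okE_nil 280)

noncomputable def p_G4 : List Net := [p_g41]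

theorem p_G4_ok : okE 280 p_G4 = true := (okE_cons.2 ⟨p_g41_ok, (okE_nil 280)⟩)

noncomputable def p_E4 : List Net := [p_g41, p_g42]

theorem p_E4_ok : okE 280 p_E4 = true := (okE_cons.2 ⟨p_g41_ok, (okE_cons.2 ⟨p_g42_ok, (okE_nil 280)⟩)⟩)

noncomputable def p_G3 : List Net := [p_g37, p_g38, p_g34, p_g41, p_g42]

theorem p_G3_ok : okE 280 p_G3 = true := (okE_cons.2 ⟨p_g37_ok, (okE_cons.2 ⟨p_g38_ok, (okE_cons.2 ⟨p_g34_ok, (okE_cons.2 ⟨p_g41_ok, (okE_cons.2 ⟨p_g42_ok, (okE_nil 280)⟩)⟩)⟩)⟩)⟩)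

noncomputable def p_E3 : List Net := [p_g37, p_g38, p_g34, p_g31, p_g32, p_g33, p_g41, p_g42]

theorem p_E3_ok : okE 280 p_E3 = true := (okE_cons.2 ⟨p_g37_ok, (okE_cons.2 ⟨p_g38_ok, (okE_cons.2 ⟨p_g34_ok, (okE_cons.2 ⟨p_g31_ok, (okE_cons.2 ⟨p_g32_ok, (okE_cons.2 ⟨p_g33_ok, (okE_cons.2 ⟨p_g41_ok, (okE_cons.2 ⟨p_g42_ok, (okE_nil 280)⟩)⟩)⟩)⟩)⟩)⟩)⟩)⟩)

noncomputable def p_G2 : List Net := [p_g28, p_g37, p_g38, p_g34, p_g31, p_g32, p_g33, p_g41, p_g42]

theorem p_G2_ok : okE 280 p_G2 = true := (okE_cons.2 ⟨p_g28_ok, (okE_cons.2 ⟨p_g37_ok, (okE_cons.2 ⟨p_g38_ok, (okE_cons.2 ⟨p_g34_ok, (okE_cons.2 ⟨p_g31_ok, (okE_cons.2 ⟨p_g32_ok, (okE_cons.2 ⟨p_g33_ok, (okE_cons.2 ⟨p_g41_ok, (okE_cons.2 ⟨p_g42_ok, (okE_nil 280)⟩)⟩)⟩)⟩)⟩)⟩)⟩)⟩)⟩)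

noncomputable def p_E2 : List Net := [p_g28, p_g23, p_g24, p_g25, p_g37, p_g38, p_g34, p_g31, p_g32, p_g33, p_g41, p_g42]

theorem p_E2_ok : okE 280 p_E2 = true := (okE_cons.2 ⟨p_g28_ok, (okE_cons.2 ⟨p_g23_ok, (okE_cons.2 ⟨p_g24_ok, (okE_cons.2 ⟨p_g25_ok, (okE_cons.2 ⟨p_g37_ok, (okE_cons.2 ⟨p_g38_ok, (okE_cons.2 ⟨p_g34_ok, (okE_cons.2 ⟨p_g31_ok, (okE_cons.2 ⟨p_g32_ok, (okE_cons.2 ⟨p_g33_ok, (okE_cons.2 ⟨p_g41_ok, (okE_cons.2 ⟨p_g42_ok, (okE_nil 280)⟩)⟩)⟩)⟩)⟩)⟩)⟩)⟩)⟩)⟩)⟩)⟩)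

noncomputable def p_G1 : List Net := [p_g20, p_g28, p_g23, p_g24, p_g25, p_g37, p_g38, p_g34, p_g31, p_g32, p_g33, p_g41, p_g42]

theorem p_G1_ok : okE 280 p_G1 = true := (okE_cons.2 ⟨p_g20_ok, (okE_cons.2 ⟨p_g28_ok, (okE_cons.2 ⟨p_g23_ok, (okE_cons.2 ⟨p_g24_ok, (okE_cons.2 ⟨p_g25_ok, (okE_cons.2 ⟨p_g37_ok, (okE_cons.2 ⟨p_g38_ok, (okE_cons.2 ⟨p_g34_ok, (okE_cons.2 ⟨p_g31_ok, (okE_cons.2 ⟨p_g32_ok, (okE_cons.2 ⟨p_g33_ok, (okE_cons.2 ⟨p_g41_ok, (okE_cons.2 ⟨p_g42_ok, (okE_nil 280)⟩)⟩)⟩)⟩)⟩)⟩)⟩)⟩)⟩)⟩)⟩)⟩)⟩)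

noncomputable def p_E1 : List Net := [p_g20, p_g14, p_g15, p_g16, p_g17, p_g28, p_g23, p_g24, p_g25, p_g37, p_g38, p_g34, p_g31, p_g32, p_g33, p_g41, p_g42]

theorem p_E1_ok : okE 280 p_E1 = true := (okE_cons.2 ⟨p_g20_ok, (okE_cons.2 ⟨p_g14_ok, (okE_cons.2 ⟨p_g15_ok, (okE_cons.2 ⟨p_g16_ok, (okE_cons.2 ⟨p_g17_ok, (okE_cons.2 ⟨p_g28_ok, (okE_cons.2 ⟨p_g23_ok, (okE_cons.2 ⟨p_g24_ok, (okE_cons.2 ⟨p_g25_ok, (okE_cons.2 ⟨p_g37_ok, (okE_cons.2 ⟨p_g38_ok, (okE_cons.2 ⟨p_g34_ok, (okE_cons.2 ⟨p_g31_ok, (okE_cons.2 ⟨p_g32_ok, (okE_cons.2 ⟨p_g33_ok, (okE_cons.2 ⟨p_g41_ok, (okE_cons.2 ⟨p_g42_ok, (okE_nil 280)⟩)⟩)⟩)⟩)⟩)⟩)⟩)⟩)⟩)⟩)⟩)⟩)⟩)⟩)⟩)⟩)⟩)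

noncomputable def p_G0 : List Net := [p_g11, p_g20, p_g14, p_g15, p_g16, p_g17, p_g28, p_g23, p_g24, p_g25, p_g37, p_g38, p_g34, p_g31, p_g32, p_g33, p_g41, p_g42]

theorem p_G0_ok : okE 280 p_G0 = true := (okE_cons.2 ⟨p_g11_ok, (okE_cons.2 ⟨p_g20_ok, (okE_cons.2 ⟨p_g14_ok, (okE_cons.2 ⟨p_g15_ok, (okE_cons.2 ⟨p_g16_ok, (okE_cons.2 ⟨p_g17_ok, (okE_cons.2 ⟨p_g28_ok, (okE_cons.2 ⟨p_g23_ok, (okE_cons.2 ⟨p_g24_ok, (okE_cons.2 ⟨p_g25_ok, (okE_cons.2 ⟨p_g37_ok, (okE_cons.2 ⟨p_g38_ok, (okE_cons.2 ⟨p_g34_ok, (okE_cons.2 ⟨p_g31_ok, (okE_cons.2 ⟨p_g32_ok, (okE_cons.2 ⟨p_g33_ok, (okE_cons.2 ⟨p_g41_ok, (okE_cons.2 ⟨p_g42_ok, (okE_nil 280)⟩)⟩)⟩)⟩)⟩)⟩)⟩)⟩)⟩)⟩)⟩)⟩)⟩)⟩)⟩)⟩)⟩)⟩)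

noncomputable def p_E0 : List Net := [p_g11, p_g1, p_g2, p_g3, p_g4, p_g5, p_g6, p_g7, p_g8, p_g9, p_g10, p_g20, p_g14, p_g15, p_g16, p_g17, p_g28, p_g23, p_g24, p_g25, p_g37, p_g38, p_g34, p_g31, p_g32, p_g33, p_g41, p_g42]

theorem p_E0_ok : okE 280 p_E0 = true := (okE_cons.2 ⟨p_g11_ok, (okE_cons.2 ⟨p_g1_ok, (okE_cons.2 ⟨p_g2_ok, (okE_cons.2 ⟨p_g3_ok, (okE_cons.2 ⟨p_g4_ok, (okE_cons.2 ⟨p_g5_ok, (okE_cons.2 ⟨p_g6_ok, (okE_cons.2 ⟨p_g7_ok, (okE_cons.2 ⟨p_g8_ok, (okE_cons.2 ⟨p_g9_ok, (okE_cons.2 ⟨p_g10_ok, (okE_cons.2 ⟨p_g20_ok, (okE_cons.2 ⟨p_g14_ok, (okE_cons.2 ⟨p_g15_ok, (okE_cons.2 ⟨p_g16_ok, (okE_cons.2 ⟨p_g17_ok, (okE_cons.2 ⟨p_g28_ok, (okE_cons.2 ⟨p_g23_ok, (okE_cons.2 ⟨p_g24_ok, (okE_cons.2 ⟨p_g25_ok, (okE_cons.2 ⟨p_g37_ok, (okE_cons.2 ⟨p_g38_ok, (okE_cons.2 ⟨p_g34_ok, (okE_cons.2 ⟨p_g31_ok, (okE_cons.2 ⟨p_g32_ok, (okE_cons.2 ⟨p_g33_ok, (okE_cons.2 ⟨p_g41_ok, (okE_cons.2 ⟨p_g42_ok, (okE_nil 280)⟩)⟩)⟩)⟩)⟩)⟩)⟩)⟩)⟩)⟩)⟩)⟩)⟩)⟩)⟩)⟩)⟩)⟩)⟩)⟩)⟩)⟩)⟩)⟩)⟩)⟩)⟩)⟩)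

noncomputable def p_g59 : Net := (Net.cons (nat_lit 1) (nat_lit 0x550110455500445441504455000015115401500154110105000015400055511001400) (Net.cons (nat_lit 2) (nat_lit 0x3022211201321012120310302100311033313203110000320312120222102113032230) (Net.cons (nat_lit 4) (nat_lit 0xe0b0f000c060205050a0701020f010b0305060d0c010e000902010b0c090107010200) (Net.cons (nat_lit 8) (nat_lit 0x590069009600ea009f000b00d6009d002700540024008200550053005000640024) (Net.cons (nat_lit 16) (nat_lit 0x86000098c10000f9c1000065b30000336400007233000073420000c08100004000) (Net.cons (nat_lit 32) (nat_lit 0x639a91520000000048e4d44800000000b440841b00000000004c2088) (Net.cons (nat_lit 64) (nat_lit 0x4a2340aba2810d6000000000000000000000000000518212) (Net.cons (nat_lit 128) (nat_lit 0xed306e15124873ab038788eaa469c924) (Net.cons (nat_lit 256) (nat_lit 0xffebff) (Net.cons (nat_lit 128) (nat_lit 0xe026e5) (Net.cons (nat_lit 64) (nat_lit 0x7b459126e5a44a0100000000000000007b6978e6a570448e)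 (Net.cons (nat_lit 32) (nat_lit 0xfb55697b00000000f69228cd0000000024a7d69600000000c839b6fc) (Net.cons (nat_lit 16) (nat_lit 0x8e0000a2b400008fab0000597500000c2c0000ce1b0000018a0000595e000068bc) (Net.cons (nat_lit 8) (nat_lit 0x400ea0097002a007400e3007600f200d8008400e000e1003500e00035002800f9) (Net.cons (nat_lit 4) (nat_lit 0xa0b030a060a0a0d0102090b060d010d0703020f00050202010e09030207050b0d0c04) (Net.cons (nat_lit 2) (nat_lit 0x3201221003321032302312120302123213322002110200120112322230300113032230) (Net.cons (nat_lit 1) (nat_lit 0x450110455500445441104455000015115415501154110005000015411055511001400) Net.nil)))))))))))))))))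

theorem p_g59_ok : Net.ok 280 p_g59 = true := by decide +kernel

noncomputable def p_g60 : Net := (Net.cons (nat_lit 1) (nat_lit 0x4444141011154410154515510151444101055000115545551500111044455144000000) (Net.cons (nat_lit 2) (nat_lit 0x1210321301311011212010113333103321211230201301222102202013311232133010) (Net.cons (nat_lit 4) (nat_lit 0x904070b0104040f0a080200020b030a0d0106070206060201020a0e080c060a030000) (Net.cons (nat_lit 8) (nat_lit 0x4600c6005e00ab005c00c400550059001d00bd0069008200450014005700270010) (Net.cons (nat_lit 16) (nat_lit 0x80000078d800000f1a00008a45000077800000970300009b800000465200000a00) (Net.cons (nat_lit 32) (nat_lit 0x34fb6082000000001940020500000000b0347a1e000000000010c2b7) (Net.cons (nat_lit 64) (nat_lit 0x2590a8838a0698350000000000000000000000000004aa2a) (Net.cons (nat_lit 128) (nat_lit 0x74fd8bc7248c357b09487704fe720d41) (Net.cons (nat_lit 256) (nat_lit 0x7fffff) (Net.cons (nat_lit 128) (nat_lit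 0x238586) (Net.cons (nat_lit 64) (nat_lit 0x131ab497a9f4d69b0000000000000000fb35d805111b8a52) (Net.cons (nat_lit 32) (nat_lit 0xb52aeccb000000006fac6b0d000000004926fb8100000000b196f4d7) (Net.cons (nat_lit 16) (nat_lit 0x9a0000c76c00008233000068c70000d79900009e69000004a9000061d40000de98) (Net.cons (nat_lit 8) (nat_lit 0x81006700c500370044002500f8003b00fd00b90059008900b0004c008b002b000e) (Net.cons (nat_lit 4) (nat_lit 0x90c0f03080506020f0a040009080b0d0d0203080f06060d020806010a03080c0e0e09) (Net.cons (nat_lit 2) (nat_lit 0x222010202010033031212222222013233113232133210330221100200201000333122) (Net.cons (nat_lit 1) (nat_lit 0x5050140111504154554100505541104154015140505054540145150105415415140140) Net.nil)))))))))))))))))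

theorem p_g60_ok : Net.ok 280 p_g60 = true := by decide +kernel

noncomputable def p_g61 : Net := (Net.cons (nat_lit 1) (nat_lit 0x5055544455144111114454545100414004000040440045051141411004105011051000) (Net.cons (nat_lit 2) (nat_lit 0x131031223201121311211220321113003001110030130010333001322200033120230) (Net.cons (nat_lit 4) (nat_lit 0x9000408020f06000008000f0a0c010b030d0609040308070807020d03070f0f070200) (Net.cons (nat_lit 8) (nat_lit 0x97008500da00dc00ac007300650008009f006900060098000d009000e900bc0050) (Net.cons (nat_lit 16) (nat_lit 0xf00000864b0000450b000091bf00009fd10000744a0000261c00003a070000a400) (Net.cons (nat_lit 32) (nat_lit 0x7c683bd2000000009060648900000000d549e0af0000000000624939) (Net.cons (nat_lit 64) (nat_lit 0x4d4806002811042800000000000000000000000000010714) (Net.cons (nat_lit 128) (nat_lit 0x8356d189d870ad6c4c2d5eb4b5c845c8) (Net.cons (nat_lit 256) (nat_lit 0xebffff) (Net.cons (nat_lit 128) (nat_lit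 907083) (Net.cons (nat_lit 64) (nat_lit 0xb0e0b1570c8d5cec000000000000000053b290d1752fa39f) (Net.cons (nat_lit 32) (nat_lit 0xe2ef6c07000000008487806e0000000062d6a79d00000000cde9e61d) (Net.cons (nat_lit 16) (nat_lit 0x560000abe400004f840000d54c00000d9e0000a00100007d9300004add00000027) (Net.cons (nat_lit 8) (nat_lit 0x7400b8000000ec00d700b3008f00ee00690083000700df008d009200b900150056) (Net.cons (nat_lit 4) (nat_lit 0xc020a0e0104020b08090d040d0c07070202040e040e030307050d0f050a010b0a0d08) (Net.cons (nat_lit 2) (nat_lit 0x2323331313330230033210200200221320303022002021330323311100130213001201) (Net.cons (nat_lit 1) (nat_lit 0x5554554111110101044014105411545511555114104545140141514111154400111440) Net.nil)))))))))))))))))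

theorem p_g61_ok : Net.ok 280 p_g61 = true := by decide +kernel

noncomputable def p_g62 : Net := (Net.cons (nat_lit 1) (nat_lit 0x5555005054111415511444044105415544154111110150450104141404404440415144) (Net.cons (nat_lit 2) (nat_lit 0x201003012001321202220211330221211203130110331220330011133323201320000) (Net.cons (nat_lit 4) (nat_lit 0x3030d0e000f0000020200050504010b000206030c0f06040d0804030000050b040600) (Net.cons (nat_lit 8) (nat_lit 0x1b00e60032007f008900f200a100b100d600f00046006a00c4006b00da001900a0) (Net.cons (nat_lit 16) (nat_lit 0x720000f68e0000cc160000d81400001394000060c0000028160000c36a00003000) (Net.cons (nat_lit 32) (nat_lit 0xf24ad30f00000000e41a230300000000b25120b100000000003cc242) (Net.cons (nat_lit 64) (nat_lit 0x148f148a243d2543000000000000000000000000002001d2) (Net.cons (nat_lit 128) (nat_lit 0xf8634cbf1a5e06dfccacd1447653ab47) (Net.cons (nat_lit 256) (nat_lit 0xfffbff) (Net.cons (nat_lit 128) (nat_lit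 0x23aa7e) (Net.cons (nat_lit 64) (nat_lit 0x311a8f51ed41156e0000000000000000cf4745698817b2ef) (Net.cons (nat_lit 32) (nat_lit 0xa2b7570200000000ba41bc930000000000b361eb0000000046552fcf) (Net.cons (nat_lit 16) (nat_lit 0x15000051b500009f53000054540000971f0000aef50000965e0000c6ab0000cfc4) (Net.cons (nat_lit 8) (nat_lit 0x26006f005e00f100cd00a700b5006c0053002300df0050002a008a006a0074004c) (Net.cons (nat_lit 4) (nat_lit 0x60107020b090b0d03070f0004080b060f0b0506080b020a00020a0d0c0b0b05010c0b) (Net.cons (nat_lit 2) (nat_lit 0x2312131031223313112011011330110132232010332223203230223113011001003030) (Net.cons (nat_lit 1) (nat_lit 0x1551044405104005150411540550540410105051044515010051001514154400140500) Net.nil)))))))))))))))))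

theorem p_g62_ok : Net.ok 280 p_g62 = true := by decide +kernel

noncomputable def p_g63 : Net := (Net.cons (nat_lit 1) (nat_lit 0x405005015555441415414141555155010400014501051410511145141140510451040) (Net.cons (nat_lit 2) (nat_lit 0x3203013203302221223231221201013023222302232231232331220310011101001100) (Net.cons (nat_lit 4) (nat_lit 0x20600050f050803010c000a0e030504080c01080c0f0d040109020a080d0e0c0d0700) (Net.cons (nat_lit 8) (nat_lit 0x1e000d007900e80096005e00ed00b800430009001a00ce00a300e1002900c30010) (Net.cons (nat_lit 16) (nat_lit 0xef00002b3100008a4200002c7f000012040000911c0000c50f0000ea0e00006100) (Net.cons (nat_lit 32) (nat_lit 0x9b896d700000000949dba0a0000000085ed272a0000000000966108) (Net.cons (nat_lit 64) (nat_lit 0x4622da808f0844000000000000000000000000000c80702) (Net.cons (nat_lit 128) (nat_lit 0x7cef37906d8895f3a1941a3e532996c1) (Net.cons (nat_lit 256) (nat_lit 0xffffdb) (Net.cons (nat_lit 128) (nat_lit 0x59d44a)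 (Net.cons (nat_lit 64) (nat_lit 0xd64862f5e132a7a90000000000000000348da964da92973e) (Net.cons (nat_lit 32) (nat_lit 0xdf8565e900000000a4a895d800000000c08ad58e000000009bd2a798) (Net.cons (nat_lit 16) (nat_lit 0x9c0000b2ba0000251c0000773f0000d1a30000886900005ddb0000ff0a0000aa72) (Net.cons (nat_lit 8) (nat_lit 0xf5003f009d008700e6000f003400a2001b00d200c9007100ff00e900fe008b00fa) (Net.cons (nat_lit 4) (nat_lit 0x60202080a0b0e09030d06030b0b0e0c0f000d0e04040e090905090f000d070e0d0e06) (Net.cons (nat_lit 2) (nat_lit 0x2001223111013023012233201302001323122213331123231303000311230021103120) (Net.cons (nat_lit 1) (nat_lit 0x5501450505050145005010541014104411100150445000150100414141154150500415) Net.nil)))))))))))))))))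

theorem p_g63_ok : Net.ok 280 p_g63 = true := by decide +kernel

noncomputable def p_g64 : Net := (Net.cons (nat_lit 1) (nat_lit 0x5500141001401155505511540515014540404510505450545114105455555415045040) (Net.cons (nat_lit 2) (nat_lit 0x310101011322330333201222301303003012211331303302103231300202023131300) (Net.cons (nat_lit 4) (nat_lit 0xd0c020f02040a0303050c0908060f06060b0b02000b0108090b080e0b040001010b00) (Net.cons (nat_lit 8) (nat_lit 0x59008f00bd006800070091009000d10058003e00e8001b0088002e00c800d000af) (Net.cons (nat_lit 16) (nat_lit 0x82000025830000c0150000a8520000b7ca000036140000680100000b2a00000900) (Net.cons (nat_lit 32) (nat_lit 0x61591b200000000515465a30000000051ccf588000000000001688c) (Net.cons (nat_lit 64) (nat_lit 0x80650494480a31230000000000000000000000000089755a) (Net.cons (nat_lit 128) (nat_lit 0x222280a0384901f0f9df463f64d05178) (Net.cons (nat_lit 256) (nat_lit 0xfdfdff) (Net.cons (nat_lit 128) (nat_lit 0x47a1d3)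 (Net.cons (nat_lit 64) (nat_lit 0x2fe52468e11126ab00000000000000002424843579105a78) (Net.cons (nat_lit 32) (nat_lit 0x3c02bb15000000005d3e3df1000000007ad8b93a000000005c0d6459) (Net.cons (nat_lit 16) (nat_lit 0xb700008cc00000620f0000aca600005ff000000ba200002f090000078200004435) (Net.cons (nat_lit 8) (nat_lit 0x61000c002f0033004b009f006a00eb006100d600df00fb000a00ae00c900c8006b) (Net.cons (nat_lit 4) (nat_lit 0x1080b0f0a0c0202010b020b0e0a05070e06080f0402040c040f00060c040a08010d01) (Net.cons (nat_lit 2) (nat_lit 0x3320030010301320213021020301300323131202033113110333230123012323120102) (Net.cons (nat_lit 1) (nat_lit 0x4444541115505151140151500541104141451511511450000455105551515114010144) Net.nil)))))))))))))))))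

theorem p_g64_ok : Net.ok 280 p_g64 = true := by decide +kernel

noncomputable def pt_c1_K : List Net := [p_g60, p_g61, p_g62, p_g63, p_g64]

theorem pt_c1_K_ok : okE 280 pt_c1_K = true := (okE_cons.2 ⟨p_g60_ok, (okE_cons.2 ⟨p_g61_ok, (okE_cons.2 ⟨p_g62_ok, (okE_cons.2 ⟨p_g63_ok, (okE_cons.2 ⟨p_g64_ok, (okE_nil 280)⟩)⟩)⟩)⟩)⟩)

noncomputable def p_V66 : List Net := [p_g20, p_g14, p_g15, p_g16, p_g17, p_g28, p_g23, p_g24, p_g25, p_g37, p_g38, p_g34, p_g31, p_g32, p_g33, p_g41, p_g42]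

theorem p_V66_ok : okE 280 p_V66 = true := (okE_cons.2 ⟨p_g20_ok, (okE_cons.2 ⟨p_g14_ok, (okE_cons.2 ⟨p_g15_ok, (okE_cons.2 ⟨p_g16_ok, (okE_cons.2 ⟨p_g17_ok, (okE_cons.2 ⟨p_g28_ok, (okE_cons.2 ⟨p_g23_ok, (okE_cons.2 ⟨p_g24_ok, (okE_cons.2 ⟨p_g25_ok, (okE_cons.2 ⟨p_g37_ok, (okE_cons.2 ⟨p_g38_ok, (okE_cons.2 ⟨p_g34_ok, (okE_cons.2 ⟨p_g31_ok, (okE_cons.2 ⟨p_g32_ok, (okE_cons.2 ⟨p_g33_ok, (okE_cons.2 ⟨p_g41_ok, (okE_cons.2 ⟨p_g42_ok, (okE_nil 280)⟩)⟩)⟩)⟩)⟩)⟩)⟩)⟩)⟩)⟩)⟩)⟩)⟩)⟩)⟩)⟩)⟩)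

noncomputable def p_g67 : Net := (Net.cons (nat_lit 1) (nat_lit 0x5504450115445415501155011014451101044445154101541404451004010140051100) (Net.cons (nat_lit 2) (nat_lit 0x2210001122110322300222221220220131131102031102201000201301132200200320) (Net.cons (nat_lit 4) (nat_lit 0x30f0a0001060f0a0d060e07080c010e0c040f0c0a05010c0a040c0b02040a06020100) (Net.cons (nat_lit 8) (nat_lit 0x420000004300f000c90088009b00e600af00e300f800c2003f000700c100f60098) (Net.cons (nat_lit 16) (nat_lit 0x14000000e6000080250000b0880000c3b10000be270000b6a10000023400006e00) (Net.cons (nat_lit 32) (nat_lit 0x91501f0700000000c20f232d00000000007055ac0000000000301301) (Net.cons (nat_lit 64) (nat_lit 0x4752004242ea084200000000000000000000000000007123) (Net.cons (nat_lit 128) (nat_lit 0x56f321980e94a32bb189c0424dcc84d4) (Net.cons (nat_lit 256) (nat_lit 0xffffff) (Net.cons (nat_lit 128) (nat_lit 0x7ffff9) (Net.cons (nat_lit 64) (nat_lit 0x38bd543fb380000200000000000000000bd6f3e655093641)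 (Net.cons (nat_lit 32) (nat_lit 0xbb387aa10000000091ffffef00000000d1b67ae200000000626d45a9) (Net.cons (nat_lit 16) (nat_lit 0x950000fe46000060c40000a47500002779000022da0000dccc0000a68d00009fa0) (Net.cons (nat_lit 8) (nat_lit 0x36003d00bb007900c300b8007a003400eb00ff0092008a006900aa00c400050028) (Net.cons (nat_lit 4) (nat_lit 0xc02070f0a0400010f0f0e0607070208020b09090a08010a0f0708030b0d06030e0608) (Net.cons (nat_lit 2) (nat_lit 0x1200202013011330133100121332211033310022301202131233000110223220310010) (Net.cons (nat_lit 1) (nat_lit 0x1055555114104441555115145500510555041045040005515510155055111515144414) Net.nil)))))))))))))))))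

theorem p_g67_ok : Net.ok 280 p_g67 = true := by decide +kernel

noncomputable def p_g68 : Net := (Net.cons (nat_lit 1) (nat_lit 0x5145014400000411040005114544450054010051010410540000015500150404000040) (Net.cons (nat_lit 2) (nat_lit 0x2032133023113201100023222203003121202123203001130023022300000222030020) (Net.cons (nat_lit 4) (nat_lit 0x90c050e0d080c070c04000d0804020b0d0c090f010703080207030b060b0c0d040c00) (Net.cons (nat_lit 8) (nat_lit 0x4f00a000d7000e0000009f00dd0021000800e0000d005e00440057005f00400010) (Net.cons (nat_lit 16) (nat_lit 0x40000cc9a0000459e0000d28400003cb40000e29b00005c540000565000001400) (Net.cons (nat_lit 32) (nat_lit 0x904f846800000000b0ca700f0000000022b1243b0000000000ea4b01) (Net.cons (nat_lit 64) (nat_lit 0x90d009a0c05440c000000000000000000000000003010ad) (Net.cons (nat_lit 128) (nat_lit 0x59bd70252c0cc0ce24b248be93c47ca2) (Net.cons (nat_lit 256) (nat_lit 0xfeffbf) (Net.cons (nat_lit 128) (nat_lit 0x37e980)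 (Net.cons (nat_lit 64) (nat_lit 0xf29f2133304c01720000000000000000dbfe03bebc518786) (Net.cons (nat_lit 32) (nat_lit 0x984dc4f0000000001735c1c00000000051b484cd000000007b405d73) (Net.cons (nat_lit 16) (nat_lit 0x39000027c4000063f90000632400003c320000f0f700002fbc0000a27f00007018) (Net.cons (nat_lit 8) (nat_lit 0x7600b1008700b2004500f2008400cc00780082005b008e00a100aa008a00400012) (Net.cons (nat_lit 4) (nat_lit 0x80d0e020d05090c060a00060a010405020b0d040901090b050d0b010806020e01040a) (Net.cons (nat_lit 2) (nat_lit 0x2300112013231202120020233021312213201102312330203212103130233303001330) (Net.cons (nat_lit 1) (nat_lit 0x1441505000111454144400004041005501544411444504454110401501554555104110) Net.nil)))))))))))))))))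

theorem p_g68_ok : Net.ok 280 p_g68 = true := by decide +kernel

noncomputable def p_V69 : List Net := [p_g67, p_g68, p_g38]

theorem p_V69_ok : okE 280 p_V69 = true := (okE_cons.2 ⟨p_g67_ok, (okE_cons.2 ⟨p_g68_ok, (okE_cons.2 ⟨p_g38_ok, (okE_nil 280)⟩)⟩)⟩)

noncomputable def p_V71 : List Net := [p_g68, p_g38]

theorem p_V71_ok : okE 280 p_V71 = true := (okE_cons.2 ⟨p_g68_ok, (okE_cons.2 ⟨p_g38_ok, (okE_nil 280)⟩)⟩)

noncomputable def p_V72 : List Net := [p_g38]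

theorem p_V72_ok : okE 280 p_V72 = true := (okE_cons.2 ⟨p_g38_ok, (okE_nil 280)⟩)

noncomputable def p_V73 : List Net := []

theorem p_V73_ok : okE 280 p_V73 = true := (okE_nil 280)

noncomputable def pt_c1_cnt_EG : List Net := [p_g11, p_g1, p_g2, p_g3, p_g4, p_g5, p_g6, p_g7, p_g8, p_g9, p_g10, p_g20, p_g14, p_g15, p_g16, p_g17, p_g28, p_g23, p_g24, p_g25, p_g37, p_g38, p_g34, p_g31, p_g32, p_g33, p_g41, p_g42, p_g67, p_g68]

theorem pt_c1_cnt_EG_ok : okE 280 pt_c1_cnt_EG = true := (okE_cons.2 ⟨p_g11_ok, (okE_cons.2 ⟨p_g1_ok, (okE_cons.2 ⟨p_g2_ok, (okE_cons.2 ⟨p_g3_ok, (okE_cons.2 ⟨p_g4_ok, (okE_cons.2 ⟨p_g5_ok, (okE_cons.2 ⟨p_g6_ok, (okE_cons.2 ⟨p_g7_ok, (okE_cons.2 ⟨p_g8_ok, (okE_cons.2 ⟨p_g9_ok, (okE_cons.2 ⟨p_g10_ok, (okE_cons.2 ⟨p_g20_ok, (okE_cons.2 ⟨p_g14_ok, (okE_cons.2 ⟨p_g15_ok, (okE_cons.2 ⟨p_g16_ok, (okE_cons.2 ⟨p_g17_ok, (okE_cons.2 ⟨p_g28_ok, (okE_cons.2 ⟨p_g23_ok, (okE_cons.2 ⟨p_g24_ok, (okE_cons.2 ⟨p_g25_ok,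 (okE_cons.2 ⟨p_g37_ok, (okE_cons.2 ⟨p_g38_ok, (okE_cons.2 ⟨p_g34_ok, (okE_cons.2 ⟨p_g31_ok, (okE_cons.2 ⟨p_g32_ok, (okE_cons.2 ⟨p_g33_ok, (okE_cons.2 ⟨p_g41_ok, (okE_cons.2 ⟨p_g42_ok, (okE_cons.2 ⟨p_g67_ok, (okE_cons.2 ⟨p_g68_ok, (okE_nil 280)⟩)⟩)⟩)⟩)⟩)⟩)⟩)⟩)⟩)⟩)⟩)⟩)⟩)⟩)⟩)⟩)⟩)⟩)⟩)⟩)⟩)⟩)⟩)⟩)⟩)⟩)⟩)⟩)⟩)⟩)

noncomputable def p_g74 : Net := (Net.cons (nat_lit 1) (nat_lit 0x5500404401551551415550404101010011014010540511405111105155101150440040) (Net.cons (nat_lit 2) (nat_lit 0x130102211113212023100231320322132002200010102112300103122032133220000) (Net.cons (nat_lit 4) (nat_lit 0xd0b0a01070906070006040a0a0a010a010900060a0c090c030509090908000e080800) (Net.cons (nat_lit 8) (nat_lit 0x6a00f600fe004e000a00860084002f0068007a004a00a2003b000000d100570030) (Net.cons (nat_lit 16) (nat_lit 0x2100002b940000d63a00006669000070f3000000900000353200006dc000004100) (Net.cons (nat_lit 32) (nat_lit 0xcfa4a00000000000455f064b00000000198820690000000000b35887)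 (Net.cons (nat_lit 64) (nat_lit 0x19ce096d95812c8e00000000000000000000000000018594) (Net.cons (nat_lit 128) (nat_lit 0x1918224d42c1c104c2c689b09fc729a8) (Net.cons (nat_lit 256) (nat_lit 0xf7fdbf) (Net.cons (nat_lit 128) (nat_lit 0x9f3d4b) (Net.cons (nat_lit 64) (nat_lit 0xcccd26055c6545d100000000000000000d422037e2375509) (Net.cons (nat_lit 32) (nat_lit 0x4c03c9d200000000ad53aaf200000000199a22780000000047d1cb06) (Net.cons (nat_lit 16) (nat_lit 0x110000aba500000778000023340000d17300000ae30000f50000003c910000dae0) (Net.cons (nat_lit 8) (nat_lit 0x6b00b500bd000d006d008a0042002000cd0011000800ea0078008100d600d100a0) (Net.cons (nat_lit 4) (nat_lit 0xd0303020709020f0404080e030801020a090c0603050d08050f0f080c0c0008000304) (Net.cons (nat_lit 2) (nat_lit 0x1331023021103233022001231120332220000310000102212203122130031131233200) (Net.cons (nat_lit 1) (nat_lit 0x5040441540400400415555040404000451114515151544415515045155145051411100) Net.nil)))))))))))))))))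

theorem p_g74_ok : Net.ok 280 p_g74 = true := by decide +kernel

noncomputable def p_g75 : Net := (Net.cons (nat_lit 1) (nat_lit 0x454411445555501005111005110140005454411444044511040515145040050054114) (Net.cons (nat_lit 2) (nat_lit 0x1120332321030331103233220033202233002330131230102030012302330032021300) (Net.cons (nat_lit 4) (nat_lit 0x30d07060b060b01090c0a030300080903020e0209040b010e0b0c0a07070d04090600) (Net.cons (nat_lit 8) (nat_lit 0x3b00df00ac00fd0050001500ae00de00d00025005300d8001500c000c200d20024) (Net.cons (nat_lit 16) (nat_lit 0x1100000acd0000a87c00001a2d00001ba90000f62c0000b2ac0000280c00009900) (Net.cons (nat_lit 32) (nat_lit 0xb5164e2200000000a53912810000000090161d80000000000022c092) (Net.cons (nat_lit 64) (nat_lit 0x60c1a423e00571af00000000000000000000000000055b3d) (Net.cons (nat_lit 128) (nat_lit 0xb43e8393aac5dfa64900dded97d24a1) (Net.cons (nat_lit 256) (nat_lit 0x7fffbf) (Net.cons (nat_lit 128) (nat_lit 0xa626e4)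 (Net.cons (nat_lit 64) (nat_lit 0xad8698cbfa30378b000000000000000092cad5735c3ace67) (Net.cons (nat_lit 32) (nat_lit 0x5209cc8200000000a5ffe68100000000cb57e15e0000000003b47bce) (Net.cons (nat_lit 16) (nat_lit 0x7f0000bfc70000782100002d7500004a1d000086b40000b52d000057db0000dd0d) (Net.cons (nat_lit 8) (nat_lit 0x8600cc00c700ce00bd002a000a009a00540085001c00f700200089009f00a90019) (Net.cons (nat_lit 4) (nat_lit 0x80c070e0a0e060709020804000700060c080f0a0a000f060c08000a0d060e040d0108) (Net.cons (nat_lit 2) (nat_lit 0x1210302121132112300121132022033201303020200331211312003130302332002220) (Net.cons (nat_lit 1) (nat_lit 0x4011450054550005004454545500415411440114114414150401005154510450050155) Net.nil)))))))))))))))))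

theorem p_g75_ok : Net.ok 280 p_g75 = true := by decide +kernel

noncomputable def p_g76 : Net := (Net.cons (nat_lit 1) (nat_lit 0x4115544044055501110510441541100155150000511145005145015504154114540414) (Net.cons (nat_lit 2) (nat_lit 0x221001022233100303301002200101330331222120001010122300030111320022320) (Net.cons (nat_lit 4) (nat_lit 0x90c02030a0b0304070d09040f0a060c0f04080c080e08090a050c010a00020100) (Net.cons (nat_lit 8) (nat_lit 0xbe00e8001600da00900085000d00e7006b005e002100350078003c0059000e0024) (Net.cons (nat_lit 16) (nat_lit 0x290000cf6e000031be00005b7d000003e200002e800000b4610000549800000400) (Net.cons (nat_lit 32) (nat_lit 0x435850ee000000002806a67300000000c922217a0000000000c80e40) (Net.cons (nat_lit 64) (nat_lit 0x10043dcd8be3d6a4000000000000000000000000000acd94) (Net.cons (nat_lit 128) (nat_lit 0x891df1f0d6bce6641e834e1f694ed2a3) (Net.cons (nat_lit 256) (nat_lit 0xceffff) (Net.cons (nat_lit 128) (nat_lit 908041)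 (Net.cons (nat_lit 64) (nat_lit 0x9fd47e3e375dd7c00000000000000000990c03ae7137a374) (Net.cons (nat_lit 32) (nat_lit 0xd236dda2000000000734f02800000000b0f105fe000000002c92802e) (Net.cons (nat_lit 16) (nat_lit 0xfb000073c2000035ee0000d45b0000436000007723000031970000d559000064ae) (Net.cons (nat_lit 8) (nat_lit 0xa0006500ce00af00d800b8000a00b40043009e00da00b5004200fb000400b00081) (Net.cons (nat_lit 4) (nat_lit 0x3010009020f070b0a010f080e060b0e050c0d0105090e0400010d0300050306080e) (Net.cons (nat_lit 2) (nat_lit 0x1003022232032330312302122322123012013010332202232013320202033202322300) (Net.cons (nat_lit 1) (nat_lit 0x5550141144055154051514045044045045114114010451045151005441550404004410) Net.nil)))))))))))))))))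

theorem p_g76_ok : Net.ok 280 p_g76 = true := by decide +kernel

noncomputable def p_g77 : Net := (Net.cons (nat_lit 1) (nat_lit 0x400144501145015551440055445001551545105014015101101511515515444144000) (Net.cons (nat_lit 2) (nat_lit 0x3123313132320310013320223220222122300023013233232130001311013033002100) (Net.cons (nat_lit 4) (nat_lit 0x10a080e040c0f0e0d09020b090b050c000404040a0604040d0f04000e0a01090400) (Net.cons (nat_lit 8) (nat_lit 0x54001c00c5008700b2001800f000910081000e00b2006b0074001900e000910021) (Net.cons (nat_lit 16) (nat_lit 0x4600005e4f00003035000083800000010c0000ea1e0000eea80000143a00000100) (Net.cons (nat_lit 32) (nat_lit 0x84162f4900000000e6e06b750000000093445d2200000000006330c8) (Net.cons (nat_lit 64) (nat_lit 0x4002755200cb85d500000000000000000000000000002ada) (Net.cons (nat_lit 128) (nat_lit 0x7b4a602e404d06c4c0e51dce34a2764) (Net.cons (nat_lit 256) (nat_lit 0xff3fff) (Net.cons (nat_lit 128) (nat_lit 0x834dd9)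 (Net.cons (nat_lit 64) (nat_lit 0x7416f154e62aacc0000000000000000051accd4004c9de3b) (Net.cons (nat_lit 32) (nat_lit 0x469013ef00000000e6e0eb7900000000bc855dca00000000c48169f5) (Net.cons (nat_lit 16) (nat_lit 0x6f0000a48b0000f016000007540000c15e0000e03e000024670000cc9b000043e9) (Net.cons (nat_lit 8) (nat_lit 0x7c00760041001700960006009e004100a1004f00c200ae00b40010006000b100e9) (Net.cons (nat_lit 4) (nat_lit 0x107030c050a0c090c0d090a090105050208000c0e0e04040c0807040c0608020d0a08) (Net.cons (nat_lit 2) (nat_lit 0x1220121323200100311022201320202032301022232211322230201201003113122101) (Net.cons (nat_lit 1) (nat_lit 0x1445545101445014444140555144401515505001015014111515111515144444501040) Net.nil)))))))))))))))))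

theorem p_g77_ok : Net.ok 280 p_g77 = true := by decide +kernel

noncomputable def p_g78 : Net := (Net.cons (nat_lit 1) (nat_lit 0x5140054100114141150400041550550014544145515111400001415155101445404140) (Net.cons (nat_lit 2) (nat_lit 0x2333210003033100320312222202011132211010232221323221133132012001110000) (Net.cons (nat_lit 4) (nat_lit 0x90a0a010f0609070f020b0b0e07040e0005050d0c0a0b0e080f060c0b0e0200020c00) (Net.cons (nat_lit 8) (nat_lit 0x42000f005e001100780005005a0033009700ba00b6005d001300a5000e00800011) (Net.cons (nat_lit 16) (nat_lit 0xa200000a8b000017a10000cbdb0000241b000020310000c80c00006b0800003400) (Net.cons (nat_lit 32) (nat_lit 0x55044fa0000000004830d12f0000000046ea2a2f00000000001c6a77) (Net.cons (nat_lit 64) (nat_lit 0x5911811c012c65200000000000000000000000000052848a) (Net.cons (nat_lit 128) (nat_lit 0x45ccd434dcd66cf5901101e4e6c7417) (Net.cons (nat_lit 256) (nat_lit 0xffffff) (Net.cons (nat_lit 128) (nat_lit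 0x456d72) (Net.cons (nat_lit 64) (nat_lit 0xeaa0b22cbe687e290000000000000000f5ba29d4fb1dcab2) (Net.cons (nat_lit 32) (nat_lit 0x6e6ec4c900000000352b8c7200000000ffcd234600000000bb62a57e) (Net.cons (nat_lit 16) (nat_lit 0x8b000000aa0000499c00009dae00007ba200002248000087610000242900007218) (Net.cons (nat_lit 8) (nat_lit 0x1d0072004e0019003d00590007003a00e300b000f30055001200fa004a00990010) (Net.cons (nat_lit 4) (nat_lit 0xd0f0e040b030d030b060a0f0a02000b04010008080f0b0a0d0b02080e0b0605070904) (Net.cons (nat_lit 2) (nat_lit 0x2333210003031100320312222202011132211010232221321221133132012001130000) (Net.cons (nat_lit 1) (nat_lit 0x5140054100114141150400041550550014544145515111400001415155101445404140) Net.nil)))))))))))))))))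

theorem p_g78_ok : Net.ok 280 p_g78 = true := by decide +kernel

noncomputable def p_g79 : Net := (Net.cons (nat_lit 1) (nat_lit 0x14115004451450111044000415505541001050040410001450044010044144510040) (Net.cons (nat_lit 2) (nat_lit 0x1322213203213012102111031202103311323132301022012023001321013201223200) (Net.cons (nat_lit 4) (nat_lit 0x40c0f060f0c0d08080a0e0c060d03050707050c0f0b0e020c0e05050e08020c020400) (Net.cons (nat_lit 8) (nat_lit 0xa0006400cf00da00750067008e004a00a900710064003600fa0002001b00180000) (Net.cons (nat_lit 16) (nat_lit 0xd40000b851000061fd0000023a0000da40000007520000661b0000510000000000) (Net.cons (nat_lit 32) (nat_lit 0xb68f50ff000000009301138000000000ed3028a0000000000042d12e) (Net.cons (nat_lit 64) (nat_lit 0x242606fc8232c534000000000000000000000000000578ea) (Net.cons (nat_lit 128) (nat_lit 0xdd4f883cc2a8d70ff9300ec100107e34) (Net.cons (nat_lit 256) (nat_lit 0x57fffe) (Net.cons (nat_lit 128) (nat_lit 0x5f5692)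 (Net.cons (nat_lit 64) (nat_lit 0x8b0592846ab5071500000000000000000a140400240f79cc) (Net.cons (nat_lit 32) (nat_lit 0x8d100cae00000000b5baca9300000000636b85fc00000000205ad12e) (Net.cons (nat_lit 16) (nat_lit 0xd6000072540000d4f4000080a000003b460000bb770000ee14000041200000d806) (Net.cons (nat_lit 8) (nat_lit 0xf400f4008900c000e500e9008600d20098002500f800b500f10040001d005a000d) (Net.cons (nat_lit 4) (nat_lit 0xa0b0b060d09060802020c0e08060e070303080a090c020a0e010d0e080a0c090a00) (Net.cons (nat_lit 2) (nat_lit 0x1212021122101211020103012202000302321332203000210203003311003200201113) (Net.cons (nat_lit 1) (nat_lit 0x14100504451450511000044014015541005501150451105400040050414100551504) Net.nil)))))))))))))))))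

theorem p_g79_ok : Net.ok 280 p_g79 = true := by decide +kernel

noncomputable def pt_c2_K : List Net := [p_g75, p_g76, p_g77, p_g78, p_g79]

theorem pt_c2_K_ok : okE 280 pt_c2_K = true := (okE_cons.2 ⟨p_g75_ok, (okE_cons.2 ⟨p_g76_ok, (okE_cons.2 ⟨p_g77_ok, (okE_cons.2 ⟨p_g78_ok, (okE_cons.2 ⟨p_g79_ok, (okE_nil 280)⟩)⟩)⟩)⟩)⟩)

noncomputable def p_V81 : List Net := [p_g28, p_g23, p_g24, p_g25, p_g37, p_g38, p_g34, p_g31, p_g32, p_g33, p_g41, p_g42]

theorem p_V81_ok : okE 280 p_V81 = true := (okE_cons.2 ⟨p_g28_ok, (okE_cons.2 ⟨p_g23_ok, (okE_cons.2 ⟨p_g24_ok, (okE_cons.2 ⟨p_g25_ok, (okE_cons.2 ⟨p_g37_ok, (okE_cons.2 ⟨p_g38_ok, (okE_cons.2 ⟨p_g34_ok, (okE_cons.2 ⟨p_g31_ok, (okE_cons.2 ⟨p_g32_ok, (okE_cons.2 ⟨p_g33_ok, (okE_cons.2 ⟨p_g41_ok, (okE_cons.2 ⟨p_g42_ok, (okE_nil 280)⟩)⟩)⟩)⟩)⟩)⟩)⟩)⟩)⟩)⟩)⟩)⟩)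

noncomputable def p_g82 : Net := (Net.cons (nat_lit 1) (nat_lit 0x5514145150010515050414001441405445014404104050545410051441454151154104) (Net.cons (nat_lit 2) (nat_lit 0x1312000030333200230031233330033313103130100000323132233100031022132200) (Net.cons (nat_lit 4) (nat_lit 0xa020a0f0301040e080100000b08040a0a0d0d000f0c0c020000060404090307010100) (Net.cons (nat_lit 8) (nat_lit 0xad00fa004e00bd004c00ae0068009c00aa006800d200a100a600c6000300d10002) (Net.cons (nat_lit 16) (nat_lit 0x7000002d420000204d00000f960000277600004c8500002e280000191100004300) (Net.cons (nat_lit 32) (nat_lit 0xb927b49800000000b80958400000000018389a830000000000e024c8) (Net.cons (nat_lit 64) (nat_lit 0x291501c34266cec100000000000000000000000000306206) (Net.cons (nat_lit 128) (nat_lit 0x94fadd5c4788a5ebfda74297292214b4) (Net.cons (nat_lit 256) (nat_lit 0xf3f7fe) (Net.cons (nat_lit 128) (nat_lit 0x4f7e98) (Net.cons (nat_lit 64) (nat_lit 0xb8ed4b50a2f4be4300000000000000009212d651bc8c21be)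 (Net.cons (nat_lit 32) (nat_lit 0xaf99b2ce00000000c50431be00000000427a686200000000f9a794d8) (Net.cons (nat_lit 16) (nat_lit 0x9a0000f00200002d32000046590000794f0000032b00004938000031df00006968) (Net.cons (nat_lit 8) (nat_lit 0x6000e9004000f6005c00fc008a007500c9002800ad0082008b00c7005900d100f6) (Net.cons (nat_lit 4) (nat_lit 0x8090c030909010e0005010e0d0d03040a020d0a0e0a0c0b0d09080d0e0d04000b0308) (Net.cons (nat_lit 2) (nat_lit 0x2313003033312111322333322222000102000012002100131110220200130130323012) (Net.cons (nat_lit 1) (nat_lit 0x5554014001111410454054401514544140051510504104500011015005454550000000) Net.nil)))))))))))))))))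

theorem p_g82_ok : Net.ok 280 p_g82 = true := by decide +kernel

noncomputable def p_g83 : Net := (Net.cons (nat_lit 1) (nat_lit 0x4000404101515554554400040010014414050401045454050140554114001450010000) (Net.cons (nat_lit 2) (nat_lit 0x3030123301313312321110322233210022002111130103110002322000111002302000) (Net.cons (nat_lit 4) (nat_lit 0xf0f08010200090d060702030d03070e01010b0c0108000a0c0a0c010f0004040c0800) (Net.cons (nat_lit 8) (nat_lit 0x6b00ba00d4000200c4004a0001001600e200180022003c003800ed000200940057) (Net.cons (nat_lit 16) (nat_lit 0xb80000a90f0000175a0000a5e400007050000064280000241a00008a4e0000d000) (Net.cons (nat_lit 32) (nat_lit 0xdb1d978800000000c6020db8000000009090c6140000000000282980) (Net.cons (nat_lit 64) (nat_lit 0x15328154807cd0c00000000000000000000000000311788) (Net.cons (nat_lit 128) (nat_lit 0x9090e010207739e7e96b8a2d7ec4c59c) (Net.cons (nat_lit 256) (nat_lit 0xfdffde) (Net.cons (nat_lit 128) (nat_lit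 0xf45192) (Net.cons (nat_lit 64) (nat_lit 0x723fb09159f3f20e0000000000000000d01806bc0b1e28e5) (Net.cons (nat_lit 32) (nat_lit 0xd4df7dd900000000354ab134000000009088c69d00000000e5e6d5fc) (Net.cons (nat_lit 16) (nat_lit 0x33000097450000fc6800006f8f0000d2fc000082330000e1c80000147100004c13) (Net.cons (nat_lit 8) (nat_lit 0x17009b00d8003c00c700f5004700470095002b00200003001a00d60011008a0049) (Net.cons (nat_lit 4) (nat_lit 0xb0e0c050c04070a080a050b0a03010f000d0f09060d0b0f060d08000600010409020e) (Net.cons (nat_lit 2) (nat_lit 0x3023120031211132211113223222212022000113132300110332023003301002003210) (Net.cons (nat_lit 1) (nat_lit 0x51051045515144541511010111004414050441045451050110044151451451514510) Net.nil)))))))))))))))))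

theorem p_g83_ok : Net.ok 280 p_g83 = true := by decide +kernel

noncomputable def p_V84 : List Net := [p_g82, p_g83, p_g31]

theorem p_V84_ok : okE 280 p_V84 = true := (okE_cons.2 ⟨p_g82_ok, (okE_cons.2 ⟨p_g83_ok, (okE_cons.2 ⟨p_g31_ok, (okE_nil 280)⟩)⟩)⟩)

noncomputable def p_V86 : List Net := [p_g83, p_g31]

theorem p_V86_ok : okE 280 p_V86 = true := (okE_cons.2 ⟨p_g83_ok, (okE_cons.2 ⟨p_g31_ok, (okE_nil 280)⟩)⟩)

noncomputable def p_V87 : List Net := [p_g31]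

theorem p_V87_ok : okE 280 p_V87 = true := (okE_cons.2 ⟨p_g31_ok, (okE_nil 280)⟩)

noncomputable def p_V88 : List Net := []

theorem p_V88_ok : okE 280 p_V88 = true := (okE_nil 280)

noncomputable def pt_c2_cnt_EG : List Net := [p_g11, p_g1, p_g2, p_g3, p_g4, p_g5, p_g6, p_g7, p_g8, p_g9, p_g10, p_g20, p_g14, p_g15, p_g16, p_g17, p_g28, p_g23, p_g24, p_g25, p_g37, p_g38, p_g34, p_g31, p_g32, p_g33, p_g41, p_g42, p_g82, p_g83]

theorem pt_c2_cnt_EG_ok : okE 280 pt_c2_cnt_EG = true := (okE_cons.2 ⟨p_g11_ok, (okE_cons.2 ⟨p_g1_ok, (okE_cons.2 ⟨p_g2_ok, (okE_cons.2 ⟨p_g3_ok, (okE_cons.2 ⟨p_g4_ok, (okE_cons.2 ⟨p_g5_ok, (okE_cons.2 ⟨p_g6_ok, (okE_cons.2 ⟨p_g7_ok, (okE_cons.2 ⟨p_g8_ok, (okE_cons.2 ⟨p_g9_ok, (okE_cons.2 ⟨p_g10_ok, (okE_cons.2 ⟨p_g20_ok, (okE_cons.2 ⟨p_g14_ok, (okE_cons.2 ⟨p_g15_ok, (okE_cons.2 ⟨p_g16_ok, (okE_cons.2 ⟨p_g17_ok, (okE_cons.2 ⟨p_g28_ok, (okE_cons.2 ⟨p_g23_ok, (okE_cons.2 ⟨p_g24_ok, (okE_cons.2 ⟨p_g25_ok,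 (okE_cons.2 ⟨p_g37_ok, (okE_cons.2 ⟨p_g38_ok, (okE_cons.2 ⟨p_g34_ok, (okE_cons.2 ⟨p_g31_ok, (okE_cons.2 ⟨p_g32_ok, (okE_cons.2 ⟨p_g33_ok, (okE_cons.2 ⟨p_g41_ok, (okE_cons.2 ⟨p_g42_ok, (okE_cons.2 ⟨p_g82_ok, (okE_cons.2 ⟨p_g83_ok, (okE_nil 280)⟩)⟩)⟩)⟩)⟩)⟩)⟩)⟩)⟩)⟩)⟩)⟩)⟩)⟩)⟩)⟩)⟩)⟩)⟩)⟩)⟩)⟩)⟩)⟩)⟩)⟩)⟩)⟩)⟩)⟩)

noncomputable def p_g89 : Net := (Net.cons (nat_lit 1) (nat_lit 0x454404405455415414111504115005540101011115100000051141100404400054414) (Net.cons (nat_lit 2) (nat_lit 0x1021220120223220202322312233201320123223301000030010031303230010213320) (Net.cons (nat_lit 4) (nat_lit 0x5020a0d080c000a030d0b060c040e0404050b000f08080805020c0703080e03020900) (Net.cons (nat_lit 8) (nat_lit 0xb4008a009f0010002200a2006800e700da005b001b004b008c004000fc00cd0029) (Net.cons (nat_lit 16) (nat_lit 0x90000070460000a0800000400900004bc2000038f40000f99f000026e000000200) (Net.cons (nat_lit 32) (nat_lit 0x837b0cde00000000a2b27c5c000000000d427f200000000000ad1428)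 (Net.cons (nat_lit 64) (nat_lit 0xc81866a225c498fa000000000000000000000000000425ba) (Net.cons (nat_lit 128) (nat_lit 0xc8b256bc345085fa1648b84b41a09af0) (Net.cons (nat_lit 256) (nat_lit 0xfffffe) (Net.cons (nat_lit 128) (nat_lit 0x26c2f4) (Net.cons (nat_lit 64) (nat_lit 0x94cb2993f7e439a2000000000000000001fa046a9a8a28df) (Net.cons (nat_lit 32) (nat_lit 0xadc94c720000000043bb9e4d000000003b3c5e86000000007ab28538) (Net.cons (nat_lit 16) (nat_lit 0xc30000230a0000941c0000129b000021510000f54e0000407b000043c80000f137) (Net.cons (nat_lit 8) (nat_lit 0x5a00de0012001c0088009a00de0064000c003a003200ca00ae00b800b5004d006c) (Net.cons (nat_lit 4) (nat_lit 0x7070b09040707090b0801070e060d0d000c080405090a090a000403030b0704080308) (Net.cons (nat_lit 2) (nat_lit 0x3011313020110223232002113331220332332202122221333331132013132020011303) (Net.cons (nat_lit 1) (nat_lit 0x1104001051451101515154144104401000541541115005114415041411545550111155) Net.nil)))))))))))))))))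

theorem p_g89_ok : Net.ok 280 p_g89 = true := by decide +kernel

noncomputable def p_g90 : Net := (Net.cons (nat_lit 1) (nat_lit 0x1140101005410040511401111050554054411554010004015551105141111010104450) (Net.cons (nat_lit 2) (nat_lit 0x2321023230201201102010222001321132212003333131123223021100300131020000) (Net.cons (nat_lit 4) (nat_lit 0xe010d0f050603010a07060b02020f07030c070a02070a030301070902020c00000400) (Net.cons (nat_lit 8) (nat_lit 0x6100fe000e0041001b005e00ea0020001700de00ca005700ea0041005d00540082) (Net.cons (nat_lit 16) (nat_lit 0xea0000a34d000064cf0000943d00004088000001710000eb450000a8830000c000) (Net.cons (nat_lit 32) (nat_lit 0x446943d300000000c754885c000000000182a04b0000000000cd3b0c) (Net.cons (nat_lit 64) (nat_lit 0x80168c440eb296220000000000000000000000000046aec2) (Net.cons (nat_lit 128) (nat_lit 0xc48ccd562e1e9c236c932309112119a9) (Net.cons (nat_lit 256) (nat_lit 0xefffff) (Net.cons (nat_lit 128) (nat_lit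 0xe52b18) (Net.cons (nat_lit 64) (nat_lit 0x8065aeda0f9c864300000000000000007601ca687d890dc3) (Net.cons (nat_lit 32) (nat_lit 0xeceb60d7000000000ece5f7b00000000a3e6c9530000000091124466) (Net.cons (nat_lit 16) (nat_lit 0x53000085440000046b0000250900003a300000ca85000093d3000034cd000089a8) (Net.cons (nat_lit 8) (nat_lit 0x2f00de00b20051006600be0068008100d1001d00e000f9009500e7005a00fa00e2) (Net.cons (nat_lit 4) (nat_lit 0xd0f0b0d0f0a010e060c020c0f090b05050d060b000e0000020e010e03050b0b0c00) (Net.cons (nat_lit 2) (nat_lit 0x1313223120301120131032231322120033321213132020311131232011231223132030) (Net.cons (nat_lit 1) (nat_lit 0x41554005410040511150110514445511041011511514445501555554055100515110) Net.nil)))))))))))))))))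

theorem p_g90_ok : Net.ok 280 p_g90 = true := by decide +kernel

noncomputable def p_g91 : Net := (Net.cons (nat_lit 1) (nat_lit 0x1410550041105145444114104545551411145511550144010454450514100104054044) (Net.cons (nat_lit 2) (nat_lit 0x3111022032131123321320130123003011133223031033102301123023130011131010) (Net.cons (nat_lit 4) (nat_lit 0x4000c0f070a000a060c0f0c05050d0008080c08000e0d0a090d0f0e07050e050e0400) (Net.cons (nat_lit 8) (nat_lit 0xa00b600f100f000d60067001800e7005b008300cc00ab003b00bc000000bc0088) (Net.cons (nat_lit 16) (nat_lit 0x370000f9450000e027000099dc0000cdf2000065e60000f2100000cbd200005400) (Net.cons (nat_lit 32) (nat_lit 0x819a0a3a00000000d858866400000000fa98cf51000000000098b83b) (Net.cons (nat_lit 64) (nat_lit 0x9229a30643e9088800000000000000000000000000104ec4) (Net.cons (nat_lit 128) (nat_lit 0x5bda4ae9c5e5b0bde431e9df9ed8082e) (Net.cons (nat_lit 256) (nat_lit 0xfbfeff) (Net.cons (nat_lit 128) (nat_lit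 0x4e264c) (Net.cons (nat_lit 64) (nat_lit 0xcf243c36108a48c100000000000000006ee6de12489e9f68) (Net.cons (nat_lit 32) (nat_lit 0x8a9a4f03000000001746e17800000000cf8f9c5e00000000dc019650) (Net.cons (nat_lit 16) (nat_lit 0x5c0000b7f9000045ce000006810000e26e00008e9e0000b858000069460000100b) (Net.cons (nat_lit 8) (nat_lit 0xf7005d00a200d0005800f700b10069006a0055002c00e100a100750001000100cd) (Net.cons (nat_lit 4) (nat_lit 0x205020d060f0b0a00070f09090c020108020300030b000907070a0d0e0a0601040c09) (Net.cons (nat_lit 2) (nat_lit 0x2103010123032230103021101200000122220110310211213030103111000110032211) (Net.cons (nat_lit 1) (nat_lit 0x4455415151515010010555401150154414450540041041414044555055504005155011) Net.nil)))))))))))))))))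

theorem p_g91_ok : Net.ok 280 p_g91 = true := by decide +kernel

noncomputable def p_g92 : Net := (Net.cons (nat_lit 1) (nat_lit 0x4015401514055455544100005550145441501455101001014541511405401451540500) (Net.cons (nat_lit 2) (nat_lit 0x20303320120122130132132201020121300020232102232102320220003000100) (Net.cons (nat_lit 4) (nat_lit 0x60508000a0c0e080f0e0c05050c08020a0e010b000e03090000040d010c0202040a00) (Net.cons (nat_lit 8) (nat_lit 0x5f00f500e70018007d006c003e007700f7000f005800c900f200020017003800c1) (Net.cons (nat_lit 16) (nat_lit 0xb900003cb10000a6aa000037d0000029180000e0660000093200002a5200001200) (Net.cons (nat_lit 32) (nat_lit 0xd88bc50400000000f333f7d700000000d20d8040000000000083cc08) (Net.cons (nat_lit 64) (nat_lit 0xc13801504274079d00000000000000000000000000a58bc6) (Net.cons (nat_lit 128) (nat_lit 0x1d4ce0a3ef362b21ce71e5f78d2c729c) (Net.cons (nat_lit 256) (nat_lit 0xefffdf) (Net.cons (nat_lit 128) (nat_lit 0x6f6600)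 (Net.cons (nat_lit 64) (nat_lit 0x416758f2bda6124100000000000000008618a113ba4f8691) (Net.cons (nat_lit 32) (nat_lit 0x15774e0f00000000d9647f6e000000005296014c00000000d5cffe35) (Net.cons (nat_lit 16) (nat_lit 0xdb0000e3d4000003aa0000c0d80000ebb100006fdd000096c500008ad7000003cc) (Net.cons (nat_lit 8) (nat_lit 0xe100b200200004002000a400a800ed00bb00560074000e006200f0002800e100ce) (Net.cons (nat_lit 4) (nat_lit 0xb0f0c050103080f03020a030c080105060c0505050008040c0b010c06090c08010f07) (Net.cons (nat_lit 2) (nat_lit 0x22321300121031011112302110023221210000020022232321101112330330010313) (Net.cons (nat_lit 1) (nat_lit 0x1414454045504440541445500054551441141511044000044401544541514451100155) Net.nil)))))))))))))))))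

theorem p_g92_ok : Net.ok 280 p_g92 = true := by decide +kernel

noncomputable def p_g93 : Net := (Net.cons (nat_lit 1) (nat_lit 0x414541551155104441414550410155504051550154400411510504040414105004444) (Net.cons (nat_lit 2) (nat_lit 0x1010011100320012303220122130020101100110310002021210333300320230023200) (Net.cons (nat_lit 4) (nat_lit 0x80f0d000307090008060e08080e0c080e000607080b080b020d030b010c0a02010200) (Net.cons (nat_lit 8) (nat_lit 0x7c00d8005e0087009f00c500b300a0005300c5001a00cf00c10038000000360036) (Net.cons (nat_lit 16) (nat_lit 0xa50000639f0000e791000004100000c8590000b20600002c2100002cc10000d800) (Net.cons (nat_lit 32) (nat_lit 0x65de366600000000bc6dc85e0000000011d5101000000000008850c6) (Net.cons (nat_lit 64) (nat_lit 0x6a6073025b9267ce0000000000000000000000000006a084) (Net.cons (nat_lit 128) (nat_lit 0xf60f67022557f7b589e694415a908f6f) (Net.cons (nat_lit 256) (nat_lit 0xbfffff) (Net.cons (nat_lit 128) (nat_lit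 0x298904) (Net.cons (nat_lit 64) (nat_lit 0x5b922a81371583510000000000000000b4e1929de8475fc7) (Net.cons (nat_lit 32) (nat_lit 0x5a79c6dd00000000f353512d000000003a35f09f000000002d59b5c0) (Net.cons (nat_lit 16) (nat_lit 0x8500007348000082280000740b0000e0ca0000d4190000a4b6000058980000ecb2) (Net.cons (nat_lit 8) (nat_lit 0x120070005f00800009009c00c1000a001a001d001b00af00c4008800c200810004) (Net.cons (nat_lit 4) (nat_lit 0xa0d040805030b060805040b0906010e0601060f030c080b000e02070f0f070e06040e) (Net.cons (nat_lit 2) (nat_lit 0x3320133120132230303010230102303000130013113123012020123312323332323102) (Net.cons (nat_lit 1) (nat_lit 0x505051111111540004145405454050114411004101414400451055015400041541544) Net.nil)))))))))))))))))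

theorem p_g93_ok : Net.ok 280 p_g93 = true := by decide +kernel

noncomputable def p_g94 : Net := (Net.cons (nat_lit 1) (nat_lit 0x114100554050404510450505510011040405140141101050045040505154050010000) (Net.cons (nat_lit 2) (nat_lit 0x1231021232011021333033300200320023131011022020313212120100233022200020) (Net.cons (nat_lit 4) (nat_lit 0xd0d0c0e06040a0302090c020b0d0c0b040f0001050902000409090d0007040b0b0000) (Net.cons (nat_lit 8) (nat_lit 0x36003800d900830039003100930078003900e6007d008a00b20083005900340063) (Net.cons (nat_lit 16) (nat_lit 0x8500009cd700001116000027a80000e0ba000056fe0000100900009b3600004400) (Net.cons (nat_lit 32) (nat_lit 0xc7e01510000000090f8a514000000005a6a6ac8000000000007e308) (Net.cons (nat_lit 64) (nat_lit 0xd0402da2019422dd000000000000000000000000002e4110) (Net.cons (nat_lit 128) (nat_lit 0xe720ac1d9eed08f6125a03f7cf402ef9) (Net.cons (nat_lit 256) (nat_lit 0xfffffb) (Net.cons (nat_lit 128) (nat_lit 0x3981b1)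 (Net.cons (nat_lit 64) (nat_lit 0xf50520a713dffb480000000000000000d03ef207af96c0e4) (Net.cons (nat_lit 32) (nat_lit 0xa2dbf1dc0000000042d5b52d000000004485891500000000e20efda1) (Net.cons (nat_lit 16) (nat_lit 0x1c0000200c0000955a0000243f00005ab30000ecb2000017300000996f0000857a) (Net.cons (nat_lit 8) (nat_lit 0xfe00b60069003f00cc006e00dc00f6004b00e100d100c800f0009a00f9003c00b9) (Net.cons (nat_lit 4) (nat_lit 0x7040b0b050106070c000904030d0b050901010d0e070a000d0a02050d04040f070102) (Net.cons (nat_lit 2) (nat_lit 0x3211030122302301013312122232301323300310121201310113000001023101303321) (Net.cons (nat_lit 1) (nat_lit 0x151410514555105105140005544404141044055554401054145510555411104550011) Net.nil)))))))))))))))))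

theorem p_g94_ok : Net.ok 280 p_g94 = true := by decide +kernel

noncomputable def pt_c3_K : List Net := [p_g90, p_g91, p_g92, p_g93, p_g94]

theorem pt_c3_K_ok : okE 280 pt_c3_K = true := (okE_cons.2 ⟨p_g90_ok, (okE_cons.2 ⟨p_g91_ok, (okE_cons.2 ⟨p_g92_ok, (okE_cons.2 ⟨p_g93_ok, (okE_cons.2 ⟨p_g94_ok, (okE_nil 280)⟩)⟩)⟩)⟩)⟩)

noncomputable def p_V96 : List Net := [p_g37, p_g38, p_g34, p_g31, p_g32, p_g33, p_g41, p_g42]

theorem p_V96_ok : okE 280 p_V96 = true := (okE_cons.2 ⟨p_g37_ok, (okE_cons.2 ⟨p_g38_ok, (okE_cons.2 ⟨p_g34_ok, (okE_cons.2 ⟨p_g31_ok, (okE_cons.2 ⟨p_g32_ok, (okE_cons.2 ⟨p_g33_ok, (okE_cons.2 ⟨p_g41_ok, (okE_cons.2 ⟨p_g42_ok, (okE_nil 280)⟩)⟩)⟩)⟩)⟩)⟩)⟩)⟩)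

noncomputable def p_V97 : List Net := [p_g41, p_g42]

theorem p_V97_ok : okE 280 p_V97 = true := (okE_cons.2 ⟨p_g41_ok, (okE_cons.2 ⟨p_g42_ok, (okE_nil 280)⟩)⟩)

noncomputable def p_V98 : List Net := []

theorem p_V98_ok : okE 280 p_V98 = true := (okE_nil 280)

noncomputable def pt_c3_cnt_EG : List Net := [p_g11, p_g1, p_g2, p_g3, p_g4, p_g5, p_g6, p_g7, p_g8, p_g9, p_g10, p_g20, p_g14, p_g15, p_g16, p_g17, p_g28, p_g23, p_g24, p_g25, p_g37, p_g38, p_g34, p_g31, p_g32, p_g33, p_g41, p_g42]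

theorem pt_c3_cnt_EG_ok : okE 280 pt_c3_cnt_EG = true := (okE_cons.2 ⟨p_g11_ok, (okE_cons.2 ⟨p_g1_ok, (okE_cons.2 ⟨p_g2_ok, (okE_cons.2 ⟨p_g3_ok, (okE_cons.2 ⟨p_g4_ok, (okE_cons.2 ⟨p_g5_ok, (okE_cons.2 ⟨p_g6_ok, (okE_cons.2 ⟨p_g7_ok, (okE_cons.2 ⟨p_g8_ok, (okE_cons.2 ⟨p_g9_ok, (okE_cons.2 ⟨p_g10_ok, (okE_cons.2 ⟨p_g20_ok, (okE_cons.2 ⟨p_g14_ok, (okE_cons.2 ⟨p_g15_ok, (okE_cons.2 ⟨p_g16_ok, (okE_cons.2 ⟨p_g17_ok, (okE_cons.2 ⟨p_g28_ok, (okE_cons.2 ⟨p_g23_ok, (okE_cons.2 ⟨p_g24_ok, (okE_cons.2 ⟨p_g25_ok, (okE_cons.2 ⟨p_g37_ok, (okE_cons.2 ⟨p_g38_ok, (okE_cons.2 ⟨p_g34_ok, (okE_cons.2 ⟨p_g31_ok, (okE_cons.2 ⟨p_g32_ok, (okE_cons.2 ⟨p_g33_ok, (okE_cons.2 ⟨p_g41_ok, (okE_cons.2 ⟨p_g42_ok, (okE_nil 280)⟩)⟩)⟩)⟩)⟩)⟩)⟩)⟩)⟩)⟩)⟩)⟩)⟩)⟩)⟩)⟩)⟩)⟩)⟩)⟩)⟩)⟩)⟩)⟩)⟩)⟩)⟩)⟩)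

noncomputable def p_g99 : Net := (Net.cons (nat_lit 1) (nat_lit 0x5401410511144050144410455451141115005040000505405000510040415051115454) (Net.cons (nat_lit 2) (nat_lit 0x300302112230131321002130200233221112210003210231133111233102111203000) (Net.cons (nat_lit 4) (nat_lit 0x8010d0507060603010400030b01090c09060402060e0a01030e050305020900050000) (Net.cons (nat_lit 8) (nat_lit 0x500fc00cf0076009500b3003400df001d005400de00d80085006c00b1009800e6) (Net.cons (nat_lit 16) (nat_lit 0xa00000e0ae0000ac0b000001400000a9670000a31a0000149a00007c0c00008f00) (Net.cons (nat_lit 32) (nat_lit 0xbc8bc0cc00000000287242e20000000016cac92f0000000000038389) (Net.cons (nat_lit 64) (nat_lit 0xfd000608bef3280100000000000000000000000000808338) (Net.cons (nat_lit 128) (nat_lit 0x16460cf209384496eb19ba1cb69bcfbf) (Net.cons (nat_lit 256) (nat_lit 0x9bcfbf) (Net.cons (nat_lit 128) (nat_lit 0x5b6c50) (Net.cons (nat_lit 64) (nat_lit 0x66448e2d95c856220000000000000000c6a168796a6afe9c)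 (Net.cons (nat_lit 32) (nat_lit 0x9502f041000000008e21a6df000000006c47a5e60000000077ad4b3b) (Net.cons (nat_lit 16) (nat_lit 0x5e0000b0c100008c7c0000ade4000066690000d79d0000f69600007f2e0000b5e9) (Net.cons (nat_lit 8) (nat_lit 0x7d0076002500e200d300cd006b00de002400b100b90051005b00e0004100d80007) (Net.cons (nat_lit 4) (nat_lit 0x40009030c0d0e0b0b0b0e07030508030400020f020a090f090f0307080c070e010804) (Net.cons (nat_lit 2) (nat_lit 0x3313313320101301322221120223302233112003101313131100101330200213132033) (Net.cons (nat_lit 1) (nat_lit 0x1055415554051045140440111405150400145015040511104441504514515551011454) Net.nil)))))))))))))))))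

theorem p_g99_ok : Net.ok 280 p_g99 = true := by decide +kernel

noncomputable def p_g100 : Net := (Net.cons (nat_lit 1) (nat_lit 0x4511454444411445551400011004541051401101040501454545444551001001014440) (Net.cons (nat_lit 2) (nat_lit 0x312312111011011333123232123303100133322020130003103033310010200203310) (Net.cons (nat_lit 4) (nat_lit 0xe05030206080609070d0c0507040a0c0a09070f020e030f060c0d0e0f080a07060000) (Net.cons (nat_lit 8) (nat_lit 0xe400b9002c009800360047004b00f900bc002b006b00780009004100520071003d) (Net.cons (nat_lit 16) (nat_lit 0xd40000ddaa0000a90000008ad60000610a00002d66000003c2000062280000de00) (Net.cons (nat_lit 32) (nat_lit 0xa8a06c5b0000000028822932000000006d89a481000000000040ca48) (Net.cons (nat_lit 64) (nat_lit 0x3585800e3cf3e79b0000000000000000000000000002e549) (Net.cons (nat_lit 128) (nat_lit 0xeeb6304a5ba1a1d8d363cea564eb08ba) (Net.cons (nat_lit 256) (nat_lit 0xeffffb) (Net.cons (nat_lit 128) (nat_lit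 0xd95e8f) (Net.cons (nat_lit 64) (nat_lit 0xde11dc6201b1c44e0000000000000000c712e3626abfdb8a) (Net.cons (nat_lit 32) (nat_lit 0x5a8b0b8400000000c8cc3a32000000003056fe2f0000000030d50ada) (Net.cons (nat_lit 16) (nat_lit 0x830000a7340000c423000000950000bb6b00001dfb0000058a0000e9800000a2c4) (Net.cons (nat_lit 8) (nat_lit 0x9400720059005b007e00c9001200be008a00a20095006800c5000a00ea007b0090) (Net.cons (nat_lit 4) (nat_lit 0x4070d0a0a0a0c0d060b0c0e0c09020b080a00000f0d000f0a0b05030d000e0d080f08) (Net.cons (nat_lit 2) (nat_lit 0x3100312013122333303200022131211312223003000000000333000012223231300032) (Net.cons (nat_lit 1) (nat_lit 0x4040505005540054555055440515545000154545551141545555555500544454044100) Net.nil)))))))))))))))))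

theorem p_g100_ok : Net.ok 280 p_g100 = true := by decide +kernel

noncomputable def p_g101 : Net := (Net.cons (nat_lit 1) (nat_lit 0x1050004415401141001005045144044450500051404004515411405114010045015000) (Net.cons (nat_lit 2) (nat_lit 0x2232231033210233120222112310101133120202121033333021311002112221000010) (Net.cons (nat_lit 4) (nat_lit 0x9000d0f080d080203090f05090d0f020d0901060e060b0b05020c0407000e09030000) (Net.cons (nat_lit 8) (nat_lit 0x8300910007006300f100d0000c00f3007100960074006c0010009a0009003e00c0) (Net.cons (nat_lit 16) (nat_lit 0xd00009e8000009c090000b0f10000a3cf0000c7230000402c0000000d00005800) (Net.cons (nat_lit 32) (nat_lit 0xd3049018000000004a01e04300000000029ba1270000000000950039) (Net.cons (nat_lit 64) (nat_lit 0x3a60a2e868afde450000000000000000000000000089c1b0) (Net.cons (nat_lit 128) (nat_lit 0xaca5bd47a335521ed6cd17af4c1f3b02) (Net.cons (nat_lit 256) (nat_lit 0xdffffb) (Net.cons (nat_lit 128) (nat_lit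 0xd5a4e3) (Net.cons (nat_lit 64) (nat_lit 0x26e3473143f9fbb60000000000000000827ba2ef0b41ad4b) (Net.cons (nat_lit 32) (nat_lit 0x5da1d07800000000a654b25900000000f6983b0d000000000f49f7eb) (Net.cons (nat_lit 16) (nat_lit 0x3e00009ed700003909000018f60000a0eb0000f85e00001b4c0000eb9300003417) (Net.cons (nat_lit 8) (nat_lit 0xd900c6008400a0005f007a00cb00b6005300ad008c00c1001300070063002b0096) (Net.cons (nat_lit 4) (nat_lit 0x4060e020600090101050806080c0a0c0f04030e060e010901090f0a090f0f08060b06) (Net.cons (nat_lit 2) (nat_lit 0x2201120332303020221323230301013132003003113120223131202220121000021330) (Net.cons (nat_lit 1) (nat_lit 0x4411111404444445150010505411411410144444450014105540151105440555010000) Net.nil)))))))))))))))))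

theorem p_g101_ok : Net.ok 280 p_g101 = true := by decide +kernel

noncomputable def p_g102 : Net := (Net.cons (nat_lit 1) (nat_lit 0x1505115551114040454410004551001054445515011054105544050101545150150100) (Net.cons (nat_lit 2) (nat_lit 0x200311201101131302023221133332011122201131031312012133003031133010000) (Net.cons (nat_lit 4) (nat_lit 0x90f020b030005070e0b04070b08040507000a010709050b07030909070f0404040100) (Net.cons (nat_lit 8) (nat_lit 0xc600f000ee00f200630057000c007c00200096009b00d200f7004800a4001c0010) (Net.cons (nat_lit 16) (nat_lit 0x800000d3600000797900003f6a000004f500001ebd0000c9e00000400c00004000) (Net.cons (nat_lit 32) (nat_lit 0x436efe380000000040444c01000000008f22568a0000000000929064) (Net.cons (nat_lit 64) (nat_lit 0xb8a011410056d253000000000000000000000000006709e4) (Net.cons (nat_lit 128) (nat_lit 0x936697b45c26e1bb6f8864cfe2464b85) (Net.cons (nat_lit 256) (nat_lit 0xf7ffed) (Net.cons (nat_lit 128) (nat_lit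 0x9e53c0) (Net.cons (nat_lit 64) (nat_lit 0xa24de44208f078d70000000000000000b1aa8fc65eac94ba) (Net.cons (nat_lit 32) (nat_lit 0xb858b0b80000000079ad140100000000142a205f00000000a6f290d6) (Net.cons (nat_lit 16) (nat_lit 0x6e00003aee000001c800005e32000096860000e385000042210000dd8b00000a28) (Net.cons (nat_lit 8) (nat_lit 0x3600480063007300170062000a007700f4000d00c7009f00f3004100aa00b4004e) (Net.cons (nat_lit 4) (nat_lit 0x90b060a06030b0e090f0e000700030b05040f0300050403040509040e070800020b00) (Net.cons (nat_lit 2) (nat_lit 0x1130312001331311321032320212001100103033033110010111123323200311021013) (Net.cons (nat_lit 1) (nat_lit 0x1551540511444040010005504151041105555004050501015155101500140441540405) Net.nil)))))))))))))))))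

theorem p_g102_ok : Net.ok 280 p_g102 = true := by decide +kernel

noncomputable def p_g103 : Net := (Net.cons (nat_lit 1) (nat_lit 0x1011050400411500154111510554001411550455555440000140050150051015000110) (Net.cons (nat_lit 2) (nat_lit 0x2231220023012301300132222212111020200233122110012101110221232012320300) (Net.cons (nat_lit 4) (nat_lit 0x70c0f0d060c02010a040d0f09020a03000400070f0b0a0201010e0006020207020d00) (Net.cons (nat_lit 8) (nat_lit 0x1d003d00140038005500290034009500ce00d8002000aa005000d800c9003c0044) (Net.cons (nat_lit 16) (nat_lit 0xd00008480000079190000c1da0000c55f00000dd9000016150000816700005600) (Net.cons (nat_lit 32) (nat_lit 0x25884d040000000006b00c65000000008ac48a0400000000006d0805) (Net.cons (nat_lit 64) (nat_lit 0x6381408040186a8b000000000000000000000000005c80c0) (Net.cons (nat_lit 128) (nat_lit 0x5fdecba075a9c13c385baa27ae097a5e) (Net.cons (nat_lit 256) (nat_lit 0xfdffff) (Net.cons (nat_lit 128) (nat_lit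 0x5e258d) (Net.cons (nat_lit 64) (nat_lit 0xb658cbb198f946060000000000000000edcb085c7130397c) (Net.cons (nat_lit 32) (nat_lit 0x91691c4100000000cbea61a8000000007b2db8090000000028f4397b) (Net.cons (nat_lit 16) (nat_lit 0xc500006d200000c2d90000308a0000d9f10000d9960000efbd0000ab6a00002b4a) (Net.cons (nat_lit 8) (nat_lit 0xf800740037003100b4009a0007006f005f00ca00f6001900bc00e8003b00760007) (Net.cons (nat_lit 4) (nat_lit 0x8050108050e02030b020a00080f050f04090908020908090e050e0e0f0c000e020b0f) (Net.cons (nat_lit 2) (nat_lit 0x220312103131331220203331023210222021312002320130232021001111012322023) (Net.cons (nat_lit 1) (nat_lit 0x1544155000410101441504055445554454540411005545041114054044114454415454) Net.nil)))))))))))))))))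

theorem p_g103_ok : Net.ok 280 p_g103 = true := by decide +kernel

noncomputable def p_g104 : Net := (Net.cons (nat_lit 1) (nat_lit 0x50000055555404414004000001401550015010054000040000000104100000000000) (Net.cons (nat_lit 2) (nat_lit 0x3300000011111120001313333022333222003020011330311200021002000002200000) (Net.cons (nat_lit 4) (nat_lit 0xc07060d050d0d0008000000010402050d0c050302050008070d050f01010008010000) (Net.cons (nat_lit 8) (nat_lit 0x800035002800d800d4001d007a00d600eb000a000e0000002d000900f1007e0000) (Net.cons (nat_lit 16) (nat_lit 0x20000058e40000232400000755000083260000d569000049020000500000000000) (Net.cons (nat_lit 32) (nat_lit 0x30b0556000000003c2deac400000000513284820000000000c30f18) (Net.cons (nat_lit 64) (nat_lit 0x34122c1402e914c0000000000000000000000000020016d) (Net.cons (nat_lit 128) (nat_lit 0x3c671a3b6905cd98ff38a0c600fff1c2) (Net.cons (nat_lit 256) (nat_lit 0xffffff) (Net.cons (nat_lit 128) (nat_lit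 0x1cffb6) (Net.cons (nat_lit 64) (nat_lit 0x7048b11820024fc900000000000000002c1c10030020087d) (Net.cons (nat_lit 32) (nat_lit 0x2328100f00000000293f79e800000000015c5fa20000000000c30f18) (Net.cons (nat_lit 16) (nat_lit 0x2f000054e9000027f60000b75f0000a3e100008f99000051590000d8e40000ff00) (Net.cons (nat_lit 8) (nat_lit 0x6e0034001100d0006c000d00fd00d700fe00d6000e00690077007400ea00fc00ff) (Net.cons (nat_lit 4) (nat_lit 0xd040e0d020e0c05080506000300040d0c0604020c040d0902020503040303080f0f01) (Net.cons (nat_lit 2) (nat_lit 0x31111122002113333000002133222030011300011310010100010000001201) (Net.cons (nat_lit 1) (nat_lit 0x50000005555400014010000001401551555000054100040400040004050000555400) Net.nil)))))))))))))))))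

theorem p_g104_ok : Net.ok 280 p_g104 = true := by decide +kernel

noncomputable def pt_c4_K : List Net := [p_g100, p_g101, p_g102, p_g103, p_g104]

theorem pt_c4_K_ok : okE 280 pt_c4_K = true := (okE_cons.2 ⟨p_g100_ok, (okE_cons.2 ⟨p_g101_ok, (okE_cons.2 ⟨p_g102_ok, (okE_cons.2 ⟨p_g103_ok, (okE_cons.2 ⟨p_g104_ok, (okE_nil 280)⟩)⟩)⟩)⟩)⟩)

noncomputable def p_g106 : Net := (Net.cons (nat_lit 1) (nat_lit 0x1405000055151145041104115115404554045011005110545554000555414501041440) (Net.cons (nat_lit 2) (nat_lit 0x2201100011320322120100011320133311203103333223320002211230121022013100) (Net.cons (nat_lit 4) (nat_lit 0xa060a0c0e0503000704020d0a0f020304040b03020002090c080d0e03040901080200) (Net.cons (nat_lit 8) (nat_lit 0x4b000a004d0034005b0019008e009500af000e00990093001e006800a200000000) (Net.cons (nat_lit 16) (nat_lit 0xe0000fad80000706d00001d300000c2750000935f0000c3700000ec100000c000) (Net.cons (nat_lit 32) (nat_lit 0x254be43c000000001623918f000000003e88c0000000000000000000)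 (Net.cons (nat_lit 64) (nat_lit 0x1dc42230800ad46000000000000000000000000000008000) (Net.cons (nat_lit 128) (nat_lit 0xaed829bed0f9ca22510f4a454a02c000) (Net.cons (nat_lit 256) (nat_lit 180238) (Net.cons (nat_lit 128) (nat_lit 0x54d4c2) (Net.cons (nat_lit 64) (nat_lit 0xe07b0d0bc8d4c26700000000000000005ef62b4ce8506d22) (Net.cons (nat_lit 32) (nat_lit 0x85aee55e00000000cbae0f38000000001f8b724000000000992d0572) (Net.cons (nat_lit 16) (nat_lit 0x110000faff0000d2d600003a400000f94100007710000025680000019f00008e02) (Net.cons (nat_lit 8) (nat_lit 0x89000a000000120096008900a6007c00ec00d6001d0084000900e900cc008a0050) (Net.cons (nat_lit 4) (nat_lit 0x8070b0c040000010e0e07080b07060706050a050200000f090003070505020f000700) (Net.cons (nat_lit 2) (nat_lit 0x2201101011111030313323203222001201102030022313101321300311333211030030) (Net.cons (nat_lit 1) (nat_lit 0x1405001051045515044544415544100045411445010505101515554445541414055140) Net.nil)))))))))))))))))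

theorem p_g106_ok : Net.ok 280 p_g106 = true := by decide +kernel

noncomputable def p_g107 : Net := (Net.cons (nat_lit 1) (nat_lit 0x1550045555505504551450044011405441150110155445400000510151541514001444) (Net.cons (nat_lit 2) (nat_lit 0x3011200023331120002012131023332022210223200111231312200103101302002000) (Net.cons (nat_lit 4) (nat_lit 0xe010506090e0000000403090e070001050b0f0a050f06040a0b00050c0c0b0c020800) (Net.cons (nat_lit 8) (nat_lit 0x7800dc003b007e003300d800d500b7001b00cd00860006000c006b002400bd0080) (Net.cons (nat_lit 16) (nat_lit 0x160000ea690000ee10000028870000929b0000db280000a49b0000e10100000000) (Net.cons (nat_lit 32) (nat_lit 0x1599e848000000008e87d53200000000602514070000000000000000) (Net.cons (nat_lit 64) (nat_lit 0x3400426c90b1097a00000000000000000000000000800040) (Net.cons (nat_lit 128) (nat_lit 0xc118d17ab49497dd7e38b28407900048) (Net.cons (nat_lit 256) (nat_lit 0x90004e) (Net.cons (nat_lit 128) (nat_lit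 0xb32ce2) (Net.cons (nat_lit 64) (nat_lit 0x7f026bb1ed49d6b00000000000000006bf6e01b881b1c50) (Net.cons (nat_lit 32) (nat_lit 0xa1f37deb00000000b2be66b500000000f24dabee000000001456eef2) (Net.cons (nat_lit 16) (nat_lit 0xfa0000766b0000ecab000063d3000097820000d6230000e1f20000279500003d52) (Net.cons (nat_lit 8) (nat_lit 0x7900de001400b600ff00c2004a00a60045000d00ab00d100f000ea005000ea0052) (Net.cons (nat_lit 4) (nat_lit 0x205070a0d090f000e05050a080d0c0807020006010d02020c080105000c06050700) (Net.cons (nat_lit 2) (nat_lit 0x1203312102333201021321220321122102002321213130203100333001200223131120) (Net.cons (nat_lit 1) (nat_lit 0x1554005150555410144555451444551015151001550401405551004050001114110510) Net.nil)))))))))))))))))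

theorem p_g107_ok : Net.ok 280 p_g107 = true := by decide +kernel

noncomputable def p_g108 : Net := (Net.cons (nat_lit 1) (nat_lit 0x14055101111051501505554011500455011544400550554145051554041014554000) (Net.cons (nat_lit 2) (nat_lit 0x1120001022210011103303203100101021222012203213322110320020332013101000) (Net.cons (nat_lit 4) (nat_lit 0x50c08000e0a08020d0a0f0a0f000d0f0c0e0b0b03010e010f000502050102090900) (Net.cons (nat_lit 8) (nat_lit 0x6900bf00ab005b000f00ae003600cd00490047005700d3008000d100bf00080044) (Net.cons (nat_lit 16) (nat_lit 0x10000cd320000f7a10000a16e00000c420000f0f3000025200000098300000000) (Net.cons (nat_lit 32) (nat_lit 0x854d64f6000000005ae0630000000000817e02480000000000040020) (Net.cons (nat_lit 64) (nat_lit 0x43b043e125e7687f00000000000000000000000000044020) (Net.cons (nat_lit 128) (nat_lit 0x80e265bb4f1a4ff3635b2a543a054020) (Net.cons (nat_lit 256) (nat_lit 344106) (Net.cons (nat_lit 128) (nat_lit 0xe9672c)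 (Net.cons (nat_lit 64) (nat_lit 0xd59106c6f5cbcc7e0000000000000000ca4bfacb5dfa3e9c) (Net.cons (nat_lit 32) (nat_lit 0x1355dd7f000000002e0aa1a200000000764f7ace00000000f4e3eec4) (Net.cons (nat_lit 16) (nat_lit 0xe00000457a0000dad30000a94d00005c1c00008a6e00009fcf00001f58000039ec) (Net.cons (nat_lit 8) (nat_lit 0xab00bb0076007f006a006600e500f500650043007200c90072000e0007005000d0) (Net.cons (nat_lit 4) (nat_lit 0xc0d0c000c0f08060a0501090c0c05010b0a0e0a0e0603040e0d070c050808090d0200) (Net.cons (nat_lit 2) (nat_lit 0x1000103133011203121010330311112013332311211322000322001102202013320130) (Net.cons (nat_lit 1) (nat_lit 0x1400154100140545140101000411451544554154044454415500411400440040544550) Net.nil)))))))))))))))))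

theorem p_g108_ok : Net.ok 280 p_g108 = true := by decide +kernel

noncomputable def p_g109 : Net := (Net.cons (nat_lit 1) (nat_lit 0x1405000010505501454511411155400104454415404101514541011050114040010000) (Net.cons (nat_lit 2) (nat_lit 0x2201100023300311313120000310002031031033202310112213100232100312213000) (Net.cons (nat_lit 4) (nat_lit 0xa060a0c07050b08010e0204020c0e070b04060504000d0a030a0c000e090c0a0f0800) (Net.cons (nat_lit 8) (nat_lit 0xcb00830043008a005300e7000000ae00fe000000a8002100de0069007600aa0000) (Net.cons (nat_lit 16) (nat_lit 0xe0000cd980000a4c900000dff00006f0b0000c25e0000c6010000f9ca00000000) (Net.cons (nat_lit 32) (nat_lit 0xd48f4a820000000038f8b2d7000000008011c0090000000000000000) (Net.cons (nat_lit 64) (nat_lit 0x195a5a001aca8100000000000000000000000000000080) (Net.cons (nat_lit 128) (nat_lit 0x4dac98868b1a9987d835665ce3024080) (Net.cons (nat_lit 256) (nat_lit 147598) (Net.cons (nat_lit 128) (nat_lit 0x6053d2)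 (Net.cons (nat_lit 64) (nat_lit 0x186d93c1c6f269ba000000000000000080d4c68f847d2902) (Net.cons (nat_lit 32) (nat_lit 0x196bc8ef0000000006bad7450000000006b0ab4e00000000a155c2e2) (Net.cons (nat_lit 16) (nat_lit 0x1100004ca20000e16500003fb500008b3f000042da0000eeae000049530000e272) (Net.cons (nat_lit 8) (nat_lit 0x9008300c200ca0047003500b6003a007c0005009f000000d70069004e008c0060) (Net.cons (nat_lit 4) (nat_lit 0x8070b0c020d0204070b03050b000e030e0e0a07000f0302070e0501040d0c0a0a0200) (Net.cons (nat_lit 2) (nat_lit 0x2201101021321220111021031232222030131031201302131110021210103312200030) (Net.cons (nat_lit 1) (nat_lit 0x1405001011504501544555410145501510055414005110411154411010150544411010) Net.nil)))))))))))))))))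

theorem p_g109_ok : Net.ok 280 p_g109 = true := by decide +kernel

noncomputable def p_V110 : List Net := [p_g106, p_g107, p_g108, p_g109]

theorem p_V110_ok : okE 280 p_V110 = true := (okE_cons.2 ⟨p_g106_ok, (okE_cons.2 ⟨p_g107_ok, (okE_cons.2 ⟨p_g108_ok, (okE_cons.2 ⟨p_g109_ok, (okE_nil 280)⟩)⟩)⟩)⟩)

noncomputable def p_V112 : List Net := [p_g109]

theorem p_V112_ok : okE 280 p_V112 = true := (okE_cons.2 ⟨p_g109_ok, (okE_nil 280)⟩)

noncomputable def p_V113 : List Net := []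

theorem p_V113_ok : okE 280 p_V113 = true := (okE_nil 280)

noncomputable def pt_c4_cnt_EG : List Net := [p_g11, p_g1, p_g2, p_g3, p_g4, p_g5, p_g6, p_g7, p_g8, p_g9, p_g10, p_g20, p_g14, p_g15, p_g16, p_g17, p_g28, p_g23, p_g24, p_g25, p_g37, p_g38, p_g34, p_g31, p_g32, p_g33, p_g41, p_g42, p_g106, p_g107, p_g108, p_g109]

theorem pt_c4_cnt_EG_ok : okE 280 pt_c4_cnt_EG = true := (okE_cons.2 ⟨p_g11_ok, (okE_cons.2 ⟨p_g1_ok, (okE_cons.2 ⟨p_g2_ok, (okE_cons.2 ⟨p_g3_ok, (okE_cons.2 ⟨p_g4_ok, (okE_cons.2 ⟨p_g5_ok, (okE_cons.2 ⟨p_g6_ok, (okE_cons.2 ⟨p_g7_ok, (okE_cons.2 ⟨p_g8_ok, (okE_cons.2 ⟨p_g9_ok, (okE_cons.2 ⟨p_g10_ok, (okE_cons.2 ⟨p_g20_ok, (okE_cons.2 ⟨p_g14_ok, (okE_cons.2 ⟨p_g15_ok, (okE_cons.2 ⟨p_g16_ok, (okE_cons.2 ⟨p_g17_ok, (okE_cons.2 ⟨p_g28_ok, (okE_cons.2 ⟨p_g23_ok, (okE_cons.2 ⟨p_g24_ok, (okE_cons.2 ⟨p_g25_ok, (okE_cons.2 ⟨p_g37_ok, (okE_cons.2 ⟨p_g38_ok, (okE_cons.2 ⟨p_g34_ok, (okE_cons.2 ⟨p_g31_ok, (okE_cons.2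 ⟨p_g32_ok, (okE_cons.2 ⟨p_g33_ok, (okE_cons.2 ⟨p_g41_ok, (okE_cons.2 ⟨p_g42_ok, (okE_cons.2 ⟨p_g106_ok, (okE_cons.2 ⟨p_g107_ok, (okE_cons.2 ⟨p_g108_ok, (okE_cons.2 ⟨p_g109_ok, (okE_nil 280)⟩)⟩)⟩)⟩)⟩)⟩)⟩)⟩)⟩)⟩)⟩)⟩)⟩)⟩)⟩)⟩)⟩)⟩)⟩)⟩)⟩)⟩)⟩)⟩)⟩)⟩)⟩)⟩)⟩)⟩)⟩)⟩)

noncomputable def p_g114 : Net := (Net.cons (nat_lit 1) (nat_lit 0x4015550040041510410114110445400545051541154110440451110140000400100440) (Net.cons (nat_lit 2) (nat_lit 0x113201020010000323122003322120213320200310020002113333301012000032000) (Net.cons (nat_lit 4) (nat_lit 0xc080e080f040602040c090802030e0c0b0c0809060a080f070207060b0c02090400) (Net.cons (nat_lit 8) (nat_lit 0x6700be00ae00bb0068003a002100e400b900ba004f003800580050007f00000088) (Net.cons (nat_lit 16) (nat_lit 0xf2000073f400007ec40000639d000099fc000048fe0000e4a80000910300004100) (Net.cons (nat_lit 32) (nat_lit 0xc61130900000000fb130118000000008e418d34000000000001b630) (Net.cons (nat_lit 64) (nat_lit 0x8b3470001f82188e000000000000000000000000000d207c)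 (Net.cons (nat_lit 128) (nat_lit 0xda086b9af541f28715fe12b1ea15494a) (Net.cons (nat_lit 256) (nat_lit 0x7dffff) (Net.cons (nat_lit 128) (nat_lit 0xcb8223) (Net.cons (nat_lit 64) (nat_lit 0xe50fa17d36c868ee000000000000000036e812eb5a061d74) (Net.cons (nat_lit 32) (nat_lit 0xd116e0f200000000166ae9c200000000497e7cb100000000bba410c6) (Net.cons (nat_lit 16) (nat_lit 0x89000066c80000b1ac000024620000b60f000058980000b9790000dc660000bab8) (Net.cons (nat_lit 8) (nat_lit 0xa2009c00e200df00d100010023003400d30031000d0017009400e2000c00c200a7) (Net.cons (nat_lit 4) (nat_lit 0xe02010e07030d0c0c0f06040a0907010e0d040a0d010e04000b02070a040702020703) (Net.cons (nat_lit 2) (nat_lit 0x2210212210123102233101311320331020112233020212000230030212220102000020) (Net.cons (nat_lit 1) (nat_lit 0x4410005144055450401011544140514151501410445154441454000410504111100041) Net.nil)))))))))))))))))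

theorem p_g114_ok : Net.ok 280 p_g114 = true := by decide +kernel

noncomputable def p_g115 : Net := (Net.cons (nat_lit 1) (nat_lit 0x5541004140450444114410404151410054145450145150015544044015501105440000) (Net.cons (nat_lit 2) (nat_lit 0x2210103312300013212100203010333310203221112330311103313003122001313300) (Net.cons (nat_lit 4) (nat_lit 0x1070a06040705050f0904070802020d0c040600050c050808080101020900040d0e00) (Net.cons (nat_lit 8) (nat_lit 0xe6007f008300b20050009a006c00cb00750061004f00ea004100b5000000c20004) (Net.cons (nat_lit 16) (nat_lit 0xd10000a362000085e50000278b0000e1c1000076010000b1800000380000000000) (Net.cons (nat_lit 32) (nat_lit 0xc8c54c300000000240a8cfc0000000010712a2e00000000002dcb1f) (Net.cons (nat_lit 64) (nat_lit 0x3040302ab214bd0000000000000000000000000080b071) (Net.cons (nat_lit 128) (nat_lit 0x8c36e2f57a884f8b3942248000928f1f) (Net.cons (nat_lit 256) (nat_lit 0xbfff7f) (Net.cons (nat_lit 128) (nat_lit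 0xbb1467) (Net.cons (nat_lit 64) (nat_lit 0x5db4871e196540bc0000000000000000ae40206034257a67) (Net.cons (nat_lit 32) (nat_lit 0xd419fd900000000ca6dbd5e000000009801eea800000000202dcb1f) (Net.cons (nat_lit 16) (nat_lit 0xd40000d10a00009a5a0000a2aa0000b4650000fcc4000056a20000b3b100008364) (Net.cons (nat_lit 8) (nat_lit 0x77003c0084006c004600c500f5003200f500e1004b0010004d00b90098008100a7) (Net.cons (nat_lit 4) (nat_lit 0x3040d08050e060e0501020901070b0a020e0f0003010d02090a070a00050104090205) (Net.cons (nat_lit 2) (nat_lit 0x1031121322213313233310311112100112233112021103300333010011112221022211) (Net.cons (nat_lit 1) (nat_lit 0x5045110405105404051044400005445055115510001440150511050154444004501505) Net.nil)))))))))))))))))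

theorem p_g115_ok : Net.ok 280 p_g115 = true := by decide +kernel

noncomputable def p_g116 : Net := (Net.cons (nat_lit 1) (nat_lit 0x1041401104110105041140444544051044101400155141055010150400504411545110) (Net.cons (nat_lit 2) (nat_lit 0x3130203322131212011210102012013101110302012031022021330032010232001010) (Net.cons (nat_lit 4) (nat_lit 0x70b0b070a0106000308080d0f05090f0e0e0f00000307090b0c0f01010408030a0400) (Net.cons (nat_lit 8) (nat_lit 0x210067005c00e700b300ee000000dd001900f100a600c3008c006d00fc00970094) (Net.cons (nat_lit 16) (nat_lit 0xe60000d7a6000021070000312f000026fe0000ae810000a67d000024000000a100) (Net.cons (nat_lit 32) (nat_lit 0xe2632368000000000c76b87400000000a148ea510000000000316920) (Net.cons (nat_lit 64) (nat_lit 0x2260315380df579a00000000000000000000000000070acc) (Net.cons (nat_lit 128) (nat_lit 0x590ed26b58526c7e2f61eb10b5070351) (Net.cons (nat_lit 256) (nat_lit 0x77fbff) (Net.cons (nat_lit 128) (nat_lit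 0xaab1c4) (Net.cons (nat_lit 64) (nat_lit 0x87ffc020685f319e00000000000000004615c1d8b35e0566) (Net.cons (nat_lit 32) (nat_lit 0x964da19d0000000021f421bb00000000aa2654f7000000002f6b0158) (Net.cons (nat_lit 16) (nat_lit 0xc40000431d0000302000003f570000ffea0000b4ce0000af170000b9b500000f3a) (Net.cons (nat_lit 8) (nat_lit 0x6200470058004c002e00550085008e00d000f800e200b5001e003100b600bc0047) (Net.cons (nat_lit 4) (nat_lit 0x80d0505070900060d0a060f0e040605030a06090103030c090e0e03000e08010b0d0c) (Net.cons (nat_lit 2) (nat_lit 0x3132332330002213211221130021223330311301122010221132300032301030311013) (Net.cons (nat_lit 1) (nat_lit 0x4444500140155505044045500441140140001510455015411040145401114011104415) Net.nil)))))))))))))))))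

theorem p_g116_ok : Net.ok 280 p_g116 = true := by decide +kernel

noncomputable def p_g117 : Net := (Net.cons (nat_lit 1) (nat_lit 0x4504115001000154411510455151551401140510101451401144044404004440445014) (Net.cons (nat_lit 2) (nat_lit 0x213131200332302123312022113022131032223010020211010331210322221001010) (Net.cons (nat_lit 4) (nat_lit 0x50e000b0805030b090d0a0e0704080c030b030d0f060d050709060d08090500050400) (Net.cons (nat_lit 8) (nat_lit 0x260003004900b500d4009f001700ec00c5000800970075008c00e4004100d20038) (Net.cons (nat_lit 16) (nat_lit 0x4900005153000036390000073200000cd8000057a100002f330000642c0000a300) (Net.cons (nat_lit 32) (nat_lit 0xc2653553000000003f8ef2320000000000b207a40000000000d42028) (Net.cons (nat_lit 64) (nat_lit 0x222b6922500f5500000000000000000000000000990de4) (Net.cons (nat_lit 128) (nat_lit 0xeafe4e803a895ce1bd5531ffc0b4114f) (Net.cons (nat_lit 256) (nat_lit 0xfdffff) (Net.cons (nat_lit 128) (nat_lit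 0xcfc2f0) (Net.cons (nat_lit 64) (nat_lit 0x348e78ed164daca70000000000000000ed0773dc7a2e65c8) (Net.cons (nat_lit 32) (nat_lit 0xad656145000000006ac8b1e600000000df1a2fd40000000067d60419) (Net.cons (nat_lit 16) (nat_lit 0x2d000017f1000029ed000072010000e4c30000846d000007a20000512600008f72) (Net.cons (nat_lit 8) (nat_lit 0x34001400e900650060006c007f00bb0008000500d3005e00f600a900b4009800fd) (Net.cons (nat_lit 4) (nat_lit 0xa0d000c0e0d0302090c010807050f05070e0b01040a0f0f0e0b040101010200020404) (Net.cons (nat_lit 2) (nat_lit 0x3302212310111233030201121100232310033232311203130312211133031233011023) (Net.cons (nat_lit 1) (nat_lit 0x45055440010150114111014054011411050404101400004545054140044501050405) Net.nil)))))))))))))))))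

theorem p_g117_ok : Net.ok 280 p_g117 = true := by decide +kernel

noncomputable def pt_c5_K : List Net := [p_g114, p_g115, p_g116, p_g117]

theorem pt_c5_K_ok : okE 280 pt_c5_K = true := (okE_cons.2 ⟨p_g114_ok, (okE_cons.2 ⟨p_g115_ok, (okE_cons.2 ⟨p_g116_ok, (okE_cons.2 ⟨p_g117_ok, (okE_nil 280)⟩)⟩)⟩)⟩)

noncomputable def pt_c5_cnt_EG : List Net := [p_g11, p_g1, p_g2, p_g3, p_g4, p_g5, p_g6, p_g7, p_g8, p_g9, p_g10, p_g20, p_g14, p_g15, p_g16, p_g17, p_g28, p_g23, p_g24, p_g25, p_g37, p_g38, p_g34, p_g31, p_g32, p_g33, p_g41, p_g42, p_g106, p_g107, p_g108, p_g109]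

theorem pt_c5_cnt_EG_ok : okE 280 pt_c5_cnt_EG = true := (okE_cons.2 ⟨p_g11_ok, (okE_cons.2 ⟨p_g1_ok, (okE_cons.2 ⟨p_g2_ok, (okE_cons.2 ⟨p_g3_ok, (okE_cons.2 ⟨p_g4_ok, (okE_cons.2 ⟨p_g5_ok, (okE_cons.2 ⟨p_g6_ok, (okE_cons.2 ⟨p_g7_ok, (okE_cons.2 ⟨p_g8_ok, (okE_cons.2 ⟨p_g9_ok, (okE_cons.2 ⟨p_g10_ok, (okE_cons.2 ⟨p_g20_ok, (okE_cons.2 ⟨p_g14_ok, (okE_cons.2 ⟨p_g15_ok, (okE_cons.2 ⟨p_g16_ok, (okE_cons.2 ⟨p_g17_ok, (okE_cons.2 ⟨p_g28_ok, (okE_cons.2 ⟨p_g23_ok, (okE_cons.2 ⟨p_g24_ok, (okE_cons.2 ⟨p_g25_ok, (okE_cons.2 ⟨p_g37_ok, (okE_cons.2 ⟨p_g38_ok, (okE_cons.2 ⟨p_g34_ok, (okE_cons.2 ⟨p_g31_ok, (okE_cons.2 ⟨p_g32_ok, (okE_cons.2 ⟨p_g33_ok, (okE_cons.2 ⟨p_g41_ok, (okE_cons.2 ⟨p_g42_ok, (okE_cons.2 ⟨p_g106_ok, (okE_cons.2 ⟨p_g107_ok, (okE_cons.2 ⟨p_g108_ok, (okE_cons.2 ⟨p_g109_ok, (okE_nil 280)⟩)⟩)⟩)⟩)⟩)⟩)⟩)⟩)⟩)⟩)⟩)⟩)⟩)⟩)⟩)⟩)⟩)⟩)⟩)⟩)⟩)⟩)⟩)⟩)⟩)⟩)⟩)⟩)⟩)⟩)⟩)⟩)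

noncomputable def p_g119 : Net := (Net.cons (nat_lit 1) (nat_lit 0x504105045504405414414404415100444054045454055014100454051054154110000) (Net.cons (nat_lit 2) (nat_lit 0x1332133202132001131103311011132013033110032213103130012032101200212000) (Net.cons (nat_lit 4) (nat_lit 0xd0f0905030b0605050d000d0d090c0c0308080c020a090f0400020a02030000040c00) (Net.cons (nat_lit 8) (nat_lit 0xfc007600b20061008a004d00180084007d00a70089009d00a0004f0035004d0080) (Net.cons (nat_lit 16) (nat_lit 0xad0000062b00008dbf0000d22400003da00000b206000047030000440a00001500) (Net.cons (nat_lit 32) (nat_lit 0xa78418010000000000e04c5f00000000a903c72600000000002c69a1) (Net.cons (nat_lit 64) (nat_lit 0x15135542c0375044000000000000000000000000008ba845) (Net.cons (nat_lit 128) (nat_lit 0xc61843f72c9b11387b671ea4c66c99c1) (Net.cons (nat_lit 256) (nat_lit 0xffffe7) (Net.cons (nat_lit 128) (nat_lit 0x68659e) (Net.cons (nat_lit 64) (nat_lit 0x759cec3f9112d3c2000000000000000011758ab22a39c786)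 (Net.cons (nat_lit 32) (nat_lit 0xec7cd5d300000000885aff20000000006ff982a100000000139ebd0f) (Net.cons (nat_lit 16) (nat_lit 0xfb0000964d0000208a0000d34c00001bf00000a367000025ec00001e980000a012) (Net.cons (nat_lit 8) (nat_lit 0xb600c80082008c007300ea005b002800610082008b00e4002700780048004a0079) (Net.cons (nat_lit 4) (nat_lit 0x1040b0f08020d05030005070c0b020407020d070909090307050c0b0e0a0502080e01) (Net.cons (nat_lit 2) (nat_lit 0x132102010111012113111110032330110211033101212001312031021332000102230) (Net.cons (nat_lit 1) (nat_lit 0x111441015454454540001451050015551415404545051405401555055105004501545) Net.nil)))))))))))))))))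

theorem p_g119_ok : Net.ok 280 p_g119 = true := by decide +kernel

noncomputable def p_g120 : Net := (Net.cons (nat_lit 1) (nat_lit 0x4041001040001050445444550040115140411451054101451000015150104004400400) (Net.cons (nat_lit 2) (nat_lit 0x1033102113310222322333233310020332331321023131010310102310030322300010) (Net.cons (nat_lit 4) (nat_lit 0x20e0d0d020d0d040c0a09080c000a03030d060808060d0a0f050e03020d0100000800) (Net.cons (nat_lit 8) (nat_lit 0x2900a500f100b500850060004e003d00980064002200080055009c001900460014) (Net.cons (nat_lit 16) (nat_lit 0xc0000073ca000065030000714400006702000018380000bb050000c93700004000) (Net.cons (nat_lit 32) (nat_lit 0x2b3105bb00000000812c0d30000000002381343e0000000000de4240) (Net.cons (nat_lit 64) (nat_lit 0x179001f4831371a000000000000000000000000004b2408) (Net.cons (nat_lit 128) (nat_lit 0x2aa796eb71361359ab5c44f42aa41700) (Net.cons (nat_lit 256) (nat_lit 0xff777d) (Net.cons (nat_lit 128) (nat_lit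 0xaf68a2) (Net.cons (nat_lit 64) (nat_lit 0xb18210c89b3602770000000000000000b28c509f90277578) (Net.cons (nat_lit 32) (nat_lit 0xebbd190d0000000030f5371a000000002559de0800000000f572d031) (Net.cons (nat_lit 16) (nat_lit 0x5000070870000b78500004d5700001a510000159a0000ca63000053ed00003560) (Net.cons (nat_lit 8) (nat_lit 0xd0001f009d0028000000fc006a003000b100850012006100a4009f006500af00b6) (Net.cons (nat_lit 4) (nat_lit 0x40901040d0409020a0b04080f0400010f08040b080d0609030d07090b0b000c0d0308) (Net.cons (nat_lit 2) (nat_lit 0x301312220331321303030203323223121312212003112122122100121000323122322) (Net.cons (nat_lit 1) (nat_lit 0x1110455100045550150445105445150040400005444155151150101050041114141015) Net.nil)))))))))))))))))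

theorem p_g120_ok : Net.ok 280 p_g120 = true := by decide +kernel

noncomputable def p_g121 : Net := (Net.cons (nat_lit 1) (nat_lit 0x5555511555544154540041140101115501004154554411105115151105400144511454) (Net.cons (nat_lit 2) (nat_lit 0x1121130333223322202323021231131310103022220311123122132213130020303200) (Net.cons (nat_lit 4) (nat_lit 0x500020302050b08050303060301050c0f0801050f01020106020c090d0d0c0e000400) (Net.cons (nat_lit 8) (nat_lit 0xd600c700d300c00005001e00310091007e005c008b00e800830006000000300004) (Net.cons (nat_lit 16) (nat_lit 0xe80000c89300004fba0000bf4a00008cec00009a650000ffa20000911000002900) (Net.cons (nat_lit 32) (nat_lit 0xe01c118f00000000512c949c00000000281a1586000000000042100b) (Net.cons (nat_lit 64) (nat_lit 0xe00003807912062f000000000000000000000000004c3601) (Net.cons (nat_lit 128) (nat_lit 0xa9049437c1f78dbd4b6573d6bc9386bd) (Net.cons (nat_lit 256) (nat_lit 0xdfffbf) (Net.cons (nat_lit 128) (nat_lit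 0xf92473) (Net.cons (nat_lit 64) (nat_lit 0xd85b175332c2b1bd0000000000000000e9502d3ff3254306) (Net.cons (nat_lit 32) (nat_lit 0xdd24152800000000ef7ed1e700000000e0886ffd000000001c66fd9a) (Net.cons (nat_lit 16) (nat_lit 0xf80000141e0000ece30000aefd0000209800006c970000ae37000056080000f863) (Net.cons (nat_lit 8) (nat_lit 0x210069001100f700a200c600970008002d000900e5005800b500b7003d00fe0076) (Net.cons (nat_lit 4) (nat_lit 0xe0c0d05070101020e050b0d020f030a070a0d00080f040206050c02020b010a080b02) (Net.cons (nat_lit 2) (nat_lit 0x2212130102211231330030230300003233132103100033123213001103302301221201) (Net.cons (nat_lit 1) (nat_lit 0x4044051401001551514005014545540100514510544050040450145140144101154501) Net.nil)))))))))))))))))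

theorem p_g121_ok : Net.ok 280 p_g121 = true := by decide +kernel

noncomputable def p_g122 : Net := (Net.cons (nat_lit 1) (nat_lit 0x4011155104500054454040555415004550440105004404045045440150501451154404) (Net.cons (nat_lit 2) (nat_lit 0x3321000212201012032013130313123310233020203132213003031101010220300110) (Net.cons (nat_lit 4) (nat_lit 0x203080609070f0e0a000000030e0208030603060905040501040707090406040a0200) (Net.cons (nat_lit 8) (nat_lit 0x1c001b00a900210035000e006a00bd001d003e00bf003100e7006500f100e60014) (Net.cons (nat_lit 16) (nat_lit 0x600004901000090890000f0700000483f000070790000b5a000008c6400002100) (Net.cons (nat_lit 32) (nat_lit 0x8e2036f80000000030c0c8f800000000023452de00000000000900cc) (Net.cons (nat_lit 64) (nat_lit 0x530709367b10501100000000000000000000000000a226c2) (Net.cons (nat_lit 128) (nat_lit 0x78cc84babb31f4c28b3b6b4cc40013bc) (Net.cons (nat_lit 256) (nat_lit 0xbb7ffe) (Net.cons (nat_lit 128) (nat_lit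 0x8509a3) (Net.cons (nat_lit 64) (nat_lit 0x6a6d553f3500f2a30000000000000000098f9f8cf7b72213) (Net.cons (nat_lit 32) (nat_lit 0x8e0032f8000000001a9a95c3000000004ab3f5ac00000000035c9584) (Net.cons (nat_lit 16) (nat_lit 0x8400004b480000a18a00004262000078340000a2690000a4620000312400005101) (Net.cons (nat_lit 8) (nat_lit 0x4c004f000800b300d5009e00c900c7005100be007c00f4006500f9009d00970054) (Net.cons (nat_lit 4) (nat_lit 0x8010e0508050a0f0b050d0a030a090802010700030f010100040f0f0b0a07010b0708) (Net.cons (nat_lit 2) (nat_lit 0x1133300322000111223113322312021330222111201022111113033023031031211313) (Net.cons (nat_lit 1) (nat_lit 0x155111155500055454440555450510111414555414114540105105554115011500444) Net.nil)))))))))))))))))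

theorem p_g122_ok : Net.ok 280 p_g122 = true := by decide +kernel

noncomputable def pt_c6_K : List Net := [p_g119, p_g120, p_g121, p_g122]

theorem pt_c6_K_ok : okE 280 pt_c6_K = true := (okE_cons.2 ⟨p_g119_ok, (okE_cons.2 ⟨p_g120_ok, (okE_cons.2 ⟨p_g121_ok, (okE_cons.2 ⟨p_g122_ok, (okE_nil 280)⟩)⟩)⟩)⟩)

noncomputable def pt_c6_cnt_EG : List Net := [p_g11, p_g1, p_g2, p_g3, p_g4, p_g5, p_g6, p_g7, p_g8, p_g9, p_g10, p_g20, p_g14, p_g15, p_g16, p_g17, p_g28, p_g23, p_g24, p_g25, p_g37, p_g38, p_g34, p_g31, p_g32, p_g33, p_g41, p_g42, p_g67, p_g68]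

theorem pt_c6_cnt_EG_ok : okE 280 pt_c6_cnt_EG = true := (okE_cons.2 ⟨p_g11_ok, (okE_cons.2 ⟨p_g1_ok, (okE_cons.2 ⟨p_g2_ok, (okE_cons.2 ⟨p_g3_ok, (okE_cons.2 ⟨p_g4_ok, (okE_cons.2 ⟨p_g5_ok, (okE_cons.2 ⟨p_g6_ok, (okE_cons.2 ⟨p_g7_ok, (okE_cons.2 ⟨p_g8_ok, (okE_cons.2 ⟨p_g9_ok, (okE_cons.2 ⟨p_g10_ok, (okE_cons.2 ⟨p_g20_ok, (okE_cons.2 ⟨p_g14_ok, (okE_cons.2 ⟨p_g15_ok, (okE_cons.2 ⟨p_g16_ok, (okE_cons.2 ⟨p_g17_ok, (okE_cons.2 ⟨p_g28_ok, (okE_cons.2 ⟨p_g23_ok, (okE_cons.2 ⟨p_g24_ok, (okE_cons.2 ⟨p_g25_ok, (okE_cons.2 ⟨p_g37_ok, (okE_cons.2 ⟨p_g38_ok, (okE_cons.2 ⟨p_g34_ok, (okE_cons.2 ⟨p_g31_ok, (okE_cons.2 ⟨p_g32_ok, (okE_cons.2 ⟨p_g33_ok, (okE_cons.2 ⟨p_g41_ok, (okE_cons.2 ⟨p_g42_ok, (okE_cons.2 ⟨p_g67_ok, (okE_cons.2 ⟨p_g68_ok, (okE_nil 280)⟩)⟩)⟩)⟩)⟩)⟩)⟩)⟩)⟩)⟩)⟩)⟩)⟩)⟩)⟩)⟩)⟩)⟩)⟩)⟩)⟩)⟩)⟩)⟩)⟩)⟩)⟩)⟩)⟩)⟩)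

noncomputable def p_g124 : Net := (Net.cons (nat_lit 1) (nat_lit 0x5550115000114141150110545541051405454504550401514441004044010441051414) (Net.cons (nat_lit 2) (nat_lit 0x3322002300030123021132211112023023131210211103022200123021021201200230) (Net.cons (nat_lit 4) (nat_lit 0xb03020001080b0e0509040e0c040e0b03030f0b0e0b0f0c020f0904000d0401040000) (Net.cons (nat_lit 8) (nat_lit 0x86007e00b80058008500f600a3000a0014007b00ce00e9001b00a3004800740002) (Net.cons (nat_lit 16) (nat_lit 0x4900008a7c000046640000c0c90000ed030000084000005b4800004f3000002800) (Net.cons (nat_lit 32) (nat_lit 0x9019852e0000000096a0adba00000000802bb12b00000000004a651a) (Net.cons (nat_lit 64) (nat_lit 0x67814982687198b0000000000000000000000000002812d1) (Net.cons (nat_lit 128) (nat_lit 0x830b5b1afb8cf686e4ac90f816756f28) (Net.cons (nat_lit 256) (nat_lit 0xff7fff) (Net.cons (nat_lit 128) (nat_lit 0x854716) (Net.cons (nat_lit 64) (nat_lit 0xc77025576691415d0000000000000000a816e2ec746daf90)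 (Net.cons (nat_lit 32) (nat_lit 0x86894c460000000060e1839200000000a7c372ed0000000004515792) (Net.cons (nat_lit 16) (nat_lit 0xdc00006d0b0000b804000060c70000c85d0000b6d200007d840000ad1a00008828) (Net.cons (nat_lit 8) (nat_lit 0x31003900bc00710004005e00a500d500740019001900ec00f400c70037007500b7) (Net.cons (nat_lit 4) (nat_lit 0x9020b0a0b02060a01050a090d060809050108090b0c08010b0a07000d080a040d0d09) (Net.cons (nat_lit 2) (nat_lit 0x1103311200312220312321210131031012122210321002112313121032230313232332) (Net.cons (nat_lit 1) (nat_lit 0x4104504411140450055010505551441405054440550050545540041050154050040404) Net.nil)))))))))))))))))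

theorem p_g124_ok : Net.ok 280 p_g124 = true := by decide +kernel

noncomputable def p_g125 : Net := (Net.cons (nat_lit 1) (nat_lit 0x505154555454005450154414411501041500544104405051411001111440404545100) (Net.cons (nat_lit 2) (nat_lit 0x1013011203202003221203121002212001300132100020200331000102213222230000) (Net.cons (nat_lit 4) (nat_lit 0xa090f0d050a0d020c0c0a090a0c0409060201050802040a050204070503040e090900) (Net.cons (nat_lit 8) (nat_lit 0x3b008000d1000300e6006c006000a0005d002700000088005b002c00b000f00078) (Net.cons (nat_lit 16) (nat_lit 0xc900001c60000085c0000050720000c34f00005660000043ca0000d51c00004100) (Net.cons (nat_lit 32) (nat_lit 0x6f857a500000000044ac1502000000006c9d4d400000000000f6c881) (Net.cons (nat_lit 64) (nat_lit 0x3df40a0014c6b03a00000000000000000000000000cf0a0c) (Net.cons (nat_lit 128) (nat_lit 0x84184c61128ab8897be686f40dba2f06) (Net.cons (nat_lit 256) (nat_lit 0xffffdf) (Net.cons (nat_lit 128) (nat_lit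 0xee29f2) (Net.cons (nat_lit 64) (nat_lit 0x62d38e42b8d680030000000000000000bffb64c5c1969586) (Net.cons (nat_lit 32) (nat_lit 0x2853a6ff0000000048e65e2300000000027fb21d000000004fdc8549) (Net.cons (nat_lit 16) (nat_lit 0xfa000011f2000007870000c18800006f7e00005d1b00002c8c0000ad850000e7a3) (Net.cons (nat_lit 8) (nat_lit 0x8600af002b00b900e300af00ef00b9007e00a400ec0010006c008e00ec009e00db) (Net.cons (nat_lit 4) (nat_lit 0x10a000e0c0e0705080d0d03000d0d0f05000607080705090d0d01070c040f0b0e0400) (Net.cons (nat_lit 2) (nat_lit 0x2202203233010022120003210022321223012301320110103321212020332220022030) (Net.cons (nat_lit 1) (nat_lit 0x4104555415045415014540540500454500040550001501551514445514044410445401) Net.nil)))))))))))))))))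

theorem p_g125_ok : Net.ok 280 p_g125 = true := by decide +kernel

noncomputable def p_g126 : Net := (Net.cons (nat_lit 1) (nat_lit 0x454515054454555014140041444004001504111054144111405415155501044151440) (Net.cons (nat_lit 2) (nat_lit 0x1302222012112010001230022331030100230020201213331300121300001323100200) (Net.cons (nat_lit 4) (nat_lit 0xd0b050a070b0f030802050a0401050b0c07020f010e05050b08050108070a05000b00) (Net.cons (nat_lit 8) (nat_lit 0x85005b007b00940058000a00b4002b003f0097001b00fa009a0059005200640006) (Net.cons (nat_lit 16) (nat_lit 0x7d00009028000083c100000cf00000b8ce000060b0000045f50000ca0900004500) (Net.cons (nat_lit 32) (nat_lit 0xb83af3f70000000068ccab9400000000a0b7638c0000000000025201) (Net.cons (nat_lit 64) (nat_lit 0x29e1b519b087b00000000000000000000000000c77ca4) (Net.cons (nat_lit 128) (nat_lit 0xcf3a8fd9c7ecc045bc2850c6169a825e) (Net.cons (nat_lit 256) (nat_lit 0xffffff) (Net.cons (nat_lit 128) (nat_lit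 0xb5a9a4) (Net.cons (nat_lit 64) (nat_lit 0x8bb24c0834cb71e10000000000000000d0ed1461249810b0) (Net.cons (nat_lit 32) (nat_lit 0xd626be0700000000fb686f1400000000279bb8f500000000656eb29a) (Net.cons (nat_lit 16) (nat_lit 0xd30000d9b900004616000029580000d7db0000837e0000f6ce0000a0fb0000fcbd) (Net.cons (nat_lit 8) (nat_lit 0x4a00fe009c005c006700ec000600f3000200cb004700b800da00bf0079008300f6) (Net.cons (nat_lit 4) (nat_lit 0x50c020d02060209030f0e0a09010f0d0a0b0a000d0008000302070a06060a0c050f0a) (Net.cons (nat_lit 2) (nat_lit 0x323323001311130330323122331133333322013003221232323113330100103311302) (Net.cons (nat_lit 1) (nat_lit 0x105440441015005405011110144155541404501001554511411500410050540444011) Net.nil)))))))))))))))))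

theorem p_g126_ok : Net.ok 280 p_g126 = true := by decide +kernel

noncomputable def pt_c7_K : List Net := [p_g124, p_g125, p_g126]

theorem pt_c7_K_ok : okE 280 pt_c7_K = true := (okE_cons.2 ⟨p_g124_ok, (okE_cons.2 ⟨p_g125_ok, (okE_cons.2 ⟨p_g126_ok, (okE_nil 280)⟩)⟩)⟩)

noncomputable def p_g128 : Net := (Net.cons (nat_lit 1) (nat_lit 0x1145054010511400155405015141001014144540011414541451541155401005111040) (Net.cons (nat_lit 2) (nat_lit 0x2123011022221003233213210030232321101221111330030013222111320333121000) (Net.cons (nat_lit 4) (nat_lit 0x200060406060000090d060e010700000808040e0d0b0b060302060008080804010b00) (Net.cons (nat_lit 8) (nat_lit 0x550044002c0030002100380019004900da008400a000e300f9008d000d00280042) (Net.cons (nat_lit 16) (nat_lit 0xdd0000b02e0000a0220000680e00001b36000003fa00002d1200006ea000000400) (Net.cons (nat_lit 32) (nat_lit 0x400070e000000004890b8e000000000089101230000000000001ca8) (Net.cons (nat_lit 64)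 (nat_lit 0x90d8b88a1e084e4200000000000000000000000000a41164) (Net.cons (nat_lit 128) (nat_lit 0x96900c80bea90cd70569f10be151e0e5) (Net.cons (nat_lit 256) (nat_lit 0xf7fdfd) (Net.cons (nat_lit 128) (nat_lit 0x80f2cd) (Net.cons (nat_lit 64) (nat_lit 0x9590ab882e211e1100000000000000009ca330cf75cd3810) (Net.cons (nat_lit 32) (nat_lit 0xf8c842e000000008f1d81b900000000de15ed17000000008f5964a0) (Net.cons (nat_lit 16) (nat_lit 0x6d00007b020000a72a00000a4e0000efab0000595d000049af0000768400004408) (Net.cons (nat_lit 8) (nat_lit 0xe100ce002600bc00f0005b0098005400af004200a2007700910081008e00250046) (Net.cons (nat_lit 4) (nat_lit 0x909060b020c040b000d0e090a0d0d030105010e0a05010f010b060400090c05020b00) (Net.cons (nat_lit 2) (nat_lit 0x2202002020221223223011311212233222313220333012232110203001312232030002) (Net.cons (nat_lit 1) (nat_lit 0x4515044010510400051500444100414001540540550550541411451504455050111000) Net.nil)))))))))))))))))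

theorem p_g128_ok : Net.ok 280 p_g128 = true := by decide +kernel

noncomputable def p_g129 : Net := (Net.cons (nat_lit 1) (nat_lit 0x111554541405410440040040405545510054110155445141000451414004104510000) (Net.cons (nat_lit 2) (nat_lit 0x330331003331333110102122030211232103232330003033120031130102030200000) (Net.cons (nat_lit 4) (nat_lit 0xc0707070d0d08010802010d09000f050d090500010a0100080a070e0a070e0a010a00) (Net.cons (nat_lit 8) (nat_lit 0x860038002e009f00920029006b00fb005b0051009c00ec00d80022008500330044) (Net.cons (nat_lit 16) (nat_lit 0x710000f44d000019010000c642000042610000b6da0000f6800000398000004b00) (Net.cons (nat_lit 32) (nat_lit 0xcf0690ac00000000988ec2ca000000008801a8c400000000000691a3) (Net.cons (nat_lit 64) (nat_lit 0xe9104740d81add1800000000000000000000000000a0e8d1) (Net.cons (nat_lit 128) (nat_lit 0x8c01800470e08e9a63546fd0aa62358e) (Net.cons (nat_lit 256) (nat_lit 0xe7ffff) (Net.cons (nat_lit 128) (nat_lit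 0xbd47c8) (Net.cons (nat_lit 64) (nat_lit 0xa765c58a8990babe0000000000000000760b9d2c95476a7c) (Net.cons (nat_lit 32) (nat_lit 0x517ec42d00000000c46854b200000000b7fdea6300000000b455ce9d) (Net.cons (nat_lit 16) (nat_lit 0x88000046f10000f8470000e8b70000577b0000a60300001df4000035a60000fbe0) (Net.cons (nat_lit 8) (nat_lit 0xdb008c005d00d6004100f1008300e900ea00d7009400c2004a00ae00de000700b6) (Net.cons (nat_lit 4) (nat_lit 0x20d03090308080f0e0108070505030e060105000f0e0d030d04080b07040f0b0b0c02) (Net.cons (nat_lit 2) (nat_lit 0x2133113020131212020301103012032001012112100320221022122112232011122032) (Net.cons (nat_lit 1) (nat_lit 0x40154150415145550440014040111415000045511140510014555150400054514114) Net.nil)))))))))))))))))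

theorem p_g129_ok : Net.ok 280 p_g129 = true := by decide +kernel

noncomputable def p_V130 : List Net := [p_g128, p_g129]

theorem p_V130_ok : okE 280 p_V130 = true := (okE_cons.2 ⟨p_g128_ok, (okE_cons.2 ⟨p_g129_ok, (okE_nil 280)⟩)⟩)

noncomputable def p_V132 : List Net := [p_g129]

theorem p_V132_ok : okE 280 p_V132 = true := (okE_cons.2 ⟨p_g129_ok, (okE_nil 280)⟩)

noncomputable def p_V133 : List Net := []

theorem p_V133_ok : okE 280 p_V133 = true := (okE_nil 280)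

noncomputable def pt_c7_cnt_EG : List Net := [p_g11, p_g1, p_g2, p_g3, p_g4, p_g5, p_g6, p_g7, p_g8, p_g9, p_g10, p_g20, p_g14, p_g15, p_g16, p_g17, p_g28, p_g23, p_g24, p_g25, p_g37, p_g38, p_g34, p_g31, p_g32, p_g33, p_g41, p_g42, p_g67, p_g68, p_g128, p_g129]

theorem pt_c7_cnt_EG_ok : okE 280 pt_c7_cnt_EG = true := (okE_cons.2 ⟨p_g11_ok, (okE_cons.2 ⟨p_g1_ok, (okE_cons.2 ⟨p_g2_ok, (okE_cons.2 ⟨p_g3_ok, (okE_cons.2 ⟨p_g4_ok, (okE_cons.2 ⟨p_g5_ok, (okE_cons.2 ⟨p_g6_ok, (okE_cons.2 ⟨p_g7_ok, (okE_cons.2 ⟨p_g8_ok, (okE_cons.2 ⟨p_g9_ok, (okE_cons.2 ⟨p_g10_ok, (okE_cons.2 ⟨p_g20_ok, (okE_cons.2 ⟨p_g14_ok, (okE_cons.2 ⟨p_g15_ok, (okE_cons.2 ⟨p_g16_ok, (okE_cons.2 ⟨p_g17_ok, (okE_cons.2 ⟨p_g28_ok, (okE_cons.2 ⟨p_g23_ok, (okE_cons.2 ⟨p_g24_ok, (okE_cons.2 ⟨p_g25_ok, (okE_cons.2 ⟨p_g37_ok, (okE_cons.2 ⟨p_g38_ok, (okE_cons.2 ⟨p_g34_ok, (okE_cons.2 ⟨p_g31_ok, (okE_cons.2 ⟨p_g32_ok, (okE_cons.2 ⟨p_g33_ok, (okE_cons.2 ⟨p_g41_ok, (okE_cons.2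 ⟨p_g42_ok, (okE_cons.2 ⟨p_g67_ok, (okE_cons.2 ⟨p_g68_ok, (okE_cons.2 ⟨p_g128_ok, (okE_cons.2 ⟨p_g129_ok, (okE_nil 280)⟩)⟩)⟩)⟩)⟩)⟩)⟩)⟩)⟩)⟩)⟩)⟩)⟩)⟩)⟩)⟩)⟩)⟩)⟩)⟩)⟩)⟩)⟩)⟩)⟩)⟩)⟩)⟩)⟩)⟩)⟩)⟩)

noncomputable def p_g134 : Net := (Net.cons (nat_lit 1) (nat_lit 0x1145540051501141411415001411141000455401454411140514154011015401054504) (Net.cons (nat_lit 2) (nat_lit 0x2030311010111211103123103020021130022300021123200321321330312311301200) (Net.cons (nat_lit 4) (nat_lit 0xe0c0b0b0b04040b0e0305060d00010c0c0b040b000a0a0901090c020a040b03090000) (Net.cons (nat_lit 8) (nat_lit 0x73004d008100cc00f700c6005a00940007005800040018006800fd000100010094) (Net.cons (nat_lit 16) (nat_lit 0xde00003c4e00000b0f0000887f0000651900000506000048080000162300001300) (Net.cons (nat_lit 32) (nat_lit 0xc661d8490000000031d141ac0000000040c04e000000000000510473) (Net.cons (nat_lit 64) (nat_lit 0x419da0baa009072200000000000000000000000000806101) (Net.cons (nat_lit 128) (nat_lit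 0x233c975a00406b04e2c37aa4f67c137c) (Net.cons (nat_lit 256) (nat_lit 0xfff77f) (Net.cons (nat_lit 128) (nat_lit 0x43373a) (Net.cons (nat_lit 64) (nat_lit 0x6edb05b8a9801acf00000000000000002803042a4480e79e) (Net.cons (nat_lit 32) (nat_lit 0xa47335ea00000000c718465600000000f33fa16c0000000063b59427) (Net.cons (nat_lit 16) (nat_lit 0x44000087f800008c3f0000971000002591000071ad000003760000246f0000d5c4) (Net.cons (nat_lit 8) (nat_lit 0x8c00cf00bc0012000b005300e500f80002008600e2001000af0053006e008500c6) (Net.cons (nat_lit 4) (nat_lit 0x2060e0f0800050e0a0802070d060d03050e0a0c09050d000a0a0c090d0c0903000502) (Net.cons (nat_lit 2) (nat_lit 0x3312120131221220003022223100300203110010221021322111023303000103200101) (Net.cons (nat_lit 1) (nat_lit 0x5410114000011050405155550105040544140140441104051001400055540505144015) Net.nil)))))))))))))))))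

theorem p_g134_ok : Net.ok 280 p_g134 = true := by decide +kernel

noncomputable def pt_c8_K : List Net := [p_g134]

theorem pt_c8_K_ok : okE 280 pt_c8_K = true := (okE_cons.2 ⟨p_g134_ok, (okE_nil 280)⟩)

noncomputable def pt_c8_cnt_EG : List Net := [p_g11, p_g1, p_g2, p_g3, p_g4, p_g5, p_g6, p_g7, p_g8, p_g9, p_g10, p_g20, p_g14, p_g15, p_g16, p_g17, p_g28, p_g23, p_g24, p_g25, p_g37, p_g38, p_g34, p_g31, p_g32, p_g33, p_g41, p_g42]

theorem pt_c8_cnt_EG_ok : okE 280 pt_c8_cnt_EG = true := (okE_cons.2 ⟨p_g11_ok, (okE_cons.2 ⟨p_g1_ok, (okE_cons.2 ⟨p_g2_ok, (okE_cons.2 ⟨p_g3_ok, (okE_cons.2 ⟨p_g4_ok, (okE_cons.2 ⟨p_g5_ok, (okE_cons.2 ⟨p_g6_ok, (okE_cons.2 ⟨p_g7_ok, (okE_cons.2 ⟨p_g8_ok, (okE_cons.2 ⟨p_g9_ok, (okE_cons.2 ⟨p_g10_ok, (okE_cons.2 ⟨p_g20_ok, (okE_cons.2 ⟨p_g14_ok, (okE_cons.2 ⟨p_g15_ok, (okE_cons.2 ⟨p_g16_ok, (okE_cons.2 ⟨p_g17_ok, (okE_cons.2 ⟨p_g28_ok, (okE_cons.2 ⟨p_g23_ok, (okE_cons.2 ⟨p_g24_ok, (okE_cons.2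 ⟨p_g25_ok, (okE_cons.2 ⟨p_g37_ok, (okE_cons.2 ⟨p_g38_ok, (okE_cons.2 ⟨p_g34_ok, (okE_cons.2 ⟨p_g31_ok, (okE_cons.2 ⟨p_g32_ok, (okE_cons.2 ⟨p_g33_ok, (okE_cons.2 ⟨p_g41_ok, (okE_cons.2 ⟨p_g42_ok, (okE_nil 280)⟩)⟩)⟩)⟩)⟩)⟩)⟩)⟩)⟩)⟩)⟩)⟩)⟩)⟩)⟩)⟩)⟩)⟩)⟩)⟩)⟩)⟩)⟩)⟩)⟩)⟩)⟩)⟩)

noncomputable def p_g136 : Net := (Net.cons (nat_lit 1) (nat_lit 0x511554050544550100144014011404050410541411004014115445011545550154440) (Net.cons (nat_lit 2) (nat_lit 0x1102101222303230202122002121200111320122330032213113103021012200120100) (Net.cons (nat_lit 4) (nat_lit 0x30b0804030309010a0f0b090303070b0d03030e060f0e0a03010e0d06080104090700) (Net.cons (nat_lit 8) (nat_lit 0x98003f006500f200d700a5000c00de008700800011002a00d3000b0029008000a0) (Net.cons (nat_lit 16) (nat_lit 0x1800006495000002810000160a00008f2100008e670000f7600000927200000200) (Net.cons (nat_lit 32) (nat_lit 0x13761f2800000000d4f7ffff000000002cc24b4d0000000000a6d320) (Net.cons (nat_lit 64) (nat_lit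 0xa88f6080450000020000000000000000000000000020b0e8) (Net.cons (nat_lit 128) (nat_lit 0x94dca1da1a65d4ab5922be364fffff9) (Net.cons (nat_lit 256) (nat_lit 0xffffff) (Net.cons (nat_lit 128) (nat_lit 0xa2514c) (Net.cons (nat_lit 64) (nat_lit 0x8e45b48cb8396ee700000000000000001079b3466f01c8fa) (Net.cons (nat_lit 32) (nat_lit 0x9db177cd00000000013f95c400000000b4e1e52500000000652bade0) (Net.cons (nat_lit 16) (nat_lit 0x40000009290000ec7400000c6100000e5200008df0000004f6000070690000ed69) (Net.cons (nat_lit 8) (nat_lit 0x720049002900730018006a000b009300bb009f00a300ec001a00de006d004e0001) (Net.cons (nat_lit 4) (nat_lit 0x50d040307090a05040902020d05020b0209050e08080f060b0a02020308090c0f0e00) (Net.cons (nat_lit 2) (nat_lit 0x2122223320313010231120113302030111201213110203032033002321322120010110) (Net.cons (nat_lit 1) (nat_lit 0x5141141110150050440144514150045415104050555454515145015041545014505001) Net.nil)))))))))))))))))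

theorem p_g136_ok : Net.ok 280 p_g136 = true := by decide +kernel

noncomputable def p_g137 : Net := (Net.cons (nat_lit 1) (nat_lit 0x5004545151515144554415414015414154444110455505001011545014041101055000) (Net.cons (nat_lit 2) (nat_lit 0x1220310200100101303211201220232031001213131312301221023202232130002000) (Net.cons (nat_lit 4) (nat_lit 0xa0c0a090d09030609090d01050f0b0b040c0f08040d010a0c0f05030f00080c010c00) (Net.cons (nat_lit 8) (nat_lit 0x8400ad002200210070000c0025006d007400b800dc006e00950008006100360001) (Net.cons (nat_lit 16) (nat_lit 0x34000052020000e0ce00002e070000782c00003b4d0000d8a10000068200004000) (Net.cons (nat_lit 32) (nat_lit 0x1269122700000000304c01450000000003e214290000000000088a02) (Net.cons (nat_lit 64) (nat_lit 0x9d0241238e5a6a400000000000000000000000000364cb8) (Net.cons (nat_lit 128) (nat_lit 0x2daa7b3094b7302b9058000b3dcd046) (Net.cons (nat_lit 256) (nat_lit 0xfffefe) (Net.cons (nat_lit 128) (nat_lit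 0x62cca7) (Net.cons (nat_lit 64) (nat_lit 0xbea64a9357641b9a0000000000000000210d8a00967528ca) (Net.cons (nat_lit 32) (nat_lit 0xc3f5c46e0000000065c4a9fa0000000024d1396700000000c91c8fe8) (Net.cons (nat_lit 16) (nat_lit 0x50000a22b0000d7d50000fc6f0000c9bf0000b142000055cd000006f6000044e3) (Net.cons (nat_lit 8) (nat_lit 0x1700120010004900db0077005900e5001a00da005e009c0017000900ad00f00091) (Net.cons (nat_lit 4) (nat_lit 0x600020a060e0e01080c060a04040c0b0507050906020d080c060a0201060b00090302) (Net.cons (nat_lit 2) (nat_lit 0x3020322203332322221033013020223020110213211200313323101333303322110213) (Net.cons (nat_lit 1) (nat_lit 0x405404505440154541150040405144414540554455411441105415515545451514100) Net.nil)))))))))))))))))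

theorem p_g137_ok : Net.ok 280 p_g137 = true := by decide +kernel

noncomputable def p_g138 : Net := (Net.cons (nat_lit 1) (nat_lit 0x544000505400155151454415544450415545111415105540450144111104404414440) (Net.cons (nat_lit 2) (nat_lit 0x2010223320331202203203102232203012110132000030102233010010010000323000) (Net.cons (nat_lit 4) (nat_lit 0xb02000c06060c0c05050c0009000c010b060e0d0a0206030a070508010208060d0a00) (Net.cons (nat_lit 8) (nat_lit 0xdf000200be0070003500800004007d000b006d009800f60020004300920041000c) (Net.cons (nat_lit 16) (nat_lit 0x170000cdb6000021550000ea0800005803000064d0000001180000830500002b00) (Net.cons (nat_lit 32) (nat_lit 0x211ac20300000000070056cc0000000046b588180000000000008800) (Net.cons (nat_lit 64) (nat_lit 0x77f42883e3062e8a000000000000000000000000001aea03) (Net.cons (nat_lit 128) (nat_lit 0x873623aaf1fd051c78c08801022f2a9c) (Net.cons (nat_lit 256) (nat_lit 0x7ffb9f) (Net.cons (nat_lit 128) (nat_lit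 0x99d162) (Net.cons (nat_lit 64) (nat_lit 0x1aec42b25f438a6800000000000000000c40010043ee4a2b) (Net.cons (nat_lit 32) (nat_lit 0x20ce4d3000000001d3192a6000000000323d8da00000000c4c40e13) (Net.cons (nat_lit 16) (nat_lit 0x1d0000c3f4000034200000ea2800007b8a0000ae82000071a8000087100000b2b0) (Net.cons (nat_lit 8) (nat_lit 0xdf00d400b6007b002800e1001c005c00ab0005009800140050004600150035009d) (Net.cons (nat_lit 4) (nat_lit 0x90301030e030e0c04050500080400080d0f06010a0f0c070c0307010009080e0c0a09) (Net.cons (nat_lit 2) (nat_lit 0x1132300222331031102033011330313202112232101012001223010002311210021030) (Net.cons (nat_lit 1) (nat_lit 0x5504004155110151051454411544410015504511404145554054045111000040514051) Net.nil)))))))))))))))))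

theorem p_g138_ok : Net.ok 280 p_g138 = true := by decide +kernel

noncomputable def pt_c9_K : List Net := [p_g136, p_g137, p_g138]

theorem pt_c9_K_ok : okE 280 pt_c9_K = true := (okE_cons.2 ⟨p_g136_ok, (okE_cons.2 ⟨p_g137_ok, (okE_cons.2 ⟨p_g138_ok, (okE_nil 280)⟩)⟩)⟩)

noncomputable def pt_c9_cnt_EG : List Net := [p_g11, p_g1, p_g2, p_g3, p_g4, p_g5, p_g6, p_g7, p_g8, p_g9, p_g10, p_g20, p_g14, p_g15, p_g16, p_g17, p_g28, p_g23, p_g24, p_g25, p_g37, p_g38, p_g34, p_g31, p_g32, p_g33, p_g41, p_g42, p_g67, p_g68]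

theorem pt_c9_cnt_EG_ok : okE 280 pt_c9_cnt_EG = true := (okE_cons.2 ⟨p_g11_ok, (okE_cons.2 ⟨p_g1_ok, (okE_cons.2 ⟨p_g2_ok, (okE_cons.2 ⟨p_g3_ok, (okE_cons.2 ⟨p_g4_ok, (okE_cons.2 ⟨p_g5_ok, (okE_cons.2 ⟨p_g6_ok, (okE_cons.2 ⟨p_g7_ok, (okE_cons.2 ⟨p_g8_ok, (okE_cons.2 ⟨p_g9_ok, (okE_cons.2 ⟨p_g10_ok, (okE_cons.2 ⟨p_g20_ok, (okE_cons.2 ⟨p_g14_ok, (okE_cons.2 ⟨p_g15_ok, (okE_cons.2 ⟨p_g16_ok, (okE_cons.2 ⟨p_g17_ok, (okE_cons.2 ⟨p_g28_ok, (okE_cons.2 ⟨p_g23_ok, (okE_cons.2 ⟨p_g24_ok, (okE_cons.2 ⟨p_g25_ok, (okE_cons.2 ⟨p_g37_ok, (okE_cons.2 ⟨p_g38_ok, (okE_cons.2 ⟨p_g34_ok, (okE_cons.2 ⟨p_g31_ok, (okE_cons.2 ⟨p_g32_ok, (okE_cons.2 ⟨p_g33_ok, (okE_cons.2 ⟨p_g41_ok, (okE_cons.2 ⟨p_g42_ok, (okE_cons.2 ⟨p_g67_ok, (okE_cons.2 ⟨p_g68_ok, (okE_nil 280)⟩)⟩)⟩)⟩)⟩)⟩)⟩)⟩)⟩)⟩)⟩)⟩)⟩)⟩)⟩)⟩)⟩)⟩)⟩)⟩)⟩)⟩)⟩)⟩)⟩)⟩)⟩)⟩)⟩)⟩)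

noncomputable def p_g140 : Net := (Net.cons (nat_lit 1) (nat_lit 0x1400054100405000511511441114554040044410505515100105145045001551101114) (Net.cons (nat_lit 2) (nat_lit 0x1230020020101320303122031212101330231122203012002231002330333032300000) (Net.cons (nat_lit 4) (nat_lit 0xe080c0a0a0f0f0f010d0e040b0a0f010f0d0a03070a01040e09060a0003090c070400) (Net.cons (nat_lit 8) (nat_lit 0xbe004c0050006800fe005a00480098004c0087007500ae008b007b00c700410010) (Net.cons (nat_lit 16) (nat_lit 0x250000e1b40000b5550000104400008a8a000063670000ec200000823600001400) (Net.cons (nat_lit 32) (nat_lit 0x321fdd250000000016a1c3da000000000aa750aa0000000000200880) (Net.cons (nat_lit 64) (nat_lit 0x4ea000003116e440000000000000000000000000009314b4) (Net.cons (nat_lit 128) (nat_lit 0x1e8faf5013dbe87ee136427ca877fdfc) (Net.cons (nat_lit 256) (nat_lit 0xf7fdfc) (Net.cons (nat_lit 128) (nat_lit 0x77803c) (Net.cons (nat_lit 64) (nat_lit 0x72fada12d0b50b29000000000000000001f2e0671b4df97c)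 (Net.cons (nat_lit 32) (nat_lit 0x7e460fbe000000001fd0c62d00000000139a0d7a00000000e32ba999) (Net.cons (nat_lit 16) (nat_lit 0x4f0000061e000080210000cd8600002bb90000a4af000017c50000b44f00007963) (Net.cons (nat_lit 8) (nat_lit 0xac008800cc007b00b500d100bb00e40096009900c8007700dc00250067005600e5) (Net.cons (nat_lit 4) (nat_lit 0x10d010d0e0607070b03090309060601070d0a02070f010f0c0d0308080b0108020f0b) (Net.cons (nat_lit 2) (nat_lit 0x2213302120320221211313212103300132300321111103220331230130010300302130) (Net.cons (nat_lit 1) (nat_lit 0x4411410154150004010110045001550545100051405545050140544540001454141101) Net.nil)))))))))))))))))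

theorem p_g140_ok : Net.ok 280 p_g140 = true := by decide +kernel

noncomputable def p_g141 : Net := (Net.cons (nat_lit 1) (nat_lit 0x4545540154444550401510414505000115111101450555414454514510155544005400) (Net.cons (nat_lit 2) (nat_lit 0x203020012210022122012311300113213333230000221000120031021100222212300) (Net.cons (nat_lit 4) (nat_lit 0x6060c0e010d070d0809070d090d050a09040c080e0205040503050409020c0d060600) (Net.cons (nat_lit 8) (nat_lit 0x22001f0098000700ac0031005a0010000a00c900d3001700d4003e0080000d0000) (Net.cons (nat_lit 16) (nat_lit 0x940000d0d200002c3000002ccc00004e2c0000151f000014a20000564200001400) (Net.cons (nat_lit 32) (nat_lit 0x3c883bab00000000b294cc3100000000ba485633000000000045c2e1) (Net.cons (nat_lit 64) (nat_lit 0x53000ff5690a94800000000000000000000000000005a75) (Net.cons (nat_lit 128) (nat_lit 0x46ee2208bdb4c604491039f7e2601ec3) (Net.cons (nat_lit 256) (nat_lit 0x7fdeff) (Net.cons (nat_lit 128) (nat_lit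 0x456728) (Net.cons (nat_lit 64) (nat_lit 0x48f71dec146a211000000000000000095820c2ee9f9c240) (Net.cons (nat_lit 32) (nat_lit 0x2dda9340000000007769b0bb00000000f5ddeb5800000000aa989e42) (Net.cons (nat_lit 16) (nat_lit 0x560000fcd500007c3d000090f300000064000041a800005cf700002d4e00005379) (Net.cons (nat_lit 8) (nat_lit 0xa6002500ef0087005f0021005c004d003c000b00fe009f00b000670051005b0080) (Net.cons (nat_lit 4) (nat_lit 0xc010f0f02030a000d0c0f0d040e040f04050e0f08050006070f0d0f01060b0103030e) (Net.cons (nat_lit 2) (nat_lit 0x1223201131131333101230320120100203020112221101120120230032022201112301) (Net.cons (nat_lit 1) (nat_lit 0x4010151100110404505554550504054414001501555104504554500151451514405511) Net.nil)))))))))))))))))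

theorem p_g141_ok : Net.ok 280 p_g141 = true := by decide +kernel

noncomputable def p_g142 : Net := (Net.cons (nat_lit 1) (nat_lit 0x151551445105100115400500001444554010041144044004051540545544041410010) (Net.cons (nat_lit 2) (nat_lit 0x2031102331033301122113202322220031021012213123033022322101222010000) (Net.cons (nat_lit 4) (nat_lit 0xf0c0d06070107020a0a0e05040c0e040c0e080a0e020c0100050c050b040c0a050000) (Net.cons (nat_lit 8) (nat_lit 0xa200b8003f0056005c008a00830000008e00c9001400ee00c800a5000d00e40001) (Net.cons (nat_lit 16) (nat_lit 0xd0000072fb000036e00000518e00003305000086c300008db00000147400008100) (Net.cons (nat_lit 32) (nat_lit 0x671540b9000000001cffd10300000000915d5c730000000000801720) (Net.cons (nat_lit 64) (nat_lit 0xae0362ccbce041000000000000000000000000001f4469) (Net.cons (nat_lit 128) (nat_lit 0x3adff4c3134c78da9e3007b5ef3cf083) (Net.cons (nat_lit 256) (nat_lit 0xbff7eb) (Net.cons (nat_lit 128) (nat_lit 0xefc03a)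 (Net.cons (nat_lit 64) (nat_lit 0x7c999024e7f6807a00000000000000006c95bd12fa99a5f0) (Net.cons (nat_lit 32) (nat_lit 0x658e669d0000000093b3e34c00000000b054735e000000008bbe3b67) (Net.cons (nat_lit 16) (nat_lit 0xdb00009831000085b4000077580000f22d0000f6d20000947900002fce0000d362) (Net.cons (nat_lit 8) (nat_lit 0x2e00e800b8005200ca003500b600ab00bc00c4008d009800c9000900fd00be0027) (Net.cons (nat_lit 4) (nat_lit 0x70f0e0d0f020e0a01080204050d0d040407070302080909060c060b0c0605000d0008) (Net.cons (nat_lit 2) (nat_lit 0x21113201212001110333321010031021032021001221200113211313220030223203) (Net.cons (nat_lit 1) (nat_lit 0x1110055551450001555551014010101415155554445155454511500040151040414101) Net.nil)))))))))))))))))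

theorem p_g142_ok : Net.ok 280 p_g142 = true := by decide +kernel

noncomputable def p_g143 : Net := (Net.cons (nat_lit 1) (nat_lit 0x4455001144014114144401400514501110401440545114411015414404401105501400) (Net.cons (nat_lit 2) (nat_lit 0x1131211233221231310131021103311220311213302100032331033100021200323000) (Net.cons (nat_lit 4) (nat_lit 0xb0a000a0407090c010f0009030d02040b0200040d080c05080a06080b010203000000) (Net.cons (nat_lit 8) (nat_lit 0xa40051005c00a100150042009d009a0085001500d4008800da009c006100d10088) (Net.cons (nat_lit 16) (nat_lit 0x4100008d220000618b00006bb70000d6f900002114000010410000ec6400005200) (Net.cons (nat_lit 32) (nat_lit 0xa86af28f000000005e56925000000000141063540000000000508c44) (Net.cons (nat_lit 64) (nat_lit 0xc000023870d00dc4000000000000000000000000008a6010) (Net.cons (nat_lit 128) (nat_lit 0x941043550a829c186f95402b7c140cd7) (Net.cons (nat_lit 256) (nat_lit 0xdefeff) (Net.cons (nat_lit 128) (nat_lit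 0x7037df) (Net.cons (nat_lit 64) (nat_lit 0xc4ae11eea881e87c00000000000000001404696729089d83) (Net.cons (nat_lit 32) (nat_lit 0x1868fd43000000001779f8760000000094100243000000005bc7ce6b) (Net.cons (nat_lit 16) (nat_lit 0x8d0000e312000000aa00005b110000d45b00004bec0000eb5300004f7400001297) (Net.cons (nat_lit 8) (nat_lit 0xee0027000600a80027002d001d00cc00ae003000a200d20056002d002a00d3008b) (Net.cons (nat_lit 4) (nat_lit 0x302040c03030f05010d0704050d0001090001010d010b0f0809060d000d060b040002) (Net.cons (nat_lit 2) (nat_lit 0x3101031022213011333022013213111130301223110330023313232321001121232202) (Net.cons (nat_lit 1) (nat_lit 0x455004500004151544540054015105540441140000455111010410400441415504414) Net.nil)))))))))))))))))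

theorem p_g143_ok : Net.ok 280 p_g143 = true := by decide +kernel

noncomputable def pt_c10_K : List Net := [p_g140, p_g141, p_g142, p_g143]

theorem pt_c10_K_ok : okE 280 pt_c10_K = true := (okE_cons.2 ⟨p_g140_ok, (okE_cons.2 ⟨p_g141_ok, (okE_cons.2 ⟨p_g142_ok, (okE_cons.2 ⟨p_g143_ok, (okE_nil 280)⟩)⟩)⟩)⟩)

noncomputable def p_g145 : Net := (Net.cons (nat_lit 1) (nat_lit 0x4140041400004105445505401140545501554404101015114051101505115050440540) (Net.cons (nat_lit 2) (nat_lit 0x133333021133311130023211013013313332331120113101312012110122102231300) (Net.cons (nat_lit 4) (nat_lit 0x20704020c02040d010d00090b030204020a0d090104070f0c0d08010b0305070a0100) (Net.cons (nat_lit 8) (nat_lit 0x7a001d00f0006100e700610023006d002a00630006000d00060086001300e10038) (Net.cons (nat_lit 16) (nat_lit 0x160000d7300000476f0000462a00005faa0000b85500007e420000bb2800008800) (Net.cons (nat_lit 32) (nat_lit 0xa9e34a74000000002e644af1000000001358819a0000000000098a88)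 (Net.cons (nat_lit 64) (nat_lit 0x80170a11bb5b6160000000000000000000000000045d81a) (Net.cons (nat_lit 128) (nat_lit 0x24167f403b20c4540b2104a7a4255709) (Net.cons (nat_lit 256) (nat_lit 0x7fdfbb) (Net.cons (nat_lit 128) (nat_lit 0xf26aa3) (Net.cons (nat_lit 64) (nat_lit 0xcd593b631f13aa8a0000000000000000c1453103b91816c4) (Net.cons (nat_lit 32) (nat_lit 0xa81afa35000000004f2fc3380000000092c6f5d100000000cffbbef2) (Net.cons (nat_lit 16) (nat_lit 0x9e00003c340000fd990000e0e200003c6600007fb20000bbbe000099b1000080ca) (Net.cons (nat_lit 8) (nat_lit 0x15006f001800ff00ff003c00d0001100cc005a00e000b60044001b007f007c000c) (Net.cons (nat_lit 4) (nat_lit 0xb05060d0b0809080d090c09030903040a0f060a0e0c04020f0e03090204030609060c) (Net.cons (nat_lit 2) (nat_lit 0x1331133013311202301033323032212302310002000333330002200103301123012312) (Net.cons (nat_lit 1) (nat_lit 0x1541050105010405501501114041515501115055054410114505050550100554004050) Net.nil)))))))))))))))))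

theorem p_g145_ok : Net.ok 280 p_g145 = true := by decide +kernel

noncomputable def p_g146 : Net := (Net.cons (nat_lit 1) (nat_lit 0x4010404544155550450515504401400150111001010110015000450401415545010040) (Net.cons (nat_lit 2) (nat_lit 0x3210033100321313210001311101102010201012302022323303121211130121020100) (Net.cons (nat_lit 4) (nat_lit 0x104040303050c03060d0b010d000f010006060c080b040e0d02080e09070e0b040800) (Net.cons (nat_lit 8) (nat_lit 0xff00d7008e009100e6006d0061005c0033009d0033002c002100b0003200160032) (Net.cons (nat_lit 16) (nat_lit 0x7600006aaa00008412000004890000c29600000aca000094e90000918b00008900) (Net.cons (nat_lit 32) (nat_lit 0x186d717600000000091b01110000000019ea1c0f0000000000c7a808) (Net.cons (nat_lit 64) (nat_lit 0xa000130200f724500000000000000000000000000409f54) (Net.cons (nat_lit 128) (nat_lit 0xf1774754c652a7c60b01402934217641) (Net.cons (nat_lit 256) (nat_lit 0xe7ffdf) (Net.cons (nat_lit 128) (nat_lit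 0x2d0e63) (Net.cons (nat_lit 64) (nat_lit 0xfce6bfdf5dd4dd530000000000000000b45185c36e9ac0d8) (Net.cons (nat_lit 32) (nat_lit 0x296b4e9500000000a30bb2e200000000f0d0ac5d00000000de04d01c) (Net.cons (nat_lit 16) (nat_lit 0x8100007dc10000cfa500008fa9000056450000bb410000e6120000ed2100008462) (Net.cons (nat_lit 8) (nat_lit 0xa600b2001700d400c000a900f400d900e3001d000e00b1007800a800d500bb00f4) (Net.cons (nat_lit 4) (nat_lit 0x40400090b030d0b07090e01060b000d08020606060c09040c050f08070d03010d0804) (Net.cons (nat_lit 2) (nat_lit 0x3223201132013130033112331330013110023110331001311003322202111333020220) (Net.cons (nat_lit 1) (nat_lit 0x40150051451005554445114445114155501141451001545454100455111054010550) Net.nil)))))))))))))))))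

theorem p_g146_ok : Net.ok 280 p_g146 = true := by decide +kernel

noncomputable def p_g147 : Net := (Net.cons (nat_lit 1) (nat_lit 0x454440541051055050015054151100101514405511011040154550105005100141104) (Net.cons (nat_lit 2) (nat_lit 0x2022021102111101331203003112123312012231110202023212233103102001300200) (Net.cons (nat_lit 4) (nat_lit 0x3060a00090a040f0807080b040a0006010f020402050c030901020401020f06010c00) (Net.cons (nat_lit 8) (nat_lit 0xa0003d009c00f200d700a700e500dd00b6007100fb00b8006e005b005100440001) (Net.cons (nat_lit 16) (nat_lit 0x7000063f90000c7d80000db93000072630000e50d000024b90000f03000000000) (Net.cons (nat_lit 32) (nat_lit 0x4037c6ff00000000088f9c5900000000d308c08e0000000000004000) (Net.cons (nat_lit 64) (nat_lit 0x4033a0880934ca2900000000000000000000000000000000) (Net.cons (nat_lit 128) (nat_lit 0x299927fc8aa997027d26d233e1044021) (Net.cons (nat_lit 256) (nat_lit 278571) (Net.cons (nat_lit 128) (nat_lit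 0xd958ad) (Net.cons (nat_lit 64) (nat_lit 0x637dd3c8365067af0000000000000000354050c8e72004d1) (Net.cons (nat_lit 32) (nat_lit 0x5bbecfff00000000f483e48a00000000db2e946700000000e8a1c890) (Net.cons (nat_lit 16) (nat_lit 0x85000042fd0000640c00001ec0000032b4000002fe00001bb5000069c2000004d4) (Net.cons (nat_lit 8) (nat_lit 0x98003d00810077005f002200f4004000ad00b2009d00bb006b00570089003300d1) (Net.cons (nat_lit 4) (nat_lit 0x30a0b0508030f0f0d0f0302050304080405020f00050f0a0b0e020c0103050f090d00) (Net.cons (nat_lit 2) (nat_lit 0x122221102133322221111200202323112232230331003203301033302100331110302) (Net.cons (nat_lit 1) (nat_lit 0x50401550010550440544411100404105500445555410054111511515514054011004) Net.nil)))))))))))))))))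

theorem p_g147_ok : Net.ok 280 p_g147 = true := by decide +kernel

noncomputable def p_V148 : List Net := [p_g145, p_g146, p_g147]

theorem p_V148_ok : okE 280 p_V148 = true := (okE_cons.2 ⟨p_g145_ok, (okE_cons.2 ⟨p_g146_ok, (okE_cons.2 ⟨p_g147_ok, (okE_nil 280)⟩)⟩)⟩)

noncomputable def p_V150 : List Net := [p_g146, p_g147]

theorem p_V150_ok : okE 280 p_V150 = true := (okE_cons.2 ⟨p_g146_ok, (okE_cons.2 ⟨p_g147_ok, (okE_nil 280)⟩)⟩)

noncomputable def p_V151 : List Net := [p_g147]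

theorem p_V151_ok : okE 280 p_V151 = true := (okE_cons.2 ⟨p_g147_ok, (okE_nil 280)⟩)

noncomputable def p_V152 : List Net := []

theorem p_V152_ok : okE 280 p_V152 = true := (okE_nil 280)

noncomputable def pt_c10_cnt_EG : List Net := [p_g11, p_g1, p_g2, p_g3, p_g4, p_g5, p_g6, p_g7, p_g8, p_g9, p_g10, p_g20, p_g14, p_g15, p_g16, p_g17, p_g28, p_g23, p_g24, p_g25, p_g37, p_g38, p_g34, p_g31, p_g32, p_g33, p_g41, p_g42, p_g145, p_g146, p_g147]

theorem pt_c10_cnt_EG_ok : okE 280 pt_c10_cnt_EG = true := (okE_cons.2 ⟨p_g11_ok, (okE_cons.2 ⟨p_g1_ok, (okE_cons.2 ⟨p_g2_ok, (okE_cons.2 ⟨p_g3_ok, (okE_cons.2 ⟨p_g4_ok, (okE_cons.2 ⟨p_g5_ok, (okE_cons.2 ⟨p_g6_ok, (okE_cons.2 ⟨p_g7_ok, (okE_cons.2 ⟨p_g8_ok, (okE_cons.2 ⟨p_g9_ok, (okE_cons.2 ⟨p_g10_ok, (okE_cons.2 ⟨p_g20_ok, (okE_cons.2 ⟨p_g14_ok, (okE_cons.2 ⟨p_g15_ok, (okE_cons.2 ⟨p_g16_ok, (okE_cons.2 ⟨p_g17_ok, (okE_cons.2 ⟨p_g28_ok, (okE_cons.2 ⟨p_g23_ok, (okE_cons.2 ⟨p_g24_ok,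 (okE_cons.2 ⟨p_g25_ok, (okE_cons.2 ⟨p_g37_ok, (okE_cons.2 ⟨p_g38_ok, (okE_cons.2 ⟨p_g34_ok, (okE_cons.2 ⟨p_g31_ok, (okE_cons.2 ⟨p_g32_ok, (okE_cons.2 ⟨p_g33_ok, (okE_cons.2 ⟨p_g41_ok, (okE_cons.2 ⟨p_g42_ok, (okE_cons.2 ⟨p_g145_ok, (okE_cons.2 ⟨p_g146_ok, (okE_cons.2 ⟨p_g147_ok, (okE_nil 280)⟩)⟩)⟩)⟩)⟩)⟩)⟩)⟩)⟩)⟩)⟩)⟩)⟩)⟩)⟩)⟩)⟩)⟩)⟩)⟩)⟩)⟩)⟩)⟩)⟩)⟩)⟩)⟩)⟩)⟩)⟩)

noncomputable def p_g153 : Net := (Net.cons (nat_lit 1) (nat_lit 0x550505011100101544500455454005015044455051104111000110110400401545040) (Net.cons (nat_lit 2) (nat_lit 0x200312130223303310313213022001112010022220002022212011100023211020100) (Net.cons (nat_lit 4) (nat_lit 0x10d0c0d0c0e0f0303030c07020f0d0809090808090f0c06040f040d08090904040e00) (Net.cons (nat_lit 8) (nat_lit 0x7e0004008e00b4004d005c002400af005200370010007a003b002b000900910099) (Net.cons (nat_lit 16) (nat_lit 0x370000da95000083d0000034d00000334300006d730000db400000a94100007800) (Net.cons (nat_lit 32) (nat_lit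 0x10e30c300000000c128e82c0000000054650ca900000000008e6ca4) (Net.cons (nat_lit 64) (nat_lit 0xd558918a024198d000000000000000000000000000c4d9ac) (Net.cons (nat_lit 128) (nat_lit 0x263905561a2d764ad3c5d2f8386394c1) (Net.cons (nat_lit 256) (nat_lit 0xffffef) (Net.cons (nat_lit 128) (nat_lit 0x843b3b) (Net.cons (nat_lit 64) (nat_lit 0x766c983d669f2f900000000000000000b787100b49a981a2) (Net.cons (nat_lit 32) (nat_lit 0x7313e721000000009e8729ae000000008dc475d4000000000f68a7ea) (Net.cons (nat_lit 16) (nat_lit 0xe20000eca60000027f000093a00000e4dd00001de50000775500003fd1000085bd) (Net.cons (nat_lit 8) (nat_lit 0xaf00910043001400e40089006b0042004f00e500700078002000280048002e0001) (Net.cons (nat_lit 4) (nat_lit 0x30a04020700040f020e080208050d020c09010706040c060b0707010902000a0d0d00) (Net.cons (nat_lit 2) (nat_lit 0x203113302330210312003112311101222132021210231121220121103320131113331) (Net.cons (nat_lit 1) (nat_lit 0x4051401451101114511100015450110050041144000411401400101104000455504155)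 Net.nil)))))))))))))))))

theorem p_g153_ok : Net.ok 280 p_g153 = true := by decide +kernel

noncomputable def p_g154 : Net := (Net.cons (nat_lit 1) (nat_lit 0x1150011110411540455001404504404450044405114504440511015404111114100410) (Net.cons (nat_lit 2) (nat_lit 0x1011031333033221133332001002112111031313001332210020022110322011101120) (Net.cons (nat_lit 4) (nat_lit 0x10a0a05080c050c000b060f0700050c030005070a0d0a0c0f0d0f0f07050204000800) (Net.cons (nat_lit 8) (nat_lit 0x82008a0087004a009400c500f800550092001000ad003e0061006d001e00510018) (Net.cons (nat_lit 16) (nat_lit 0x900004d07000091280000085c0000a63f000016200000112b0000008000006100) (Net.cons (nat_lit 32) (nat_lit 0xfa538648000000005a585c5b0000000058a8c842000000000000c408) (Net.cons (nat_lit 64) (nat_lit 0x1c021104aa1100fb00000000000000000000000000324b15) (Net.cons (nat_lit 128) (nat_lit 0x2344f445d94a319a9f7aebf1777015c5) (Net.cons (nat_lit 256) (nat_lit 0xf2fffd) (Net.cons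 (nat_lit 128) (nat_lit 0x4b35a0) (Net.cons (nat_lit 64) (nat_lit 0x78b8bab7835a58b000000000000000083573dc0028b9267) (Net.cons (nat_lit 32) (nat_lit 0x686de7e600000000c4f509c70000000061c0569c0000000013f75009) (Net.cons (nat_lit 16) (nat_lit 0xb20000f588000078ba0000c7f9000046dd00004c9a0000d8250000b4a600003123) (Net.cons (nat_lit 8) (nat_lit 0x67003500b200fb003400f00005009b001500b6005b00f80091001b00bd00120054) (Net.cons (nat_lit 4) (nat_lit 0xa0b00010c010702050f060b0a070e0c040b0907080702010e0d0801060a0e0e0c01) (Net.cons (nat_lit 2) (nat_lit 0x3323133022103320301323321031332122100113201221132032011320032210033200) (Net.cons (nat_lit 1) (nat_lit 0x4005510555141515010010144115500400545050155440540005115504004015551540) Net.nil)))))))))))))))))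

theorem p_g154_ok : Net.ok 280 p_g154 = true := by decide +kernel

noncomputable def p_g155 : Net := (Net.cons (nat_lit 1) (nat_lit 0x4144155040141155015400440000441100114401544450105145111415451010500450) (Net.cons (nat_lit 2) (nat_lit 0x3211201033030320321001110330210111330021222221133310313312233021111200) (Net.cons (nat_lit 4) (nat_lit 0x307020701010e010d020b000c0a09070a0f08070d04070e0a060d0d080a09000d0200) (Net.cons (nat_lit 8) (nat_lit 0x42003300150061009e005800150004004c00a7009b007000b900400015000f0089) (Net.cons (nat_lit 16) (nat_lit 0xc00000143e00006b230000ce2d000097b40000c1ed0000f11500001d4200000600) (Net.cons (nat_lit 32) (nat_lit 0x7e0eb4a500000000c45237630000000038b2514d000000000000a812) (Net.cons (nat_lit 64) (nat_lit 0x130091c441023bc000000000000000000000000005f43a6) (Net.cons (nat_lit 128) (nat_lit 0x6dc479e3973e08f57e5d820f482b2f8) (Net.cons (nat_lit 256) (nat_lit 0xfffffe) (Net.cons (nat_lit 128) (nat_lit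 0x8fb582) (Net.cons (nat_lit 64) (nat_lit 0x2d733a075706ea9a0000000000000000c7f0cc2d0d0cbe4e) (Net.cons (nat_lit 32) (nat_lit 0xf1298deb00000000856e763300000000e96d12650000000071109a95) (Net.cons (nat_lit 16) (nat_lit 0x8e00002cd60000ed0b0000dba30000ef6900008ee80000e0b4000052b10000664d) (Net.cons (nat_lit 8) (nat_lit 0x4f007300cf006700a30045007d005b00b80026004a009f006500fd00b000b000a4) (Net.cons (nat_lit 4) (nat_lit 0xa020d0c0e09020a0b090a0d05010d08070e00030d040d030705080c050e0f020b0b00) (Net.cons (nat_lit 2) (nat_lit 0x213300131130212021221110130033231330210302232001000310311001331230023) (Net.cons (nat_lit 1) (nat_lit 0x4505440554051411154515501545444011555145145011155544104040505044041451) Net.nil)))))))))))))))))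

theorem p_g155_ok : Net.ok 280 p_g155 = true := by decide +kernel

noncomputable def pt_c11_K : List Net := [p_g153, p_g154, p_g155, p_g74]

theorem pt_c11_K_ok : okE 280 pt_c11_K = true := (okE_cons.2 ⟨p_g153_ok, (okE_cons.2 ⟨p_g154_ok, (okE_cons.2 ⟨p_g155_ok, (okE_cons.2 ⟨p_g74_ok, (okE_nil 280)⟩)⟩)⟩)⟩)

noncomputable def pt_c11_cnt_EG : List Net := [p_g11, p_g1, p_g2, p_g3, p_g4, p_g5, p_g6, p_g7, p_g8, p_g9, p_g10, p_g20, p_g14, p_g15, p_g16, p_g17, p_g28, p_g23, p_g24, p_g25, p_g37, p_g38, p_g34, p_g31, p_g32, p_g33, p_g41, p_g42, p_g145, p_g146, p_g147]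

theorem pt_c11_cnt_EG_ok : okE 280 pt_c11_cnt_EG = true := (okE_cons.2 ⟨p_g11_ok, (okE_cons.2 ⟨p_g1_ok, (okE_cons.2 ⟨p_g2_ok, (okE_cons.2 ⟨p_g3_ok, (okE_cons.2 ⟨p_g4_ok, (okE_cons.2 ⟨p_g5_ok, (okE_cons.2 ⟨p_g6_ok, (okE_cons.2 ⟨p_g7_ok, (okE_cons.2 ⟨p_g8_ok, (okE_cons.2 ⟨p_g9_ok, (okE_cons.2 ⟨p_g10_ok, (okE_cons.2 ⟨p_g20_ok, (okE_cons.2 ⟨p_g14_ok, (okE_cons.2 ⟨p_g15_ok, (okE_cons.2 ⟨p_g16_ok, (okE_cons.2 ⟨p_g17_ok, (okE_cons.2 ⟨p_g28_ok, (okE_cons.2 ⟨p_g23_ok, (okE_cons.2 ⟨p_g24_ok, (okE_cons.2 ⟨p_g25_ok, (okE_cons.2 ⟨p_g37_ok, (okE_cons.2 ⟨p_g38_ok, (okE_cons.2 ⟨p_g34_ok, (okE_cons.2 ⟨p_g31_ok, (okE_cons.2 ⟨p_g32_ok, (okE_cons.2 ⟨p_g33_ok, (okE_cons.2 ⟨p_g41_ok, (okE_cons.2 ⟨p_g42_ok, (okE_cons.2 ⟨p_g145_ok, (okE_cons.2 ⟨p_g146_ok, (okE_cons.2 ⟨p_g147_ok, (okE_nil 280)⟩)⟩)⟩)⟩)⟩)⟩)⟩)⟩)⟩)⟩)⟩)⟩)⟩)⟩)⟩)⟩)⟩)⟩)⟩)⟩)⟩)⟩)⟩)⟩)⟩)⟩)⟩)⟩)⟩)⟩)⟩)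

noncomputable def p_g157 : Net := (Net.cons (nat_lit 1) (nat_lit 0x5110550510105451045410510011404145145050444051454540015501005441100414) (Net.cons (nat_lit 2) (nat_lit 0x22230210112122201321133133230223030231332100311032311221033012220220) (Net.cons (nat_lit 4) (nat_lit 0x40e060003090608020d070b0908070409020902000c020506080b0e070b08020d0700) (Net.cons (nat_lit 8) (nat_lit 0xa9006000a7002b00100081005b00c7007800b200f500a4006800a50025008b00ad) (Net.cons (nat_lit 16) (nat_lit 0xd30000d2730000c306000093230000c89600005930000036c40000a3410000b300) (Net.cons (nat_lit 32) (nat_lit 0xfed04a4d00000000a008670a000000000844b8630000000000a03fa5) (Net.cons (nat_lit 64) (nat_lit 0x88060aa2c93606210000000000000000000000000003908d) (Net.cons (nat_lit 128) (nat_lit 0xc92724d957ab2db747c02f6eaa3c0ed0) (Net.cons (nat_lit 256) (nat_lit 0xbfbffd) (Net.cons (nat_lit 128) (nat_lit 0x34d696) (Net.cons (nat_lit 64) (nat_lit 0xb3d9850e4f0aef2c000000000000000039bcc9bc2fca495c)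 (Net.cons (nat_lit 32) (nat_lit 0x573e3375000000004998140e00000000eaa0835100000000dfc79306) (Net.cons (nat_lit 16) (nat_lit 0x9c0000787a00004fbb00007acd00009170000052170000e6bb0000c988000040e8) (Net.cons (nat_lit 8) (nat_lit 0xe0003f009f009e00a70012007200030075009a004b0069002b007a002c005000cd) (Net.cons (nat_lit 4) (nat_lit 0xf0f00070f00040d020a0e0b07010b020708030c02040f060a0601010304000c070c0c) (Net.cons (nat_lit 2) (nat_lit 0x3210033131020000122231120131002002100233312101211003111102102000321033) (Net.cons (nat_lit 1) (nat_lit 0x1110550401041041440054404145510455110410045040154414055000050000101140) Net.nil)))))))))))))))))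

theorem p_g157_ok : Net.ok 280 p_g157 = true := by decide +kernel

noncomputable def pt_c12_K : List Net := [p_g157]

theorem pt_c12_K_ok : okE 280 pt_c12_K = true := (okE_cons.2 ⟨p_g157_ok, (okE_nil 280)⟩)

noncomputable def p_V159 : List Net := [p_g128]

theorem p_V159_ok : okE 280 p_V159 = true := (okE_cons.2 ⟨p_g128_ok, (okE_nil 280)⟩)

noncomputable def p_V161 : List Net := []

theorem p_V161_ok : okE 280 p_V161 = true := (okE_nil 280)

noncomputable def pt_c12_cnt_EG : List Net := [p_g11, p_g1, p_g2, p_g3, p_g4, p_g5, p_g6, p_g7, p_g8, p_g9, p_g10, p_g20, p_g14, p_g15, p_g16, p_g17, p_g28, p_g23, p_g24, p_g25, p_g37, p_g38, p_g34, p_g31, p_g32, p_g33, p_g41, p_g42, p_g128, p_g68, p_g67]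

theorem pt_c12_cnt_EG_ok : okE 280 pt_c12_cnt_EG = true := (okE_cons.2 ⟨p_g11_ok, (okE_cons.2 ⟨p_g1_ok, (okE_cons.2 ⟨p_g2_ok, (okE_cons.2 ⟨p_g3_ok, (okE_cons.2 ⟨p_g4_ok, (okE_cons.2 ⟨p_g5_ok, (okE_cons.2 ⟨p_g6_ok, (okE_cons.2 ⟨p_g7_ok, (okE_cons.2 ⟨p_g8_ok, (okE_cons.2 ⟨p_g9_ok, (okE_cons.2 ⟨p_g10_ok, (okE_cons.2 ⟨p_g20_ok, (okE_cons.2 ⟨p_g14_ok, (okE_cons.2 ⟨p_g15_ok, (okE_cons.2 ⟨p_g16_ok, (okE_cons.2 ⟨p_g17_ok, (okE_cons.2 ⟨p_g28_ok, (okE_cons.2 ⟨p_g23_ok, (okE_cons.2 ⟨p_g24_ok, (okE_cons.2 ⟨p_g25_ok, (okE_cons.2 ⟨p_g37_ok, (okE_cons.2 ⟨p_g38_ok, (okE_cons.2 ⟨p_g34_ok, (okE_cons.2 ⟨p_g31_ok, (okE_cons.2 ⟨p_g32_ok, (okE_cons.2 ⟨p_g33_ok, (okE_cons.2 ⟨p_g41_ok, (okE_cons.2 ⟨p_g42_ok, (okE_cons.2 ⟨p_g128_ok, (okE_cons.2 ⟨p_g68_ok, (okE_cons.2 ⟨p_g67_ok, (okE_nil 280)⟩)⟩)⟩)⟩)⟩)⟩)⟩)⟩)⟩)⟩)⟩)⟩)⟩)⟩)⟩)⟩)⟩)⟩)⟩)⟩)⟩)⟩)⟩)⟩)⟩)⟩)⟩)⟩)⟩)⟩)⟩)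

noncomputable def p_g162 : Net := (Net.cons (nat_lit 1) (nat_lit 0x5005044144454044550515110154141540100541514144454445054545115500110400) (Net.cons (nat_lit 2) (nat_lit 0x3011022223111333303010123020003200213301131201103303211011002310311000) (Net.cons (nat_lit 4) (nat_lit 0x202050a04020b0c08030b030f070a0a0c0c0c030c0407090006060d04070409010100) (Net.cons (nat_lit 8) (nat_lit 0x8000d100330043004b00ca00e0008800e50099007c00da001800c900110033004c) (Net.cons (nat_lit 16) (nat_lit 0xb00005e53000023e5000005a60000d0f3000013b9000060050000247000003200) (Net.cons (nat_lit 32) (nat_lit 0x6ea3c09e0000000022c82f20000000003c4416ad0000000000a43463) (Net.cons (nat_lit 64) (nat_lit 0x242a72e451e7c3f000000000000000000000000004abc04) (Net.cons (nat_lit 128) (nat_lit 0x5161df40f286d6a9e3aa683fbd3f403c) (Net.cons (nat_lit 256) (nat_lit 0xfffeff) (Net.cons (nat_lit 128) (nat_lit 0x93eaca) (Net.cons (nat_lit 64) (nat_lit 0x4d269525b44aa3900000000000000000401adb97eda417a8)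 (Net.cons (nat_lit 32) (nat_lit 0x21b4d24e00000000fc21e91800000000c161e5f9000000009207061d) (Net.cons (nat_lit 16) (nat_lit 0x3b0000212100003e5200000c5100008f7d000019650000ba8d0000d07c00008955) (Net.cons (nat_lit 8) (nat_lit 0x85000100f5006600b4005b009e005800bd003800ae00a5009700d5002a00fc0022) (Net.cons (nat_lit 4) (nat_lit 0xa000c0009010a0c030805030b020c0b030b08060704040b010f03050e0d08000a0407) (Net.cons (nat_lit 2) (nat_lit 0x3310020032223233023103230002311310120333221232303123301202220231332100) (Net.cons (nat_lit 1) (nat_lit 0x5145154500004111544455505444004541505055141400141415001044100104) Net.nil)))))))))))))))))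

theorem p_g162_ok : Net.ok 280 p_g162 = true := by decide +kernel

noncomputable def pt_c13_K : List Net := [p_g162]

theorem pt_c13_K_ok : okE 280 pt_c13_K = true := (okE_cons.2 ⟨p_g162_ok, (okE_nil 280)⟩)

noncomputable def pt_c13_cnt_EG : List Net := [p_g11, p_g1, p_g2, p_g3, p_g4, p_g5, p_g6, p_g7, p_g8, p_g9, p_g10, p_g20, p_g14, p_g15, p_g16, p_g17, p_g28, p_g23, p_g24, p_g25, p_g37, p_g38, p_g34, p_g31, p_g32, p_g33, p_g41, p_g42, p_g128, p_g68, p_g67]

theorem pt_c13_cnt_EG_ok : okE 280 pt_c13_cnt_EG = true := (okE_cons.2 ⟨p_g11_ok, (okE_cons.2 ⟨p_g1_ok, (okE_cons.2 ⟨p_g2_ok, (okE_cons.2 ⟨p_g3_ok, (okE_cons.2 ⟨p_g4_ok, (okE_cons.2 ⟨p_g5_ok, (okE_cons.2 ⟨p_g6_ok, (okE_cons.2 ⟨p_g7_ok, (okE_cons.2 ⟨p_g8_ok, (okE_cons.2 ⟨p_g9_ok, (okE_cons.2 ⟨p_g10_ok, (okE_cons.2 ⟨p_g20_ok, (okE_cons.2 ⟨p_g14_ok, (okE_cons.2 ⟨p_g15_ok, (okE_cons.2 ⟨p_g16_ok, (okE_cons.2 ⟨p_g17_ok, (okE_cons.2 ⟨p_g28_ok, (okE_cons.2 ⟨p_g23_ok, (okE_cons.2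 ⟨p_g24_ok, (okE_cons.2 ⟨p_g25_ok, (okE_cons.2 ⟨p_g37_ok, (okE_cons.2 ⟨p_g38_ok, (okE_cons.2 ⟨p_g34_ok, (okE_cons.2 ⟨p_g31_ok, (okE_cons.2 ⟨p_g32_ok, (okE_cons.2 ⟨p_g33_ok, (okE_cons.2 ⟨p_g41_ok, (okE_cons.2 ⟨p_g42_ok, (okE_cons.2 ⟨p_g128_ok, (okE_cons.2 ⟨p_g68_ok, (okE_cons.2 ⟨p_g67_ok, (okE_nil 280)⟩)⟩)⟩)⟩)⟩)⟩)⟩)⟩)⟩)⟩)⟩)⟩)⟩)⟩)⟩)⟩)⟩)⟩)⟩)⟩)⟩)⟩)⟩)⟩)⟩)⟩)⟩)⟩)⟩)⟩)⟩)

noncomputable def p_g164 : Net := (Net.cons (nat_lit 1) (nat_lit 0x4450411054115544001115555045410015010504141411555404040010411444144154) (Net.cons (nat_lit 2) (nat_lit 0x2122120311132220003320220133111323230322010131032112113203133121203310) (Net.cons (nat_lit 4) (nat_lit 0x20b0603000a0d06020405010308050309080a020f0b07050a000d0309000408040600) (Net.cons (nat_lit 8) (nat_lit 0xc0026003800260039001800a200f800dd00f800030053006d00fe0049006c004a) (Net.cons (nat_lit 16) (nat_lit 0x6e000031550000fc33000030a5000015410000eae30000d53b0000894a00009200) (Net.cons (nat_lit 32)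 (nat_lit 0x1809c05100000000e67c81310000000024c08a190000000000a0fdda) (Net.cons (nat_lit 64) (nat_lit 0x9c4a41345c0cf20e00000000000000000000000000de1398) (Net.cons (nat_lit 128) (nat_lit 0x1f3c64a4e9cfab66a273391296aad398) (Net.cons (nat_lit 256) (nat_lit 0xfffffa) (Net.cons (nat_lit 128) (nat_lit 0xca0f41) (Net.cons (nat_lit 64) (nat_lit 0x6de30f26e5568195000000000000000092546f36347bb255) (Net.cons (nat_lit 32) (nat_lit 0x1cef0c670000000045330a41000000006e3f510f000000006ee0dd25) (Net.cons (nat_lit 16) (nat_lit 0x8300007d57000074dd0000f62700007fd70000264a00009ce40000b6630000dfac) (Net.cons (nat_lit 8) (nat_lit 0x81006a005a0033001900d500cd00fd00ad0023009f008e009f004e003900650040) (Net.cons (nat_lit 4) (nat_lit 0xf0109010b0a03000c040e030c0204050105050905010b0d0b050c090e06050801070b) (Net.cons (nat_lit 2) (nat_lit 0x213100022210220130302032300300321113012012130013023011102022330000321) (Net.cons (nat_lit 1) (nat_lit 0x4114114450141001110511011104500105154015400551404040440150150444045555)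 Net.nil)))))))))))))))))

theorem p_g164_ok : Net.ok 280 p_g164 = true := by decide +kernel

noncomputable def pt_c14_K : List Net := [p_g164, p_g59]

theorem pt_c14_K_ok : okE 280 pt_c14_K = true := (okE_cons.2 ⟨p_g164_ok, (okE_cons.2 ⟨p_g59_ok, (okE_nil 280)⟩)⟩)

noncomputable def p_V166 : List Net := []

theorem p_V166_ok : okE 280 p_V166 = true := (okE_nil 280)

noncomputable def pt_c14_cnt_EG : List Net := [p_g11, p_g1, p_g2, p_g3, p_g4, p_g5, p_g6, p_g7, p_g8, p_g9, p_g10, p_g20, p_g14, p_g15, p_g16, p_g17, p_g28, p_g23, p_g24, p_g25, p_g37, p_g38, p_g34, p_g31, p_g32, p_g33, p_g41, p_g42, p_g67, p_g68]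

theorem pt_c14_cnt_EG_ok : okE 280 pt_c14_cnt_EG = true := (okE_cons.2 ⟨p_g11_ok, (okE_cons.2 ⟨p_g1_ok, (okE_cons.2 ⟨p_g2_ok, (okE_cons.2 ⟨p_g3_ok, (okE_cons.2 ⟨p_g4_ok, (okE_cons.2 ⟨p_g5_ok, (okE_cons.2 ⟨p_g6_ok, (okE_cons.2 ⟨p_g7_ok, (okE_cons.2 ⟨p_g8_ok, (okE_cons.2 ⟨p_g9_ok, (okE_cons.2 ⟨p_g10_ok, (okE_cons.2 ⟨p_g20_ok, (okE_cons.2 ⟨p_g14_ok, (okE_cons.2 ⟨p_g15_ok, (okE_cons.2 ⟨p_g16_ok, (okE_cons.2 ⟨p_g17_ok, (okE_cons.2 ⟨p_g28_ok, (okE_cons.2 ⟨p_g23_ok, (okE_cons.2 ⟨p_g24_ok, (okE_cons.2 ⟨p_g25_ok, (okE_cons.2 ⟨p_g37_ok, (okE_cons.2 ⟨p_g38_ok, (okE_cons.2 ⟨p_g34_ok, (okE_cons.2 ⟨p_g31_ok, (okE_cons.2 ⟨p_g32_ok, (okE_cons.2 ⟨p_g33_ok, (okE_cons.2 ⟨p_g41_ok, (okE_cons.2 ⟨p_g42_ok, (okE_cons.2 ⟨p_g67_ok, (okE_cons.2 ⟨p_g68_ok, (okE_nil 280)⟩)⟩)⟩)⟩)⟩)⟩)⟩)⟩)⟩)⟩)⟩)⟩)⟩)⟩)⟩)⟩)⟩)⟩)⟩)⟩)⟩)⟩)⟩)⟩)⟩)⟩)⟩)⟩)⟩)⟩)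

noncomputable def p_g168 : Net := (Net.cons (nat_lit 1) (nat_lit 0x5155100040154500150445100514405440501011441001541005545415141515051150) (Net.cons (nat_lit 2) (nat_lit 0x2222332302003230310232211022303001310220112001222103021213003122222210) (Net.cons (nat_lit 4) (nat_lit 0xb0c0c0a030d0b0208000d04050a0c09060f030308050b02070a0d070d09070c0a0c00) (Net.cons (nat_lit 8) (nat_lit 0xfb0086003600350011004300c20058009b00250007008f000a00b800700008001b) (Net.cons (nat_lit 16) (nat_lit 0xb30000c48a000085060000f132000088da0000860c00002a030000eb4000008000) (Net.cons (nat_lit 32) (nat_lit 0x44142f5300000000a225748900000000221b3ba20000000000102122) (Net.cons (nat_lit 64) (nat_lit 0x11c621325f2a3e100000000000000000000000000489179) (Net.cons (nat_lit 128) (nat_lit 0x65d9cf1a07c97d17fe47ac2d68862d42) (Net.cons (nat_lit 256) (nat_lit 0xdffd7b) (Net.cons (nat_lit 128) (nat_lit 0x38a7a2) (Net.cons (nat_lit 64) (nat_lit 0x6793bb251c04c0230000000000000000587373ced164fd21)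 (Net.cons (nat_lit 32) (nat_lit 0xea7f50b600000000817e53b200000000ee3251b700000000fc28421e) (Net.cons (nat_lit 16) (nat_lit 0x3f0000ffa100005d080000a5600000ebcd0000a2460000c3db0000a7dd0000a6fa) (Net.cons (nat_lit 8) (nat_lit 0x2400d00000001a00de005500580070008b005d00c7006500a100cf0020001700da) (Net.cons (nat_lit 4) (nat_lit 0x6020c040d000c060704030e06010900070a0906060f000c040a0104060407020d0007) (Net.cons (nat_lit 2) (nat_lit 0x2213100312230231010310101031032033212131102232120030321301131122202013) (Net.cons (nat_lit 1) (nat_lit 0x541001040410541454000400100400054505501141555054500011050501400151401) Net.nil)))))))))))))))))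

theorem p_g168_ok : Net.ok 280 p_g168 = true := by decide +kernel

noncomputable def p_g169 : Net := (Net.cons (nat_lit 1) (nat_lit 0x5050055405411015441454151150051015405515451400001404544555140155010010) (Net.cons (nat_lit 2) (nat_lit 0x2130300331313200112001222300222033201103120002220300211123332323010100) (Net.cons (nat_lit 4) (nat_lit 0xf0005090205010c04040c090f0303080a0b06040f0b0407080c080500040600020400) (Net.cons (nat_lit 8) (nat_lit 0xcd00250000000c00bd00a80025000b001a002d008d0054004600c4006800180061) (Net.cons (nat_lit 16) (nat_lit 0xd4000053ff0000bf45000019300000fee6000002c5000084ba0000882200000000) (Net.cons (nat_lit 32) (nat_lit 0xf2e3b2bf00000000e80d3aaa00000000066b8f7600000000005a7480) (Net.cons (nat_lit 64) (nat_lit 0x2462022831c75a3400000000000000000000000000f0cd36) (Net.cons (nat_lit 128) (nat_lit 0xf2a7a27fb820bd8d4c5ce50383e32080) (Net.cons (nat_lit 256) (nat_lit 0xfbfff7) (Net.cons (nat_lit 128) (nat_lit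 0x3663b2) (Net.cons (nat_lit 64) (nat_lit 0x2f8ed0640cccd3cb00000000000000000e9e8bd7b8557a14) (Net.cons (nat_lit 32) (nat_lit 0x40574b2400000000ce7b2f2b00000000656600b70000000023a9669a) (Net.cons (nat_lit 16) (nat_lit 0x4600004a0d0000c7ad0000c7700000cd350000ae1c00001dad0000306d0000f2fc) (Net.cons (nat_lit 8) (nat_lit 0xc5006000da002900fd00840008004600e400e600020002000500e8007500ce0044) (Net.cons (nat_lit 4) (nat_lit 0xf0d0b0e00080b0b08010c0c0f0f0705070b080a050a0f0f080d040e03070809040c02) (Net.cons (nat_lit 2) (nat_lit 0x1122311023313001021202110113211213003011100211321022120222320311020231) (Net.cons (nat_lit 1) (nat_lit 0x400541100140455045115504411551041141050401401515541001454451100000110) Net.nil)))))))))))))))))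

theorem p_g169_ok : Net.ok 280 p_g169 = true := by decide +kernel

noncomputable def p_g170 : Net := (Net.cons (nat_lit 1) (nat_lit 0x1401551000014550501054405044154454010555151544401114415000504044010000) (Net.cons (nat_lit 2) (nat_lit 0x213332120300101122332331231031112113210000103000331123301112010120100) (Net.cons (nat_lit 4) (nat_lit 0x708090a090302090c0a000a0b0e010d0608080a07000b000708050405040202010c00) (Net.cons (nat_lit 8) (nat_lit 0x2f0048007e00f80090005400180000002700c10018000c0026003200b200a40002) (Net.cons (nat_lit 16) (nat_lit 0x60000cb490000f59500005ba20000e493000002a10000a364000058020000a000) (Net.cons (nat_lit 32) (nat_lit 0x3b14e21300000000633ba15a000000005ab24bcc0000000000382f81) (Net.cons (nat_lit 64) (nat_lit 0x781a45948ea0100300000000000000000000000000908020) (Net.cons (nat_lit 128) (nat_lit 0x50321bc8891424022b08fc1666f23d0b) (Net.cons (nat_lit 256) (nat_lit 0xffbfbb) (Net.cons (nat_lit 128) (nat_lit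 0x5f6e48) (Net.cons (nat_lit 64) (nat_lit 0x3e75c4a8592a372b00000000000000001af05a818472847c) (Net.cons (nat_lit 32) (nat_lit 0xe91d8221000000001b710161000000005210498c0000000027bc1d93) (Net.cons (nat_lit 16) (nat_lit 0x40000bf2b00009bad00005198000060ab0000080600008986000009d60000c612) (Net.cons (nat_lit 8) (nat_lit 0x1000a007d009200a6007f006300c4002500ee001c004c0062004000f600c10094) (Net.cons (nat_lit 4) (nat_lit 0x509080e0d06030d040201080b0c0400070800000e090502070001050b0c0506060604) (Net.cons (nat_lit 2) (nat_lit 0x2233101120200100122132221012020301313230010103202231312222110030033110) (Net.cons (nat_lit 1) (nat_lit 0x554141145441141155101400050104110140540511501515501044141045004040) Net.nil)))))))))))))))))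

theorem p_g170_ok : Net.ok 280 p_g170 = true := by decide +kernel

noncomputable def pt_c15_K : List Net := [p_g168, p_g169, p_g170]

theorem pt_c15_K_ok : okE 280 pt_c15_K = true := (okE_cons.2 ⟨p_g168_ok, (okE_cons.2 ⟨p_g169_ok, (okE_cons.2 ⟨p_g170_ok, (okE_nil 280)⟩)⟩)⟩)

noncomputable def p_g172 : Net := (Net.cons (nat_lit 1) (nat_lit 0x4000400055041400144111100010001541050005104445104445104445411045411040) (Net.cons (nat_lit 2) (nat_lit 0x1212120020032000303003030321002231222003213103213103213100021300021300) (Net.cons (nat_lit 4) (nat_lit 0x1000a000b00000004010400000900090106000f0e0002020d0f0e000204080e080200) (Net.cons (nat_lit 8) (nat_lit 0x2000140006004e0080002800000041000400c60001000f00e60021001600840000) (Net.cons (nat_lit 16) (nat_lit 0x400006b0e0000800000002000000008000000000c000004f100001a0400000000) (Net.cons (nat_lit 32) (nat_lit 0xc0106a0400000000080000040000000004f102000000000000000000) (Net.cons (nat_lit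 64) (nat_lit 0x800000400106a0400000000000000000000000000000000) (Net.cons (nat_lit 128) (nat_lit 0x8000004000000000000000000106a04) (Net.cons (nat_lit 256) (nat_lit 0x106a04) (Net.cons (nat_lit 128) (nat_lit 0x106a04) (Net.cons (nat_lit 64) (nat_lit 0xc800000400106a04000000000000000004f1020000000000) (Net.cons (nat_lit 32) (nat_lit 0xd11eea0400000000280000040000000004fd0320000000001a040000) (Net.cons (nat_lit 16) (nat_lit 0x6500007f0400008e8100001c4500004186000026dd00000df700003b080000c550) (Net.cons (nat_lit 8) (nat_lit 0x6c00140018004e005a002f000e00530021001600930054003600b3004b006500b0) (Net.cons (nat_lit 4) (nat_lit 0x60a0c020b050801040c0901000900090500080f040602090a0f04060203020e0b0c00) (Net.cons (nat_lit 2) (nat_lit 0x232331221112223320210000122112231222000213130213130213131210311210312) (Net.cons (nat_lit 1) (nat_lit 0x5010541451041400000500540415051441050000014010014010014014155004155004) Net.nil)))))))))))))))))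

theorem p_g172_ok : Net.ok 280 p_g172 = true := by decide +kernel

noncomputable def p_V173 : List Net := [p_g172]

theorem p_V173_ok : okE 280 p_V173 = true := (okE_cons.2 ⟨p_g172_ok, (okE_nil 280)⟩)

noncomputable def p_V175 : List Net := []

theorem p_V175_ok : okE 280 p_V175 = true := (okE_nil 280)

noncomputable def pt_c15_cnt_EG : List Net := [p_g11, p_g1, p_g2, p_g3, p_g4, p_g5, p_g6, p_g7, p_g8, p_g9, p_g10, p_g20, p_g14, p_g15, p_g16, p_g17, p_g28, p_g23, p_g24, p_g25, p_g37, p_g38, p_g34, p_g31, p_g32, p_g33, p_g41, p_g42, p_g82, p_g83, p_g172]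

theorem pt_c15_cnt_EG_ok : okE 280 pt_c15_cnt_EG = true := (okE_cons.2 ⟨p_g11_ok, (okE_cons.2 ⟨p_g1_ok, (okE_cons.2 ⟨p_g2_ok, (okE_cons.2 ⟨p_g3_ok, (okE_cons.2 ⟨p_g4_ok, (okE_cons.2 ⟨p_g5_ok, (okE_cons.2 ⟨p_g6_ok, (okE_cons.2 ⟨p_g7_ok, (okE_cons.2 ⟨p_g8_ok, (okE_cons.2 ⟨p_g9_ok, (okE_cons.2 ⟨p_g10_ok, (okE_cons.2 ⟨p_g20_ok, (okE_cons.2 ⟨p_g14_ok, (okE_cons.2 ⟨p_g15_ok, (okE_cons.2 ⟨p_g16_ok, (okE_cons.2 ⟨p_g17_ok, (okE_cons.2 ⟨p_g28_ok, (okE_cons.2 ⟨p_g23_ok, (okE_cons.2 ⟨p_g24_ok, (okE_cons.2 ⟨p_g25_ok, (okE_cons.2 ⟨p_g37_ok, (okE_cons.2 ⟨p_g38_ok, (okE_cons.2 ⟨p_g34_ok, (okE_cons.2 ⟨p_g31_ok, (okE_cons.2 ⟨p_g32_ok, (okE_cons.2 ⟨p_g33_ok, (okE_cons.2 ⟨p_g41_ok, (okE_cons.2 ⟨p_g42_ok, (okE_cons.2 ⟨p_g82_ok, (okE_cons.2 ⟨p_g83_ok, (okE_cons.2 ⟨p_g172_ok, (okE_nil 280)⟩)⟩)⟩)⟩)⟩)⟩)⟩)⟩)⟩)⟩)⟩)⟩)⟩)⟩)⟩)⟩)⟩)⟩)⟩)⟩)⟩)⟩)⟩)⟩)⟩)⟩)⟩)⟩)⟩)⟩)⟩)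

noncomputable def p_g176 : Net := (Net.cons (nat_lit 1) (nat_lit 0x1414114444145050500401101140055414515405401401045144050000450445544504) (Net.cons (nat_lit 2) (nat_lit 0x1210112122122113321232202302111023212330113022001102102211120201310100) (Net.cons (nat_lit 4) (nat_lit 0x709060c07030d04090c02090a0d0804010b0801000405070a080b0e00010b0c010600) (Net.cons (nat_lit 8) (nat_lit 0x86000800a90064002000220086006800100064007200ea000800fa000a0036001f) (Net.cons (nat_lit 16) (nat_lit 0x2e00006960000031f2000009d80000a4420000f04100001e180000c90100002a00) (Net.cons (nat_lit 32) (nat_lit 0x9740901a00000000a814328200000000f1431a070000000000e80f34) (Net.cons (nat_lit 64) (nat_lit 0xab04104afcde8dc00000000000000000000000000665384) (Net.cons (nat_lit 128) (nat_lit 0xff90af81e4b542674069f01f0b2ea858) (Net.cons (nat_lit 256) (nat_lit 0xeeffff) (Net.cons (nat_lit 128) (nat_lit 0x6c04fa) (Net.cons (nat_lit 64) (nat_lit 0x1730cb4dfe271d260000000000000000587a1605ecfc90b7)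 (Net.cons (nat_lit 32) (nat_lit 0x1be4bf0300000000876faf7600000000797c89c800000000db5d063f) (Net.cons (nat_lit 16) (nat_lit 0x910000993a00006aeb000025a1000058b60000ac29000036cd0000570f0000c178) (Net.cons (nat_lit 8) (nat_lit 0xd0002000e4005f006a004e004300350072007e00f2007e00fa00f90035002b009c) (Net.cons (nat_lit 4) (nat_lit 0xa020d060d0700030902070803020d0c0200060a070c0e0b0f0b05010a0506060c0603) (Net.cons (nat_lit 2) (nat_lit 0x3321023013122031210303131300212303203201321200210302220222013102312313) (Net.cons (nat_lit 1) (nat_lit 0x1515141544000040514144155000440104041415101104514044001011050045444510) Net.nil)))))))))))))))))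

theorem p_g176_ok : Net.ok 280 p_g176 = true := by decide +kernel

noncomputable def p_g177 : Net := (Net.cons (nat_lit 1) (nat_lit 0x5004000004505111155141554555450411150541155045500044010010004044401404) (Net.cons (nat_lit 2) (nat_lit 0x3001333301112030312011202101313223123022000030310223013001232220032030) (Net.cons (nat_lit 4) (nat_lit 0x9040f0208090e0b0f060e0a0504050e0606050a07030e090e00000a09040205020600) (Net.cons (nat_lit 8) (nat_lit 0xcb0049004e00460074007800790081001a0005000a00eb004a00140090008200a5) (Net.cons (nat_lit 16) (nat_lit 0xc20000ee8a0000adf700002b0200006dc400006ba20000a4c1000025460000a800) (Net.cons (nat_lit 32) (nat_lit 0x623d818000000006bac684000000000191da4e00000000000b3e18d) (Net.cons (nat_lit 64) (nat_lit 0xe4001110cc6ebbb900000000000000000000000000940800) (Net.cons (nat_lit 128) (nat_lit 0xb674e8e6ccbe5c2950b2f33c31a386da) (Net.cons (nat_lit 256) (nat_lit 0xffffff) (Net.cons (nat_lit 128) (nat_lit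 0xf027ca) (Net.cons (nat_lit 64) (nat_lit 0x292c19d33e63efa200000000000000003a181742610548ba) (Net.cons (nat_lit 32) (nat_lit 0xf374e820000000004bdb0a9c0000000050e8d234000000002c6508b7) (Net.cons (nat_lit 16) (nat_lit 0x4c000072a500002efe0000fc520000430c00002ff50000f5bb0000a4b800004721) (Net.cons (nat_lit 8) (nat_lit 0x97008a00c7000f00cf0086005e001f00f60051001800f000de00f500aa002900cd) (Net.cons (nat_lit 4) (nat_lit 0x4000805070b01030f03010706050509040d03090f040700050b0a0008080e07020308) (Net.cons (nat_lit 2) (nat_lit 0x1213123203303131202212131020203301133223100323023010101232132202003132) (Net.cons (nat_lit 1) (nat_lit 0x4510515000404055541155400440015554004010155541044101014040511104044001) Net.nil)))))))))))))))))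

theorem p_g177_ok : Net.ok 280 p_g177 = true := by decide +kernel

noncomputable def pt_c16_K : List Net := [p_g176, p_g177, p_g74]

theorem pt_c16_K_ok : okE 280 pt_c16_K = true := (okE_cons.2 ⟨p_g176_ok, (okE_cons.2 ⟨p_g177_ok, (okE_cons.2 ⟨p_g74_ok, (okE_nil 280)⟩)⟩)⟩)

noncomputable def pt_c16_cnt_EG : List Net := [p_g11, p_g1, p_g2, p_g3, p_g4, p_g5, p_g6, p_g7, p_g8, p_g9, p_g10, p_g20, p_g14, p_g15, p_g16, p_g17, p_g28, p_g23, p_g24, p_g25, p_g37, p_g38, p_g34, p_g31, p_g32, p_g33, p_g41, p_g42, p_g172, p_g82, p_g83]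

theorem pt_c16_cnt_EG_ok : okE 280 pt_c16_cnt_EG = true := (okE_cons.2 ⟨p_g11_ok, (okE_cons.2 ⟨p_g1_ok, (okE_cons.2 ⟨p_g2_ok, (okE_cons.2 ⟨p_g3_ok, (okE_cons.2 ⟨p_g4_ok, (okE_cons.2 ⟨p_g5_ok, (okE_cons.2 ⟨p_g6_ok, (okE_cons.2 ⟨p_g7_ok, (okE_cons.2 ⟨p_g8_ok, (okE_cons.2 ⟨p_g9_ok, (okE_cons.2 ⟨p_g10_ok, (okE_cons.2 ⟨p_g20_ok, (okE_cons.2 ⟨p_g14_ok, (okE_cons.2 ⟨p_g15_ok, (okE_cons.2 ⟨p_g16_ok, (okE_cons.2 ⟨p_g17_ok, (okE_cons.2 ⟨p_g28_ok, (okE_cons.2 ⟨p_g23_ok, (okE_cons.2 ⟨p_g24_ok, (okE_cons.2 ⟨p_g25_ok, (okE_cons.2 ⟨p_g37_ok, (okE_cons.2 ⟨p_g38_ok, (okE_cons.2 ⟨p_g34_ok, (okE_cons.2 ⟨p_g31_ok, (okE_cons.2 ⟨p_g32_ok, (okE_cons.2 ⟨p_g33_ok, (okE_cons.2 ⟨p_g41_ok, (okE_cons.2 ⟨p_g42_ok, (okE_cons.2 ⟨p_g172_ok, (okE_cons.2 ⟨p_g82_ok, (okE_cons.2 ⟨p_g83_ok, (okE_nil 280)⟩)⟩)⟩)⟩)⟩)⟩)⟩)⟩)⟩)⟩)⟩)⟩)⟩)⟩)⟩)⟩)⟩)⟩)⟩)⟩)⟩)⟩)⟩)⟩)⟩)⟩)⟩)⟩)⟩)⟩)⟩)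

noncomputable def p_g179 : Net := (Net.cons (nat_lit 1) (nat_lit 0x4100001150000110141045414115054550514510411004154040444105111011414444) (Net.cons (nat_lit 2) (nat_lit 0x1313120130100230313012032013301020323330223201012202232003301200120220) (Net.cons (nat_lit 4) (nat_lit 0x1060300020208080a070f080e030e010d070c030f0e030706070a0103040801030100) (Net.cons (nat_lit 8) (nat_lit 0xe3006600b900e1004700fc00350090004500f300f000e4006600f7003900100052) (Net.cons (nat_lit 16) (nat_lit 0x3a0000d02f0000f630000062ea000009b30000924e000050490000a0cf00004400) (Net.cons (nat_lit 32) (nat_lit 0x9c401d5b000000001042aa020000000048208103000000000005acae) (Net.cons (nat_lit 64) (nat_lit 0xba34014a9115d52500000000000000000000000000104a98) (Net.cons (nat_lit 128) (nat_lit 0x3cf1795a8f7fe6038684ce813c6d4783) (Net.cons (nat_lit 256) (nat_lit 0xfdffbf) (Net.cons (nat_lit 128) (nat_lit 620151) (Net.cons (nat_lit 64) (nat_lit 0x661ba670df24f5730000000000000000ab0e1ed8c6db1c0b)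 (Net.cons (nat_lit 32) (nat_lit 0xdbc542b7000000005459936d00000000a7a2b98200000000a014636f) (Net.cons (nat_lit 16) (nat_lit 0xc70000e15800003f170000710c000005bf0000576d000009cd0000d4e1000013ce) (Net.cons (nat_lit 8) (nat_lit 0x250054007e005a0029007e00ea006b00ba006e00520014000c00ba00e500770003) (Net.cons (nat_lit 4) (nat_lit 0xe05010c0a0e0103060b0f0602010603040c02020f0509040e0b0e0f040a060803080c) (Net.cons (nat_lit 2) (nat_lit 0x301120302202022203131212011230233202312322301033001310122002213220100) (Net.cons (nat_lit 1) (nat_lit 0x5145405514015441111014550554145141150510105445544410540105141440450005) Net.nil)))))))))))))))))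

theorem p_g179_ok : Net.ok 280 p_g179 = true := by decide +kernel

noncomputable def p_g180 : Net := (Net.cons (nat_lit 1) (nat_lit 0x1110050415105514444054454450141155440055111445414044100514015550514000) (Net.cons (nat_lit 2) (nat_lit 0x1202303332310200111131331313012233203221220023132333123230210313101100) (Net.cons (nat_lit 4) (nat_lit 0xf0003090205050f020f01020e080c00020b01040904090e04080c08070c010e030a00) (Net.cons (nat_lit 8) (nat_lit 0xc500d50096008700b100ca0056007200020067001b00ff00d80080006700d30048) (Net.cons (nat_lit 16) (nat_lit 0xca000001bd0000702a00002c3f0000318000008c030000482500001f000000a900) (Net.cons (nat_lit 32) (nat_lit 0xc612398300000000c4109ab0000000001272688d00000000005002f2) (Net.cons (nat_lit 64) (nat_lit 0x25e09c18021c680500000000000000000000000000e25861) (Net.cons (nat_lit 128) (nat_lit 0x850add72f7341788f2eb20ec1d5dad05) (Net.cons (nat_lit 256) (nat_lit 0xfffff7) (Net.cons (nat_lit 128) (nat_lit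 0xa36132) (Net.cons (nat_lit 64) (nat_lit 0xaceb5b04d45ff95900000000000000008baab4003afd0fec) (Net.cons (nat_lit 32) (nat_lit 0x70cec5340000000028691fc800000000352a665f0000000062ac22d3) (Net.cons (nat_lit 16) (nat_lit 0x170000ccdc00003acd0000145b00004de9000023ed0000b7f70000a0da00001c1d) (Net.cons (nat_lit 8) (nat_lit 0x9400d800d000770067007d005b005700fd005400bd000300cf0048003900ec00c1) (Net.cons (nat_lit 4) (nat_lit 0x7030405040b04080f000d0a0007080501070f0b0201000d03000f0b0a0405010e0e0b) (Net.cons (nat_lit 2) (nat_lit 0x1310000312223211130233333213121223331210100203302312211310320100011023) (Net.cons (nat_lit 1) (nat_lit 0x4041114004044540000400400055414150105010100454104104551451011050514011) Net.nil)))))))))))))))))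

theorem p_g180_ok : Net.ok 280 p_g180 = true := by decide +kernel

noncomputable def p_g181 : Net := (Net.cons (nat_lit 1) (nat_lit 0x4455140054110115540410114411410414055050005110055401554140104001104400) (Net.cons (nat_lit 2) (nat_lit 0x2011110203131110203121202211232222311031222232213210002013120200010000) (Net.cons (nat_lit 4) (nat_lit 0x3080b0908020a04060802080f050a0f0f0d060b0a0608060d07050e090a0003030d00) (Net.cons (nat_lit 8) (nat_lit 0xec00b7007600f2002500da00fe001f003d00600058000e006a00a700c000320000) (Net.cons (nat_lit 16) (nat_lit 0xf80000365e000080600000f9a90000553e000084c70000826f0000590200004100) (Net.cons (nat_lit 32) (nat_lit 0x13559f4a00000000857b158100000000200888050000000000059bc0) (Net.cons (nat_lit 64) (nat_lit 0xd6008769a0783e4d0000000000000000000000000018042c) (Net.cons (nat_lit 128) (nat_lit 0xa5a786e86065e9137b9a410780694a27) (Net.cons (nat_lit 256) (nat_lit 0x7fdfef) (Net.cons (nat_lit 128) (nat_lit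 0x729dcb) (Net.cons (nat_lit 64) (nat_lit 0xce0dd6a3ed5231460000000000000000e29a4520001d8d6c) (Net.cons (nat_lit 32) (nat_lit 0xaf5a4fb10000000072d6068100000000a90c0e940000000080059ac0) (Net.cons (nat_lit 16) (nat_lit 0x9a0000fe370000144c00004d070000cd3400004efe0000012a0000c182000053a5) (Net.cons (nat_lit 8) (nat_lit 0xec00ac00cf00b1002000ff005700b5009300210079004700af002400c6002600c2) (Net.cons (nat_lit 4) (nat_lit 0x90a0a030d0802040e090b000d090e050507060f0e040e020c03030300070403090d09) (Net.cons (nat_lit 2) (nat_lit 0x2030311011021211212100223211002202302023331233023202212113022322311210) (Net.cons (nat_lit 1) (nat_lit 0x4405141155410101450414514111510454141100014010455005044540500001000041) Net.nil)))))))))))))))))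

theorem p_g181_ok : Net.ok 280 p_g181 = true := by decide +kernel

noncomputable def pt_c17_K : List Net := [p_g179, p_g180, p_g181]

theorem pt_c17_K_ok : okE 280 pt_c17_K = true := (okE_cons.2 ⟨p_g179_ok, (okE_cons.2 ⟨p_g180_ok, (okE_cons.2 ⟨p_g181_ok, (okE_nil 280)⟩)⟩)⟩)

noncomputable def pt_c17_cnt_EG : List Net := [p_g11, p_g1, p_g2, p_g3, p_g4, p_g5, p_g6, p_g7, p_g8, p_g9, p_g10, p_g20, p_g14, p_g15, p_g16, p_g17, p_g28, p_g23, p_g24, p_g25, p_g37, p_g38, p_g34, p_g31, p_g32, p_g33, p_g41, p_g42, p_g82, p_g83, p_g172]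

theorem pt_c17_cnt_EG_ok : okE 280 pt_c17_cnt_EG = true := (okE_cons.2 ⟨p_g11_ok, (okE_cons.2 ⟨p_g1_ok, (okE_cons.2 ⟨p_g2_ok, (okE_cons.2 ⟨p_g3_ok, (okE_cons.2 ⟨p_g4_ok, (okE_cons.2 ⟨p_g5_ok, (okE_cons.2 ⟨p_g6_ok, (okE_cons.2 ⟨p_g7_ok, (okE_cons.2 ⟨p_g8_ok, (okE_cons.2 ⟨p_g9_ok, (okE_cons.2 ⟨p_g10_ok, (okE_cons.2 ⟨p_g20_ok, (okE_cons.2 ⟨p_g14_ok, (okE_cons.2 ⟨p_g15_ok, (okE_cons.2 ⟨p_g16_ok, (okE_cons.2 ⟨p_g17_ok, (okE_cons.2 ⟨p_g28_ok, (okE_cons.2 ⟨p_g23_ok, (okE_cons.2 ⟨p_g24_ok, (okE_cons.2 ⟨p_g25_ok, (okE_cons.2 ⟨p_g37_ok, (okE_cons.2 ⟨p_g38_ok, (okE_cons.2 ⟨p_g34_ok, (okE_cons.2 ⟨p_g31_ok, (okE_cons.2 ⟨p_g32_ok, (okE_cons.2 ⟨p_g33_ok, (okE_cons.2 ⟨p_g41_ok, (okE_cons.2 ⟨p_g42_ok, (okE_cons.2 ⟨p_g82_ok, (okE_cons.2 ⟨p_g83_ok, (okE_cons.2 ⟨p_g172_ok, (okE_nil 280)⟩)⟩)⟩)⟩)⟩)⟩)⟩)⟩)⟩)⟩)⟩)⟩)⟩)⟩)⟩)⟩)⟩)⟩)⟩)⟩)⟩)⟩)⟩)⟩)⟩)⟩)⟩)⟩)⟩)⟩)⟩)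

noncomputable def p_g183 : Net := (Net.cons (nat_lit 1) (nat_lit 0x5445400105000404404410045510145101555414010505500011010105115414510050) (Net.cons (nat_lit 2) (nat_lit 0x3122011002332211133022010000032211133310210303300013000033200311002200) (Net.cons (nat_lit 4) (nat_lit 0xf0a0703040c010f0e04080d090a0306090d07050900030a030708080d040207070000) (Net.cons (nat_lit 8) (nat_lit 0x3900a5005b005600e2001700e4000300ba004700150044007b00b8007900c40080) (Net.cons (nat_lit 16) (nat_lit 0x9f00009953000002e100000a070000365800006c8c0000c0c00000603400000c00) (Net.cons (nat_lit 32) (nat_lit 0x280308a000000000b0d4012800000000c801d74d0000000000241544) (Net.cons (nat_lit 64) (nat_lit 0x9992f401a740aa980000000000000000000000000086fdb4) (Net.cons (nat_lit 128) (nat_lit 0x51a1c04cc8eea90dee5e34cf67551ca9) (Net.cons (nat_lit 256) (nat_lit 0xfffdff) (Net.cons (nat_lit 128) (nat_lit 0x5e0a5b) (Net.cons (nat_lit 64) (nat_lit 0x437467f91dad9c930000000000000000bd3be58c4d1e63fd)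 (Net.cons (nat_lit 32) (nat_lit 0xc7f07c2a00000000333dc81600000000b0b956cd00000000802be247) (Net.cons (nat_lit 16) (nat_lit 0x6d0000da5500006cc600003a7a0000fa2b0000cce1000033580000af3c0000986d) (Net.cons (nat_lit 8) (nat_lit 0xc9008800a900fc006d00b7003400dc00e600aa002100e000f400ad00df006300b5) (Net.cons (nat_lit 4) (nat_lit 0x908030f060a00070d090f0b010707010c0c09010f0105000f070604060f0a04000509) (Net.cons (nat_lit 2) (nat_lit 0x3011232232301120003311113102202102211310132112211020023112102202332121) (Net.cons (nat_lit 1) (nat_lit 0x4514010100141500410440454154051440414145015445100450151545445144140005) Net.nil)))))))))))))))))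

theorem p_g183_ok : Net.ok 280 p_g183 = true := by decide +kernel

noncomputable def p_g184 : Net := (Net.cons (nat_lit 1) (nat_lit 0x514044041555014501541155141115001501405000500551144401550144105100104) (Net.cons (nat_lit 2) (nat_lit 0x1332022311122013011301032121333033020002332231021100111110122023032100) (Net.cons (nat_lit 4) (nat_lit 0x6030e07000b0c0c010704020407090c040d060f0e0b0b08060d0c040a0a0a02000100) (Net.cons (nat_lit 8) (nat_lit 0x6a007a00410053008600c5004800bb0001007a00d90082003300cf004900800054) (Net.cons (nat_lit 16) (nat_lit 0xe10000717c000070910000b4cb000060ce000098c1000026a000004c9100003000) (Net.cons (nat_lit 32) (nat_lit 0x8ef3f72f000000001c85651100000000085b1eb8000000000023cc90) (Net.cons (nat_lit 64) (nat_lit 0x40020e7b60840c5a00000000000000000000000000e62802) (Net.cons (nat_lit 128) (nat_lit 0x3248b8aebc3f0d53ec6e16d1c900c50f) (Net.cons (nat_lit 256) (nat_lit 0xfffdff) (Net.cons (nat_lit 128) (nat_lit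 0xea34ae) (Net.cons (nat_lit 64) (nat_lit 0xb49a02fd2d935e31000000000000000036b02b603be901de) (Net.cons (nat_lit 32) (nat_lit 0xde17351d00000000e2d711fd000000008e56e64200000000c04b800d) (Net.cons (nat_lit 16) (nat_lit 0x610000df2c00000c8b00008a6c000021220000cae20000c78f0000daca00003c61) (Net.cons (nat_lit 8) (nat_lit 0xee004d00c500d9001a000700d5008c00f800c30092000600b5001a0040005f0011) (Net.cons (nat_lit 4) (nat_lit 0x80a0f06090f0a0e0c06070709010c0d06000508060205030d0c040c050a0e0a0e070a) (Net.cons (nat_lit 2) (nat_lit 0x3132200222210030203112113123110201300023302122201231311200332123213232) (Net.cons (nat_lit 1) (nat_lit 0x15441000015555111444051405504054515015514100100100041014050515000000) Net.nil)))))))))))))))))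

theorem p_g184_ok : Net.ok 280 p_g184 = true := by decide +kernel

noncomputable def p_g185 : Net := (Net.cons (nat_lit 1) (nat_lit 0x4404141155410101450454554111510450141100014010455005044540500005000000) (Net.cons (nat_lit 2) (nat_lit 0x2030331311021230212021221313002022122021310233023222212121022203100000) (Net.cons (nat_lit 4) (nat_lit 0x60b0b02080907090d0f09010e0e0d040c09030e0b050f070900020601000002080100) (Net.cons (nat_lit 8) (nat_lit 0x4006d00be009500530031003100020033001000b000d200f1002000ce00270010) (Net.cons (nat_lit 16) (nat_lit 0x530000cf430000c9e00000e2e00000cc3b000026b90000b4100000140200004000) (Net.cons (nat_lit 32) (nat_lit 0x5b9b7687000000008dd4d60500000000d4ce1a04000000000008336a) (Net.cons (nat_lit 64) (nat_lit 0x456c0213a0035d4800000000000000000000000000e10c1c) (Net.cons (nat_lit 128) (nat_lit 0x926e9fdb6414706afd90c080909f356a) (Net.cons (nat_lit 256) (nat_lit 0xff7f7e) (Net.cons (nat_lit 128) (nat_lit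 0x741a1e) (Net.cons (nat_lit 64) (nat_lit 0xc5909b8a7d152b0e00000000000000008ac0048580e11c1e) (Net.cons (nat_lit 32) (nat_lit 0x1b45e33900000000d19c6df700000000cc323164000000009008736a) (Net.cons (nat_lit 16) (nat_lit 0x550000dfc500000c3000001d2c0000f49100002001000082040000a54a000042b5) (Net.cons (nat_lit 8) (nat_lit 0x4000f7000f000b00560049006d00fa00310004008c00e200930062008f0022000c) (Net.cons (nat_lit 4) (nat_lit 0x20d0a0809050b09030b050f0e020f0c0909030a03070f0d0804040b09010402030107) (Net.cons (nat_lit 2) (nat_lit 0x2011330303130232203121220213232023300031302232013232302023122201231102) (Net.cons (nat_lit 1) (nat_lit 0x4455140054110115540450114411410410055050005110055401554100104401004414) Net.nil)))))))))))))))))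

theorem p_g185_ok : Net.ok 280 p_g185 = true := by decide +kernel

noncomputable def pt_c18_K : List Net := [p_g183, p_g184, p_g185]

theorem pt_c18_K_ok : okE 280 pt_c18_K = true := (okE_cons.2 ⟨p_g183_ok, (okE_cons.2 ⟨p_g184_ok, (okE_cons.2 ⟨p_g185_ok, (okE_nil 280)⟩)⟩)⟩)

noncomputable def pt_c18_cnt_EG : List Net := [p_g11, p_g1, p_g2, p_g3, p_g4, p_g5, p_g6, p_g7, p_g8, p_g9, p_g10, p_g20, p_g14, p_g15, p_g16, p_g17, p_g28, p_g23, p_g24, p_g25, p_g37, p_g38, p_g34, p_g31, p_g32, p_g33, p_g41, p_g42, p_g82, p_g83, p_g172]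

theorem pt_c18_cnt_EG_ok : okE 280 pt_c18_cnt_EG = true := (okE_cons.2 ⟨p_g11_ok, (okE_cons.2 ⟨p_g1_ok, (okE_cons.2 ⟨p_g2_ok, (okE_cons.2 ⟨p_g3_ok, (okE_cons.2 ⟨p_g4_ok, (okE_cons.2 ⟨p_g5_ok, (okE_cons.2 ⟨p_g6_ok, (okE_cons.2 ⟨p_g7_ok, (okE_cons.2 ⟨p_g8_ok, (okE_cons.2 ⟨p_g9_ok, (okE_cons.2 ⟨p_g10_ok, (okE_cons.2 ⟨p_g20_ok, (okE_cons.2 ⟨p_g14_ok, (okE_cons.2 ⟨p_g15_ok, (okE_cons.2 ⟨p_g16_ok, (okE_cons.2 ⟨p_g17_ok, (okE_cons.2 ⟨p_g28_ok, (okE_cons.2 ⟨p_g23_ok, (okE_cons.2 ⟨p_g24_ok, (okE_cons.2 ⟨p_g25_ok, (okE_cons.2 ⟨p_g37_ok, (okE_cons.2 ⟨p_g38_ok, (okE_cons.2 ⟨p_g34_ok, (okE_cons.2 ⟨p_g31_ok, (okE_cons.2 ⟨p_g32_ok, (okE_cons.2 ⟨p_g33_ok, (okE_cons.2 ⟨p_g41_ok, (okE_cons.2 ⟨p_g42_ok, (okE_cons.2 ⟨p_g82_ok, (okE_cons.2 ⟨p_g83_ok, (okE_cons.2 ⟨p_g172_ok, (okE_nil 280)⟩)⟩)⟩)⟩)⟩)⟩)⟩)⟩)⟩)⟩)⟩)⟩)⟩)⟩)⟩)⟩)⟩)⟩)⟩)⟩)⟩)⟩)⟩)⟩)⟩)⟩)⟩)⟩)⟩)⟩)⟩)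

noncomputable def p_g187 : Net := (Net.cons (nat_lit 1) (nat_lit 0x4004005415410015545550510411054445145405001005014440441050411001501500) (Net.cons (nat_lit 2) (nat_lit 0x3130020023003123303002223302230330222212012002110322130333201020130) (Net.cons (nat_lit 4) (nat_lit 0x90b0f04000a01090c0300030e040c05010a050204050b0a0c0300070d0d020e030100) (Net.cons (nat_lit 8) (nat_lit 0xdc00c80011000e008e009f00ad000d0054004f006a008a0011008f0062000b0008) (Net.cons (nat_lit 16) (nat_lit 0x9a0000cab300009600000060700000a53700003dc300000438000064750000c000) (Net.cons (nat_lit 32) (nat_lit 0x4da92e200000000018e34a000000000296476a0000000000072e508) (Net.cons (nat_lit 64) (nat_lit 0xa58d3d9131403648000000000000000000000000004f2e81) (Net.cons (nat_lit 128) (nat_lit 0x8acf0cbcebe7dfd72f20f341d02430de) (Net.cons (nat_lit 256) (nat_lit 0x7fffdf) (Net.cons (nat_lit 128) (nat_lit 0x2688de) (Net.cons (nat_lit 64) (nat_lit 0xfd15be6881c5df4e000000000000000024a41482ad026bbe)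 (Net.cons (nat_lit 32) (nat_lit 0xcfb7a47c00000000dc537dc100000000f81bae140000000071b131ab) (Net.cons (nat_lit 16) (nat_lit 0xf00004053000078d300001dca0000f3a90000c11e000013f500001b5600003395) (Net.cons (nat_lit 8) (nat_lit 0x7e008c0063008500b8005a0044002c00e5006a00c600ce001500eb00d800b3005d) (Net.cons (nat_lit 4) (nat_lit 0x1020d0d070b030103030f040a0d0d080f080c070c0c0e0c0f0300060b0206080d050e) (Net.cons (nat_lit 2) (nat_lit 0x1201211210310003211010223332203231212211012310202330010323300013001122) (Net.cons (nat_lit 1) (nat_lit 0x1111111001404155555444445005540115401515041451144450500045004155011001) Net.nil)))))))))))))))))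

theorem p_g187_ok : Net.ok 280 p_g187 = true := by decide +kernel

noncomputable def p_g188 : Net := (Net.cons (nat_lit 1) (nat_lit 0x4410445115000414415551005155541101545140500444145015414401014145401440) (Net.cons (nat_lit 2) (nat_lit 0x3113303122230321110301023022301332133202303230001202112131221000300000) (Net.cons (nat_lit 4) (nat_lit 0x604040a0f070109090b030e040d070a0d0109040902060004050a07080a0203020800) (Net.cons (nat_lit 8) (nat_lit 0x5000fe001a003200b70049000e00d40069005c00f900cf004800930007002400a9) (Net.cons (nat_lit 16) (nat_lit 0x9e0000503400003c15000030b40000b1da0000be73000064550000ea2800001000) (Net.cons (nat_lit 32) (nat_lit 0x2f9c04d2000000001995ea290000000018748a26000000000042b8f8) (Net.cons (nat_lit 64) (nat_lit 0x171444cc388028fc00000000000000000000000000e5895e) (Net.cons (nat_lit 128) (nat_lit 0x9b341d3d684f48290401f0d0148e1fa4) (Net.cons (nat_lit 256) (nat_lit 0xefffff) (Net.cons (nat_lit 128) (nat_lit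 0x357af1) (Net.cons (nat_lit 64) (nat_lit 0xca4e7bc302689a2100000000000000000051d0b838dc8f56) (Net.cons (nat_lit 32) (nat_lit 0xb4c36a8400000000ec92197d00000000c1b425f100000000cfd0d1d0) (Net.cons (nat_lit 16) (nat_lit 0x1100005bd30000384d000028080000a2690000e9d20000803b0000e32c00005c1c) (Net.cons (nat_lit 8) (nat_lit 0x8600d8009f0049006a002300e100ac0082005c00ee00bc00c2008b00e3004c00dd) (Net.cons (nat_lit 4) (nat_lit 0xd0e0c080b02000d0a080302070b030d07040c03010d07040001070f080503070d0b04) (Net.cons (nat_lit 2) (nat_lit 0x22200031102330310102203201203203020023132130100320120222321211020113) (Net.cons (nat_lit 1) (nat_lit 0x151154144055444500500100010040505454000454000400541014551104145004511) Net.nil)))))))))))))))))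

theorem p_g188_ok : Net.ok 280 p_g188 = true := by decide +kernel

noncomputable def pt_c19_K : List Net := [p_g187, p_g188]

theorem pt_c19_K_ok : okE 280 pt_c19_K = true := (okE_cons.2 ⟨p_g187_ok, (okE_cons.2 ⟨p_g188_ok, (okE_nil 280)⟩)⟩)

noncomputable def pt_c19_cnt_EG : List Net := [p_g20, p_g14, p_g15, p_g16, p_g17, p_g28, p_g23, p_g24, p_g25, p_g37, p_g38, p_g34, p_g31, p_g32, p_g33, p_g41, p_g42, p_g11, p_g1, p_g2, p_g3, p_g4, p_g5, p_g6, p_g7, p_g8, p_g9, p_g10, p_g68, p_g67, p_g128]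

theorem pt_c19_cnt_EG_ok : okE 280 pt_c19_cnt_EG = true := (okE_cons.2 ⟨p_g20_ok, (okE_cons.2 ⟨p_g14_ok, (okE_cons.2 ⟨p_g15_ok, (okE_cons.2 ⟨p_g16_ok, (okE_cons.2 ⟨p_g17_ok, (okE_cons.2 ⟨p_g28_ok, (okE_cons.2 ⟨p_g23_ok, (okE_cons.2 ⟨p_g24_ok, (okE_cons.2 ⟨p_g25_ok, (okE_cons.2 ⟨p_g37_ok, (okE_cons.2 ⟨p_g38_ok, (okE_cons.2 ⟨p_g34_ok, (okE_cons.2 ⟨p_g31_ok, (okE_cons.2 ⟨p_g32_ok, (okE_cons.2 ⟨p_g33_ok, (okE_cons.2 ⟨p_g41_ok, (okE_cons.2 ⟨p_g42_ok, (okE_cons.2 ⟨p_g11_ok, (okE_cons.2 ⟨p_g1_ok, (okE_cons.2 ⟨p_g2_ok, (okE_cons.2 ⟨p_g3_ok, (okE_cons.2 ⟨p_g4_ok, (okE_cons.2 ⟨p_g5_ok, (okE_cons.2 ⟨p_g6_ok, (okE_cons.2 ⟨p_g7_ok, (okE_cons.2 ⟨p_g8_ok, (okE_cons.2 ⟨p_g9_ok, (okE_cons.2 ⟨p_g10_ok, (okE_cons.2 ⟨p_g68_ok, (okE_cons.2 ⟨p_g67_ok, (okE_cons.2 ⟨p_g128_ok, (okE_nil 280)⟩)⟩)⟩)⟩)⟩)⟩)⟩)⟩)⟩)⟩)⟩)⟩)⟩)⟩)⟩)⟩)⟩)⟩)⟩)⟩)⟩)⟩)⟩)⟩)⟩)⟩)⟩)⟩)⟩)⟩)⟩)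

noncomputable def pt_nc4_3_cnt_EG : List Net := [p_g11, p_g1, p_g2, p_g3, p_g4, p_g5, p_g6, p_g7, p_g8, p_g9, p_g10, p_g20, p_g14, p_g15, p_g16, p_g17, p_g28, p_g23, p_g24, p_g25, p_g37, p_g38, p_g34, p_g31, p_g32, p_g33, p_g41, p_g42]

theorem pt_nc4_3_cnt_EG_ok : okE 280 pt_nc4_3_cnt_EG = true := (okE_cons.2 ⟨p_g11_ok, (okE_cons.2 ⟨p_g1_ok, (okE_cons.2 ⟨p_g2_ok, (okE_cons.2 ⟨p_g3_ok, (okE_cons.2 ⟨p_g4_ok, (okE_cons.2 ⟨p_g5_ok, (okE_cons.2 ⟨p_g6_ok, (okE_cons.2 ⟨p_g7_ok, (okE_cons.2 ⟨p_g8_ok, (okE_cons.2 ⟨p_g9_ok, (okE_cons.2 ⟨p_g10_ok, (okE_cons.2 ⟨p_g20_ok, (okE_cons.2 ⟨p_g14_ok, (okE_cons.2 ⟨p_g15_ok, (okE_cons.2 ⟨p_g16_ok, (okE_cons.2 ⟨p_g17_ok, (okE_cons.2 ⟨p_g28_ok, (okE_cons.2 ⟨p_g23_ok, (okE_cons.2 ⟨p_g24_ok, (okE_cons.2 ⟨p_g25_ok, (okE_cons.2 ⟨p_g37_ok, (okE_cons.2 ⟨p_g38_ok, (okE_cons.2 ⟨p_g34_ok, (okE_cons.2 ⟨p_g31_ok, (okE_cons.2 ⟨p_g32_ok, (okE_cons.2 ⟨p_g33_ok, (okE_cons.2 ⟨p_g41_ok, (okE_cons.2 ⟨p_g42_ok,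 (okE_nil 280)⟩)⟩)⟩)⟩)⟩)⟩)⟩)⟩)⟩)⟩)⟩)⟩)⟩)⟩)⟩)⟩)⟩)⟩)⟩)⟩)⟩)⟩)⟩)⟩)⟩)⟩)⟩)⟩)

noncomputable def pt_nc11_10_cnt_EG : List Net := [p_g11, p_g1, p_g2, p_g3, p_g4, p_g5, p_g6, p_g7, p_g8, p_g9, p_g10, p_g20, p_g14, p_g15, p_g16, p_g17, p_g28, p_g23, p_g24, p_g25, p_g37, p_g38, p_g34, p_g31, p_g32, p_g33, p_g41, p_g42, p_g145, p_g146, p_g147]

theorem pt_nc11_10_cnt_EG_ok : okE 280 pt_nc11_10_cnt_EG = true := (okE_cons.2 ⟨p_g11_ok, (okE_cons.2 ⟨p_g1_ok, (okE_cons.2 ⟨p_g2_ok, (okE_cons.2 ⟨p_g3_ok, (okE_cons.2 ⟨p_g4_ok, (okE_cons.2 ⟨p_g5_ok, (okE_cons.2 ⟨p_g6_ok, (okE_cons.2 ⟨p_g7_ok, (okE_cons.2 ⟨p_g8_ok, (okE_cons.2 ⟨p_g9_ok, (okE_cons.2 ⟨p_g10_ok, (okE_cons.2 ⟨p_g20_ok, (okE_cons.2 ⟨p_g14_ok, (okE_cons.2 ⟨p_g15_ok, (okE_cons.2 ⟨p_g16_ok, (okE_cons.2 ⟨p_g17_ok, (okE_cons.2 ⟨p_g28_ok, (okE_cons.2 ⟨p_g23_ok, (okE_cons.2 ⟨p_g24_ok, (okE_cons.2 ⟨p_g25_ok, (okE_cons.2 ⟨p_g37_ok, (okE_cons.2 ⟨p_g38_ok, (okE_cons.2 ⟨p_g34_ok, (okE_cons.2 ⟨p_g31_ok,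 (okE_cons.2 ⟨p_g32_ok, (okE_cons.2 ⟨p_g33_ok, (okE_cons.2 ⟨p_g41_ok, (okE_cons.2 ⟨p_g42_ok, (okE_cons.2 ⟨p_g145_ok, (okE_cons.2 ⟨p_g146_ok, (okE_cons.2 ⟨p_g147_ok, (okE_nil 280)⟩)⟩)⟩)⟩)⟩)⟩)⟩)⟩)⟩)⟩)⟩)⟩)⟩)⟩)⟩)⟩)⟩)⟩)⟩)⟩)⟩)⟩)⟩)⟩)⟩)⟩)⟩)⟩)⟩)⟩)⟩)

noncomputable def pt_nc13_12_cnt_EG : List Net := [p_g11, p_g1, p_g2, p_g3, p_g4, p_g5, p_g6, p_g7, p_g8, p_g9, p_g10, p_g20, p_g14, p_g15, p_g16, p_g17, p_g28, p_g23, p_g24, p_g25, p_g37, p_g38, p_g34, p_g31, p_g32, p_g33, p_g41, p_g42]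

theorem pt_nc13_12_cnt_EG_ok : okE 280 pt_nc13_12_cnt_EG = true := (okE_cons.2 ⟨p_g11_ok, (okE_cons.2 ⟨p_g1_ok, (okE_cons.2 ⟨p_g2_ok, (okE_cons.2 ⟨p_g3_ok, (okE_cons.2 ⟨p_g4_ok, (okE_cons.2 ⟨p_g5_ok, (okE_cons.2 ⟨p_g6_ok, (okE_cons.2 ⟨p_g7_ok, (okE_cons.2 ⟨p_g8_ok, (okE_cons.2 ⟨p_g9_ok, (okE_cons.2 ⟨p_g10_ok, (okE_cons.2 ⟨p_g20_ok, (okE_cons.2 ⟨p_g14_ok, (okE_cons.2 ⟨p_g15_ok, (okE_cons.2 ⟨p_g16_ok, (okE_cons.2 ⟨p_g17_ok, (okE_cons.2 ⟨p_g28_ok, (okE_cons.2 ⟨p_g23_ok, (okE_cons.2 ⟨p_g24_ok, (okE_cons.2 ⟨p_g25_ok, (okE_cons.2 ⟨p_g37_ok, (okE_cons.2 ⟨p_g38_ok, (okE_cons.2 ⟨p_g34_ok, (okE_cons.2 ⟨p_g31_ok, (okE_cons.2 ⟨p_g32_ok, (okE_cons.2 ⟨p_g33_ok, (okE_cons.2 ⟨p_g41_ok, (okE_cons.2 ⟨p_g42_ok, (okE_nil 280)⟩)⟩)⟩)⟩)⟩)⟩)⟩)⟩)⟩)⟩)⟩)⟩)⟩)⟩)⟩)⟩)⟩)⟩)⟩)⟩)⟩)⟩)⟩)⟩)⟩)⟩)⟩)⟩)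

noncomputable def pt_nc16_15_cnt_EG : List Net := [p_g11, p_g1, p_g2, p_g3, p_g4, p_g5, p_g6, p_g7, p_g8, p_g9, p_g10, p_g20, p_g14, p_g15, p_g16, p_g17, p_g28, p_g23, p_g24, p_g25, p_g37, p_g38, p_g34, p_g31, p_g32, p_g33, p_g41, p_g42]

theorem pt_nc16_15_cnt_EG_ok : okE 280 pt_nc16_15_cnt_EG = true := (okE_cons.2 ⟨p_g11_ok, (okE_cons.2 ⟨p_g1_ok, (okE_cons.2 ⟨p_g2_ok, (okE_cons.2 ⟨p_g3_ok, (okE_cons.2 ⟨p_g4_ok, (okE_cons.2 ⟨p_g5_ok, (okE_cons.2 ⟨p_g6_ok, (okE_cons.2 ⟨p_g7_ok, (okE_cons.2 ⟨p_g8_ok, (okE_cons.2 ⟨p_g9_ok, (okE_cons.2 ⟨p_g10_ok, (okE_cons.2 ⟨p_g20_ok, (okE_cons.2 ⟨p_g14_ok, (okE_cons.2 ⟨p_g15_ok, (okE_cons.2 ⟨p_g16_ok, (okE_cons.2 ⟨p_g17_ok, (okE_cons.2 ⟨p_g28_ok, (okE_cons.2 ⟨p_g23_ok, (okE_cons.2 ⟨p_g24_ok, (okE_cons.2 ⟨p_g25_ok, (okE_cons.2 ⟨p_g37_ok, (okE_cons.2 ⟨p_g38_ok, (okE_cons.2 ⟨p_g34_ok, (okE_cons.2 ⟨p_g31_ok, (okE_cons.2 ⟨p_g32_ok, (okE_cons.2 ⟨p_g33_ok, (okE_cons.2 ⟨p_g41_ok, (okE_cons.2 ⟨p_g42_ok,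 (okE_nil 280)⟩)⟩)⟩)⟩)⟩)⟩)⟩)⟩)⟩)⟩)⟩)⟩)⟩)⟩)⟩)⟩)⟩)⟩)⟩)⟩)⟩)⟩)⟩)⟩)⟩)⟩)⟩)⟩)

noncomputable def pt_nc17_15_cnt_EG : List Net := [p_g11, p_g1, p_g2, p_g3, p_g4, p_g5, p_g6, p_g7, p_g8, p_g9, p_g10, p_g20, p_g14, p_g15, p_g16, p_g17, p_g28, p_g23, p_g24, p_g25, p_g37, p_g38, p_g34, p_g31, p_g32, p_g33, p_g41, p_g42]

theorem pt_nc17_15_cnt_EG_ok : okE 280 pt_nc17_15_cnt_EG = true := (okE_cons.2 ⟨p_g11_ok, (okE_cons.2 ⟨p_g1_ok, (okE_cons.2 ⟨p_g2_ok, (okE_cons.2 ⟨p_g3_ok, (okE_cons.2 ⟨p_g4_ok, (okE_cons.2 ⟨p_g5_ok, (okE_cons.2 ⟨p_g6_ok, (okE_cons.2 ⟨p_g7_ok, (okE_cons.2 ⟨p_g8_ok, (okE_cons.2 ⟨p_g9_ok, (okE_cons.2 ⟨p_g10_ok, (okE_cons.2 ⟨p_g20_ok, (okE_cons.2 ⟨p_g14_ok, (okE_cons.2 ⟨p_g15_ok, (okE_cons.2 ⟨p_g16_ok, (okE_cons.2 ⟨p_g17_ok, (okE_cons.2 ⟨p_g28_ok, (okE_cons.2 ⟨p_g23_ok, (okE_cons.2 ⟨p_g24_ok, (okE_cons.2 ⟨p_g25_ok, (okE_cons.2 ⟨p_g37_ok, (okE_cons.2 ⟨p_g38_ok, (okE_cons.2 ⟨p_g34_ok, (okE_cons.2 ⟨p_g31_ok, (okE_cons.2 ⟨p_g32_ok,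 (okE_cons.2 ⟨p_g33_ok, (okE_cons.2 ⟨p_g41_ok, (okE_cons.2 ⟨p_g42_ok, (okE_nil 280)⟩)⟩)⟩)⟩)⟩)⟩)⟩)⟩)⟩)⟩)⟩)⟩)⟩)⟩)⟩)⟩)⟩)⟩)⟩)⟩)⟩)⟩)⟩)⟩)⟩)⟩)⟩)⟩)

noncomputable def pt_nc17_16_cnt_EG : List Net := [p_g11, p_g1, p_g2, p_g3, p_g4, p_g5, p_g6, p_g7, p_g8, p_g9, p_g10, p_g20, p_g14, p_g15, p_g16, p_g17, p_g28, p_g23, p_g24, p_g25, p_g37, p_g38, p_g34, p_g31, p_g32, p_g33, p_g41, p_g42]

theorem pt_nc17_16_cnt_EG_ok : okE 280 pt_nc17_16_cnt_EG = true := (okE_cons.2 ⟨p_g11_ok, (okE_cons.2 ⟨p_g1_ok, (okE_cons.2 ⟨p_g2_ok, (okE_cons.2 ⟨p_g3_ok, (okE_cons.2 ⟨p_g4_ok, (okE_cons.2 ⟨p_g5_ok, (okE_cons.2 ⟨p_g6_ok, (okE_cons.2 ⟨p_g7_ok, (okE_cons.2 ⟨p_g8_ok, (okE_cons.2 ⟨p_g9_ok, (okE_cons.2 ⟨p_g10_ok, (okE_cons.2 ⟨p_g20_ok, (okE_cons.2 ⟨p_g14_ok, (okE_cons.2 ⟨p_g15_ok, (okE_cons.2 ⟨p_g16_ok, (okE_cons.2 ⟨p_g17_ok, (okE_cons.2 ⟨p_g28_ok, (okE_cons.2 ⟨p_g23_ok, (okE_cons.2 ⟨p_g24_ok, (okE_cons.2 ⟨p_g25_ok, (okE_cons.2 ⟨p_g37_ok, (okE_cons.2 ⟨p_g38_ok,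 (okE_cons.2 ⟨p_g34_ok, (okE_cons.2 ⟨p_g31_ok, (okE_cons.2 ⟨p_g32_ok, (okE_cons.2 ⟨p_g33_ok, (okE_cons.2 ⟨p_g41_ok, (okE_cons.2 ⟨p_g42_ok, (okE_nil 280)⟩)⟩)⟩)⟩)⟩)⟩)⟩)⟩)⟩)⟩)⟩)⟩)⟩)⟩)⟩)⟩)⟩)⟩)⟩)⟩)⟩)⟩)⟩)⟩)⟩)⟩)⟩)⟩)

noncomputable def pt_nc18_15_cnt_EG : List Net := [p_g11, p_g1, p_g2, p_g3, p_g4, p_g5, p_g6, p_g7, p_g8, p_g9, p_g10, p_g20, p_g14, p_g15, p_g16, p_g17, p_g28, p_g23, p_g24, p_g25, p_g37, p_g38, p_g34, p_g31, p_g32, p_g33, p_g41, p_g42]

theorem pt_nc18_15_cnt_EG_ok : okE 280 pt_nc18_15_cnt_EG = true := (okE_cons.2 ⟨p_g11_ok, (okE_cons.2 ⟨p_g1_ok, (okE_cons.2 ⟨p_g2_ok, (okE_cons.2 ⟨p_g3_ok, (okE_cons.2 ⟨p_g4_ok, (okE_cons.2 ⟨p_g5_ok, (okE_cons.2 ⟨p_g6_ok, (okE_cons.2 ⟨p_g7_ok, (okE_cons.2 ⟨p_g8_ok, (okE_cons.2 ⟨p_g9_ok, (okE_cons.2 ⟨p_g10_ok, (okE_cons.2 ⟨p_g20_ok, (okE_cons.2 ⟨p_g14_ok, (okE_cons.2 ⟨p_g15_ok, (okE_cons.2 ⟨p_g16_ok, (okE_cons.2 ⟨p_g17_ok, (okE_cons.2 ⟨p_g28_ok, (okE_cons.2 ⟨p_g23_ok, (okE_cons.2 ⟨p_g24_ok,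 (okE_cons.2 ⟨p_g25_ok, (okE_cons.2 ⟨p_g37_ok, (okE_cons.2 ⟨p_g38_ok, (okE_cons.2 ⟨p_g34_ok, (okE_cons.2 ⟨p_g31_ok, (okE_cons.2 ⟨p_g32_ok, (okE_cons.2 ⟨p_g33_ok, (okE_cons.2 ⟨p_g41_ok, (okE_cons.2 ⟨p_g42_ok, (okE_nil 280)⟩)⟩)⟩)⟩)⟩)⟩)⟩)⟩)⟩)⟩)⟩)⟩)⟩)⟩)⟩)⟩)⟩)⟩)⟩)⟩)⟩)⟩)⟩)⟩)⟩)⟩)⟩)⟩)

noncomputable def pt_nc18_16_cnt_EG : List Net := [p_g11, p_g1, p_g2, p_g3, p_g4, p_g5, p_g6, p_g7, p_g8, p_g9, p_g10, p_g20, p_g14, p_g15, p_g16, p_g17, p_g28, p_g23, p_g24, p_g25, p_g37, p_g38, p_g34, p_g31, p_g32, p_g33, p_g41, p_g42]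

theorem pt_nc18_16_cnt_EG_ok : okE 280 pt_nc18_16_cnt_EG = true := (okE_cons.2 ⟨p_g11_ok, (okE_cons.2 ⟨p_g1_ok, (okE_cons.2 ⟨p_g2_ok, (okE_cons.2 ⟨p_g3_ok, (okE_cons.2 ⟨p_g4_ok, (okE_cons.2 ⟨p_g5_ok, (okE_cons.2 ⟨p_g6_ok, (okE_cons.2 ⟨p_g7_ok, (okE_cons.2 ⟨p_g8_ok, (okE_cons.2 ⟨p_g9_ok, (okE_cons.2 ⟨p_g10_ok, (okE_cons.2 ⟨p_g20_ok, (okE_cons.2 ⟨p_g14_ok, (okE_cons.2 ⟨p_g15_ok, (okE_cons.2 ⟨p_g16_ok, (okE_cons.2 ⟨p_g17_ok, (okE_cons.2 ⟨p_g28_ok, (okE_cons.2 ⟨p_g23_ok, (okE_cons.2 ⟨p_g24_ok, (okE_cons.2 ⟨p_g25_ok, (okE_cons.2 ⟨p_g37_ok, (okE_cons.2 ⟨p_g38_ok, (okE_cons.2 ⟨p_g34_ok, (okE_cons.2 ⟨p_g31_ok, (okE_cons.2 ⟨p_g32_ok, (okE_cons.2 ⟨p_g33_ok, (okE_cons.2 ⟨p_g41_ok, (okE_cons.2 ⟨p_g42_ok, (okE_nil 280)⟩)⟩)⟩)⟩)⟩)⟩)⟩)⟩)⟩)⟩)⟩)⟩)⟩)⟩)⟩)⟩)⟩)⟩)⟩)⟩)⟩)⟩)⟩)⟩)⟩)⟩)⟩)⟩)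

noncomputable def pt_nc18_17_cnt_EG : List Net := [p_g11, p_g1, p_g2, p_g3, p_g4, p_g5, p_g6, p_g7, p_g8, p_g9, p_g10, p_g20, p_g14, p_g15, p_g16, p_g17, p_g28, p_g23, p_g24, p_g25, p_g37, p_g38, p_g34, p_g31, p_g32, p_g33, p_g41, p_g42]

theorem pt_nc18_17_cnt_EG_ok : okE 280 pt_nc18_17_cnt_EG = true := (okE_cons.2 ⟨p_g11_ok, (okE_cons.2 ⟨p_g1_ok, (okE_cons.2 ⟨p_g2_ok, (okE_cons.2 ⟨p_g3_ok, (okE_cons.2 ⟨p_g4_ok, (okE_cons.2 ⟨p_g5_ok, (okE_cons.2 ⟨p_g6_ok, (okE_cons.2 ⟨p_g7_ok, (okE_cons.2 ⟨p_g8_ok, (okE_cons.2 ⟨p_g9_ok, (okE_cons.2 ⟨p_g10_ok, (okE_cons.2 ⟨p_g20_ok, (okE_cons.2 ⟨p_g14_ok, (okE_cons.2 ⟨p_g15_ok, (okE_cons.2 ⟨p_g16_ok, (okE_cons.2 ⟨p_g17_ok, (okE_cons.2 ⟨p_g28_ok, (okE_cons.2 ⟨p_g23_ok, (okE_cons.2 ⟨p_g24_ok, (okE_cons.2 ⟨p_g25_ok, (okE_cons.2 ⟨p_g37_ok, (okE_cons.2 ⟨p_g38_ok, (okE_cons.2 ⟨p_g34_ok, (okE_cons.2 ⟨p_g31_ok, (okE_cons.2 ⟨p_g32_ok, (okE_cons.2 ⟨p_g33_ok, (okE_cons.2 ⟨p_g41_ok, (okE_cons.2 ⟨p_g42_ok,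 (okE_nil 280)⟩)⟩)⟩)⟩)⟩)⟩)⟩)⟩)⟩)⟩)⟩)⟩)⟩)⟩)⟩)⟩)⟩)⟩)⟩)⟩)⟩)⟩)⟩)⟩)⟩)⟩)⟩)⟩)

theorem p_le13 : grp 280 p_V12 ≤ grp 280 p_O :=
  grp_le_of_memB p_hn p_hk p_O_ok p_V12_ok (ws := [nat_lit 331284]) (by decide +kernel)

theorem p_le19 : grp 280 p_V18 ≤ grp 280 p_O :=
  grp_le_of_memB p_hn p_hk p_O_ok p_V18_ok (ws := [nat_lit 0x70f020a010710040c09120c, nat_lit 0xb13100a070b05040e1002040e0b, nat_lit 0x313060e0e07140212010c1410, nat_lit 0x606070d0907030c0d13080b1004]) (by decide +kernel)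

theorem p_le22 : grp 280 p_V21 ≤ grp 280 p_V18 :=
  grp_le_of_memB p_hn p_hk p_V18_ok p_V21_ok (ws := [nat_lit 132609]) (by decide +kernel)

theorem p_le27 : grp 280 p_V26 ≤ grp 280 p_V18 :=
  grp_le_of_memB p_hn p_hk p_V18_ok p_V26_ok (ws := [nat_lit 0x501040203060607060607, nat_lit 0x30703050705080808010607, nat_lit 0x3050206030307070402]) (by decide +kernel)

theorem p_le30 : grp 280 p_V29 ≤ grp 280 p_V26 :=
  grp_le_of_memB p_hn p_hk p_V26_ok p_V29_ok (ws := [nat_lit 2]) (by decide +kernel)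

theorem p_le36 : grp 280 p_V35 ≤ grp 280 p_V26 :=
  grp_le_of_memB p_hn p_hk p_V26_ok p_V35_ok (ws := [nat_lit 0x5050501030303060302, nat_lit 0x20305030302050306, nat_lit 0x30305040202, nat_lit 0x402020405]) (by decide +kernel)

theorem p_le40 : grp 280 p_V39 ≤ grp 280 p_V35 :=
  grp_le_of_memB p_hn p_hk p_V35_ok p_V39_ok (ws := [nat_lit 132103, nat_lit 131847, nat_lit 7]) (by decide +kernel)

theorem p_le44 : grp 280 p_V43 ≤ grp 280 p_V35 :=
  grp_le_of_memB p_hn p_hk p_V35_ok p_V43_ok (ws := [nat_lit 0x8040803080504, nat_lit 0x2020805050404010701]) (by decide +kernel)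

theorem p_le46 : grp 280 p_V45 ≤ grp 280 p_V43 :=
  grp_le_of_memB p_hn p_hk p_V43_ok p_V45_ok (ws := [nat_lit 1]) (by decide +kernel)

theorem p_card5 : Nat.card (grp 280 p_E5) = 1 :=
  card_grp_nil 280

theorem p_leO5 : grp 280 p_E5 ≤ grp 280 p_O :=
  grp_nil_le _

theorem p_4_fix : grp 280 p_E5 ≤ MulAction.stabilizer (Equiv.Perm (Fin 280)) (⟨4, by decide⟩ : Fin 280) :=
  grp_le_stab p_E5_ok (by decide : 4 < 280) (by decide +kernel)

noncomputable def p_4_ts : List ℕ := [nat_lit 0, nat_lit 1, nat_lit 2]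

noncomputable def p_4_ds : List ℕ := [nat_lit 4, nat_lit 52, nat_lit 101]

theorem p_4_dist : Dist 280 p_E5 p_G4 (⟨4, by decide⟩ : Fin 280) p_4_ts p_4_ds :=
  dist_of_distB (k := 2) p_hn p_E5_ok p_G4_ok (by decide : 4 < 280) (by decide +kernel)

noncomputable def p_4_sl0 : SL := (SL.cons (nat_lit 1) (nat_lit 52) Ch.nil [] (SL.cons (nat_lit 2) (nat_lit 101) Ch.nil [] SL.nil))

theorem p_4_sc0 : SCs 280 p_E5 p_G4 (⟨4, by decide⟩ : Fin 280) (SL.words p_4_sl0) :=
  scs_of_ok p_hn (det_lab p_hk ⊤) p_E5_ok p_G4_ok le_top le_top (by decide : 4 < 280) p_4_fix p_card5.le (by decide +kernel)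

noncomputable def p_4_l : List ℕ := (appL (SL.words p_4_sl0) [])

theorem p_4_scs : SCs 280 p_E5 p_G4 (⟨4, by decide⟩ : Fin 280) p_4_l :=
  (SCs.append p_4_sc0 SCs.nil)

noncomputable def p_4_rl0_0 : RL := (RL.cons (nat_lit 0) (nat_lit 4) (nat_lit 0) (nat_lit 0) (nat_lit 2) (nat_lit 0) (RL.cons (nat_lit 1) (nat_lit 52) (nat_lit 0) (nat_lit 0) (nat_lit 0) (nat_lit 0) (RL.cons (nat_lit 2) (nat_lit 101) (nat_lit 0) (nat_lit 0) (nat_lit 1) (nat_lit 0) RL.nil)))

theorem p_4_good0_0 : GoodSet 280 p_E5 p_G4 (⟨4, by decide⟩ : Fin 280) p_4_ts (nat_lit 1) (RL.pts p_4_rl0_0) :=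
  goodSet_of_ok p_hn (det_lab p_hk ⊤) p_E5_ok p_G4_ok le_top le_top (by decide : 4 < 280) (sepAt_lab p_hk _) (by decide +kernel)

theorem p_4_step0 : Step 280 p_E5 p_G4 p_4_ts (2 * 0 + 1) :=
  step_of_cover p_E5_ok p_4_dist (by decide +kernel) p_4_scs (by decide +kernel) p_4_good0_0 (kw := [])
    (conj_mem_of_scs p_E5_ok p_G4_ok (by decide : 4 < 280) p_4_scs (c := 0) (d := 52) (by decide +kernel)) (by decide +kernel)

theorem p_4_lev : grp 280 p_G4 ⊓ MulAction.stabilizer (Equiv.Perm (Fin 280)) (⟨4, by decide⟩ : Fin 280) = grp 280 p_E5 :=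
  sims_level (gs := p_V45) rfl (by decide) p_4_fix p_4_dist (forall_lt_one p_4_step0)

theorem p_4_cardG : Nat.card (grp 280 p_G4) = 3 :=
  card_of_level p_hn p_G4_ok (by decide : 4 < 280) p_4_lev p_card5 (m := 3) (by decide +kernel)

theorem p_le47 : grp 280 p_E4 ≤ grp 280 p_G4 :=
  grp_le_of_memB p_hn p_hk p_G4_ok p_E4_ok (ws := [nat_lit 1, nat_lit 2]) (by decide +kernel)

theorem p_le48 : grp 280 p_G4 ≤ grp 280 p_E4 :=
  grp_le_of_memB p_hn p_hk p_E4_ok p_G4_ok (ws := [nat_lit 1]) (by decide +kernel)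

theorem p_4_eq : grp 280 p_E4 = grp 280 p_G4 :=
  le_antisymm p_le47 p_le48

theorem p_card4 : Nat.card (grp 280 p_E4) = 3 :=
  by rw [p_4_eq]; exact p_4_cardG

theorem p_stab4 : grp 280 p_E4 ⊓ MulAction.stabilizer (Equiv.Perm (Fin 280)) (⟨4, by decide⟩ : Fin 280) = grp 280 p_E5 :=
  by rw [p_4_eq]; exact p_4_lev

theorem p_leO4 : grp 280 p_E4 ≤ grp 280 p_O :=
  p_4_eq.le.trans (grp_cons_le ((p_le44.trans (p_le36.trans (p_le27.trans (p_le19.trans (le_refl (grp 280 p_O)))))) (p_le46 (toPerm_mem_grp (E := p_V45) (by simp [p_V45])))) p_leO5)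

theorem p_3_fix : grp 280 p_E4 ≤ MulAction.stabilizer (Equiv.Perm (Fin 280)) (⟨1, by decide⟩ : Fin 280) :=
  grp_le_stab p_E4_ok (by decide : 1 < 280) (by decide +kernel)

noncomputable def p_3_ts : List ℕ := [nat_lit 0, nat_lit 1, nat_lit 2, nat_lit 3, nat_lit 4, nat_lit 5, nat_lit 6, nat_lit 259, nat_lit 260, nat_lit 261, nat_lit 262, nat_lit 515, nat_lit 516, nat_lit 517, nat_lit 518, nat_lit 773, nat_lit 774, nat_lit 1029, nat_lit 1030, nat_lit 66309, nat_lit 66310, nat_lit 66565, nat_lit 66566, nat_lit 131845, nat_lit 131846, nat_lit 132101, nat_lit 132102]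

noncomputable def p_3_ds : List ℕ := [nat_lit 1, nat_lit 271, nat_lit 272, nat_lit 279, nat_lit 253, nat_lit 251, nat_lit 267, nat_lit 277, nat_lit 258, nat_lit 268, nat_lit 269, nat_lit 276, nat_lit 260, nat_lit 261, nat_lit 259, nat_lit 256, nat_lit 266, nat_lit 275, nat_lit 265, nat_lit 3, nat_lit 274, nat_lit 250, nat_lit 254, nat_lit 249, nat_lit 262, nat_lit 252, nat_lit 2]

theorem p_3_dist : Dist 280 p_E4 p_G3 (⟨1, by decide⟩ : Fin 280) p_3_ts p_3_ds :=
  dist_of_distB (k := 5) p_hn p_E4_ok p_G3_ok (by decide : 1 < 280) (by decide +kernel)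

noncomputable def p_3_sl0 : SL := (SL.cons (nat_lit 1) (nat_lit 271) (Ch.cons (nat_lit 4) [nat_lit 1] Ch.nil) [nat_lit 1] (SL.cons (nat_lit 2) (nat_lit 272) (Ch.cons (nat_lit 4) [nat_lit 1] Ch.nil) [nat_lit 1] (SL.cons (nat_lit 3) (nat_lit 279) (Ch.cons (nat_lit 4) [nat_lit 2] Ch.nil) [nat_lit 2] (SL.cons (nat_lit 4) (nat_lit 253) (Ch.cons (nat_lit 4) [nat_lit 1] Ch.nil) [nat_lit 1] (SL.cons (nat_lit 5) (nat_lit 251) (Ch.cons (nat_lit 4) [nat_lit 1] Ch.nil) [nat_lit 1] (SL.cons (nat_lit 6) (nat_lit 267) (Ch.cons (nat_lit 4) [nat_lit 1] Ch.nil) [nat_lit 1] (SL.cons (nat_lit 259) (nat_lit 277) (Ch.cons (nat_lit 4) [nat_lit 1] Ch.nil) [nat_lit 1] (SL.cons (nat_lit 260) (nat_lit 258) (Ch.cons (nat_lit 4) [nat_lit 1] Ch.nil) [nat_lit 1] (SL.cons (nat_lit 261) (nat_lit 268) (Ch.cons (nat_lit 4) [nat_lit 2] Ch.nil) [nat_lit 2] (SL.cons (nat_lit 262) (nat_lit 269) (Ch.cons (nat_lit 4) [nat_lit 1] Ch.nil) [nat_lit 1] (SL.cons (nat_lit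 515) (nat_lit 276) (Ch.cons (nat_lit 4) [nat_lit 1] Ch.nil) [nat_lit 1] (SL.cons (nat_lit 516) (nat_lit 260) (Ch.cons (nat_lit 4) [nat_lit 1] Ch.nil) [nat_lit 1] (SL.cons (nat_lit 517) (nat_lit 261) (Ch.cons (nat_lit 4) [nat_lit 2] Ch.nil) [nat_lit 2] (SL.cons (nat_lit 518) (nat_lit 259) (Ch.cons (nat_lit 4) [nat_lit 1] Ch.nil) [nat_lit 1] (SL.cons (nat_lit 773) (nat_lit 256) (Ch.cons (nat_lit 4) [nat_lit 2] Ch.nil) [nat_lit 2] (SL.cons (nat_lit 774) (nat_lit 266) (Ch.cons (nat_lit 4) [nat_lit 2] Ch.nil) [nat_lit 2] (SL.cons (nat_lit 1029) (nat_lit 275) (Ch.cons (nat_lit 4) [nat_lit 2] Ch.nil) [nat_lit 2] (SL.cons (nat_lit 1030) (nat_lit 265) (Ch.cons (nat_lit 4) [nat_lit 2] Ch.nil) [nat_lit 2] (SL.cons (nat_lit 66309) (nat_lit 3) (Ch.cons (nat_lit 4) [nat_lit 2] Ch.nil) [nat_lit 2] (SL.cons (nat_lit 66310) (nat_lit 274) (Ch.cons (nat_lit 4) [nat_lit 2] Ch.nil) [nat_lit 2] (SL.cons (nat_lit 66565) (nat_lit 250) (Ch.cons (nat_lit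 4) [nat_lit 2] Ch.nil) [nat_lit 2] (SL.cons (nat_lit 66566) (nat_lit 254) (Ch.cons (nat_lit 4) [nat_lit 1] Ch.nil) [nat_lit 1] (SL.cons (nat_lit 131845) (nat_lit 249) (Ch.cons (nat_lit 4) [nat_lit 2] Ch.nil) [nat_lit 2] (SL.cons (nat_lit 131846) (nat_lit 262) (Ch.cons (nat_lit 4) [nat_lit 2] Ch.nil) [nat_lit 2] (SL.cons (nat_lit 132101) (nat_lit 252) (Ch.cons (nat_lit 4) [nat_lit 1] Ch.nil) [nat_lit 1] (SL.cons (nat_lit 132102) (nat_lit 2) (Ch.cons (nat_lit 4) [nat_lit 2] Ch.nil) [nat_lit 2] SL.nil))))))))))))))))))))))))))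

theorem p_3_sc0 : SCs 280 p_E4 p_G3 (⟨1, by decide⟩ : Fin 280) (SL.words p_3_sl0) :=
  scs_of_ok p_hn (det_lab p_hk ⊤) p_E4_ok p_G3_ok le_top le_top (by decide : 1 < 280) p_3_fix p_card4.le (by decide +kernel)

noncomputable def p_3_l : List ℕ := (appL (SL.words p_3_sl0) [])

theorem p_3_scs : SCs 280 p_E4 p_G3 (⟨1, by decide⟩ : Fin 280) p_3_l :=
  (SCs.append p_3_sc0 SCs.nil)

noncomputable def p_3_rl0_0 : RL := (RL.cons (nat_lit 0) (nat_lit 1) (nat_lit 0) (nat_lit 0) (nat_lit 2) (nat_lit 0) (RL.cons (nat_lit 1) (nat_lit 271) (nat_lit 0) (nat_lit 0) (nat_lit 0) (nat_lit 0) (RL.cons (nat_lit 2) (nat_lit 272) (nat_lit 0) (nat_lit 0) (nat_lit 1) (nat_lit 0) (RL.cons (nat_lit 3) (nat_lit 279) (nat_lit 0) (nat_lit 0) (nat_lit 11) (nat_lit 0) (RL.cons (nat_lit 4) (nat_lit 253) (nat_lit 0) (nat_lit 0) (nat_lit 12) (nat_lit 0) (RL.cons (nat_lit 5) (nat_lit 251) (nat_lit 0) (nat_lit 0) (nat_lit 13) (nat_lit 0) (RL.cons (nat_lit 6)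 (nat_lit 267) (nat_lit 0) (nat_lit 0) (nat_lit 14) (nat_lit 0) (RL.cons (nat_lit 7) (nat_lit 277) (nat_lit 0) (nat_lit 0) (nat_lit 3) (nat_lit 0) (RL.cons (nat_lit 8) (nat_lit 258) (nat_lit 0) (nat_lit 0) (nat_lit 4) (nat_lit 0) (RL.cons (nat_lit 9) (nat_lit 268) (nat_lit 0) (nat_lit 0) (nat_lit 5) (nat_lit 0) (RL.cons (nat_lit 10) (nat_lit 269) (nat_lit 0) (nat_lit 0) (nat_lit 6) (nat_lit 0) (RL.cons (nat_lit 11) (nat_lit 276) (nat_lit 0) (nat_lit 0) (nat_lit 7) (nat_lit 0) (RL.cons (nat_lit 12) (nat_lit 260) (nat_lit 0) (nat_lit 0) (nat_lit 8) (nat_lit 0) (RL.cons (nat_lit 13) (nat_lit 261) (nat_lit 0) (nat_lit 0) (nat_lit 9) (nat_lit 0) (RL.cons (nat_lit 14) (nat_lit 259) (nat_lit 0) (nat_lit 0) (nat_lit 10) (nat_lit 0) (RL.cons (nat_lit 15) (nat_lit 256) (nat_lit 0) (nat_lit 0) (nat_lit 23) (nat_lit 0) (RL.cons (nat_lit 16) (nat_lit 266) (nat_lit 0) (nat_lit 0) (nat_lit 24) (nat_lit 0) (RL.cons (nat_lit 17) (nat_lit 275)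 (nat_lit 0) (nat_lit 0) (nat_lit 25) (nat_lit 0) (RL.cons (nat_lit 18) (nat_lit 265) (nat_lit 0) (nat_lit 0) (nat_lit 26) (nat_lit 0) (RL.cons (nat_lit 19) (nat_lit 3) (nat_lit 0) (nat_lit 0) (nat_lit 15) (nat_lit 0) (RL.cons (nat_lit 20) (nat_lit 274) (nat_lit 0) (nat_lit 0) (nat_lit 16) (nat_lit 0) (RL.cons (nat_lit 21) (nat_lit 250) (nat_lit 0) (nat_lit 0) (nat_lit 17) (nat_lit 0) (RL.cons (nat_lit 22) (nat_lit 254) (nat_lit 0) (nat_lit 0) (nat_lit 18) (nat_lit 0) (RL.cons (nat_lit 23) (nat_lit 249) (nat_lit 0) (nat_lit 0) (nat_lit 19) (nat_lit 0) (RL.cons (nat_lit 24) (nat_lit 262) (nat_lit 0) (nat_lit 0) (nat_lit 20) (nat_lit 0) (RL.cons (nat_lit 25) (nat_lit 252) (nat_lit 0) (nat_lit 0) (nat_lit 21) (nat_lit 0) (RL.cons (nat_lit 26) (nat_lit 2) (nat_lit 0) (nat_lit 0) (nat_lit 22) (nat_lit 0) RL.nil)))))))))))))))))))))))))))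

theorem p_3_good0_0 : GoodSet 280 p_E4 p_G3 (⟨1, by decide⟩ : Fin 280) p_3_ts (nat_lit 1) (RL.pts p_3_rl0_0) :=
  goodSet_of_ok p_hn (det_lab p_hk ⊤) p_E4_ok p_G3_ok le_top le_top (by decide : 1 < 280) (sepAt_lab p_hk _) (by decide +kernel)

theorem p_3_step0 : Step 280 p_E4 p_G3 p_3_ts (2 * 0 + 1) :=
  step_of_cover p_E4_ok p_3_dist (by decide +kernel) p_3_scs (by decide +kernel) p_3_good0_0 (kw := [nat_lit 1])
    (conj_mem_of_scs p_E4_ok p_G3_ok (by decide : 1 < 280) p_3_scs (c := 0) (d := 271) (by decide +kernel)) (by decide +kernel)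

noncomputable def p_3_rl1_0 : RL := (RL.cons (nat_lit 0) (nat_lit 1) (nat_lit 0) (nat_lit 0) (nat_lit 4) (nat_lit 0) (RL.cons (nat_lit 1) (nat_lit 271) (nat_lit 0) (nat_lit 0) (nat_lit 8) (nat_lit 0) (RL.cons (nat_lit 2) (nat_lit 272) (nat_lit 0) (nat_lit 0) (nat_lit 12) (nat_lit 0) (RL.cons (nat_lit 3) (nat_lit 279) (nat_lit 0) (nat_lit 0) (nat_lit 0) (nat_lit 0) (RL.cons (nat_lit 4) (nat_lit 253) (nat_lit 0) (nat_lit 0) (nat_lit 3) (nat_lit 0) (RL.cons (nat_lit 5) (nat_lit 251) (nat_lit 0) (nat_lit 0) (nat_lit 17) (nat_lit 0) (RL.cons (nat_lit 6) (nat_lit 267) (nat_lit 0) (nat_lit 0) (nat_lit 18) (nat_lit 0) (RL.cons (nat_lit 7) (nat_lit 277) (nat_lit 0) (nat_lit 0) (nat_lit 1) (nat_lit 0) (RL.cons (nat_lit 8) (nat_lit 258) (nat_lit 0) (nat_lit 0) (nat_lit 7) (nat_lit 0) (RL.cons (nat_lit 9) (nat_lit 268) (nat_lit 0) (nat_lit 0) (nat_lit 21) (nat_lit 0) (RL.cons (nat_lit 10) (nat_lit 269) (nat_lit 0) (nat_lit 0) (nat_lit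 22) (nat_lit 0) (RL.cons (nat_lit 11) (nat_lit 276) (nat_lit 0) (nat_lit 0) (nat_lit 2) (nat_lit 0) (RL.cons (nat_lit 12) (nat_lit 260) (nat_lit 0) (nat_lit 0) (nat_lit 11) (nat_lit 0) (RL.cons (nat_lit 13) (nat_lit 261) (nat_lit 0) (nat_lit 0) (nat_lit 25) (nat_lit 0) (RL.cons (nat_lit 14) (nat_lit 259) (nat_lit 0) (nat_lit 0) (nat_lit 26) (nat_lit 0) (RL.cons (nat_lit 15) (nat_lit 256) (nat_lit 0) (nat_lit 0) (nat_lit 5) (nat_lit 0) (RL.cons (nat_lit 16) (nat_lit 266) (nat_lit 0) (nat_lit 0) (nat_lit 6) (nat_lit 0) (RL.cons (nat_lit 17) (nat_lit 275) (nat_lit 0) (nat_lit 0) (nat_lit 15) (nat_lit 0) (RL.cons (nat_lit 18) (nat_lit 265) (nat_lit 0) (nat_lit 0) (nat_lit 16) (nat_lit 0) (RL.cons (nat_lit 19) (nat_lit 3) (nat_lit 0) (nat_lit 0) (nat_lit 9) (nat_lit 0) (RL.cons (nat_lit 20) (nat_lit 274) (nat_lit 0) (nat_lit 0) (nat_lit 10) (nat_lit 0) (RL.cons (nat_lit 21) (nat_lit 250) (nat_lit 0) (nat_lit 0) (nat_lit 19) (nat_lit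 0) (RL.cons (nat_lit 22) (nat_lit 254) (nat_lit 0) (nat_lit 0) (nat_lit 20) (nat_lit 0) (RL.cons (nat_lit 23) (nat_lit 249) (nat_lit 0) (nat_lit 0) (nat_lit 13) (nat_lit 0) (RL.cons (nat_lit 24) (nat_lit 262) (nat_lit 0) (nat_lit 0) (nat_lit 14) (nat_lit 0) (RL.cons (nat_lit 25) (nat_lit 252) (nat_lit 0) (nat_lit 0) (nat_lit 23) (nat_lit 0) (RL.cons (nat_lit 26) (nat_lit 2) (nat_lit 0) (nat_lit 0) (nat_lit 24) (nat_lit 0) RL.nil)))))))))))))))))))))))))))

theorem p_3_good1_0 : GoodSet 280 p_E4 p_G3 (⟨1, by decide⟩ : Fin 280) p_3_ts (nat_lit 3) (RL.pts p_3_rl1_0) :=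
  goodSet_of_ok p_hn (det_lab p_hk ⊤) p_E4_ok p_G3_ok le_top le_top (by decide : 1 < 280) (sepAt_lab p_hk _) (by decide +kernel)

theorem p_3_step1 : Step 280 p_E4 p_G3 p_3_ts (2 * 1 + 1) :=
  step_of_cover p_E4_ok p_3_dist (by decide +kernel) p_3_scs (by decide +kernel) p_3_good1_0 (kw := [nat_lit 2])
    (conj_mem_of_scs p_E4_ok p_G3_ok (by decide : 1 < 280) p_3_scs (c := 2) (d := 279) (by decide +kernel)) (by decide +kernel)

noncomputable def p_3_rl2_0 : RL := (RL.cons (nat_lit 0) (nat_lit 1) (nat_lit 0) (nat_lit 0) (nat_lit 6) (nat_lit 0) (RL.cons (nat_lit 1) (nat_lit 271) (nat_lit 0) (nat_lit 0) (nat_lit 10) (nat_lit 0) (RL.cons (nat_lit 2) (nat_lit 272) (nat_lit 0) (nat_lit 0) (nat_lit 14) (nat_lit 0) (RL.cons (nat_lit 3) (nat_lit 279) (nat_lit 0) (nat_lit 0) (nat_lit 16) (nat_lit 0) (RL.cons (nat_lit 4) (nat_lit 253) (nat_lit 0) (nat_lit 0) (nat_lit 18) (nat_lit 0) (RL.cons (nat_lit 5) (nat_lit 251) (nat_lit 0) (nat_lit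 0) (nat_lit 0) (nat_lit 0) (RL.cons (nat_lit 6) (nat_lit 267) (nat_lit 0) (nat_lit 0) (nat_lit 5) (nat_lit 0) (RL.cons (nat_lit 7) (nat_lit 277) (nat_lit 0) (nat_lit 0) (nat_lit 20) (nat_lit 0) (RL.cons (nat_lit 8) (nat_lit 258) (nat_lit 0) (nat_lit 0) (nat_lit 22) (nat_lit 0) (RL.cons (nat_lit 9) (nat_lit 268) (nat_lit 0) (nat_lit 0) (nat_lit 1) (nat_lit 0) (RL.cons (nat_lit 10) (nat_lit 269) (nat_lit 0) (nat_lit 0) (nat_lit 9) (nat_lit 0) (RL.cons (nat_lit 11) (nat_lit 276) (nat_lit 0) (nat_lit 0) (nat_lit 24) (nat_lit 0) (RL.cons (nat_lit 12) (nat_lit 260) (nat_lit 0) (nat_lit 0) (nat_lit 26) (nat_lit 0) (RL.cons (nat_lit 13) (nat_lit 261) (nat_lit 0) (nat_lit 0) (nat_lit 2) (nat_lit 0) (RL.cons (nat_lit 14) (nat_lit 259) (nat_lit 0) (nat_lit 0) (nat_lit 13) (nat_lit 0) (RL.cons (nat_lit 15) (nat_lit 256) (nat_lit 0) (nat_lit 0) (nat_lit 3) (nat_lit 0) (RL.cons (nat_lit 16) (nat_lit 266) (nat_lit 0) (nat_lit 0) (nat_lit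 15) (nat_lit 0) (RL.cons (nat_lit 17) (nat_lit 275) (nat_lit 0) (nat_lit 0) (nat_lit 4) (nat_lit 0) (RL.cons (nat_lit 18) (nat_lit 265) (nat_lit 0) (nat_lit 0) (nat_lit 17) (nat_lit 0) (RL.cons (nat_lit 19) (nat_lit 3) (nat_lit 0) (nat_lit 0) (nat_lit 7) (nat_lit 0) (RL.cons (nat_lit 20) (nat_lit 274) (nat_lit 0) (nat_lit 0) (nat_lit 19) (nat_lit 0) (RL.cons (nat_lit 21) (nat_lit 250) (nat_lit 0) (nat_lit 0) (nat_lit 8) (nat_lit 0) (RL.cons (nat_lit 22) (nat_lit 254) (nat_lit 0) (nat_lit 0) (nat_lit 21) (nat_lit 0) (RL.cons (nat_lit 23) (nat_lit 249) (nat_lit 0) (nat_lit 0) (nat_lit 11) (nat_lit 0) (RL.cons (nat_lit 24) (nat_lit 262) (nat_lit 0) (nat_lit 0) (nat_lit 23) (nat_lit 0) (RL.cons (nat_lit 25) (nat_lit 252) (nat_lit 0) (nat_lit 0) (nat_lit 12) (nat_lit 0) (RL.cons (nat_lit 26) (nat_lit 2) (nat_lit 0) (nat_lit 0) (nat_lit 25) (nat_lit 0) RL.nil)))))))))))))))))))))))))))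

theorem p_3_good2_0 : GoodSet 280 p_E4 p_G3 (⟨1, by decide⟩ : Fin 280) p_3_ts (nat_lit 5) (RL.pts p_3_rl2_0) :=
  goodSet_of_ok p_hn (det_lab p_hk ⊤) p_E4_ok p_G3_ok le_top le_top (by decide : 1 < 280) (sepAt_lab p_hk _) (by decide +kernel)

theorem p_3_step2 : Step 280 p_E4 p_G3 p_3_ts (2 * 2 + 1) :=
  step_of_cover p_E4_ok p_3_dist (by decide +kernel) p_3_scs (by decide +kernel) p_3_good2_0 (kw := [nat_lit 1])
    (conj_mem_of_scs p_E4_ok p_G3_ok (by decide : 1 < 280) p_3_scs (c := 4) (d := 251) (by decide +kernel)) (by decide +kernel)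

theorem p_3_lev : grp 280 p_G3 ⊓ MulAction.stabilizer (Equiv.Perm (Fin 280)) (⟨1, by decide⟩ : Fin 280) = grp 280 p_E4 :=
  sims_level (gs := p_V39) rfl (by decide) p_3_fix p_3_dist (forall_lt_succ' (forall_lt_succ' (forall_lt_one p_3_step0) p_3_step1) p_3_step2)

theorem p_3_cardG : Nat.card (grp 280 p_G3) = 81 :=
  card_of_level p_hn p_G3_ok (by decide : 1 < 280) p_3_lev p_card4 (m := 27) (by decide +kernel)

theorem p_le49 : grp 280 p_E3 ≤ grp 280 p_G3 :=
  grp_le_of_memB p_hn p_hk p_G3_ok p_E3_ok (ws := [nat_lit 1, nat_lit 3, nat_lit 5, nat_lit 66309, nat_lit 260, nat_lit 459012, nat_lit 7, nat_lit 9]) (by decide +kernel)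

theorem p_le50 : grp 280 p_G3 ≤ grp 280 p_E3 :=
  grp_le_of_memB p_hn p_hk p_E3_ok p_G3_ok (ws := [nat_lit 1, nat_lit 3, nat_lit 5, nat_lit 13, nat_lit 15]) (by decide +kernel)

theorem p_3_eq : grp 280 p_E3 = grp 280 p_G3 :=
  le_antisymm p_le49 p_le50

theorem p_card3 : Nat.card (grp 280 p_E3) = 81 :=
  by rw [p_3_eq]; exact p_3_cardG

theorem p_stab3 : grp 280 p_E3 ⊓ MulAction.stabilizer (Equiv.Perm (Fin 280)) (⟨1, by decide⟩ : Fin 280) = grp 280 p_E4 :=
  by rw [p_3_eq]; exact p_3_lev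

theorem p_leO3 : grp 280 p_E3 ≤ grp 280 p_O :=
  p_3_eq.le.trans (grp_cons_le ((p_le36.trans (p_le27.trans (p_le19.trans (le_refl (grp 280 p_O))))) (p_le40 (toPerm_mem_grp (E := p_V39) (by simp [p_V39])))) (grp_cons_le ((p_le36.trans (p_le27.trans (p_le19.trans (le_refl (grp 280 p_O))))) (p_le40 (toPerm_mem_grp (E := p_V39) (by simp [p_V39])))) (grp_cons_le ((p_le36.trans (p_le27.trans (p_le19.trans (le_refl (grp 280 p_O))))) (p_le40 (toPerm_mem_grp (E := p_V39) (by simp [p_V39])))) p_leO4)))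

theorem p_2_fix : grp 280 p_E3 ≤ MulAction.stabilizer (Equiv.Perm (Fin 280)) (⟨247, by decide⟩ : Fin 280) :=
  grp_le_stab p_E3_ok (by decide : 247 < 280) (by decide +kernel)

noncomputable def p_2_ts : List ℕ := [nat_lit 0, nat_lit 1, nat_lit 2, nat_lit 257]

noncomputable def p_2_ds : List ℕ := [nat_lit 247, nat_lit 255, nat_lit 257, nat_lit 264]

theorem p_2_dist : Dist 280 p_E3 p_G2 (⟨247, by decide⟩ : Fin 280) p_2_ts p_2_ds :=
  dist_of_distB (k := 2) p_hn p_E3_ok p_G2_ok (by decide : 247 < 280) (by decide +kernel)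

noncomputable def p_2_sl0 : SL := (SL.cons (nat_lit 1) (nat_lit 255) (Ch.cons (nat_lit 1) [nat_lit 3, nat_lit 3329, nat_lit 7] (Ch.cons (nat_lit 4) [nat_lit 13] Ch.nil)) [nat_lit 917766, nat_lit 3338, nat_lit 8, nat_lit 1544] (SL.cons (nat_lit 2) (nat_lit 257) (Ch.cons (nat_lit 1) [nat_lit 519, nat_lit 3589, nat_lit 3336] (Ch.cons (nat_lit 4) [nat_lit 14] Ch.nil)) [nat_lit 3590, nat_lit 774, nat_lit 3594, nat_lit 852485] (SL.cons (nat_lit 257) (nat_lit 264) (Ch.cons (nat_lit 1) [nat_lit 3588, nat_lit 3337, nat_lit 3589] (Ch.cons (nat_lit 4) [nat_lit 13] Ch.nil)) [nat_lit 3588, nat_lit 5, nat_lit 852227, nat_lit 3] SL.nil)))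

theorem p_2_sc0 : SCs 280 p_E3 p_G2 (⟨247, by decide⟩ : Fin 280) (SL.words p_2_sl0) :=
  scs_of_ok p_hn (det_lab p_hk ⊤) p_E3_ok p_G2_ok le_top le_top (by decide : 247 < 280) p_2_fix p_card3.le (by decide +kernel)

noncomputable def p_2_l : List ℕ := (appL (SL.words p_2_sl0) [])

theorem p_2_scs : SCs 280 p_E3 p_G2 (⟨247, by decide⟩ : Fin 280) p_2_l :=
  (SCs.append p_2_sc0 SCs.nil)

noncomputable def p_2_rl0_0 : RL := (RL.cons (nat_lit 0) (nat_lit 247) (nat_lit 0) (nat_lit 0) (nat_lit 2) (nat_lit 0) (RL.cons (nat_lit 1) (nat_lit 255) (nat_lit 0) (nat_lit 0) (nat_lit 0) (nat_lit 0) (RL.cons (nat_lit 2) (nat_lit 257) (nat_lit 0) (nat_lit 0) (nat_lit 3) (nat_lit 0) (RL.cons (nat_lit 3) (nat_lit 264) (nat_lit 0) (nat_lit 0) (nat_lit 1) (nat_lit 0) RL.nil))))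

theorem p_2_good0_0 : GoodSet 280 p_E3 p_G2 (⟨247, by decide⟩ : Fin 280) p_2_ts (nat_lit 1) (RL.pts p_2_rl0_0) :=
  goodSet_of_ok p_hn (det_lab p_hk ⊤) p_E3_ok p_G2_ok le_top le_top (by decide : 247 < 280) (sepAt_lab p_hk _) (by decide +kernel)

theorem p_2_step0 : Step 280 p_E3 p_G2 p_2_ts (2 * 0 + 1) :=
  step_of_cover p_E3_ok p_2_dist (by decide +kernel) p_2_scs (by decide +kernel) p_2_good0_0 (kw := [nat_lit 3, nat_lit 3329, nat_lit 7, nat_lit 13])
    (conj_mem_of_scs p_E3_ok p_G2_ok (by decide : 247 < 280) p_2_scs (c := 0) (d := 255) (by decide +kernel)) (by decide +kernel)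

theorem p_2_lev : grp 280 p_G2 ⊓ MulAction.stabilizer (Equiv.Perm (Fin 280)) (⟨247, by decide⟩ : Fin 280) = grp 280 p_E3 :=
  sims_level (gs := p_V29) rfl (by decide) p_2_fix p_2_dist (forall_lt_one p_2_step0)

theorem p_2_cardG : Nat.card (grp 280 p_G2) = 324 :=
  card_of_level p_hn p_G2_ok (by decide : 247 < 280) p_2_lev p_card3 (m := 4) (by decide +kernel)

theorem p_le51 : grp 280 p_E2 ≤ grp 280 p_G2 :=
  grp_le_of_memB p_hn p_hk p_G2_ok p_E2_ok (ws := [nat_lit 1, nat_lit 2, nat_lit 4107, nat_lit 0x80a0101, nat_lit 3, nat_lit 5, nat_lit 7, nat_lit 9, nat_lit 11, nat_lit 13, nat_lit 15, nat_lit 17]) (by decide +kernel)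

theorem p_le52 : grp 280 p_G2 ≤ grp 280 p_E2 :=
  grp_le_of_memB p_hn p_hk p_E2_ok p_G2_ok (ws := [nat_lit 1, nat_lit 9, nat_lit 11, nat_lit 13, nat_lit 15, nat_lit 17, nat_lit 19, nat_lit 21, nat_lit 23]) (by decide +kernel)

theorem p_2_eq : grp 280 p_E2 = grp 280 p_G2 :=
  le_antisymm p_le51 p_le52

theorem p_card2 : Nat.card (grp 280 p_E2) = 324 :=
  by rw [p_2_eq]; exact p_2_cardG

theorem p_stab2 : grp 280 p_E2 ⊓ MulAction.stabilizer (Equiv.Perm (Fin 280)) (⟨247, by decide⟩ : Fin 280) = grp 280 p_E3 :=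
  by rw [p_2_eq]; exact p_2_lev

theorem p_leO2 : grp 280 p_E2 ≤ grp 280 p_O :=
  p_2_eq.le.trans (grp_cons_le ((p_le27.trans (p_le19.trans (le_refl (grp 280 p_O)))) (p_le30 (toPerm_mem_grp (E := p_V29) (by simp [p_V29])))) p_leO3)

theorem p_1_fix : grp 280 p_E2 ≤ MulAction.stabilizer (Equiv.Perm (Fin 280)) (⟨273, by decide⟩ : Fin 280) :=
  grp_le_stab p_E2_ok (by decide : 273 < 280) (by decide +kernel)

noncomputable def p_1_ts : List ℕ := [nat_lit 0, nat_lit 1, nat_lit 66306, nat_lit 67841]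

noncomputable def p_1_ds : List ℕ := [nat_lit 273, nat_lit 245, nat_lit 263, nat_lit 264]

theorem p_1_dist : Dist 280 p_E2 p_G1 (⟨273, by decide⟩ : Fin 280) p_1_ts p_1_ds :=
  dist_of_distB (k := 2) p_hn p_E2_ok p_G1_ok (by decide : 273 < 280) (by decide +kernel)

noncomputable def p_1_sl0 : SL := (SL.cons (nat_lit 1) (nat_lit 245) (Ch.cons (nat_lit 1) [nat_lit 4354, nat_lit 16] Ch.nil) [nat_lit 0x160b0e01, nat_lit 15] (SL.cons (nat_lit 66306) (nat_lit 263) (Ch.cons (nat_lit 1) [nat_lit 0x150911, nat_lit 2575, nat_lit 5649] (Ch.cons (nat_lit 4) [nat_lit 22] Ch.nil)) [nat_lit 0x150b0e, nat_lit 0x160c10, nat_lit 5646, nat_lit 21] (SL.cons (nat_lit 67841) (nat_lit 264) (Ch.cons (nat_lit 1) [nat_lit 12, nat_lit 3343, nat_lit 14] (Ch.cons (nat_lit 4) [nat_lit 22] Ch.nil)) [nat_lit 0x150b0f, nat_lit 5642, nat_lit 0x15090f, nat_lit 12] SL.nil)))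

theorem p_1_sc0 : SCs 280 p_E2 p_G1 (⟨273, by decide⟩ : Fin 280) (SL.words p_1_sl0) :=
  scs_of_ok p_hn (det_lab p_hk ⊤) p_E2_ok p_G1_ok le_top le_top (by decide : 273 < 280) p_1_fix p_card2.le (by decide +kernel)

noncomputable def p_1_l : List ℕ := (appL (SL.words p_1_sl0) [])

theorem p_1_scs : SCs 280 p_E2 p_G1 (⟨273, by decide⟩ : Fin 280) p_1_l :=
  (SCs.append p_1_sc0 SCs.nil)

noncomputable def p_1_rl0_0 : RL := (RL.cons (nat_lit 0) (nat_lit 273) (nat_lit 0) (nat_lit 522) (nat_lit 1) (nat_lit 593921) (RL.cons (nat_lit 1) (nat_lit 245) (nat_lit 0) (nat_lit 0) (nat_lit 0) (nat_lit 0) (RL.cons (nat_lit 1) (nat_lit 214) (nat_lit 1) (nat_lit 0) (nat_lit 2) (nat_lit 0) (RL.cons (nat_lit 1) (nat_lit 124) (nat_lit 5) (nat_lit 533) (nat_lit 1) (nat_lit 5389) (RL.cons (nat_lit 1) (nat_lit 174) (nat_lit 6) (nat_lit 1) (nat_lit 1) (nat_lit 5642) (RL.cons (nat_lit 1) (nat_lit 140) (nat_lit 7) (nat_lit 11) (nat_lit 1) (nat_lit 2306)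 (RL.cons (nat_lit 1) (nat_lit 157) (nat_lit 8) (nat_lit 1293) (nat_lit 1) (nat_lit 658689) (RL.cons (nat_lit 1) (nat_lit 231) (nat_lit 257) (nat_lit 0) (nat_lit 3) (nat_lit 0x15090b07) (RL.cons (nat_lit 1) (nat_lit 158) (nat_lit 518) (nat_lit 0) (nat_lit 1) (nat_lit 0x150b0f) (RL.cons (nat_lit 2) (nat_lit 263) (nat_lit 0) (nat_lit 526) (nat_lit 1) (nat_lit 5642) (RL.cons (nat_lit 3) (nat_lit 264) (nat_lit 0) (nat_lit 7) (nat_lit 1) (nat_lit 0) RL.nil)))))))))))

theorem p_1_good0_0 : GoodSet 280 p_E2 p_G1 (⟨273, by decide⟩ : Fin 280) p_1_ts (nat_lit 1) (RL.pts p_1_rl0_0) :=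
  goodSet_of_ok p_hn (det_lab p_hk ⊤) p_E2_ok p_G1_ok le_top le_top (by decide : 273 < 280) (sepAt_lab p_hk _) (by decide +kernel)

theorem p_1_step0 : Step 280 p_E2 p_G1 p_1_ts (2 * 0 + 1) :=
  step_of_cover p_E2_ok p_1_dist (by decide +kernel) p_1_scs (by decide +kernel) p_1_good0_0 (kw := [nat_lit 4354, nat_lit 16])
    (conj_mem_of_scs p_E2_ok p_G1_ok (by decide : 273 < 280) p_1_scs (c := 0) (d := 245) (by decide +kernel)) (by decide +kernel)

theorem p_1_lev : grp 280 p_G1 ⊓ MulAction.stabilizer (Equiv.Perm (Fin 280)) (⟨273, by decide⟩ : Fin 280) = grp 280 p_E2 :=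
  sims_level (gs := p_V21) rfl (by decide) p_1_fix p_1_dist (forall_lt_one p_1_step0)

theorem p_1_cardG : Nat.card (grp 280 p_G1) = 11664 :=
  card_of_level p_hn p_G1_ok (by decide : 273 < 280) p_1_lev p_card2 (m := 36) (by decide +kernel)

theorem p_le53 : grp 280 p_E1 ≤ grp 280 p_G1 :=
  grp_le_of_memB p_hn p_hk p_G1_ok p_E1_ok (ws := [nat_lit 1, nat_lit 0x170c04010e01, nat_lit 0x170b0d09010901, nat_lit 0x180c010e, nat_lit 0x180e12090118, nat_lit 3, nat_lit 5, nat_lit 7, nat_lit 9, nat_lit 11, nat_lit 13, nat_lit 15, nat_lit 17, nat_lit 19, nat_lit 21, nat_lit 23, nat_lit 25]) (by decide +kernel)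

theorem p_le54 : grp 280 p_G1 ≤ grp 280 p_E1 :=
  grp_le_of_memB p_hn p_hk p_E1_ok p_G1_ok (ws := [nat_lit 1, nat_lit 11, nat_lit 13, nat_lit 15, nat_lit 17, nat_lit 19, nat_lit 21, nat_lit 23, nat_lit 25, nat_lit 27, nat_lit 29, nat_lit 31, nat_lit 33]) (by decide +kernel)

theorem p_1_eq : grp 280 p_E1 = grp 280 p_G1 :=
  le_antisymm p_le53 p_le54

theorem p_card1 : Nat.card (grp 280 p_E1) = 11664 :=
  by rw [p_1_eq]; exact p_1_cardG

theorem p_stab1 : grp 280 p_E1 ⊓ MulAction.stabilizer (Equiv.Perm (Fin 280)) (⟨273, by decide⟩ : Fin 280) = grp 280 p_E2 :=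
  by rw [p_1_eq]; exact p_1_lev

theorem p_leO1 : grp 280 p_E1 ≤ grp 280 p_O :=
  p_1_eq.le.trans (grp_cons_le ((p_le19.trans (le_refl (grp 280 p_O))) (p_le22 (toPerm_mem_grp (E := p_V21) (by simp [p_V21])))) p_leO2)

theorem p_0_fix : grp 280 p_E1 ≤ MulAction.stabilizer (Equiv.Perm (Fin 280)) (⟨0, by decide⟩ : Fin 280) :=
  grp_le_stab p_E1_ok (by decide : 0 < 280) (by decide +kernel)

noncomputable def p_0_ts : List ℕ := [nat_lit 0, nat_lit 1, nat_lit 257]

noncomputable def p_0_ds : List ℕ := [nat_lit 0, nat_lit 273, nat_lit 149]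

theorem p_0_dist : Dist 280 p_E1 p_G0 (⟨0, by decide⟩ : Fin 280) p_0_ts p_0_ds :=
  dist_of_distB (k := 2) p_hn p_E1_ok p_G0_ok (by decide : 0 < 280) (by decide +kernel)

noncomputable def p_0_sl0 : SL := (SL.cons (nat_lit 1) (nat_lit 273) (Ch.cons (nat_lit 247) [nat_lit 11, nat_lit 13, nat_lit 15, nat_lit 17] (Ch.cons (nat_lit 1) [nat_lit 19, nat_lit 21, nat_lit 23, nat_lit 25, nat_lit 27, nat_lit 29] (Ch.cons (nat_lit 4) [nat_lit 31, nat_lit 33] Ch.nil))) [nat_lit 0x200c0303, nat_lit 0x1f141a0305, nat_lit 0x2014070c, nat_lit 0x201719010a, nat_lit 0x1f13190c010307, nat_lit 0x14180c0112, nat_lit 0x161a0c03, nat_lit 0x17190c08, nat_lit 0x2015190109, nat_lit 0x20170b0311, nat_lit 0x20160b0113, nat_lit 0x201911010c] (SL.cons (nat_lit 257) (nat_lit 149) (Ch.cons (nat_lit 4) [nat_lit 0x2013150b, nat_lit 0x1f1617010f] Ch.nil) [nat_lit 0x201319010307, nat_lit 0x2013191109] SL.nil))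

theorem p_0_sc0 : SCs 280 p_E1 p_G0 (⟨0, by decide⟩ : Fin 280) (SL.words p_0_sl0) :=
  scs_of_ok p_hn (det_lab p_hk ⊤) p_E1_ok p_G0_ok le_top le_top (by decide : 0 < 280) p_0_fix p_card1.le (by decide +kernel)

noncomputable def p_0_l : List ℕ := (appL (SL.words p_0_sl0) [])

theorem p_0_scs : SCs 280 p_E1 p_G0 (⟨0, by decide⟩ : Fin 280) p_0_l :=
  (SCs.append p_0_sc0 SCs.nil)

noncomputable def p_0_rl0_0 : RL := (RL.cons (nat_lit 0) (nat_lit 0) (nat_lit 0) (nat_lit 539) (nat_lit 1) (nat_lit 0x131a021b) (RL.cons (nat_lit 1) (nat_lit 273) (nat_lit 0) (nat_lit 0) (nat_lit 0) (nat_lit 0) (RL.cons (nat_lit 1) (nat_lit 245) (nat_lit 1) (nat_lit 69396) (nat_lit 2) (nat_lit 0x2015190b0305) (RL.cons (nat_lit 1) (nat_lit 255) (nat_lit 3) (nat_lit 264) (nat_lit 1) (nat_lit 0x131911010307) (RL.cons (nat_lit 1) (nat_lit 270) (nat_lit 771) (nat_lit 7) (nat_lit 1) (nat_lit 0x1f15190b0305) (RL.cons (nat_lit 2) (nat_lit 149) (nat_lit 0)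 (nat_lit 0) (nat_lit 1) (nat_lit 0) (RL.cons (nat_lit 2) (nat_lit 64) (nat_lit 1) (nat_lit 1816) (nat_lit 2) (nat_lit 5636) (RL.cons (nat_lit 2) (nat_lit 238) (nat_lit 3) (nat_lit 65797) (nat_lit 2) (nat_lit 0x20181a0c0103) RL.nil))))))))

theorem p_0_good0_0 : GoodSet 280 p_E1 p_G0 (⟨0, by decide⟩ : Fin 280) p_0_ts (nat_lit 1) (RL.pts p_0_rl0_0) :=
  goodSet_of_ok p_hn (det_lab p_hk ⊤) p_E1_ok p_G0_ok le_top le_top (by decide : 0 < 280) (sepAt_lab p_hk _) (by decide +kernel)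

theorem p_0_step0 : Step 280 p_E1 p_G0 p_0_ts (2 * 0 + 1) :=
  step_of_cover p_E1_ok p_0_dist (by decide +kernel) p_0_scs (by decide +kernel) p_0_good0_0 (kw := [nat_lit 11, nat_lit 13, nat_lit 15, nat_lit 17, nat_lit 19, nat_lit 21, nat_lit 23, nat_lit 25, nat_lit 27, nat_lit 29, nat_lit 31, nat_lit 33])
    (conj_mem_of_scs p_E1_ok p_G0_ok (by decide : 0 < 280) p_0_scs (c := 0) (d := 273) (by decide +kernel)) (by decide +kernel)

theorem p_0_lev : grp 280 p_G0 ⊓ MulAction.stabilizer (Equiv.Perm (Fin 280)) (⟨0, by decide⟩ : Fin 280) = grp 280 p_E1 :=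
  sims_level (gs := p_V12) rfl (by decide) p_0_fix p_0_dist (forall_lt_one p_0_step0)

theorem p_0_cardG : Nat.card (grp 280 p_G0) = 3265920 :=
  card_of_level p_hn p_G0_ok (by decide : 0 < 280) p_0_lev p_card1 (m := 280) (by decide +kernel)

theorem p_le55 : grp 280 p_E0 ≤ grp 280 p_G0 :=
  grp_le_of_memB p_hn p_hk p_G0_ok p_E0_ok (ws := [nat_lit 1, nat_lit 0x1a13031e01010314, nat_lit 0x21180e030e0218, nat_lit 0x22151d130b0101070c, nat_lit 0x2216190315021f, nat_lit 0x21171b130401011804, nat_lit 0x161a041201010c13, nat_lit 0x22191b0d0a0213, nat_lit 0x1c1303110221, nat_lit 0x151a0d03060101041a, nat_lit 0x51301010c06, nat_lit 3, nat_lit 5, nat_lit 7, nat_lit 9, nat_lit 11, nat_lit 13, nat_lit 15, nat_lit 17, nat_lit 19, nat_lit 21, nat_lit 23, nat_lit 25, nat_lit 27, nat_lit 29, nat_lit 31, nat_lit 33, nat_lit 35]) (by decide +kernel)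

theorem p_le56 : grp 280 p_G0 ≤ grp 280 p_E0 :=
  grp_le_of_memB p_hn p_hk p_E0_ok p_G0_ok (ws := [nat_lit 1, nat_lit 23, nat_lit 25, nat_lit 27, nat_lit 29, nat_lit 31, nat_lit 33, nat_lit 35, nat_lit 37, nat_lit 39, nat_lit 41, nat_lit 43, nat_lit 45, nat_lit 47, nat_lit 49, nat_lit 51, nat_lit 53, nat_lit 55]) (by decide +kernel)

theorem p_0_eq : grp 280 p_E0 = grp 280 p_G0 :=
  le_antisymm p_le55 p_le56

theorem p_card0 : Nat.card (grp 280 p_E0) = 3265920 :=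
  by rw [p_0_eq]; exact p_0_cardG

theorem p_stab0 : grp 280 p_E0 ⊓ MulAction.stabilizer (Equiv.Perm (Fin 280)) (⟨0, by decide⟩ : Fin 280) = grp 280 p_E1 :=
  by rw [p_0_eq]; exact p_0_lev

theorem p_leO0 : grp 280 p_E0 ≤ grp 280 p_O :=
  p_0_eq.le.trans (grp_cons_le ((le_refl (grp 280 p_O)) (p_le13 (toPerm_mem_grp (E := p_V12) (by simp [p_V12])))) p_leO1)

theorem p_le57 : grp 280 p_O ≤ grp 280 p_E0 :=
  grp_le_of_memB p_hn p_hk p_E0_ok p_O_ok (ws := [nat_lit 3, nat_lit 5, nat_lit 7, nat_lit 9, nat_lit 11, nat_lit 13, nat_lit 15, nat_lit 17, nat_lit 19, nat_lit 21]) (by decide +kernel)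

theorem p_eq : grp 280 p_O = grp 280 p_E0 :=
  le_antisymm p_le57 p_leO0

theorem p_card : Nat.card (grp 280 p_O) = 3265920 :=
  by rw [p_eq]; exact p_card0

noncomputable def p_ch : Ch := (Ch.cons (nat_lit 0) [nat_lit 1, nat_lit 3, nat_lit 5, nat_lit 7, nat_lit 9, nat_lit 11, nat_lit 13, nat_lit 15, nat_lit 17, nat_lit 19, nat_lit 21] (Ch.cons (nat_lit 273) [nat_lit 23, nat_lit 25, nat_lit 27, nat_lit 29, nat_lit 31] (Ch.cons (nat_lit 247) [nat_lit 33, nat_lit 35, nat_lit 37, nat_lit 39] (Ch.cons (nat_lit 1) [nat_lit 41, nat_lit 43, nat_lit 45, nat_lit 47, nat_lit 49, nat_lit 51] (Ch.cons (nat_lit 4) [nat_lit 53, nat_lit 55] Ch.nil)))))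

theorem p_exact : Ch.Exact 280 p_E0 p_ch (grp 280 p_E0) :=
  Ch.exact (k := 9) (L := (lab 280 9)) p_hn p_E0_ok (by decide +kernel) (wgrp_le_grp _ _ _) p_card0.le

theorem p_T58_s0 : Stab 280 (grp 280 p_E0) [] p_E0 3265920 :=
  Stab.root p_E0_ok p_card0

theorem p_le65 : grp 280 pt_c1_K ≤ grp 280 p_E0 :=
  grp_le_of_memB p_hn p_hk p_E0_ok pt_c1_K_ok (ws := [nat_lit 0x3530171f020529, nat_lit 0x211831010335, nat_lit 0x2b2e1831030d, nat_lit 0x352e30271721010135, nat_lit 0x362c171b010103]) (by decide +kernel)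

theorem pt_c1_le : grp 280 pt_c1_K ≤ (grp 280 p_E0) :=
  (p_le65.trans p_T58_s0.le)

theorem pt_c1_mem : Net.toPerm 280 p_g59 ∈ (grp 280 p_E0) :=
  pt_c1_le (mem_grp_of_memB p_hn p_hk pt_c1_K_ok p_g59_ok (w := (nat_lit 1799)) (by decide +kernel))

theorem pt_c1_sym : Sym 280 (grp 280 p_E0) [p_g59] pt_c1_K 0 :=
  Sym.of_lab p_hn p_hk (okE_cons.2 ⟨p_g59_ok, okE_nil _⟩) pt_c1_K_ok pt_c1_le (kT := 0) (by decide +kernel)

theorem p_T58_s1 : Stab 280 (grp 280 p_E0) [nat_lit 0] p_V66 11664 :=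
  Stab.step (k := 9) (L := (lab 280 9)) p_hn p_T58_s0 p_V66_ok (grp_mono (List.subset_append_right [p_g11, p_g1, p_g2, p_g3, p_g4, p_g5, p_g6, p_g7, p_g8, p_g9, p_g10] _)) (c := (Ch.cons (nat_lit 273) [nat_lit 1, nat_lit 3, nat_lit 5, nat_lit 7, nat_lit 9] (Ch.cons (nat_lit 247) [nat_lit 11, nat_lit 13, nat_lit 15, nat_lit 17] (Ch.cons (nat_lit 1) [nat_lit 19, nat_lit 21, nat_lit 23, nat_lit 25, nat_lit 27, nat_lit 29] (Ch.cons (nat_lit 4) [nat_lit 31, nat_lit 33] Ch.nil))))) (by decide +kernel)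

theorem p_le70 : grp 280 p_V69 ≤ grp 280 p_V66 :=
  grp_le_of_memB p_hn p_hk p_V66_ok p_V69_ok (ws := [nat_lit 786689, nat_lit 0x20181a11070c, nat_lit 21]) (by decide +kernel)

theorem p_T58_s2 : Stab 280 (grp 280 p_E0) [nat_lit 197, nat_lit 0] p_V69 48 :=
  Stab.step (k := 9) (L := (lab 280 9)) p_hn p_T58_s1 p_V69_ok p_le70 (c := (Ch.cons (nat_lit 196) [nat_lit 1] (Ch.cons (nat_lit 247) [nat_lit 3] (Ch.cons (nat_lit 1) [nat_lit 5] Ch.nil)))) (by decide +kernel)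

theorem p_T58_s3 : Stab 280 (grp 280 p_E0) [nat_lit 196, nat_lit 197, nat_lit 0] p_V71 24 :=
  Stab.step (k := 9) (L := (lab 280 9)) p_hn p_T58_s2 p_V71_ok (grp_mono (List.subset_append_right [p_g67] _)) (c := (Ch.cons (nat_lit 247) [nat_lit 1] (Ch.cons (nat_lit 1) [nat_lit 3] Ch.nil))) (by decide +kernel)

theorem p_T58_s4 : Stab 280 (grp 280 p_E0) [nat_lit 247, nat_lit 196, nat_lit 197, nat_lit 0] p_V72 3 :=
  Stab.step (k := 9) (L := (lab 280 9)) p_hn p_T58_s3 p_V72_ok (grp_mono (List.subset_append_right [p_g68] _)) (c := (Ch.cons (nat_lit 1) [nat_lit 1] Ch.nil)) (by decide +kernel)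

theorem p_T58_s5 : Stab 280 (grp 280 p_E0) [nat_lit 1, nat_lit 247, nat_lit 196, nat_lit 197, nat_lit 0] p_V73 1 :=
  Stab.step (k := 9) (L := (lab 280 9)) p_hn p_T58_s4 p_V73_ok (grp_mono (List.subset_append_right [p_g38] _)) (c := Ch.nil) (by decide +kernel)

theorem p_g11_p_T58 : Net.toPerm 280 p_g11 ∈ (grp 280 p_E0) :=
  p_T58_s0.le (toPerm_mem_grp (E := p_E0) (List.Mem.head _))

theorem p_g1_p_T58 : Net.toPerm 280 p_g1 ∈ (grp 280 p_E0) :=
  p_T58_s0.le (toPerm_mem_grp (E := p_E0) (List.Mem.tail _ (List.Mem.head _)))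

theorem p_g2_p_T58 : Net.toPerm 280 p_g2 ∈ (grp 280 p_E0) :=
  p_T58_s0.le (toPerm_mem_grp (E := p_E0) (List.Mem.tail _ (List.Mem.tail _ (List.Mem.head _))))

theorem p_g3_p_T58 : Net.toPerm 280 p_g3 ∈ (grp 280 p_E0) :=
  p_T58_s0.le (toPerm_mem_grp (E := p_E0) (List.Mem.tail _ (List.Mem.tail _ (List.Mem.tail _ (List.Mem.head _)))))

theorem p_g4_p_T58 : Net.toPerm 280 p_g4 ∈ (grp 280 p_E0) :=
  p_T58_s0.le (toPerm_mem_grp (E := p_E0) (List.Mem.tail _ (List.Mem.tail _ (List.Mem.tail _ (List.Mem.tail _ (List.Mem.head _))))))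

theorem p_g5_p_T58 : Net.toPerm 280 p_g5 ∈ (grp 280 p_E0) :=
  p_T58_s0.le (toPerm_mem_grp (E := p_E0) (List.Mem.tail _ (List.Mem.tail _ (List.Mem.tail _ (List.Mem.tail _ (List.Mem.tail _ (List.Mem.head _)))))))

theorem p_g6_p_T58 : Net.toPerm 280 p_g6 ∈ (grp 280 p_E0) :=
  p_T58_s0.le (toPerm_mem_grp (E := p_E0) (List.Mem.tail _ (List.Mem.tail _ (List.Mem.tail _ (List.Mem.tail _ (List.Mem.tail _ (List.Mem.tail _ (List.Mem.head _))))))))

theorem p_g7_p_T58 : Net.toPerm 280 p_g7 ∈ (grp 280 p_E0) :=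
  p_T58_s0.le (toPerm_mem_grp (E := p_E0) (List.Mem.tail _ (List.Mem.tail _ (List.Mem.tail _ (List.Mem.tail _ (List.Mem.tail _ (List.Mem.tail _ (List.Mem.tail _ (List.Mem.head _)))))))))

theorem p_g8_p_T58 : Net.toPerm 280 p_g8 ∈ (grp 280 p_E0) :=
  p_T58_s0.le (toPerm_mem_grp (E := p_E0) (List.Mem.tail _ (List.Mem.tail _ (List.Mem.tail _ (List.Mem.tail _ (List.Mem.tail _ (List.Mem.tail _ (List.Mem.tail _ (List.Mem.tail _ (List.Mem.head _))))))))))

theorem p_g9_p_T58 : Net.toPerm 280 p_g9 ∈ (grp 280 p_E0) :=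
  p_T58_s0.le (toPerm_mem_grp (E := p_E0) (List.Mem.tail _ (List.Mem.tail _ (List.Mem.tail _ (List.Mem.tail _ (List.Mem.tail _ (List.Mem.tail _ (List.Mem.tail _ (List.Mem.tail _ (List.Mem.tail _ (List.Mem.head _)))))))))))

theorem p_g10_p_T58 : Net.toPerm 280 p_g10 ∈ (grp 280 p_E0) :=
  p_T58_s0.le (toPerm_mem_grp (E := p_E0) (List.Mem.tail _ (List.Mem.tail _ (List.Mem.tail _ (List.Mem.tail _ (List.Mem.tail _ (List.Mem.tail _ (List.Mem.tail _ (List.Mem.tail _ (List.Mem.tail _ (List.Mem.tail _ (List.Mem.head _))))))))))))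

theorem p_g20_p_T58 : Net.toPerm 280 p_g20 ∈ (grp 280 p_E0) :=
  p_T58_s0.le (toPerm_mem_grp (E := p_E0) (List.Mem.tail _ (List.Mem.tail _ (List.Mem.tail _ (List.Mem.tail _ (List.Mem.tail _ (List.Mem.tail _ (List.Mem.tail _ (List.Mem.tail _ (List.Mem.tail _ (List.Mem.tail _ (List.Mem.tail _ (List.Mem.head _)))))))))))))

theorem p_g14_p_T58 : Net.toPerm 280 p_g14 ∈ (grp 280 p_E0) :=
  p_T58_s0.le (toPerm_mem_grp (E := p_E0) (List.Mem.tail _ (List.Mem.tail _ (List.Mem.tail _ (List.Mem.tail _ (List.Mem.tail _ (List.Mem.tail _ (List.Mem.tail _ (List.Mem.tail _ (List.Mem.tail _ (List.Mem.tail _ (List.Mem.tail _ (List.Mem.tail _ (List.Mem.head _))))))))))))))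

theorem p_g15_p_T58 : Net.toPerm 280 p_g15 ∈ (grp 280 p_E0) :=
  p_T58_s0.le (toPerm_mem_grp (E := p_E0) (List.Mem.tail _ (List.Mem.tail _ (List.Mem.tail _ (List.Mem.tail _ (List.Mem.tail _ (List.Mem.tail _ (List.Mem.tail _ (List.Mem.tail _ (List.Mem.tail _ (List.Mem.tail _ (List.Mem.tail _ (List.Mem.tail _ (List.Mem.tail _ (List.Mem.head _)))))))))))))))

theorem p_g16_p_T58 : Net.toPerm 280 p_g16 ∈ (grp 280 p_E0) :=
  p_T58_s0.le (toPerm_mem_grp (E := p_E0) (List.Mem.tail _ (List.Mem.tail _ (List.Mem.tail _ (List.Mem.tail _ (List.Mem.tail _ (List.Mem.tail _ (List.Mem.tail _ (List.Mem.tail _ (List.Mem.tail _ (List.Mem.tail _ (List.Mem.tail _ (List.Mem.tail _ (List.Mem.tail _ (List.Mem.tail _ (List.Mem.head _))))))))))))))))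

theorem p_g17_p_T58 : Net.toPerm 280 p_g17 ∈ (grp 280 p_E0) :=
  p_T58_s0.le (toPerm_mem_grp (E := p_E0) (List.Mem.tail _ (List.Mem.tail _ (List.Mem.tail _ (List.Mem.tail _ (List.Mem.tail _ (List.Mem.tail _ (List.Mem.tail _ (List.Mem.tail _ (List.Mem.tail _ (List.Mem.tail _ (List.Mem.tail _ (List.Mem.tail _ (List.Mem.tail _ (List.Mem.tail _ (List.Mem.tail _ (List.Mem.head _)))))))))))))))))

theorem p_g28_p_T58 : Net.toPerm 280 p_g28 ∈ (grp 280 p_E0) :=
  p_T58_s0.le (toPerm_mem_grp (E := p_E0) (List.Mem.tail _ (List.Mem.tail _ (List.Mem.tail _ (List.Mem.tail _ (List.Mem.tail _ (List.Mem.tail _ (List.Mem.tail _ (List.Mem.tail _ (List.Mem.tail _ (List.Mem.tail _ (List.Mem.tail _ (List.Mem.tail _ (List.Mem.tail _ (List.Mem.tail _ (List.Mem.tail _ (List.Mem.tail _ (List.Mem.head _))))))))))))))))))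

theorem p_g23_p_T58 : Net.toPerm 280 p_g23 ∈ (grp 280 p_E0) :=
  p_T58_s0.le (toPerm_mem_grp (E := p_E0) (List.Mem.tail _ (List.Mem.tail _ (List.Mem.tail _ (List.Mem.tail _ (List.Mem.tail _ (List.Mem.tail _ (List.Mem.tail _ (List.Mem.tail _ (List.Mem.tail _ (List.Mem.tail _ (List.Mem.tail _ (List.Mem.tail _ (List.Mem.tail _ (List.Mem.tail _ (List.Mem.tail _ (List.Mem.tail _ (List.Mem.tail _ (List.Mem.head _)))))))))))))))))))

theorem p_g24_p_T58 : Net.toPerm 280 p_g24 ∈ (grp 280 p_E0) :=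
  p_T58_s0.le (toPerm_mem_grp (E := p_E0) (List.Mem.tail _ (List.Mem.tail _ (List.Mem.tail _ (List.Mem.tail _ (List.Mem.tail _ (List.Mem.tail _ (List.Mem.tail _ (List.Mem.tail _ (List.Mem.tail _ (List.Mem.tail _ (List.Mem.tail _ (List.Mem.tail _ (List.Mem.tail _ (List.Mem.tail _ (List.Mem.tail _ (List.Mem.tail _ (List.Mem.tail _ (List.Mem.tail _ (List.Mem.head _))))))))))))))))))))

theorem p_g25_p_T58 : Net.toPerm 280 p_g25 ∈ (grp 280 p_E0) :=
  p_T58_s0.le (toPerm_mem_grp (E := p_E0) (List.Mem.tail _ (List.Mem.tail _ (List.Mem.tail _ (List.Mem.tail _ (List.Mem.tail _ (List.Mem.tail _ (List.Mem.tail _ (List.Mem.tail _ (List.Mem.tail _ (List.Mem.tail _ (List.Mem.tail _ (List.Mem.tail _ (List.Mem.tail _ (List.Mem.tail _ (List.Mem.tail _ (List.Mem.tail _ (List.Mem.tail _ (List.Mem.tail _ (List.Mem.tail _ (List.Mem.head _)))))))))))))))))))))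

theorem p_g37_p_T58 : Net.toPerm 280 p_g37 ∈ (grp 280 p_E0) :=
  p_T58_s0.le (toPerm_mem_grp (E := p_E0) (List.Mem.tail _ (List.Mem.tail _ (List.Mem.tail _ (List.Mem.tail _ (List.Mem.tail _ (List.Mem.tail _ (List.Mem.tail _ (List.Mem.tail _ (List.Mem.tail _ (List.Mem.tail _ (List.Mem.tail _ (List.Mem.tail _ (List.Mem.tail _ (List.Mem.tail _ (List.Mem.tail _ (List.Mem.tail _ (List.Mem.tail _ (List.Mem.tail _ (List.Mem.tail _ (List.Mem.tail _ (List.Mem.head _))))))))))))))))))))))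

theorem p_g38_p_T58 : Net.toPerm 280 p_g38 ∈ (grp 280 p_E0) :=
  p_T58_s0.le (toPerm_mem_grp (E := p_E0) (List.Mem.tail _ (List.Mem.tail _ (List.Mem.tail _ (List.Mem.tail _ (List.Mem.tail _ (List.Mem.tail _ (List.Mem.tail _ (List.Mem.tail _ (List.Mem.tail _ (List.Mem.tail _ (List.Mem.tail _ (List.Mem.tail _ (List.Mem.tail _ (List.Mem.tail _ (List.Mem.tail _ (List.Mem.tail _ (List.Mem.tail _ (List.Mem.tail _ (List.Mem.tail _ (List.Mem.tail _ (List.Mem.tail _ (List.Mem.head _)))))))))))))))))))))))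

theorem p_g34_p_T58 : Net.toPerm 280 p_g34 ∈ (grp 280 p_E0) :=
  p_T58_s0.le (toPerm_mem_grp (E := p_E0) (List.Mem.tail _ (List.Mem.tail _ (List.Mem.tail _ (List.Mem.tail _ (List.Mem.tail _ (List.Mem.tail _ (List.Mem.tail _ (List.Mem.tail _ (List.Mem.tail _ (List.Mem.tail _ (List.Mem.tail _ (List.Mem.tail _ (List.Mem.tail _ (List.Mem.tail _ (List.Mem.tail _ (List.Mem.tail _ (List.Mem.tail _ (List.Mem.tail _ (List.Mem.tail _ (List.Mem.tail _ (List.Mem.tail _ (List.Mem.tail _ (List.Mem.head _))))))))))))))))))))))))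

theorem p_g31_p_T58 : Net.toPerm 280 p_g31 ∈ (grp 280 p_E0) :=
  p_T58_s0.le (toPerm_mem_grp (E := p_E0) (List.Mem.tail _ (List.Mem.tail _ (List.Mem.tail _ (List.Mem.tail _ (List.Mem.tail _ (List.Mem.tail _ (List.Mem.tail _ (List.Mem.tail _ (List.Mem.tail _ (List.Mem.tail _ (List.Mem.tail _ (List.Mem.tail _ (List.Mem.tail _ (List.Mem.tail _ (List.Mem.tail _ (List.Mem.tail _ (List.Mem.tail _ (List.Mem.tail _ (List.Mem.tail _ (List.Mem.tail _ (List.Mem.tail _ (List.Mem.tail _ (List.Mem.tail _ (List.Mem.head _)))))))))))))))))))))))))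

theorem p_g32_p_T58 : Net.toPerm 280 p_g32 ∈ (grp 280 p_E0) :=
  p_T58_s0.le (toPerm_mem_grp (E := p_E0) (List.Mem.tail _ (List.Mem.tail _ (List.Mem.tail _ (List.Mem.tail _ (List.Mem.tail _ (List.Mem.tail _ (List.Mem.tail _ (List.Mem.tail _ (List.Mem.tail _ (List.Mem.tail _ (List.Mem.tail _ (List.Mem.tail _ (List.Mem.tail _ (List.Mem.tail _ (List.Mem.tail _ (List.Mem.tail _ (List.Mem.tail _ (List.Mem.tail _ (List.Mem.tail _ (List.Mem.tail _ (List.Mem.tail _ (List.Mem.tail _ (List.Mem.tail _ (List.Mem.tail _ (List.Mem.head _))))))))))))))))))))))))))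

theorem p_g33_p_T58 : Net.toPerm 280 p_g33 ∈ (grp 280 p_E0) :=
  p_T58_s0.le (toPerm_mem_grp (E := p_E0) (List.Mem.tail _ (List.Mem.tail _ (List.Mem.tail _ (List.Mem.tail _ (List.Mem.tail _ (List.Mem.tail _ (List.Mem.tail _ (List.Mem.tail _ (List.Mem.tail _ (List.Mem.tail _ (List.Mem.tail _ (List.Mem.tail _ (List.Mem.tail _ (List.Mem.tail _ (List.Mem.tail _ (List.Mem.tail _ (List.Mem.tail _ (List.Mem.tail _ (List.Mem.tail _ (List.Mem.tail _ (List.Mem.tail _ (List.Mem.tail _ (List.Mem.tail _ (List.Mem.tail _ (List.Mem.tail _ (List.Mem.head _)))))))))))))))))))))))))))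

theorem p_g41_p_T58 : Net.toPerm 280 p_g41 ∈ (grp 280 p_E0) :=
  p_T58_s0.le (toPerm_mem_grp (E := p_E0) (List.Mem.tail _ (List.Mem.tail _ (List.Mem.tail _ (List.Mem.tail _ (List.Mem.tail _ (List.Mem.tail _ (List.Mem.tail _ (List.Mem.tail _ (List.Mem.tail _ (List.Mem.tail _ (List.Mem.tail _ (List.Mem.tail _ (List.Mem.tail _ (List.Mem.tail _ (List.Mem.tail _ (List.Mem.tail _ (List.Mem.tail _ (List.Mem.tail _ (List.Mem.tail _ (List.Mem.tail _ (List.Mem.tail _ (List.Mem.tail _ (List.Mem.tail _ (List.Mem.tail _ (List.Mem.tail _ (List.Mem.tail _ (List.Mem.head _))))))))))))))))))))))))))))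

theorem p_g42_p_T58 : Net.toPerm 280 p_g42 ∈ (grp 280 p_E0) :=
  p_T58_s0.le (toPerm_mem_grp (E := p_E0) (List.Mem.tail _ (List.Mem.tail _ (List.Mem.tail _ (List.Mem.tail _ (List.Mem.tail _ (List.Mem.tail _ (List.Mem.tail _ (List.Mem.tail _ (List.Mem.tail _ (List.Mem.tail _ (List.Mem.tail _ (List.Mem.tail _ (List.Mem.tail _ (List.Mem.tail _ (List.Mem.tail _ (List.Mem.tail _ (List.Mem.tail _ (List.Mem.tail _ (List.Mem.tail _ (List.Mem.tail _ (List.Mem.tail _ (List.Mem.tail _ (List.Mem.tail _ (List.Mem.tail _ (List.Mem.tail _ (List.Mem.tail _ (List.Mem.tail _ (List.Mem.head _)))))))))))))))))))))))))))))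

theorem p_g67_p_T58 : Net.toPerm 280 p_g67 ∈ (grp 280 p_E0) :=
  p_T58_s2.le (toPerm_mem_grp (E := p_V69) (List.Mem.head _))

theorem p_g68_p_T58 : Net.toPerm 280 p_g68 ∈ (grp 280 p_E0) :=
  p_T58_s2.le (toPerm_mem_grp (E := p_V69) (List.Mem.tail _ (List.Mem.head _)))

noncomputable def p_T58_s5_O : ℕ := (nat_lit 0xffffff0000000000000000000000000000000000000000000000000000000000000000000000ffffffffffffffffffffffffffffffff00000000000000000000000000000000000000ffffffffffffffff0000000000000000ffffffffffffffff0000000000000000000000ffffffff00000000ffffffff00000000ffffffff00000000ffffffff00000000ff0000ffff0000ffff0000ffff0000ffff0000ffff0000ffff0000ffff0000ffff000000ff00ff00ff00ff00ff00ff00ff00ff00ff00ff00ff00ff00ff00ff00ff00ff00ff00f0f0f0f0f0f0f0f0f0f0f0f0f0f0f0f0f0f0f0f0f0f0f0f0f0f0f0f0f0f0f0f0f0f0f0ccccccccccccccccccccccccccccccccccccccccccccccccccccccccccccccccccccccaaaaaaaaaaaaaaaaaaaaaaaaaaaaaaaaaaaaaaaaaaaaaaaaaaaaaaaaaaaaaaaaaaaaaa00000000000000000000000000000000000000000000000000000000000000000000010000000000000000000020000000000000000000000000000000000000000000000000000000000000000000001000000000000000000000000000000000000000000000000000000000800000000000000000000000000000000000000000000000000000000000000000000000000000000000000000000000000000000000000000000000000000000002)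

theorem p_T58_s5_F : Frame 280 (grp 280 p_E0) 5 14 p_T58_s5_O 1 1 :=
  IsBase.frame p_T58_s5.isBase (by decide +kernel)

noncomputable def p_T58_s4_O : ℕ := (nat_lit 0x7fefb7db2d32d300c0100019926426687870786020804401020082008220040000424042418281024b3a512bdb47aa26828d9413cd86df1d4e3abad1ee557f2cdc0000000000420e0000508024460ba309e4689a8197810f029e7dff6e798657ca009223f7fff042403de1b7db684b14ff9cab87a428b7c1a86480849cf9b3ecc36aa1af5f5002eb500fb8003de197480189836e743945fa5b49d9d48bb1451e36f8457ebc3115f0afa2e48f0f05a031d1349716e58fe99e3ec8d6c8c2973d1ea4331969cc11f302d5052cbb528b2ccce7185560f8d274570fca7984cf197d22c684ca5baf16e81f502f30db844ae56b42caaad4d40000000000000000000000000000000000000000000000000000000000000000000001000000000000000000002000000000000000000000000000000000000000000000000000000000000000000000100000000000000000000000000000000000000000000000000000000080000000000000000000000000000000000000000000000000000000000000)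

theorem p_T58_s4_F : Frame 280 (grp 280 p_E0) 4 11 p_T58_s4_O 0 1 :=
  Stab.frame p_hn p_T58_s4 (by decide +kernel)

noncomputable def p_T58_s3_O : ℕ := (nat_lit 0x42418281a120c140c0100010d660a068c871503200800008001802000008008a000000208e040002083a000000000800105c10100201c1a040ff112020f810c3f10010225f002ea1a75aba1ac71e51130db910f46194793a0c2df7780031e22208d1c0316610aa5060515f3097456640748eb4400ca112e279120673f02a67ac5462c4a889b301a570660cf81b4e5909d79ebb1789dd4973664302f81faa6a051cf79690c97a6135aa5d684ca16a54000000000000000000000000000000000000000000000000000000000000000000000100000000000000000000200000000000000000000000000000000000000000000000000000000000000000000010000000000000000000000000000000000000000000000000)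

theorem p_T58_s3_F : Frame 280 (grp 280 p_E0) 3 8 p_T58_s3_O 0 1 :=
  Stab.frame p_hn p_T58_s3 (by decide +kernel)

noncomputable def p_T58_s2_O : ℕ := (nat_lit 0x10100000000000000000000000000000000000000000000000000001000000004000000000000000200000000020000000000000000000000000000000024000018100810080000010004000680820400000000000000000000000000000000040008280202000404000000090208000401010100000000000000000000000000000000000000002080200000000000000001010020001004000100020001080110000204000000e000000000000000000004600000000000000008084000018200002080008000800000000000000380000000000000000008041000200001208000042000040008200020020800400000000000000000000001c0000000000800041010000100040a0000000110000000000000200140000000000000000000001c000202800400080010100200000044000002012000000000000000800104000000000002200000022000880000004100200200810010c105000220721092501000081010c080414100044808600081000c120c40088110058004484000108cc4042200302000680220008070080094001242804084401201400000000000000000000000000000000000000000000000000000000000000000000010000000000000000000020000000000000000000000000000000000000000000000000)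

theorem p_T58_s2_F : Frame 280 (grp 280 p_E0) 2 14 p_T58_s2_O 0 1 :=
  Stab.frame p_hn p_T58_s2 (by decide +kernel)

noncomputable def p_T58_s1_O : ℕ := (nat_lit 0x42418281a120c140c00000109060a068483050300000000000000000000000000000000000000000000000000000000000000000000000000000000000000000000000000001)

theorem p_T58_s1_F : Frame 280 (grp 280 p_E0) 1 2 p_T58_s1_O 0 1 :=
  Stab.frame p_hn p_T58_s1 (by decide +kernel)

noncomputable def pt_c1_cnt_L : List ℕ := [1, 2, p_T58_s1_O, 0, 0, 2, 14, p_T58_s2_O, 0, 0, 3, 8, p_T58_s3_O, 0, 0, 4, 11, p_T58_s4_O, 0, 0, 5, 14, p_T58_s5_O, 1, 0]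

theorem pt_c1_cnt_P : Prob 280 9 (grp 280 p_E0) pt_c1_cnt_EG [p_g59] [p_g59] pt_c1_K pt_c1_cnt_L 0 0 :=
  Sym.prob p_hn p_hk pt_c1_sym pt_c1_cnt_EG_ok (grp_cons_le p_g11_p_T58 (grp_cons_le p_g1_p_T58 (grp_cons_le p_g2_p_T58 (grp_cons_le p_g3_p_T58 (grp_cons_le p_g4_p_T58 (grp_cons_le p_g5_p_T58 (grp_cons_le p_g6_p_T58 (grp_cons_le p_g7_p_T58 (grp_cons_le p_g8_p_T58 (grp_cons_le p_g9_p_T58 (grp_cons_le p_g10_p_T58 (grp_cons_le p_g20_p_T58 (grp_cons_le p_g14_p_T58 (grp_cons_le p_g15_p_T58 (grp_cons_le p_g16_p_T58 (grp_cons_le p_g17_p_T58 (grp_cons_le p_g28_p_T58 (grp_cons_le p_g23_p_T58 (grp_cons_le p_g24_p_T58 (grp_cons_le p_g25_p_T58 (grp_cons_le p_g37_p_T58 (grp_cons_le p_g38_p_T58 (grp_cons_le p_g34_p_T58 (grp_cons_le p_g31_p_T58 (grp_cons_le p_g32_p_T58 (grp_cons_le p_g33_p_T58 (grp_cons_le p_g41_p_T58 (grp_cons_le p_g42_p_T58 (grp_cons_le p_g67_p_T58 (grp_cons_le p_g68_p_T58 (grp_nil_le _)))))))))))))))))))))))))))))))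 (Frames.cons p_T58_s1_F (Frames.cons p_T58_s2_F (Frames.cons p_T58_s3_F (Frames.cons p_T58_s4_F (Frames.cons p_T58_s5_F Frames.nil))))) (okE_cons.2 ⟨p_g59_ok, okE_nil _⟩) _

noncomputable def pt_c1_cnt_t : BT := (BT.fix (nat_lit 1) (BT.br (nat_lit 0) (nat_lit 26) [nat_lit 1, nat_lit 3] (BT.kid (nat_lit 26) (nat_lit 144) (BT.frm (nat_lit 0) (nat_lit 3339) (nat_lit 3339) [nat_lit 0] (BT.pln (nat_lit 0) (nat_lit 1) (BT.dif (nat_lit 3) (nat_lit 0) (BT.dif (nat_lit 0) (nat_lit 3) (BT.br (nat_lit 0) (nat_lit 59) [nat_lit 3] (BT.kid (nat_lit 59) (nat_lit 48) (BT.frm (nat_lit 1) (nat_lit 0x2f0d0b) (nat_lit 0x2f0d0b) [nat_lit 0, nat_lit 5] (BT.pln (nat_lit 0) (nat_lit 13) (BT.and (nat_lit 4) (nat_lit 0) (BT.br (nat_lit 0) (nat_lit 166) [nat_lit 5] (BT.kid (nat_lit 166) (nat_lit 24) (BT.pln (nat_lit 3) (nat_lit 11) (BT.and (nat_lit 8) (nat_lit 0) (BT.frm (nat_lit 2) (nat_lit 0x392f0d0b) (nat_lit 0x392f0d0b) [nat_lit 2, nat_lit 6, nat_lit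 11] (BT.pln (nat_lit 0) (nat_lit 4) (BT.dif (nat_lit 2) (nat_lit 0) (BT.br (nat_lit 0) (nat_lit 131) [nat_lit 7, nat_lit 9] (BT.kid (nat_lit 131) (nat_lit 3) (BT.dif (nat_lit 19) (nat_lit 2) (BT.pln (nat_lit 4) (nat_lit 3) (BT.dif (nat_lit 1) (nat_lit 0) (BT.pln (nat_lit 6) (nat_lit 5) (BT.dif (nat_lit 1) (nat_lit 0) (BT.pln (nat_lit 8) (nat_lit 6) (BT.dif (nat_lit 1) (nat_lit 0) (BT.pln (nat_lit 10) (nat_lit 7) (BT.dif (nat_lit 1) (nat_lit 0) (BT.dif (nat_lit 0) (nat_lit 25) (BT.frm (nat_lit 3) (nat_lit 0x3b3b392f0d0b) (nat_lit 0x3b3b392f0d0b) [nat_lit 10, nat_lit 16, nat_lit 20, nat_lit 25] (BT.pln (nat_lit 0) (nat_lit 4) (BT.dif (nat_lit 2) (nat_lit 0) (BT.pln (nat_lit 2) (nat_lit 8) (BT.dif (nat_lit 1) (nat_lit 0) (BT.br (nat_lit 0) (nat_lit 17) [nat_lit 9] (BT.kid (nat_lit 17) (nat_lit 1) (BT.one (nat_lit 4) (nat_lit 0x2b3b3b392f0d0b) (nat_lit 0x2b3b3b392f0d0b) [nat_lit 0, nat_lit 16, nat_lit 22, nat_lit 26, nat_lit 31])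 BT.nil))))))))))))))))) BT.nil))))))) BT.nil))))) BT.nil)))))) BT.nil)))

theorem pt_c1_cnt : Cnt 280 (grp 280 p_E0) [p_g59] [p_g59] 0 0 0 0 1152 :=
  BT.sound pt_c1_cnt_P Known.nil (t := pt_c1_cnt_t) (d := 0) (by decide +kernel)

theorem pt_c1_ge : 1152 ≤ Nat.card (grp 280 pt_c1_K) :=
  Ch.le_card_grp (k := 9) (L := (lab 280 9)) p_hn pt_c1_K_ok (c := (Ch.cons (nat_lit 26) [nat_lit 1] (Ch.cons (nat_lit 59) [nat_lit 3] (Ch.cons (nat_lit 166) [nat_lit 5] (Ch.cons (nat_lit 131) [nat_lit 7] (Ch.cons (nat_lit 17) [nat_lit 9] Ch.nil)))))) (by decide +kernel)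

theorem pt_c1_eq : (grp 280 p_E0) ⊓ Subgroup.centralizer {Net.toPerm 280 p_g59} = grp 280 pt_c1_K :=
  cent_eq pt_c1_sym pt_c1_cnt pt_c1_ge

theorem pt_c1_card : Nat.card ↥((grp 280 p_E0) ⊓ Subgroup.centralizer {Net.toPerm 280 p_g59}) = 1152 :=
  card_cent pt_c1_sym pt_c1_cnt pt_c1_ge

theorem pt_c1_ord : orderOf (Net.toPerm 280 p_g59) = 2 :=
  orderOf_net p_hn p_hk p_g59_ok (by decide) (ps := [2]) (by set_option linter.unusedSimpArgs false in simp [Nat.primeFactorsList_ofNat]) (by decide +kernel)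

theorem p_le80 : grp 280 pt_c2_K ≤ grp 280 p_E0 :=
  grp_le_of_memB p_hn p_hk p_E0_ok pt_c2_K_ok (ws := [nat_lit 0x35292f2719270b2c, nat_lit 0x3631271d22010322, nat_lit 0x362c2d2117341613, nat_lit 0x352c2218310202, nat_lit 0x2c2d211826010322]) (by decide +kernel)

theorem pt_c2_le : grp 280 pt_c2_K ≤ (grp 280 p_E0) :=
  (p_le80.trans p_T58_s0.le)

theorem pt_c2_mem : Net.toPerm 280 p_g74 ∈ (grp 280 p_E0) :=
  pt_c2_le (mem_grp_of_memB p_hn p_hk pt_c2_K_ok p_g74_ok (w := (nat_lit 0xa07030703)) (by decide +kernel))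

theorem pt_c2_sym : Sym 280 (grp 280 p_E0) [p_g74] pt_c2_K 0 :=
  Sym.of_lab p_hn p_hk (okE_cons.2 ⟨p_g74_ok, okE_nil _⟩) pt_c2_K_ok pt_c2_le (kT := 0) (by decide +kernel)

theorem p_T58_s6 : Stab 280 (grp 280 p_E0) [nat_lit 273, nat_lit 0] p_V81 324 :=
  Stab.step (k := 9) (L := (lab 280 9)) p_hn p_T58_s1 p_V81_ok (grp_mono (List.subset_append_right [p_g20, p_g14, p_g15, p_g16, p_g17] _)) (c := (Ch.cons (nat_lit 247) [nat_lit 1, nat_lit 3, nat_lit 5, nat_lit 7] (Ch.cons (nat_lit 1) [nat_lit 9, nat_lit 11, nat_lit 13, nat_lit 15, nat_lit 17, nat_lit 19] (Ch.cons (nat_lit 4) [nat_lit 21, nat_lit 23] Ch.nil)))) (by decide +kernel)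

theorem p_le85 : grp 280 p_V84 ≤ grp 280 p_V81 :=
  grp_le_of_memB p_hn p_hk p_V81_ok p_V84_ok (ws := [nat_lit 0x16091101, nat_lit 0x160c07, nat_lit 15]) (by decide +kernel)

theorem p_T58_s7 : Stab 280 (grp 280 p_E0) [nat_lit 231, nat_lit 273, nat_lit 0] p_V84 12 :=
  Stab.step (k := 9) (L := (lab 280 9)) p_hn p_T58_s6 p_V84_ok p_le85 (c := (Ch.cons (nat_lit 165) [nat_lit 1] (Ch.cons (nat_lit 263) [nat_lit 3] (Ch.cons (nat_lit 35) [nat_lit 5] Ch.nil)))) (by decide +kernel)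

theorem p_T58_s8 : Stab 280 (grp 280 p_E0) [nat_lit 165, nat_lit 231, nat_lit 273, nat_lit 0] p_V86 6 :=
  Stab.step (k := 9) (L := (lab 280 9)) p_hn p_T58_s7 p_V86_ok (grp_mono (List.subset_append_right [p_g82] _)) (c := (Ch.cons (nat_lit 263) [nat_lit 1] (Ch.cons (nat_lit 35) [nat_lit 3] Ch.nil))) (by decide +kernel)

theorem p_T58_s9 : Stab 280 (grp 280 p_E0) [nat_lit 263, nat_lit 165, nat_lit 231, nat_lit 273, nat_lit 0] p_V87 3 :=
  Stab.step (k := 9) (L := (lab 280 9)) p_hn p_T58_s8 p_V87_ok (grp_mono (List.subset_append_right [p_g83] _)) (c := (Ch.cons (nat_lit 35) [nat_lit 1] Ch.nil)) (by decide +kernel)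

theorem p_T58_s10 : Stab 280 (grp 280 p_E0) [nat_lit 35, nat_lit 263, nat_lit 165, nat_lit 231, nat_lit 273, nat_lit 0] p_V88 1 :=
  Stab.step (k := 9) (L := (lab 280 9)) p_hn p_T58_s9 p_V88_ok (grp_mono (List.subset_append_right [p_g31] _)) (c := Ch.nil) (by decide +kernel)

theorem p_g82_p_T58 : Net.toPerm 280 p_g82 ∈ (grp 280 p_E0) :=
  p_T58_s7.le (toPerm_mem_grp (E := p_V84) (List.Mem.head _))

theorem p_g83_p_T58 : Net.toPerm 280 p_g83 ∈ (grp 280 p_E0) :=
  p_T58_s7.le (toPerm_mem_grp (E := p_V84) (List.Mem.tail _ (List.Mem.head _)))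

noncomputable def p_T58_s10_O : ℕ := (nat_lit 0xffffff0000000000000000000000000000000000000000000000000000000000000000000000ffffffffffffffffffffffffffffffff00000000000000000000000000000000000000ffffffffffffffff0000000000000000ffffffffffffffff0000000000000000000000ffffffff00000000ffffffff00000000ffffffff00000000ffffffff00000000ff0000ffff0000ffff0000ffff0000ffff0000ffff0000ffff0000ffff0000ffff000000ff00ff00ff00ff00ff00ff00ff00ff00ff00ff00ff00ff00ff00ff00ff00ff00ff00f0f0f0f0f0f0f0f0f0f0f0f0f0f0f0f0f0f0f0f0f0f0f0f0f0f0f0f0f0f0f0f0f0f0f0ccccccccccccccccccccccccccccccccccccccccccccccccccccccccccccccccccccccaaaaaaaaaaaaaaaaaaaaaaaaaaaaaaaaaaaaaaaaaaaaaaaaaaaaaaaaaaaaaaaaaaaaaa000000000000000000000000000000000000000000000000000000000000000000000102000000000000000000000000000000000000000000000000000000000000000000000000000000008000000000000000000000000000000000000000000000000000000000000000000000000000000000000020000000000000000000000000000000000000000000008000000000000000000000000000000000000000000000000000000000000000000000000000000000000000000000000000000000000000000000000000000800000000)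

theorem p_T58_s10_F : Frame 280 (grp 280 p_E0) 6 15 p_T58_s10_O 1 1 :=
  IsBase.frame p_T58_s10.isBase (by decide +kernel)

noncomputable def p_T58_s9_O : ℕ := (nat_lit 0xfdff7fffffff7fffe0600010906080684830503000000000000000000000000000000040410281a1204140df9fffffef9f5f97b7cfafcffffff818000000000000000000000058200000000000001f9fffef7fffdfeb4c305030000007e7fffffffff4048000000000a5df7fffad1000001f9fffc61860807cf3cfafc8180007e7fff818000bfb7ff4048000215d67f010ae73f8131c7e085779dc042bbcee04c71f84c71f84c71f8b73258b73258085453d4dc2a25ea6d89739a1514f5370a8a7b9a625ce6625ce6625ce62707e62707e6004d6762b226b3b158592f55135bd0ac89ade955164bd5164bd5164bd58da6358da635000000000000000000000000000000000000000000000000000000000000000000000010200000000000000000000000000000000000000000000000000000000000000000000000000000000800000000000000000000000000000000000000000000000000000000000000000000000000000000000002000000000000000000000000000000000000000000000800000000000000000000000000000000000000000000000000000000000000000)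

theorem p_T58_s9_F : Frame 280 (grp 280 p_E0) 5 12 p_T58_s9_O 0 1 :=
  Stab.frame p_hn p_T58_s9 (by decide +kernel)

noncomputable def p_T58_s8_O : ℕ := (nat_lit 0x45c393cbb1e753e9f1747c19d264d66b4cb4d0308200800000000000000000000000005875e6a1a3286954cc0180d62cd008843b482e4f5d7f3ddf3f9edf5fa0000000000000786c24100c1000000608824095398868fa7a7d7fdf7fb6455f2100201ffffff40480003cab929b9e9e7bbc039a7726fcb2d9f8524904ce595323a2e0f81c0c0f27858b732580bdaa9bdf2c3a3250acf3b1ef9e368f00927a1561042c199e2c9561b35624de62707e6085157fecefdb3ef743084628173b0d730e19549d1d2e1c9b028d9b229c8ec358da63500000000000000000000000000000000000000000000000000000000000000000000001020000000000000000000000000000000000000000000000000000000000000000000000000000000080000000000000000000000000000000000000000000000000000000000000000000000000000000000000200000000000000000000000000000000000000000)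

theorem p_T58_s8_F : Frame 280 (grp 280 p_E0) 4 10 p_T58_s8_O 0 1 :=
  Stab.frame p_hn p_T58_s8 (by decide +kernel)

noncomputable def p_T58_s6_O : ℕ := (nat_lit 0x40408001000000000000000000000000000000000000000000000000000000000000000001028080000000000000000000000000000000000000000000000000000000000000000000002120c140c00000109060a06848305030000000000000000000000000000000000000000c1000002060000100040200200028008200804011002080440480000018200000000052840cae170cce464d195814038d8683447d393cac5f196238da635d8f819000000000000000000000000000000000000000000000000000000000000000000000010200000000000000000000000000000000000000000000000000000000000000000000)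

theorem p_T58_s6_F : Frame 280 (grp 280 p_E0) 2 7 p_T58_s6_O 0 1 :=
  Stab.frame p_hn p_T58_s6 (by decide +kernel)

noncomputable def pt_c2_cnt_L : List ℕ := [1, 2, p_T58_s1_O, 0, 0, 2, 7, p_T58_s6_O, 0, 0, 4, 10, p_T58_s8_O, 0, 0, 5, 12, p_T58_s9_O, 0, 0, 6, 15, p_T58_s10_O, 1, 0]

theorem pt_c2_cnt_P : Prob 280 9 (grp 280 p_E0) pt_c2_cnt_EG [p_g74] [p_g74] pt_c2_K pt_c2_cnt_L 0 0 :=
  Sym.prob p_hn p_hk pt_c2_sym pt_c2_cnt_EG_ok (grp_cons_le p_g11_p_T58 (grp_cons_le p_g1_p_T58 (grp_cons_le p_g2_p_T58 (grp_cons_le p_g3_p_T58 (grp_cons_le p_g4_p_T58 (grp_cons_le p_g5_p_T58 (grp_cons_le p_g6_p_T58 (grp_cons_le p_g7_p_T58 (grp_cons_le p_g8_p_T58 (grp_cons_le p_g9_p_T58 (grp_cons_le p_g10_p_T58 (grp_cons_le p_g20_p_T58 (grp_cons_le p_g14_p_T58 (grp_cons_le p_g15_p_T58 (grp_cons_le p_g16_p_T58 (grp_cons_le p_g17_p_T58 (grp_cons_le p_g28_p_T58 (grp_cons_le p_g23_p_T58 (grp_cons_le p_g24_p_T58 (grp_cons_le p_g25_p_T58 (grp_cons_le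 p_g37_p_T58 (grp_cons_le p_g38_p_T58 (grp_cons_le p_g34_p_T58 (grp_cons_le p_g31_p_T58 (grp_cons_le p_g32_p_T58 (grp_cons_le p_g33_p_T58 (grp_cons_le p_g41_p_T58 (grp_cons_le p_g42_p_T58 (grp_cons_le p_g82_p_T58 (grp_cons_le p_g83_p_T58 (grp_nil_le _))))))))))))))))))))))))))))))) (Frames.cons p_T58_s1_F (Frames.cons p_T58_s6_F (Frames.cons p_T58_s8_F (Frames.cons p_T58_s9_F (Frames.cons p_T58_s10_F Frames.nil))))) (okE_cons.2 ⟨p_g74_ok, okE_nil _⟩) _

noncomputable def pt_c2_cnt_t : BT := (BT.fix (nat_lit 1) (BT.br (nat_lit 0) (nat_lit 5) [nat_lit 1, nat_lit 3, nat_lit 5] (BT.dead (nat_lit 110) (BT.frm (nat_lit 0) (nat_lit 65838) (nat_lit 4901) [nat_lit 0] (BT.pln (nat_lit 0) (nat_lit 1) (BT.and (nat_lit 0) (nat_lit 3) (BT.cnt (nat_lit 0))))) (BT.kid (nat_lit 5) (nat_lit 162) (BT.frm (nat_lit 0) (nat_lit 65838) (nat_lit 65838) [nat_lit 0] (BT.pln (nat_lit 0) (nat_lit 1) (BT.dif (nat_lit 0) (nat_lit 3) (BT.br (nat_lit 0) (nat_lit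 176) [nat_lit 3, nat_lit 5, nat_lit 7] (BT.kid (nat_lit 176) (nat_lit 6) (BT.frm (nat_lit 1) (nat_lit 0x173201012e) (nat_lit 0x173201012e) [nat_lit 0, nat_lit 4] (BT.pln (nat_lit 0) (nat_lit 6) (BT.and (nat_lit 4) (nat_lit 0) (BT.img (nat_lit 1) (nat_lit 3) (BT.img (nat_lit 1) (nat_lit 0) (BT.frm (nat_lit 2) (nat_lit 0x3926173201012e) (nat_lit 0x3926173201012e) [nat_lit 0, nat_lit 1, nat_lit 5, nat_lit 9] (BT.pln (nat_lit 0) (nat_lit 5) (BT.and (nat_lit 4) (nat_lit 0) (BT.br (nat_lit 0) (nat_lit 141) [nat_lit 7] (BT.kid (nat_lit 141) (nat_lit 3) (BT.pln (nat_lit 3) (nat_lit 7) (BT.and (nat_lit 3) (nat_lit 0) (BT.pln (nat_lit 5) (nat_lit 4) (BT.dif (nat_lit 1) (nat_lit 0) (BT.pln (nat_lit 7) (nat_lit 6) (BT.dif (nat_lit 1) (nat_lit 0) (BT.pln (nat_lit 9) (nat_lit 8) (BT.dif (nat_lit 1) (nat_lit 0) (BT.dif (nat_lit 0) (nat_lit 22) (BT.frm (nat_lit 3) (nat_lit 0x3926173201012e) (nat_lit 0x3926173201012e) [nat_lit 9, nat_lit 13,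 nat_lit 14, nat_lit 18, nat_lit 22] (BT.pln (nat_lit 0) (nat_lit 5) (BT.dif (nat_lit 2) (nat_lit 0) (BT.br (nat_lit 0) (nat_lit 76) [nat_lit 9] (BT.kid (nat_lit 76) (nat_lit 1) (BT.one (nat_lit 4) (nat_lit 0x3926173201012e) (nat_lit 0x3926173201012e) [nat_lit 0, nat_lit 13, nat_lit 17, nat_lit 18, nat_lit 22, nat_lit 26]) BT.nil)))))))))))))) BT.nil)))))))))) BT.nil))))) BT.nil))))

theorem pt_c2_cnt : Cnt 280 (grp 280 p_E0) [p_g74] [p_g74] 0 0 0 0 5832 :=
  BT.sound pt_c2_cnt_P Known.nil (t := pt_c2_cnt_t) (d := 0) (by decide +kernel)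

theorem pt_c2_ge : 5832 ≤ Nat.card (grp 280 pt_c2_K) :=
  Ch.le_card_grp (k := 9) (L := (lab 280 9)) p_hn pt_c2_K_ok (c := (Ch.cons (nat_lit 5) [nat_lit 1] (Ch.cons (nat_lit 176) [nat_lit 3, nat_lit 5] (Ch.cons (nat_lit 141) [nat_lit 7] (Ch.cons (nat_lit 76) [nat_lit 9] Ch.nil))))) (by decide +kernel)

theorem pt_c2_eq : (grp 280 p_E0) ⊓ Subgroup.centralizer {Net.toPerm 280 p_g74} = grp 280 pt_c2_K :=
  cent_eq pt_c2_sym pt_c2_cnt pt_c2_ge

theorem pt_c2_card : Nat.card ↥((grp 280 p_E0) ⊓ Subgroup.centralizer {Net.toPerm 280 p_g74}) = 5832 :=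
  card_cent pt_c2_sym pt_c2_cnt pt_c2_ge

theorem pt_c2_ord : orderOf (Net.toPerm 280 p_g74) = 3 :=
  orderOf_net p_hn p_hk p_g74_ok (by decide) (ps := [3]) (by set_option linter.unusedSimpArgs false in simp [Nat.primeFactorsList_ofNat]) (by decide +kernel)

theorem p_le95 : grp 280 pt_c3_K ≤ grp 280 p_E0 :=
  grp_le_of_memB p_hn p_hk p_E0_ok pt_c3_K_ok (ws := [nat_lit 0x2b2e2218280328, nat_lit 0x352f2119031d, nat_lit 0x2a3017191d1611, nat_lit 0x3630171f0316, nat_lit 0x352c2d17280118]) (by decide +kernel)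

theorem pt_c3_le : grp 280 pt_c3_K ≤ (grp 280 p_E0) :=
  (p_le95.trans p_T58_s0.le)

theorem pt_c3_mem : Net.toPerm 280 p_g89 ∈ (grp 280 p_E0) :=
  pt_c3_le (mem_grp_of_memB p_hn p_hk pt_c3_K_ok p_g89_ok (w := (nat_lit 0x809060305)) (by decide +kernel))

theorem pt_c3_sym : Sym 280 (grp 280 p_E0) [p_g89] pt_c3_K 0 :=
  Sym.of_lab p_hn p_hk (okE_cons.2 ⟨p_g89_ok, okE_nil _⟩) pt_c3_K_ok pt_c3_le (kT := 0) (by decide +kernel)

theorem p_T58_s11 : Stab 280 (grp 280 p_E0) [nat_lit 247, nat_lit 273, nat_lit 0] p_V96 81 :=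
  Stab.step (k := 9) (L := (lab 280 9)) p_hn p_T58_s6 p_V96_ok (grp_mono (List.subset_append_right [p_g28, p_g23, p_g24, p_g25] _)) (c := (Ch.cons (nat_lit 1) [nat_lit 1, nat_lit 3, nat_lit 5, nat_lit 7, nat_lit 9, nat_lit 11] (Ch.cons (nat_lit 4) [nat_lit 13, nat_lit 15] Ch.nil))) (by decide +kernel)

theorem p_T58_s12 : Stab 280 (grp 280 p_E0) [nat_lit 1, nat_lit 247, nat_lit 273, nat_lit 0] p_V97 3 :=
  Stab.step (k := 9) (L := (lab 280 9)) p_hn p_T58_s11 p_V97_ok (grp_mono (List.subset_append_right [p_g37, p_g38, p_g34, p_g31, p_g32, p_g33] _)) (c := (Ch.cons (nat_lit 4) [nat_lit 1, nat_lit 3] Ch.nil)) (by decide +kernel)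

theorem p_T58_s13 : Stab 280 (grp 280 p_E0) [nat_lit 4, nat_lit 1, nat_lit 247, nat_lit 273, nat_lit 0] p_V98 1 :=
  Stab.step (k := 9) (L := (lab 280 9)) p_hn p_T58_s12 p_V98_ok (grp_mono (List.subset_append_right [p_g41, p_g42] _)) (c := Ch.nil) (by decide +kernel)

noncomputable def p_T58_s13_O : ℕ := (nat_lit 0xffffff0000000000000000000000000000000000000000000000000000000000000000000000ffffffffffffffffffffffffffffffff00000000000000000000000000000000000000ffffffffffffffff0000000000000000ffffffffffffffff0000000000000000000000ffffffff00000000ffffffff00000000ffffffff00000000ffffffff00000000ff0000ffff0000ffff0000ffff0000ffff0000ffff0000ffff0000ffff0000ffff000000ff00ff00ff00ff00ff00ff00ff00ff00ff00ff00ff00ff00ff00ff00ff00ff00ff00f0f0f0f0f0f0f0f0f0f0f0f0f0f0f0f0f0f0f0f0f0f0f0f0f0f0f0f0f0f0f0f0f0f0f0ccccccccccccccccccccccccccccccccccccccccccccccccccccccccccccccccccccccaaaaaaaaaaaaaaaaaaaaaaaaaaaaaaaaaaaaaaaaaaaaaaaaaaaaaaaaaaaaaaaaaaaaaa00000000000000000000000000000000000000000000000000000000000000000000010200000000000000000000000000000000000000000000000000000000000000000000000000008000000000000000000000000000000000000000000000000000000000000000000000000000000000000000000000000000000000000000000000000000000000020000000000000000000000000000000000000000000000000000000000000000000010)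

theorem p_T58_s13_F : Frame 280 (grp 280 p_E0) 5 14 p_T58_s13_O 1 1 :=
  IsBase.frame p_T58_s13.isBase (by decide +kernel)

noncomputable def p_T58_s12_O : ℕ := (nat_lit 0xfdffffff00787ff8800000003fc0bfdffff0000000000000000000000000000000000cfdffe0007f8780077fe1fc3fc03f4020000ffff0000000ffff0000000ffff000000000c0001fff7f87800f401e03ffc83f4030000fffff08070f0000f0087f00000ffff0000c3de01fe079781077003fffc3f62343cff00ff00007f80f0f87fff0000ff00ff00ff0003c1e1e1e168968f73c3f282235df488f0f0f0f09f07d0ffb010f0fca0f0f0f0f0f0f0031999999666666662672ca8cd4cd554cccccccc694cd566cb1999cb2acccccccccccc8a95555554cd4cd55154ab9957157330aaaaaaaaaad5193399aa552ae6aaaaaaaaaaaa40000000000000000000000000000000000000000000000000000000000000000000001020000000000000000000000000000000000000000000000000000000000000000000000000000800000000000000000000000000000000000000000000000000000000000000000000000000000000000000000000000000000000000000000000000000000000002)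

theorem p_T58_s12_F : Frame 280 (grp 280 p_E0) 4 11 p_T58_s12_O 0 1 :=
  Stab.frame p_hn p_T58_s12 (by decide +kernel)

noncomputable def p_T58_s11_O : ℕ := (nat_lit 0x4000000000000000000000000000000000000000000000000000000000000000000000004000000000000000000000000000000000000000000000000000000000000000000000010000000000000000000000000000000000000000000000000000000000000000000000800000000000000000000000000000000000000000000000000000000000000000000002000000000000000000000000000000000000000000000000000000000000000000000080000000000000000000000000000000000000000000000000000000000000000000000100000000000000000000000000000000000000000000000000000000000000000000002120c140c00000109060a0684830503000000000000000000000000000000000000000008000a0040080400410080401000200040c0020804818000088001404800000000000000820100082010020800083040000040102020040204011000018205020000000000000410001080100a00002010080020108180000820080040c0101008220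040000000000400004020208020040005000008480004011010020140102000042480201000000000002000804010044000109000002080401002010040c020040205020010100800000000000021200001030080200040010400040208044010200820082200400004240000000000c1000002060000100040200200028008200804011002080440480000018200000000010040008100408060800001000010082004028180001002018020100880010000000000000000000000000000000000000000000000000000000000000000000000102000000000000000000000000000000000000000000000000000000000000000000000000000080000000000000000000000000000000000000000000000000000000000000)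

theorem p_T58_s11_F : Frame 280 (grp 280 p_E0) 3 19 p_T58_s11_O 0 1 :=
  Stab.frame p_hn p_T58_s11 (by decide +kernel)

noncomputable def pt_c3_cnt_L : List ℕ := [1, 2, p_T58_s1_O, 0, 0, 2, 7, p_T58_s6_O, 0, 0, 3, 19, p_T58_s11_O, 0, 0, 4, 11, p_T58_s12_O, 0, 0, 5, 14, p_T58_s13_O, 1, 0]

theorem pt_c3_cnt_P : Prob 280 9 (grp 280 p_E0) pt_c3_cnt_EG [p_g89] [p_g89] pt_c3_K pt_c3_cnt_L 0 0 :=
  Sym.prob p_hn p_hk pt_c3_sym pt_c3_cnt_EG_ok (grp_cons_le p_g11_p_T58 (grp_cons_le p_g1_p_T58 (grp_cons_le p_g2_p_T58 (grp_cons_le p_g3_p_T58 (grp_cons_le p_g4_p_T58 (grp_cons_le p_g5_p_T58 (grp_cons_le p_g6_p_T58 (grp_cons_le p_g7_p_T58 (grp_cons_le p_g8_p_T58 (grp_cons_le p_g9_p_T58 (grp_cons_le p_g10_p_T58 (grp_cons_le p_g20_p_T58 (grp_cons_le p_g14_p_T58 (grp_cons_le p_g15_p_T58 (grp_cons_le p_g16_p_T58 (grp_cons_le p_g17_p_T58 (grp_cons_le p_g28_p_T58 (grp_cons_le p_g23_p_T58 (grp_cons_le p_g24_p_T58 (grp_cons_le p_g25_p_T58 (grp_cons_le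 p_g37_p_T58 (grp_cons_le p_g38_p_T58 (grp_cons_le p_g34_p_T58 (grp_cons_le p_g31_p_T58 (grp_cons_le p_g32_p_T58 (grp_cons_le p_g33_p_T58 (grp_cons_le p_g41_p_T58 (grp_cons_le p_g42_p_T58 (grp_nil_le _))))))))))))))))))))))))))))) (Frames.cons p_T58_s1_F (Frames.cons p_T58_s6_F (Frames.cons p_T58_s11_F (Frames.cons p_T58_s12_F (Frames.cons p_T58_s13_F Frames.nil))))) (okE_cons.2 ⟨p_g89_ok, okE_nil _⟩) _

noncomputable def pt_c3_cnt_t : BT := (BT.fix (nat_lit 1) (BT.br (nat_lit 0) (nat_lit 17) [nat_lit 1, nat_lit 3] (BT.dead (nat_lit 67) (BT.frm (nat_lit 0) (nat_lit 139531) (nat_lit 139522) [nat_lit 0] (BT.pln (nat_lit 0) (nat_lit 1) (BT.dif (nat_lit 0) (nat_lit 3) (BT.br (nat_lit 0) (nat_lit 62) [nat_lit 461314, nat_lit 198147, nat_lit 2306] (BT.dead (nat_lit 19) (BT.frm (nat_lit 1) (nat_lit 0x1e02210b) (nat_lit 0x1d022102) [nat_lit 0, nat_lit 4] (BT.pln (nat_lit 0) (nat_lit 4) (BT.img (nat_lit 1) (nat_lit 2) (BT.and (nat_lit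 1) (nat_lit 0) (BT.cnt (nat_lit 0)))))) BT.nil))))) (BT.kid (nat_lit 17) (nat_lit 243) (BT.frm (nat_lit 0) (nat_lit 139531) (nat_lit 139531) [nat_lit 0] (BT.pln (nat_lit 0) (nat_lit 1) (BT.dif (nat_lit 0) (nat_lit 3) (BT.br (nat_lit 0) (nat_lit 62) [nat_lit 3, nat_lit 5] (BT.kid (nat_lit 62) (nat_lit 9) (BT.frm (nat_lit 1) (nat_lit 0x1e02210b) (nat_lit 0x1e02210b) [nat_lit 0, nat_lit 4] (BT.pln (nat_lit 0) (nat_lit 3) (BT.img (nat_lit 1) (nat_lit 0) (BT.br (nat_lit 0) (nat_lit 273) [nat_lit 7, nat_lit 9] (BT.dead (nat_lit 220) (BT.img (nat_lit 1) (nat_lit 4) (BT.frm (nat_lit 3) (nat_lit 0x2a2f221e02210b) (nat_lit 0x2c2d221e02210b) [nat_lit 1, nat_lit 0, nat_lit 5, nat_lit 9] (BT.pln (nat_lit 0) (nat_lit 5) (BT.img (nat_lit 1) (nat_lit 3) (BT.img (nat_lit 1) (nat_lit 0) (BT.and (nat_lit 2) (nat_lit 0) (BT.cnt (nat_lit 0)))))))) (BT.dead (nat_lit 5) (BT.img (nat_lit 1) (nat_lit 4) (BT.frm (nat_lit 3) (nat_lit 0x2a2f221e02210b)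 (nat_lit 0x2c221e02210b) [nat_lit 1, nat_lit 0, nat_lit 5, nat_lit 9] (BT.pln (nat_lit 0) (nat_lit 5) (BT.img (nat_lit 1) (nat_lit 3) (BT.and (nat_lit 1) (nat_lit 0) (BT.cnt (nat_lit 0))))))) (BT.kid (nat_lit 273) (nat_lit 1) (BT.img (nat_lit 1) (nat_lit 4) (BT.frm (nat_lit 2) (nat_lit 0x221e02210b) (nat_lit 0x221e02210b) [nat_lit 0, nat_lit 5, nat_lit 9] (BT.pln (nat_lit 0) (nat_lit 3) (BT.frm (nat_lit 3) (nat_lit 0x2a2f221e02210b) (nat_lit 0x2a2f221e02210b) [nat_lit 3, nat_lit 2, nat_lit 7, nat_lit 11] (BT.pln (nat_lit 0) (nat_lit 4) (BT.dif (nat_lit 2) (nat_lit 0) (BT.pln (nat_lit 2) (nat_lit 8) (BT.dif (nat_lit 1) (nat_lit 0) (BT.pln (nat_lit 6) (nat_lit 9) (BT.and (nat_lit 0) (nat_lit 4) (BT.pln (nat_lit 6) (nat_lit 6) (BT.dif (nat_lit 1) (nat_lit 0) (BT.and (nat_lit 0) (nat_lit 5) (BT.pln (nat_lit 11) (nat_lit 10) (BT.dif (nat_lit 0) (nat_lit 9) (BT.pln (nat_lit 11) (nat_lit 5) (BT.and (nat_lit 1) (nat_lit 0) (BT.pln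 (nat_lit 13) (nat_lit 7) (BT.and (nat_lit 1) (nat_lit 0) (BT.pln (nat_lit 15) (nat_lit 10) (BT.dif (nat_lit 1) (nat_lit 0) (BT.and (nat_lit 18) (nat_lit 5) (BT.dif (nat_lit 0) (nat_lit 11) (BT.pln (nat_lit 19) (nat_lit 9) (BT.and (nat_lit 1) (nat_lit 0) (BT.and (nat_lit 16) (nat_lit 9) (BT.dif (nat_lit 0) (nat_lit 19) (BT.and (nat_lit 13) (nat_lit 7) (BT.and (nat_lit 0) (nat_lit 12) (BT.img (nat_lit 1) (nat_lit 0) (BT.and (nat_lit 3) (nat_lit 0) (BT.img (nat_lit 1) (nat_lit 0) (BT.dif (nat_lit 7) (nat_lit 0) (BT.img (nat_lit 1) (nat_lit 0) (BT.and (nat_lit 13) (nat_lit 0) (BT.img (nat_lit 1) (nat_lit 0) (BT.dif (nat_lit 23) (nat_lit 0) (BT.img (nat_lit 1) (nat_lit 0) (BT.and (nat_lit 30) (nat_lit 0) (BT.one (nat_lit 4) (nat_lit 0x352a2f221e02210b) (nat_lit 0x352a2f221e02210b) [nat_lit 0, nat_lit 39, nat_lit 38, nat_lit 43, nat_lit 47])))))))))))))))))))))))))))))))))))))))) BT.nil))))))) BT.nil))))) BT.nil))))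

theorem pt_c3_cnt : Cnt 280 (grp 280 p_E0) [p_g89] [p_g89] 0 0 0 0 972 :=
  BT.sound pt_c3_cnt_P Known.nil (t := pt_c3_cnt_t) (d := 0) (by decide +kernel)

theorem pt_c3_ge : 972 ≤ Nat.card (grp 280 pt_c3_K) :=
  Ch.le_card_grp (k := 9) (L := (lab 280 9)) p_hn pt_c3_K_ok (c := (Ch.cons (nat_lit 17) [nat_lit 1] (Ch.cons (nat_lit 62) [nat_lit 3, nat_lit 5] (Ch.cons (nat_lit 273) [nat_lit 7, nat_lit 9] Ch.nil)))) (by decide +kernel)

theorem pt_c3_eq : (grp 280 p_E0) ⊓ Subgroup.centralizer {Net.toPerm 280 p_g89} = grp 280 pt_c3_K :=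
  cent_eq pt_c3_sym pt_c3_cnt pt_c3_ge

theorem pt_c3_card : Nat.card ↥((grp 280 p_E0) ⊓ Subgroup.centralizer {Net.toPerm 280 p_g89}) = 972 :=
  card_cent pt_c3_sym pt_c3_cnt pt_c3_ge

theorem pt_c3_ord : orderOf (Net.toPerm 280 p_g89) = 3 :=
  orderOf_net p_hn p_hk p_g89_ok (by decide) (ps := [3]) (by set_option linter.unusedSimpArgs false in simp [Nat.primeFactorsList_ofNat]) (by decide +kernel)

theorem p_le105 : grp 280 pt_c4_K ≤ grp 280 p_E0 :=
  grp_le_of_memB p_hn p_hk p_E0_ok pt_c4_K_ok (ws := [nat_lit 0x352a302218260217, nat_lit 0x2e211927021d, nat_lit 0x35292e211d22010b, nat_lit 0x2e3021172811, nat_lit 0x2d221725022209]) (by decide +kernel)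

theorem pt_c4_le : grp 280 pt_c4_K ≤ (grp 280 p_E0) :=
  (p_le105.trans p_T58_s0.le)

theorem pt_c4_mem : Net.toPerm 280 p_g99 ∈ (grp 280 p_E0) :=
  pt_c4_le (mem_grp_of_memB p_hn p_hk pt_c4_K_ok p_g99_ok (w := (nat_lit 0x7090503)) (by decide +kernel))

theorem pt_c4_sym : Sym 280 (grp 280 p_E0) [p_g99] pt_c4_K 0 :=
  Sym.of_lab p_hn p_hk (okE_cons.2 ⟨p_g99_ok, okE_nil _⟩) pt_c4_K_ok pt_c4_le (kT := 0) (by decide +kernel)

theorem p_le111 : grp 280 p_V110 ≤ grp 280 p_V81 :=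
  grp_le_of_memB p_hn p_hk p_V81_ok p_V110_ok (ws := [nat_lit 0x160a0d, nat_lit 0x150d0f, nat_lit 0x160910, nat_lit 0x150a0d]) (by decide +kernel)

theorem p_T58_s14 : Stab 280 (grp 280 p_E0) [nat_lit 270, nat_lit 273, nat_lit 0] p_V110 81 :=
  Stab.step (k := 9) (L := (lab 280 9)) p_hn p_T58_s6 p_V110_ok p_le111 (c := (Ch.cons (nat_lit 216) [nat_lit 1, nat_lit 3, nat_lit 5] (Ch.cons (nat_lit 114) [nat_lit 7] Ch.nil))) (by decide +kernel)

theorem p_T58_s15 : Stab 280 (grp 280 p_E0) [nat_lit 216, nat_lit 270, nat_lit 273, nat_lit 0] p_V112 3 :=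
  Stab.step (k := 9) (L := (lab 280 9)) p_hn p_T58_s14 p_V112_ok (grp_mono (List.subset_append_right [p_g106, p_g107, p_g108] _)) (c := (Ch.cons (nat_lit 114) [nat_lit 1] Ch.nil)) (by decide +kernel)

theorem p_T58_s16 : Stab 280 (grp 280 p_E0) [nat_lit 114, nat_lit 216, nat_lit 270, nat_lit 273, nat_lit 0] p_V113 1 :=
  Stab.step (k := 9) (L := (lab 280 9)) p_hn p_T58_s15 p_V113_ok (grp_mono (List.subset_append_right [p_g109] _)) (c := Ch.nil) (by decide +kernel)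

theorem p_g106_p_T58 : Net.toPerm 280 p_g106 ∈ (grp 280 p_E0) :=
  p_T58_s14.le (toPerm_mem_grp (E := p_V110) (List.Mem.head _))

theorem p_g107_p_T58 : Net.toPerm 280 p_g107 ∈ (grp 280 p_E0) :=
  p_T58_s14.le (toPerm_mem_grp (E := p_V110) (List.Mem.tail _ (List.Mem.head _)))

theorem p_g108_p_T58 : Net.toPerm 280 p_g108 ∈ (grp 280 p_E0) :=
  p_T58_s14.le (toPerm_mem_grp (E := p_V110) (List.Mem.tail _ (List.Mem.tail _ (List.Mem.head _))))

theorem p_g109_p_T58 : Net.toPerm 280 p_g109 ∈ (grp 280 p_E0) :=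
  p_T58_s14.le (toPerm_mem_grp (E := p_V110) (List.Mem.tail _ (List.Mem.tail _ (List.Mem.tail _ (List.Mem.head _)))))

noncomputable def p_T58_s16_O : ℕ := (nat_lit 0xffffff0000000000000000000000000000000000000000000000000000000000000000000000ffffffffffffffffffffffffffffffff00000000000000000000000000000000000000ffffffffffffffff0000000000000000ffffffffffffffff0000000000000000000000ffffffff00000000ffffffff00000000ffffffff00000000ffffffff00000000ff0000ffff0000ffff0000ffff0000ffff0000ffff0000ffff0000ffff0000ffff000000ff00ff00ff00ff00ff00ff00ff00ff00ff00ff00ff00ff00ff00ff00ff00ff00ff00f0f0f0f0f0f0f0f0f0f0f0f0f0f0f0f0f0f0f0f0f0f0f0f0f0f0f0f0f0f0f0f0f0f0f0ccccccccccccccccccccccccccccccccccccccccccccccccccccccccccccccccccccccaaaaaaaaaaaaaaaaaaaaaaaaaaaaaaaaaaaaaaaaaaaaaaaaaaaaaaaaaaaaaaaaaaaaaa00000000000000000000000000000000000000000000000000000000000000000000010200000000000000000000000000000000000000000000000000000000000000000000004000000000000000000000000000000000000000000000000000000000000000000000000000000000010000000000000000000000000000000000000000000000000000000000000000000000000000000000000000000000040000000000000000000000000000)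

theorem p_T58_s16_F : Frame 280 (grp 280 p_E0) 5 14 p_T58_s16_O 1 1 :=
  IsBase.frame p_T58_s16.isBase (by decide +kernel)

noncomputable def p_T58_s15_O : ℕ := (nat_lit 0xe59bdbffa1e181e0c80100b01472a96cc9325328180000820080040c01010082200400400182818e534a042df375e5890f131394c781d3e271f95cbd52e2f3faaa400000000041190000100c7c103376c403e10d4290148d809fdff7b9ba64bfd50c01411ffffc0400a482dbffcc597194a9e8f51bc3bd420f6241205d9bea9ee711852fd9c4141f7003fa002082dbfd6b96f416362962a1de0306700bb88cdbbf9b25dc2b4c2ac43bd1be8d83c1e0b404c372eac06f5a42c96fc2ade561ab8b04f4db5532c312cdbb23153d38394e733198ec80cd8afb1b56ba631d1f2691d80fb5386ec21ce8ba734a0b31acb4a267152b4aad540000000000000000000000000000000000000000000000000000000000000000000001020000000000000000000000000000000000000000000000000000000000000000000000400000000000000000000000000000000000000000000000000000000000000000000000000000000001000000000000000000000000000000000000000000000000000000)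

theorem p_T58_s15_F : Frame 280 (grp 280 p_E0) 4 11 p_T58_s15_O 0 1 :=
  Stab.frame p_hn p_T58_s15 (by decide +kernel)

noncomputable def p_T58_s14_O : ℕ := (nat_lit 0x4000000000000000000000000000000000000000000000000000000000000000000000000100000000000000000000000000000000000000000000000000000000000000000000008000000000000000000000000000000000000000000000000000000000000000000000020000000000000000000000000000000000000000000000000000000000000000000000800000000000000000000000000000000000000000000000000000000000000000000001000000000000000000000000000000000000000000000000000000000000000000000080000000000000000000000000000000000000000000000000000000000000000000002120c140c00000109060a0684830503000000000000000000000000000000000000000008000a0040080400410080401000200040c0020804818000088001404800000000000000820100082010020800083040000040102020040204011000018205020000000000000410001080100a00002010080020108180000820080040c0101008220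040000000000400004020208020040005000008480004011010020140102000042480201000000000002000804010044000109000002080401002010040c020040205020010100800000000000021200001030080200040010400040208044010200820082200400004240000000000c1000002060000100040200200028008200804011002080440480000018200000000010040008100408060800001000010082004028180001002018020100880010000000000000000000000000000000000000000000000000000000000000000000000102000000000000000000000000000000000000000000000000000000000000000000000040000000000000000000000000000000000000000000000000000000000000000000)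

theorem p_T58_s14_F : Frame 280 (grp 280 p_E0) 3 19 p_T58_s14_O 0 1 :=
  Stab.frame p_hn p_T58_s14 (by decide +kernel)

noncomputable def pt_c4_cnt_L : List ℕ := [1, 2, p_T58_s1_O, 0, 0, 2, 7, p_T58_s6_O, 0, 0, 3, 19, p_T58_s14_O, 0, 0, 4, 11, p_T58_s15_O, 0, 0, 5, 14, p_T58_s16_O, 1, 0]

theorem pt_c4_cnt_P : Prob 280 9 (grp 280 p_E0) pt_c4_cnt_EG [p_g99] [p_g99] pt_c4_K pt_c4_cnt_L 0 0 :=
  Sym.prob p_hn p_hk pt_c4_sym pt_c4_cnt_EG_ok (grp_cons_le p_g11_p_T58 (grp_cons_le p_g1_p_T58 (grp_cons_le p_g2_p_T58 (grp_cons_le p_g3_p_T58 (grp_cons_le p_g4_p_T58 (grp_cons_le p_g5_p_T58 (grp_cons_le p_g6_p_T58 (grp_cons_le p_g7_p_T58 (grp_cons_le p_g8_p_T58 (grp_cons_le p_g9_p_T58 (grp_cons_le p_g10_p_T58 (grp_cons_le p_g20_p_T58 (grp_cons_le p_g14_p_T58 (grp_cons_le p_g15_p_T58 (grp_cons_le p_g16_p_T58 (grp_cons_le p_g17_p_T58 (grp_cons_le p_g28_p_T58 (grp_cons_le p_g23_p_T58 (grp_cons_le p_g24_p_T58 (grp_cons_le p_g25_p_T58 (grp_cons_le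 p_g37_p_T58 (grp_cons_le p_g38_p_T58 (grp_cons_le p_g34_p_T58 (grp_cons_le p_g31_p_T58 (grp_cons_le p_g32_p_T58 (grp_cons_le p_g33_p_T58 (grp_cons_le p_g41_p_T58 (grp_cons_le p_g42_p_T58 (grp_cons_le p_g106_p_T58 (grp_cons_le p_g107_p_T58 (grp_cons_le p_g108_p_T58 (grp_cons_le p_g109_p_T58 (grp_nil_le _))))))))))))))))))))))))))))))))) (Frames.cons p_T58_s1_F (Frames.cons p_T58_s6_F (Frames.cons p_T58_s14_F (Frames.cons p_T58_s15_F (Frames.cons p_T58_s16_F Frames.nil))))) (okE_cons.2 ⟨p_g99_ok, okE_nil _⟩) _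

noncomputable def pt_c4_cnt_t : BT := (BT.fix (nat_lit 1) (BT.br (nat_lit 0) (nat_lit 26) [nat_lit 1, nat_lit 3] (BT.dead (nat_lit 71) (BT.frm (nat_lit 0) (nat_lit 3339) (nat_lit 67375) [nat_lit 0] (BT.pln (nat_lit 0) (nat_lit 1) (BT.dif (nat_lit 0) (nat_lit 3) (BT.br (nat_lit 0) (nat_lit 211) [nat_lit 0x903080103, nat_lit 656135, nat_lit 0x90308050103] (BT.dead (nat_lit 151) (BT.frm (nat_lit 1) (nat_lit 0x190d0b) (nat_lit 0x172801072f) [nat_lit 0, nat_lit 4] (BT.pln (nat_lit 0) (nat_lit 4) (BT.img (nat_lit 1) (nat_lit 2) (BT.and (nat_lit 1) (nat_lit 0) (BT.cnt (nat_lit 0)))))) BT.nil))))) (BT.kid (nat_lit 26) (nat_lit 243) (BT.frm (nat_lit 0) (nat_lit 3339) (nat_lit 3339) [nat_lit 0] (BT.pln (nat_lit 0) (nat_lit 1) (BT.dif (nat_lit 0) (nat_lit 3) (BT.br (nat_lit 0) (nat_lit 211) [nat_lit 3, nat_lit 5] (BT.kid (nat_lit 211) (nat_lit 9) (BT.img (nat_lit 1) (nat_lit 0) (BT.frm (nat_lit 2) (nat_lit 0x27190d0b) (nat_lit 0x27190d0b)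 [nat_lit 0, nat_lit 1, nat_lit 5] (BT.pln (nat_lit 0) (nat_lit 8) (BT.br (nat_lit 0) (nat_lit 2) [nat_lit 7, nat_lit 9] (BT.dead (nat_lit 46) (BT.frm (nat_lit 3) (nat_lit 0x3a3c27190d0b) (nat_lit 0x393b3e27190d0b) [nat_lit 0, nat_lit 3, nat_lit 4, nat_lit 8] (BT.pln (nat_lit 0) (nat_lit 5) (BT.img (nat_lit 1) (nat_lit 2) (BT.img (nat_lit 1) (nat_lit 0) (BT.and (nat_lit 2) (nat_lit 0) (BT.cnt (nat_lit 0))))))) (BT.dead (nat_lit 43) (BT.frm (nat_lit 3) (nat_lit 0x3a3c27190d0b) (nat_lit 0x3d27190d0b) [nat_lit 0, nat_lit 3, nat_lit 4, nat_lit 8] (BT.pln (nat_lit 0) (nat_lit 4) (BT.img (nat_lit 1) (nat_lit 2) (BT.and (nat_lit 1) (nat_lit 0) (BT.cnt (nat_lit 0)))))) (BT.kid (nat_lit 2) (nat_lit 1) (BT.pln (nat_lit 2) (nat_lit 10) (BT.frm (nat_lit 3) (nat_lit 0x3a3c27190d0b) (nat_lit 0x3a3c27190d0b) [nat_lit 1, nat_lit 4, nat_lit 5, nat_lit 9] (BT.pln (nat_lit 0) (nat_lit 5) (BT.and (nat_lit 2) (nat_lit 0) (BT.pln (nat_lit 2) (nat_lit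 8) (BT.and (nat_lit 1) (nat_lit 0) (BT.pln (nat_lit 4) (nat_lit 7) (BT.and (nat_lit 8) (nat_lit 0) (BT.and (nat_lit 0) (nat_lit 5) (BT.pln (nat_lit 7) (nat_lit 4) (BT.dif (nat_lit 1) (nat_lit 0) (BT.pln (nat_lit 9) (nat_lit 6) (BT.dif (nat_lit 1) (nat_lit 0) (BT.and (nat_lit 0) (nat_lit 8) (BT.img (nat_lit 1) (nat_lit 0) (BT.and (nat_lit 9) (nat_lit 0) (BT.one (nat_lit 4) (nat_lit 0x3f3a3c27190d0b) (nat_lit 0x3f3a3c27190d0b) [nat_lit 0, nat_lit 16, nat_lit 19, nat_lit 20, nat_lit 24]))))))))))))))))) BT.nil))))))) BT.nil))))) BT.nil))))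

theorem pt_c4_cnt : Cnt 280 (grp 280 p_E0) [p_g99] [p_g99] 0 0 0 0 972 :=
  BT.sound pt_c4_cnt_P Known.nil (t := pt_c4_cnt_t) (d := 0) (by decide +kernel)

theorem pt_c4_ge : 972 ≤ Nat.card (grp 280 pt_c4_K) :=
  Ch.le_card_grp (k := 9) (L := (lab 280 9)) p_hn pt_c4_K_ok (c := (Ch.cons (nat_lit 26) [nat_lit 1] (Ch.cons (nat_lit 211) [nat_lit 3, nat_lit 5] (Ch.cons (nat_lit 2) [nat_lit 7, nat_lit 9] Ch.nil)))) (by decide +kernel)

theorem pt_c4_eq : (grp 280 p_E0) ⊓ Subgroup.centralizer {Net.toPerm 280 p_g99} = grp 280 pt_c4_K :=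
  cent_eq pt_c4_sym pt_c4_cnt pt_c4_ge

theorem pt_c4_card : Nat.card ↥((grp 280 p_E0) ⊓ Subgroup.centralizer {Net.toPerm 280 p_g99}) = 972 :=
  card_cent pt_c4_sym pt_c4_cnt pt_c4_ge

theorem pt_c4_ord : orderOf (Net.toPerm 280 p_g99) = 3 :=
  orderOf_net p_hn p_hk p_g99_ok (by decide) (ps := [3]) (by set_option linter.unusedSimpArgs false in simp [Nat.primeFactorsList_ofNat]) (by decide +kernel)

theorem p_le118 : grp 280 pt_c5_K ≤ grp 280 p_E0 :=
  grp_le_of_memB p_hn p_hk p_E0_ok pt_c5_K_ok (ws := [nat_lit 0x352b2e211922072b, nat_lit 0x3631171d0110, nat_lit 0x36293118031d, nat_lit 0x36321722021d]) (by decide +kernel)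

theorem pt_c5_le : grp 280 pt_c5_K ≤ (grp 280 p_E0) :=
  (p_le118.trans p_T58_s0.le)

theorem pt_c5_mem : Net.toPerm 280 p_g114 ∈ (grp 280 p_E0) :=
  pt_c5_le (toPerm_mem_grp (E := pt_c5_K) (List.Mem.head _))

theorem pt_c5_sym : Sym 280 (grp 280 p_E0) [p_g114] pt_c5_K 0 :=
  Sym.of_lab p_hn p_hk (okE_cons.2 ⟨p_g114_ok, okE_nil _⟩) pt_c5_K_ok pt_c5_le (kT := 0) (by decide +kernel)

noncomputable def pt_c5_cnt_L : List ℕ := [1, 2, p_T58_s1_O, 0, 0, 2, 7, p_T58_s6_O, 0, 0, 3, 19, p_T58_s14_O, 0, 0, 4, 11, p_T58_s15_O, 0, 0, 5, 14, p_T58_s16_O, 1, 0]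

theorem pt_c5_cnt_P : Prob 280 9 (grp 280 p_E0) pt_c5_cnt_EG [p_g114] [p_g114] pt_c5_K pt_c5_cnt_L 0 0 :=
  Sym.prob p_hn p_hk pt_c5_sym pt_c5_cnt_EG_ok (grp_cons_le p_g11_p_T58 (grp_cons_le p_g1_p_T58 (grp_cons_le p_g2_p_T58 (grp_cons_le p_g3_p_T58 (grp_cons_le p_g4_p_T58 (grp_cons_le p_g5_p_T58 (grp_cons_le p_g6_p_T58 (grp_cons_le p_g7_p_T58 (grp_cons_le p_g8_p_T58 (grp_cons_le p_g9_p_T58 (grp_cons_le p_g10_p_T58 (grp_cons_le p_g20_p_T58 (grp_cons_le p_g14_p_T58 (grp_cons_le p_g15_p_T58 (grp_cons_le p_g16_p_T58 (grp_cons_le p_g17_p_T58 (grp_cons_le p_g28_p_T58 (grp_cons_le p_g23_p_T58 (grp_cons_le p_g24_p_T58 (grp_cons_le p_g25_p_T58 (grp_cons_le p_g37_p_T58 (grp_cons_le p_g38_p_T58 (grp_cons_le p_g34_p_T58 (grp_cons_le p_g31_p_T58 (grp_cons_le p_g32_p_T58 (grp_cons_le p_g33_p_T58 (grp_cons_le p_g41_p_T58 (grp_cons_le p_g42_p_T58 (grp_cons_le p_g106_p_T58 (grp_cons_le p_g107_p_T58 (grp_cons_le p_g108_p_T58 (grp_cons_le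 p_g109_p_T58 (grp_nil_le _))))))))))))))))))))))))))))))))) (Frames.cons p_T58_s1_F (Frames.cons p_T58_s6_F (Frames.cons p_T58_s14_F (Frames.cons p_T58_s15_F (Frames.cons p_T58_s16_F Frames.nil))))) (okE_cons.2 ⟨p_g114_ok, okE_nil _⟩) _

noncomputable def pt_c5_cnt_t : BT := (BT.fix (nat_lit 1) (BT.frm (nat_lit 0) (nat_lit 3339) (nat_lit 3339) [nat_lit 0] (BT.pln (nat_lit 0) (nat_lit 1) (BT.br (nat_lit 0) (nat_lit 211) [nat_lit 1, nat_lit 3] (BT.dead (nat_lit 181) (BT.img (nat_lit 1) (nat_lit 0) (BT.frm (nat_lit 2) (nat_lit 0x190d0b) (nat_lit 0x2217320d0b) [nat_lit 0, nat_lit 1, nat_lit 4] (BT.pln (nat_lit 0) (nat_lit 8) (BT.br (nat_lit 0) (nat_lit 6) [nat_lit 1282, nat_lit 1288] (BT.dead (nat_lit 42) (BT.frm (nat_lit 3) (nat_lit 0x393c3d190d0b) (nat_lit 0x3a3c3d2217320d0b) [nat_lit 0, nat_lit 3, nat_lit 4, nat_lit 7] (BT.pln (nat_lit 0) (nat_lit 4) (BT.img (nat_lit 1) (nat_lit 2) (BT.img (nat_lit 1) (nat_lit 0) (BT.and (nat_lit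 2) (nat_lit 0) (BT.cnt (nat_lit 0))))))) (BT.dead (nat_lit 3) (BT.frm (nat_lit 3) (nat_lit 0x393c3d190d0b) (nat_lit 0x3a3b3e2217320d0b) [nat_lit 0, nat_lit 3, nat_lit 4, nat_lit 7] (BT.pln (nat_lit 0) (nat_lit 5) (BT.img (nat_lit 1) (nat_lit 2) (BT.and (nat_lit 1) (nat_lit 0) (BT.cnt (nat_lit 0)))))) (BT.dead (nat_lit 46) (BT.frm (nat_lit 3) (nat_lit 0x393c3d190d0b) (nat_lit 0x3a2217320d0b) [nat_lit 0, nat_lit 3, nat_lit 4, nat_lit 7] (BT.pln (nat_lit 0) (nat_lit 5) (BT.img (nat_lit 1) (nat_lit 2) (BT.img (nat_lit 1) (nat_lit 0) (BT.and (nat_lit 2) (nat_lit 0) (BT.cnt (nat_lit 0))))))) BT.nil))))))) (BT.dead (nat_lit 129) (BT.frm (nat_lit 1) (nat_lit 0x190d0b) (nat_lit 0x17250d0b) [nat_lit 0, nat_lit 3] (BT.pln (nat_lit 0) (nat_lit 5) (BT.img (nat_lit 1) (nat_lit 2) (BT.and (nat_lit 1) (nat_lit 0) (BT.cnt (nat_lit 0)))))) (BT.dead (nat_lit 131) (BT.frm (nat_lit 1) (nat_lit 0x190d0b) (nat_lit 0x17170d0b) [nat_lit 0, nat_lit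 3] (BT.pln (nat_lit 0) (nat_lit 5) (BT.img (nat_lit 1) (nat_lit 2) (BT.and (nat_lit 1) (nat_lit 0) (BT.cnt (nat_lit 0)))))) (BT.kid (nat_lit 211) (nat_lit 9) (BT.img (nat_lit 1) (nat_lit 0) (BT.frm (nat_lit 2) (nat_lit 0x190d0b) (nat_lit 0x190d0b) [nat_lit 0, nat_lit 1, nat_lit 4] (BT.pln (nat_lit 0) (nat_lit 8) (BT.br (nat_lit 0) (nat_lit 6) [nat_lit 5, nat_lit 7] (BT.dead (nat_lit 38) (BT.frm (nat_lit 3) (nat_lit 0x393c3d190d0b) (nat_lit 0x3a3b3d190d0b) [nat_lit 0, nat_lit 3, nat_lit 4, nat_lit 7] (BT.pln (nat_lit 0) (nat_lit 4) (BT.img (nat_lit 1) (nat_lit 2) (BT.and (nat_lit 1) (nat_lit 0) (BT.cnt (nat_lit 0)))))) (BT.dead (nat_lit 62) (BT.frm (nat_lit 3) (nat_lit 0x393c3d190d0b) (nat_lit 0x3a3e190d0b) [nat_lit 0, nat_lit 3, nat_lit 4, nat_lit 7] (BT.pln (nat_lit 0) (nat_lit 4) (BT.img (nat_lit 1) (nat_lit 2) (BT.img (nat_lit 1) (nat_lit 0) (BT.and (nat_lit 2) (nat_lit 0) (BT.cnt (nat_lit 0))))))) (BT.kid (nat_lit 6) (nat_lit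 1) (BT.img (nat_lit 1) (nat_lit 0) (BT.one (nat_lit 4) (nat_lit 0x40393c3d190d0b) (nat_lit 0x40393c3d190d0b) [nat_lit 0, nat_lit 1, nat_lit 4, nat_lit 5, nat_lit 8])) BT.nil))))))) BT.nil))))))))

theorem pt_c5_cnt : Cnt 280 (grp 280 p_E0) [p_g114] [p_g114] 0 0 0 0 81 :=
  BT.sound pt_c5_cnt_P Known.nil (t := pt_c5_cnt_t) (d := 0) (by decide +kernel)

theorem pt_c5_ge : 81 ≤ Nat.card (grp 280 pt_c5_K) :=
  Ch.le_card_grp (k := 9) (L := (lab 280 9)) p_hn pt_c5_K_ok (c := (Ch.cons (nat_lit 211) [nat_lit 1, nat_lit 3] (Ch.cons (nat_lit 6) [nat_lit 5, nat_lit 7] Ch.nil))) (by decide +kernel)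

theorem pt_c5_eq : (grp 280 p_E0) ⊓ Subgroup.centralizer {Net.toPerm 280 p_g114} = grp 280 pt_c5_K :=
  cent_eq pt_c5_sym pt_c5_cnt pt_c5_ge

theorem pt_c5_card : Nat.card ↥((grp 280 p_E0) ⊓ Subgroup.centralizer {Net.toPerm 280 p_g114}) = 81 :=
  card_cent pt_c5_sym pt_c5_cnt pt_c5_ge

theorem pt_c5_ord : orderOf (Net.toPerm 280 p_g114) = 3 :=
  orderOf_net p_hn p_hk p_g114_ok (by decide) (ps := [3]) (by set_option linter.unusedSimpArgs false in simp [Nat.primeFactorsList_ofNat]) (by decide +kernel)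

theorem p_le123 : grp 280 pt_c6_K ≤ grp 280 p_E0 :=
  grp_le_of_memB p_hn p_hk p_E0_ok pt_c6_K_ok (ws := [nat_lit 0x35292e2118310110, nat_lit 0x32180730, nat_lit 0x362a302217250f01, nat_lit 0x352e2719270320]) (by decide +kernel)

theorem pt_c6_le : grp 280 pt_c6_K ≤ (grp 280 p_E0) :=
  (p_le123.trans p_T58_s0.le)

theorem pt_c6_mem : Net.toPerm 280 p_g119 ∈ (grp 280 p_E0) :=
  pt_c6_le (toPerm_mem_grp (E := pt_c6_K) (List.Mem.head _))

theorem pt_c6_sym : Sym 280 (grp 280 p_E0) [p_g119] pt_c6_K 0 :=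
  Sym.of_lab p_hn p_hk (okE_cons.2 ⟨p_g119_ok, okE_nil _⟩) pt_c6_K_ok pt_c6_le (kT := 0) (by decide +kernel)

noncomputable def pt_c6_cnt_L : List ℕ := [1, 2, p_T58_s1_O, 0, 0, 2, 14, p_T58_s2_O, 0, 0, 3, 8, p_T58_s3_O, 0, 0, 4, 11, p_T58_s4_O, 0, 0, 5, 14, p_T58_s5_O, 1, 0]

theorem pt_c6_cnt_P : Prob 280 9 (grp 280 p_E0) pt_c6_cnt_EG [p_g119] [p_g119] pt_c6_K pt_c6_cnt_L 0 0 :=
  Sym.prob p_hn p_hk pt_c6_sym pt_c6_cnt_EG_ok (grp_cons_le p_g11_p_T58 (grp_cons_le p_g1_p_T58 (grp_cons_le p_g2_p_T58 (grp_cons_le p_g3_p_T58 (grp_cons_le p_g4_p_T58 (grp_cons_le p_g5_p_T58 (grp_cons_le p_g6_p_T58 (grp_cons_le p_g7_p_T58 (grp_cons_le p_g8_p_T58 (grp_cons_le p_g9_p_T58 (grp_cons_le p_g10_p_T58 (grp_cons_le p_g20_p_T58 (grp_cons_le p_g14_p_T58 (grp_cons_le p_g15_p_T58 (grp_cons_le p_g16_p_T58 (grp_cons_le p_g17_p_T58 (grp_cons_le p_g28_p_T58 (grp_cons_le p_g23_p_T58 (grp_cons_le p_g24_p_T58 (grp_cons_le p_g25_p_T58 (grp_cons_le p_g37_p_T58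 (grp_cons_le p_g38_p_T58 (grp_cons_le p_g34_p_T58 (grp_cons_le p_g31_p_T58 (grp_cons_le p_g32_p_T58 (grp_cons_le p_g33_p_T58 (grp_cons_le p_g41_p_T58 (grp_cons_le p_g42_p_T58 (grp_cons_le p_g67_p_T58 (grp_cons_le p_g68_p_T58 (grp_nil_le _))))))))))))))))))))))))))))))) (Frames.cons p_T58_s1_F (Frames.cons p_T58_s2_F (Frames.cons p_T58_s3_F (Frames.cons p_T58_s4_F (Frames.cons p_T58_s5_F Frames.nil))))) (okE_cons.2 ⟨p_g119_ok, okE_nil _⟩) _

noncomputable def pt_c6_cnt_t : BT := (BT.fix (nat_lit 257) (BT.fix (nat_lit 1) (BT.dif (nat_lit 1) (nat_lit 0) (BT.br (nat_lit 0) (nat_lit 28) [nat_lit 3] (BT.kid (nat_lit 28) (nat_lit 24) (BT.dif (nat_lit 1) (nat_lit 0) (BT.img (nat_lit 1) (nat_lit 1) (BT.dif (nat_lit 1) (nat_lit 0) (BT.br (nat_lit 0) (nat_lit 89) [] (BT.dead (nat_lit 181) (BT.frm (nat_lit 0) (nat_lit 789) (nat_lit 789) [nat_lit 4] (BT.pln (nat_lit 0) (nat_lit 1) (BT.frm (nat_lit 1) (nat_lit 0x1728300315) (nat_lit 0x1728300315)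 [nat_lit 4, nat_lit 6] (BT.pln (nat_lit 0) (nat_lit 11) (BT.and (nat_lit 2) (nat_lit 0) (BT.frm (nat_lit 2) (nat_lit 0x1728300315) (nat_lit 0x391728300315) [nat_lit 5, nat_lit 7, nat_lit 9] (BT.pln (nat_lit 0) (nat_lit 4) (BT.dif (nat_lit 2) (nat_lit 0) (BT.br (nat_lit 0) (nat_lit 83) [nat_lit 5, nat_lit 7] (BT.dead (nat_lit 215) (BT.frm (nat_lit 3) (nat_lit 0x1728300315) (nat_lit 0x3b2b391728300315) [nat_lit 0, nat_lit 9, nat_lit 11, nat_lit 13] (BT.pln (nat_lit 0) (nat_lit 5) (BT.img (nat_lit 1) (nat_lit 2) (BT.and (nat_lit 1) (nat_lit 0) (BT.cnt (nat_lit 0)))))) BT.nil)))))))))) (BT.kid (nat_lit 89) (nat_lit 24) (BT.frm (nat_lit 0) (nat_lit 789) (nat_lit 789) [nat_lit 4] (BT.pln (nat_lit 0) (nat_lit 1) (BT.frm (nat_lit 1) (nat_lit 0x1728300315) (nat_lit 0x1728300315) [nat_lit 4, nat_lit 6] (BT.pln (nat_lit 0) (nat_lit 11) (BT.and (nat_lit 2) (nat_lit 0) (BT.frm (nat_lit 2) (nat_lit 0x1728300315) (nat_lit 0x1728300315) [nat_lit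 5, nat_lit 7, nat_lit 9] (BT.pln (nat_lit 0) (nat_lit 4) (BT.dif (nat_lit 2) (nat_lit 0) (BT.br (nat_lit 0) (nat_lit 83) [nat_lit 5, nat_lit 7] (BT.kid (nat_lit 83) (nat_lit 3) (BT.dif (nat_lit 19) (nat_lit 2) (BT.pln (nat_lit 4) (nat_lit 3) (BT.dif (nat_lit 1) (nat_lit 0) (BT.pln (nat_lit 6) (nat_lit 5) (BT.dif (nat_lit 1) (nat_lit 0) (BT.pln (nat_lit 8) (nat_lit 6) (BT.dif (nat_lit 1) (nat_lit 0) (BT.pln (nat_lit 10) (nat_lit 7) (BT.dif (nat_lit 1) (nat_lit 0) (BT.dif (nat_lit 0) (nat_lit 25) (BT.frm (nat_lit 3) (nat_lit 0x1728300315) (nat_lit 0x1728300315) [nat_lit 10, nat_lit 19, nat_lit 21, nat_lit 23] (BT.pln (nat_lit 0) (nat_lit 4) (BT.dif (nat_lit 2) (nat_lit 0) (BT.pln (nat_lit 2) (nat_lit 8) (BT.dif (nat_lit 1) (nat_lit 0) (BT.br (nat_lit 0) (nat_lit 105) [nat_lit 7] (BT.kid (nat_lit 105) (nat_lit 1) (BT.one (nat_lit 4) (nat_lit 0x2c1728300315) (nat_lit 0x2c1728300315) [nat_lit 0, nat_lit 16, nat_lit 25, nat_lit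 27, nat_lit 29]) BT.nil))))))))))))))))) BT.nil)))))))))) BT.nil)))))) BT.nil)))))

theorem pt_c6_cnt : Cnt 280 (grp 280 p_E0) [p_g119] [p_g119] 0 0 0 0 96 :=
  BT.sound pt_c6_cnt_P Known.nil (t := pt_c6_cnt_t) (d := 0) (by decide +kernel)

theorem pt_c6_ge : 96 ≤ Nat.card (grp 280 pt_c6_K) :=
  Ch.le_card_grp (k := 9) (L := (lab 280 9)) p_hn pt_c6_K_ok (c := (Ch.cons (nat_lit 28) [nat_lit 1, nat_lit 3] (Ch.cons (nat_lit 83) [nat_lit 5] (Ch.cons (nat_lit 105) [nat_lit 7] Ch.nil)))) (by decide +kernel)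

theorem pt_c6_eq : (grp 280 p_E0) ⊓ Subgroup.centralizer {Net.toPerm 280 p_g119} = grp 280 pt_c6_K :=
  cent_eq pt_c6_sym pt_c6_cnt pt_c6_ge

theorem pt_c6_card : Nat.card ↥((grp 280 p_E0) ⊓ Subgroup.centralizer {Net.toPerm 280 p_g119}) = 96 :=
  card_cent pt_c6_sym pt_c6_cnt pt_c6_ge

theorem pt_c6_ord : orderOf (Net.toPerm 280 p_g119) = 4 :=
  orderOf_net p_hn p_hk p_g119_ok (by decide) (ps := [2]) (by set_option linter.unusedSimpArgs false in simp [Nat.primeFactorsList_ofNat]) (by decide +kernel)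

theorem p_le127 : grp 280 pt_c7_K ≤ grp 280 p_E0 :=
  grp_le_of_memB p_hn p_hk p_E0_ok pt_c7_K_ok (ws := [nat_lit 0x362a2d21020d, nat_lit 0x292d171f1509, nat_lit 0x352f2001072f]) (by decide +kernel)

theorem pt_c7_le : grp 280 pt_c7_K ≤ (grp 280 p_E0) :=
  (p_le127.trans p_T58_s0.le)

theorem pt_c7_mem : Net.toPerm 280 p_g124 ∈ (grp 280 p_E0) :=
  pt_c7_le (toPerm_mem_grp (E := pt_c7_K) (List.Mem.head _))

theorem pt_c7_sym : Sym 280 (grp 280 p_E0) [p_g124] pt_c7_K 0 :=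
  Sym.of_lab p_hn p_hk (okE_cons.2 ⟨p_g124_ok, okE_nil _⟩) pt_c7_K_ok pt_c7_le (kT := 0) (by decide +kernel)

theorem p_le131 : grp 280 p_V130 ≤ grp 280 p_V69 :=
  grp_le_of_memB p_hn p_hk p_V69_ok p_V130_ok (ws := [nat_lit 1029, nat_lit 263681]) (by decide +kernel)

theorem p_T58_s17 : Stab 280 (grp 280 p_E0) [nat_lit 230, nat_lit 197, nat_lit 0] p_V130 12 :=
  Stab.step (k := 9) (L := (lab 280 9)) p_hn p_T58_s2 p_V130_ok p_le131 (c := (Ch.cons (nat_lit 165) [nat_lit 1] (Ch.cons (nat_lit 107) [nat_lit 3] Ch.nil))) (by decide +kernel)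

theorem p_T58_s18 : Stab 280 (grp 280 p_E0) [nat_lit 165, nat_lit 230, nat_lit 197, nat_lit 0] p_V132 4 :=
  Stab.step (k := 9) (L := (lab 280 9)) p_hn p_T58_s17 p_V132_ok (grp_mono (List.subset_append_right [p_g128] _)) (c := (Ch.cons (nat_lit 107) [nat_lit 1] Ch.nil)) (by decide +kernel)

theorem p_T58_s19 : Stab 280 (grp 280 p_E0) [nat_lit 107, nat_lit 165, nat_lit 230, nat_lit 197, nat_lit 0] p_V133 1 :=
  Stab.step (k := 9) (L := (lab 280 9)) p_hn p_T58_s18 p_V133_ok (grp_mono (List.subset_append_right [p_g129] _)) (c := Ch.nil) (by decide +kernel)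

theorem p_g128_p_T58 : Net.toPerm 280 p_g128 ∈ (grp 280 p_E0) :=
  p_T58_s17.le (toPerm_mem_grp (E := p_V130) (List.Mem.head _))

theorem p_g129_p_T58 : Net.toPerm 280 p_g129 ∈ (grp 280 p_E0) :=
  p_T58_s17.le (toPerm_mem_grp (E := p_V130) (List.Mem.tail _ (List.Mem.head _)))

noncomputable def p_T58_s19_O : ℕ := (nat_lit 0xffffff0000000000000000000000000000000000000000000000000000000000000000000000ffffffffffffffffffffffffffffffff00000000000000000000000000000000000000ffffffffffffffff0000000000000000ffffffffffffffff0000000000000000000000ffffffff00000000ffffffff00000000ffffffff00000000ffffffff00000000ff0000ffff0000ffff0000ffff0000ffff0000ffff0000ffff0000ffff0000ffff000000ff00ff00ff00ff00ff00ff00ff00ff00ff00ff00ff00ff00ff00ff00ff00ff00ff00f0f0f0f0f0f0f0f0f0f0f0f0f0f0f0f0f0f0f0f0f0f0f0f0f0f0f0f0f0f0f0f0f0f0f0ccccccccccccccccccccccccccccccccccccccccccccccccccccccccccccccccccccccaaaaaaaaaaaaaaaaaaaaaaaaaaaaaaaaaaaaaaaaaaaaaaaaaaaaaaaaaaaaaaaaaaaaaa00000000000000000000000000000000000000000000000000000000000000000000010000000000000000000020000000000000000000000000000000000000000000000000000000000000400000000000000000000000000000000000000000000000000000000000000000000000000000000000002000000000000000000000000000000000000000000000000000000000000000000000000000000000000800000000000000000000000000)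

theorem p_T58_s19_F : Frame 280 (grp 280 p_E0) 5 14 p_T58_s19_O 1 1 :=
  IsBase.frame p_T58_s19.isBase (by decide +kernel)

noncomputable def p_T58_s18_O : ℕ := (nat_lit 0x1000031248140c61810600002000000000020000000000000000000000000000000fb68caf58e19201d18048298f2e497fbde7a54d360f154e7dde1e2b0dfff0000000000de7a8b858cd00cba0181cb15bbe8c1ef6fbd555854aca2661f0da50b0000f7dddc00006b5497b7c0d83aa910038e999461cf685871f311261d73d882d40ba3dc00efd223fa0084f3301b080a22ac0093de1cb0f091e3beeaada3b649b8957c4c5abb81f0fa2da3c5e0f2b25d9aed60ad6ec8a5ca0bd1298d8dc1d96a86ee10d726d18f5a84534cc9ac53319875968bc255c3a11786531c33fd6596e1675893d88a27fc8549589f256baab1494aad540000000000000000000000000000000000000000000000000000000000000000000001000000000000000000002000000000000000000000000000000000000000000000000000000000000040000000000000000000000000000000000000000000000000000000000000000000000000000000000000200000000000000000000000000000000000000000)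

theorem p_T58_s18_F : Frame 280 (grp 280 p_E0) 4 11 p_T58_s18_O 0 1 :=
  Stab.frame p_hn p_T58_s18 (by decide +kernel)

noncomputable def p_T58_s17_O : ℕ := (nat_lit 0x4245e6a1a1208140d8141090b4f0a86ace325532404121a22c514031045420000018209c3b08167f3c874ac61b9e684b0b6195b10a822b22d0845493a86c90925994197ae000a8bf240c18123c1e07119b2447183d85014d09e090b0ff4df098b20953a8a0aad41fe066da9793a160b960c0a34c1bda60dce968f9f11cae90f70d828e3e8552a8fd9f0b93180b54103f9398bb0397d159be05c042fb99ed6d037a16327e86b14b8dbc41acf6e74a94000000000000000000000000000000000000000000000000000000000000000000000100000000000000000000200000000000000000000000000000000000000000000000000000000000004000000000000000000000000000000000000000000000000000000000)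

theorem p_T58_s17_F : Frame 280 (grp 280 p_E0) 3 8 p_T58_s17_O 0 1 :=
  Stab.frame p_hn p_T58_s17 (by decide +kernel)

noncomputable def pt_c7_cnt_L : List ℕ := [1, 2, p_T58_s1_O, 0, 0, 3, 8, p_T58_s17_O, 0, 0, 4, 11, p_T58_s18_O, 0, 0, 5, 14, p_T58_s19_O, 1, 0]

theorem pt_c7_cnt_P : Prob 280 9 (grp 280 p_E0) pt_c7_cnt_EG [p_g124] [p_g124] pt_c7_K pt_c7_cnt_L 0 0 :=
  Sym.prob p_hn p_hk pt_c7_sym pt_c7_cnt_EG_ok (grp_cons_le p_g11_p_T58 (grp_cons_le p_g1_p_T58 (grp_cons_le p_g2_p_T58 (grp_cons_le p_g3_p_T58 (grp_cons_le p_g4_p_T58 (grp_cons_le p_g5_p_T58 (grp_cons_le p_g6_p_T58 (grp_cons_le p_g7_p_T58 (grp_cons_le p_g8_p_T58 (grp_cons_le p_g9_p_T58 (grp_cons_le p_g10_p_T58 (grp_cons_le p_g20_p_T58 (grp_cons_le p_g14_p_T58 (grp_cons_le p_g15_p_T58 (grp_cons_le p_g16_p_T58 (grp_cons_le p_g17_p_T58 (grp_cons_le p_g28_p_T58 (grp_cons_le p_g23_p_T58 (grp_cons_le p_g24_p_T58 (grp_cons_le p_g25_p_T58 (grp_cons_le p_g37_p_T58 (grp_cons_le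 p_g38_p_T58 (grp_cons_le p_g34_p_T58 (grp_cons_le p_g31_p_T58 (grp_cons_le p_g32_p_T58 (grp_cons_le p_g33_p_T58 (grp_cons_le p_g41_p_T58 (grp_cons_le p_g42_p_T58 (grp_cons_le p_g67_p_T58 (grp_cons_le p_g68_p_T58 (grp_cons_le p_g128_p_T58 (grp_cons_le p_g129_p_T58 (grp_nil_le _))))))))))))))))))))))))))))))))) (Frames.cons p_T58_s1_F (Frames.cons p_T58_s17_F (Frames.cons p_T58_s18_F (Frames.cons p_T58_s19_F Frames.nil)))) (okE_cons.2 ⟨p_g124_ok, okE_nil _⟩) _

noncomputable def pt_c7_cnt_t : BT := (BT.fix (nat_lit 257) (BT.fix (nat_lit 1) (BT.dif (nat_lit 1) (nat_lit 0) (BT.br (nat_lit 0) (nat_lit 80) [nat_lit 3] (BT.kid (nat_lit 80) (nat_lit 4) (BT.frm (nat_lit 0) (nat_lit 3841) (nat_lit 3841) [nat_lit 0] (BT.pln (nat_lit 0) (nat_lit 1) (BT.and (nat_lit 3) (nat_lit 0) (BT.br (nat_lit 0) (nat_lit 135) [] (BT.dead (nat_lit 170) (BT.dif (nat_lit 10) (nat_lit 2) (BT.img (nat_lit 1) (nat_lit 5) (BT.frm (nat_lit 1) (nat_lit 0x39222b0f01)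 (nat_lit 0x222b0f01) [nat_lit 2, nat_lit 0, nat_lit 6] (BT.pln (nat_lit 0) (nat_lit 3) (BT.dif (nat_lit 3) (nat_lit 0) (BT.pln (nat_lit 2) (nat_lit 5) (BT.dif (nat_lit 1) (nat_lit 0) (BT.pln (nat_lit 4) (nat_lit 6) (BT.dif (nat_lit 1) (nat_lit 0) (BT.pln (nat_lit 6) (nat_lit 4) (BT.dif (nat_lit 1) (nat_lit 0) (BT.pln (nat_lit 8) (nat_lit 7) (BT.dif (nat_lit 1) (nat_lit 0) (BT.dif (nat_lit 18) (nat_lit 17) (BT.dif (nat_lit 0) (nat_lit 14) (BT.dif (nat_lit 0) (nat_lit 13) (BT.frm (nat_lit 2) (nat_lit 0x39222b0f01) (nat_lit 0x3e222b0f01) [nat_lit 0, nat_lit 16, nat_lit 14, nat_lit 20] (BT.pln (nat_lit 0) (nat_lit 6) (BT.and (nat_lit 5) (nat_lit 0) (BT.br (nat_lit 0) (nat_lit 94) [nat_lit 5] (BT.dead (nat_lit 46) (BT.frm (nat_lit 3) (nat_lit 0x4039222b0f01) (nat_lit 0x3f3e222b0f01) [nat_lit 0, nat_lit 4, nat_lit 20, nat_lit 18, nat_lit 24] (BT.pln (nat_lit 0) (nat_lit 6) (BT.img (nat_lit 1) (nat_lit 2) (BT.and (nat_lit 1) (nat_lit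 0) (BT.cnt (nat_lit 0)))))) BT.nil))))))))))))))))))))) (BT.kid (nat_lit 135) (nat_lit 4) (BT.dif (nat_lit 10) (nat_lit 2) (BT.img (nat_lit 1) (nat_lit 5) (BT.frm (nat_lit 1) (nat_lit 0x39222b0f01) (nat_lit 0x39222b0f01) [nat_lit 2, nat_lit 0, nat_lit 6] (BT.pln (nat_lit 0) (nat_lit 3) (BT.dif (nat_lit 3) (nat_lit 0) (BT.pln (nat_lit 2) (nat_lit 5) (BT.dif (nat_lit 1) (nat_lit 0) (BT.pln (nat_lit 4) (nat_lit 6) (BT.dif (nat_lit 1) (nat_lit 0) (BT.pln (nat_lit 6) (nat_lit 4) (BT.dif (nat_lit 1) (nat_lit 0) (BT.pln (nat_lit 8) (nat_lit 7) (BT.dif (nat_lit 1) (nat_lit 0) (BT.dif (nat_lit 18) (nat_lit 17) (BT.dif (nat_lit 0) (nat_lit 14) (BT.dif (nat_lit 0) (nat_lit 13) (BT.frm (nat_lit 2) (nat_lit 0x39222b0f01) (nat_lit 0x39222b0f01) [nat_lit 0, nat_lit 16, nat_lit 14, nat_lit 20] (BT.pln (nat_lit 0) (nat_lit 6) (BT.and (nat_lit 5) (nat_lit 0) (BT.br (nat_lit 0) (nat_lit 94) [nat_lit 5] (BT.kid (nat_lit 94) (nat_lit 1) (BT.one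 (nat_lit 3) (nat_lit 0x4039222b0f01) (nat_lit 0x4039222b0f01) [nat_lit 0, nat_lit 4, nat_lit 20, nat_lit 18, nat_lit 24]) BT.nil))))))))))))))))))))) BT.nil)))))) BT.nil)))))

theorem pt_c7_cnt : Cnt 280 (grp 280 p_E0) [p_g124] [p_g124] 0 0 0 0 16 :=
  BT.sound pt_c7_cnt_P Known.nil (t := pt_c7_cnt_t) (d := 0) (by decide +kernel)

theorem pt_c7_ge : 16 ≤ Nat.card (grp 280 pt_c7_K) :=
  Ch.le_card_grp (k := 9) (L := (lab 280 9)) p_hn pt_c7_K_ok (c := (Ch.cons (nat_lit 80) [nat_lit 1, nat_lit 3] (Ch.cons (nat_lit 94) [nat_lit 5] Ch.nil))) (by decide +kernel)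

theorem pt_c7_eq : (grp 280 p_E0) ⊓ Subgroup.centralizer {Net.toPerm 280 p_g124} = grp 280 pt_c7_K :=
  cent_eq pt_c7_sym pt_c7_cnt pt_c7_ge

theorem pt_c7_card : Nat.card ↥((grp 280 p_E0) ⊓ Subgroup.centralizer {Net.toPerm 280 p_g124}) = 16 :=
  card_cent pt_c7_sym pt_c7_cnt pt_c7_ge

theorem pt_c7_ord : orderOf (Net.toPerm 280 p_g124) = 4 :=
  orderOf_net p_hn p_hk p_g124_ok (by decide) (ps := [2]) (by set_option linter.unusedSimpArgs false in simp [Nat.primeFactorsList_ofNat]) (by decide +kernel)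

theorem p_le135 : grp 280 pt_c8_K ≤ grp 280 p_E0 :=
  grp_le_of_memB p_hn p_hk p_E0_ok pt_c8_K_ok (ws := [nat_lit 0x362c2d21171e071d]) (by decide +kernel)

theorem pt_c8_le : grp 280 pt_c8_K ≤ (grp 280 p_E0) :=
  (p_le135.trans p_T58_s0.le)

theorem pt_c8_mem : Net.toPerm 280 p_g134 ∈ (grp 280 p_E0) :=
  pt_c8_le (toPerm_mem_grp (E := pt_c8_K) (List.Mem.head _))

theorem pt_c8_sym : Sym 280 (grp 280 p_E0) [p_g134] pt_c8_K 0 :=
  Sym.of_lab p_hn p_hk (okE_cons.2 ⟨p_g134_ok, okE_nil _⟩) pt_c8_K_ok pt_c8_le (kT := 0) (by decide +kernel)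

noncomputable def pt_c8_cnt_L : List ℕ := [1, 2, p_T58_s1_O, 0, 0, 2, 7, p_T58_s6_O, 0, 0, 3, 19, p_T58_s11_O, 0, 0, 4, 11, p_T58_s12_O, 0, 0, 5, 14, p_T58_s13_O, 1, 0]

theorem pt_c8_cnt_P : Prob 280 9 (grp 280 p_E0) pt_c8_cnt_EG [p_g134] [p_g134] pt_c8_K pt_c8_cnt_L 0 0 :=
  Sym.prob p_hn p_hk pt_c8_sym pt_c8_cnt_EG_ok (grp_cons_le p_g11_p_T58 (grp_cons_le p_g1_p_T58 (grp_cons_le p_g2_p_T58 (grp_cons_le p_g3_p_T58 (grp_cons_le p_g4_p_T58 (grp_cons_le p_g5_p_T58 (grp_cons_le p_g6_p_T58 (grp_cons_le p_g7_p_T58 (grp_cons_le p_g8_p_T58 (grp_cons_le p_g9_p_T58 (grp_cons_le p_g10_p_T58 (grp_cons_le p_g20_p_T58 (grp_cons_le p_g14_p_T58 (grp_cons_le p_g15_p_T58 (grp_cons_le p_g16_p_T58 (grp_cons_le p_g17_p_T58 (grp_cons_le p_g28_p_T58 (grp_cons_le p_g23_p_T58 (grp_cons_le p_g24_p_T58 (grp_cons_le p_g25_p_T58 (grp_cons_le p_g37_p_T58 (grp_cons_le p_g38_p_T58 (grp_cons_le p_g34_p_T58 (grp_cons_le p_g31_p_T58 (grp_cons_le p_g32_p_T58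 (grp_cons_le p_g33_p_T58 (grp_cons_le p_g41_p_T58 (grp_cons_le p_g42_p_T58 (grp_nil_le _))))))))))))))))))))))))))))) (Frames.cons p_T58_s1_F (Frames.cons p_T58_s6_F (Frames.cons p_T58_s11_F (Frames.cons p_T58_s12_F (Frames.cons p_T58_s13_F Frames.nil))))) (okE_cons.2 ⟨p_g134_ok, okE_nil _⟩) _

noncomputable def pt_c8_cnt_t : BT := (BT.br (nat_lit 2) (nat_lit 0) [nat_lit 1] (BT.dead (nat_lit 125) (BT.frm (nat_lit 0) (nat_lit 0) (nat_lit 537) [nat_lit 0] (BT.pln (nat_lit 0) (nat_lit 1) (BT.img (nat_lit 1) (nat_lit 0) (BT.and (nat_lit 1) (nat_lit 0) (BT.img (nat_lit 1) (nat_lit 0) (BT.img (nat_lit 1) (nat_lit 0) (BT.and (nat_lit 4) (nat_lit 0) (BT.frm (nat_lit 1) (nat_lit 8222) (nat_lit 0x181a0219) [nat_lit 0, nat_lit 7] (BT.pln (nat_lit 0) (nat_lit 4) (BT.dif (nat_lit 5) (nat_lit 0) (BT.frm (nat_lit 2) (nat_lit 0x22201e) (nat_lit 0x21181a0219) [nat_lit 0, nat_lit 3, nat_lit 10] (BT.pln (nat_lit 0) (nat_lit 3) (BT.and (nat_lit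 0) (nat_lit 7) (BT.cnt (nat_lit 0))))))))))))))) (BT.dead (nat_lit 20) (BT.frm (nat_lit 0) (nat_lit 0) (nat_lit 1301) [nat_lit 0] (BT.pln (nat_lit 0) (nat_lit 1) (BT.img (nat_lit 1) (nat_lit 0) (BT.and (nat_lit 1) (nat_lit 0) (BT.img (nat_lit 1) (nat_lit 0) (BT.img (nat_lit 1) (nat_lit 0) (BT.and (nat_lit 4) (nat_lit 0) (BT.frm (nat_lit 1) (nat_lit 8222) (nat_lit 0x17250515) [nat_lit 0, nat_lit 7] (BT.pln (nat_lit 0) (nat_lit 4) (BT.dif (nat_lit 5) (nat_lit 0) (BT.frm (nat_lit 2) (nat_lit 0x22201e) (nat_lit 0x2117250515) [nat_lit 0, nat_lit 3, nat_lit 10] (BT.pln (nat_lit 0) (nat_lit 3) (BT.and (nat_lit 0) (nat_lit 7) (BT.cnt (nat_lit 0))))))))))))))) (BT.dead (nat_lit 28) (BT.img (nat_lit 1) (nat_lit 0) (BT.frm (nat_lit 0) (nat_lit 0) (nat_lit 789) [nat_lit 1] (BT.pln (nat_lit 0) (nat_lit 1) (BT.img (nat_lit 1) (nat_lit 0) (BT.and (nat_lit 1) (nat_lit 0) (BT.img (nat_lit 1) (nat_lit 0) (BT.img (nat_lit 1) (nat_lit 0) (BT.and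 (nat_lit 4) (nat_lit 0) (BT.frm (nat_lit 1) (nat_lit 8222) (nat_lit 0x1f0315) [nat_lit 0, nat_lit 8] (BT.pln (nat_lit 0) (nat_lit 4) (BT.dif (nat_lit 5) (nat_lit 0) (BT.frm (nat_lit 3) (nat_lit 0x2c3022201e) (nat_lit 0x31221f0315) [nat_lit 10, nat_lit 0, nat_lit 3, nat_lit 11] (BT.pln (nat_lit 0) (nat_lit 4) (BT.and (nat_lit 0) (nat_lit 6) (BT.cnt (nat_lit 0)))))))))))))))) (BT.dead (nat_lit 36) (BT.frm (nat_lit 0) (nat_lit 0) (nat_lit 67361) [nat_lit 0] (BT.pln (nat_lit 0) (nat_lit 1) (BT.img (nat_lit 1) (nat_lit 0) (BT.and (nat_lit 1) (nat_lit 0) (BT.img (nat_lit 1) (nat_lit 0) (BT.img (nat_lit 1) (nat_lit 0) (BT.and (nat_lit 4) (nat_lit 0) (BT.frm (nat_lit 1) (nat_lit 8222) (nat_lit 0x1734010721) [nat_lit 0, nat_lit 7] (BT.pln (nat_lit 0) (nat_lit 2) (BT.img (nat_lit 1) (nat_lit 9) (BT.and (nat_lit 1) (nat_lit 0) (BT.cnt (nat_lit 0))))))))))))) (BT.dead (nat_lit 41) (BT.frm (nat_lit 0) (nat_lit 0) (nat_lit 2833) [nat_lit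 0] (BT.pln (nat_lit 0) (nat_lit 1) (BT.img (nat_lit 1) (nat_lit 0) (BT.and (nat_lit 1) (nat_lit 0) (BT.img (nat_lit 1) (nat_lit 0) (BT.img (nat_lit 1) (nat_lit 0) (BT.and (nat_lit 4) (nat_lit 0) (BT.frm (nat_lit 1) (nat_lit 8222) (nat_lit 0x17191d0b11) [nat_lit 0, nat_lit 7] (BT.pln (nat_lit 0) (nat_lit 2) (BT.img (nat_lit 1) (nat_lit 9) (BT.and (nat_lit 1) (nat_lit 0) (BT.cnt (nat_lit 0))))))))))))) (BT.dead (nat_lit 42) (BT.frm (nat_lit 0) (nat_lit 0) (nat_lit 259) [nat_lit 0] (BT.pln (nat_lit 0) (nat_lit 1) (BT.img (nat_lit 1) (nat_lit 0) (BT.and (nat_lit 1) (nat_lit 0) (BT.img (nat_lit 1) (nat_lit 0) (BT.img (nat_lit 1) (nat_lit 0) (BT.and (nat_lit 4) (nat_lit 0) (BT.frm (nat_lit 1) (nat_lit 8222) (nat_lit 259) [nat_lit 0, nat_lit 7] (BT.pln (nat_lit 0) (nat_lit 2) (BT.img (nat_lit 1) (nat_lit 9) (BT.and (nat_lit 1) (nat_lit 0) (BT.cnt (nat_lit 0))))))))))))) (BT.dead (nat_lit 38) (BT.frm (nat_lit 0) (nat_lit 0) (nat_lit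 5681) [nat_lit 0] (BT.pln (nat_lit 0) (nat_lit 1) (BT.img (nat_lit 1) (nat_lit 0) (BT.and (nat_lit 1) (nat_lit 0) (BT.img (nat_lit 1) (nat_lit 0) (BT.img (nat_lit 1) (nat_lit 0) (BT.and (nat_lit 4) (nat_lit 0) (BT.frm (nat_lit 1) (nat_lit 8222) (nat_lit 5681) [nat_lit 0, nat_lit 7] (BT.pln (nat_lit 0) (nat_lit 2) (BT.img (nat_lit 1) (nat_lit 9) (BT.and (nat_lit 1) (nat_lit 0) (BT.cnt (nat_lit 0))))))))))))) (BT.dead (nat_lit 84) (BT.frm (nat_lit 0) (nat_lit 0) (nat_lit 65831) [nat_lit 0] (BT.pln (nat_lit 0) (nat_lit 1) (BT.img (nat_lit 1) (nat_lit 0) (BT.and (nat_lit 1) (nat_lit 0) (BT.img (nat_lit 1) (nat_lit 0) (BT.img (nat_lit 1) (nat_lit 0) (BT.and (nat_lit 0) (nat_lit 4) (BT.cnt (nat_lit 0))))))))) (BT.dead (nat_lit 77) (BT.frm (nat_lit 0) (nat_lit 0) (nat_lit 70944) [nat_lit 0] (BT.pln (nat_lit 0) (nat_lit 1) (BT.img (nat_lit 1) (nat_lit 0) (BT.and (nat_lit 1) (nat_lit 0) (BT.img (nat_lit 1) (nat_lit 0) (BT.img (nat_lit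 1) (nat_lit 0) (BT.and (nat_lit 0) (nat_lit 4) (BT.cnt (nat_lit 0))))))))) (BT.dead (nat_lit 33) (BT.frm (nat_lit 0) (nat_lit 0) (nat_lit 134438) [nat_lit 0] (BT.pln (nat_lit 0) (nat_lit 1) (BT.img (nat_lit 1) (nat_lit 0) (BT.and (nat_lit 1) (nat_lit 0) (BT.img (nat_lit 1) (nat_lit 0) (BT.img (nat_lit 1) (nat_lit 0) (BT.and (nat_lit 0) (nat_lit 4) (BT.cnt (nat_lit 0))))))))) (BT.dead (nat_lit 31) (BT.frm (nat_lit 0) (nat_lit 0) (nat_lit 135471) [nat_lit 0] (BT.pln (nat_lit 0) (nat_lit 1) (BT.img (nat_lit 1) (nat_lit 0) (BT.and (nat_lit 1) (nat_lit 0) (BT.img (nat_lit 1) (nat_lit 0) (BT.img (nat_lit 1) (nat_lit 0) (BT.and (nat_lit 0) (nat_lit 4) (BT.cnt (nat_lit 0))))))))) (BT.dead (nat_lit 17) (BT.frm (nat_lit 0) (nat_lit 0) (nat_lit 139531) [nat_lit 0] (BT.pln (nat_lit 0) (nat_lit 1) (BT.img (nat_lit 1) (nat_lit 0) (BT.and (nat_lit 1) (nat_lit 0) (BT.img (nat_lit 1) (nat_lit 0) (BT.img (nat_lit 1) (nat_lit 0) (BT.and (nat_lit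 0) (nat_lit 4) (BT.cnt (nat_lit 0))))))))) (BT.dead (nat_lit 10) (BT.frm (nat_lit 0) (nat_lit 0) (nat_lit 68382) [nat_lit 0] (BT.pln (nat_lit 0) (nat_lit 1) (BT.img (nat_lit 1) (nat_lit 0) (BT.and (nat_lit 1) (nat_lit 0) (BT.img (nat_lit 1) (nat_lit 0) (BT.img (nat_lit 1) (nat_lit 0) (BT.and (nat_lit 0) (nat_lit 4) (BT.cnt (nat_lit 0))))))))) (BT.dead (nat_lit 71) (BT.frm (nat_lit 0) (nat_lit 0) (nat_lit 67375) [nat_lit 0] (BT.pln (nat_lit 0) (nat_lit 1) (BT.img (nat_lit 1) (nat_lit 0) (BT.and (nat_lit 1) (nat_lit 0) (BT.img (nat_lit 1) (nat_lit 0) (BT.and (nat_lit 0) (nat_lit 3) (BT.cnt (nat_lit 0)))))))) (BT.dead (nat_lit 6) (BT.frm (nat_lit 0) (nat_lit 0) (nat_lit 66839) [nat_lit 0] (BT.pln (nat_lit 0) (nat_lit 1) (BT.img (nat_lit 1) (nat_lit 0) (BT.and (nat_lit 1) (nat_lit 0) (BT.img (nat_lit 1) (nat_lit 0) (BT.and (nat_lit 0) (nat_lit 3) (BT.cnt (nat_lit 0)))))))) (BT.dead (nat_lit 14) (BT.frm (nat_lit 0) (nat_lit 0)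 (nat_lit 69680) [nat_lit 0] (BT.pln (nat_lit 0) (nat_lit 1) (BT.img (nat_lit 1) (nat_lit 2) (BT.img (nat_lit 1) (nat_lit 0) (BT.and (nat_lit 2) (nat_lit 0) (BT.cnt (nat_lit 0))))))) (BT.dead (nat_lit 5) (BT.frm (nat_lit 0) (nat_lit 0) (nat_lit 65838) [nat_lit 0] (BT.pln (nat_lit 0) (nat_lit 1) (BT.img (nat_lit 1) (nat_lit 2) (BT.img (nat_lit 1) (nat_lit 0) (BT.and (nat_lit 2) (nat_lit 0) (BT.cnt (nat_lit 0))))))) (BT.dead (nat_lit 89) (BT.frm (nat_lit 0) (nat_lit 0) (nat_lit 135477) [nat_lit 0] (BT.pln (nat_lit 0) (nat_lit 1) (BT.img (nat_lit 1) (nat_lit 2) (BT.and (nat_lit 1) (nat_lit 0) (BT.cnt (nat_lit 0)))))) (BT.dead (nat_lit 23) (BT.frm (nat_lit 0) (nat_lit 0) (nat_lit 131878) [nat_lit 0] (BT.pln (nat_lit 0) (nat_lit 1) (BT.img (nat_lit 1) (nat_lit 2) (BT.and (nat_lit 1) (nat_lit 0) (BT.cnt (nat_lit 0)))))) (BT.dead (nat_lit 15) (BT.frm (nat_lit 0) (nat_lit 0) (nat_lit 139785) [nat_lit 0] (BT.pln (nat_lit 0) (nat_lit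 1) (BT.img (nat_lit 1) (nat_lit 2) (BT.and (nat_lit 1) (nat_lit 0) (BT.cnt (nat_lit 0)))))) (BT.dead (nat_lit 12) (BT.frm (nat_lit 0) (nat_lit 0) (nat_lit 66349) [nat_lit 0] (BT.pln (nat_lit 0) (nat_lit 1) (BT.img (nat_lit 1) (nat_lit 2) (BT.and (nat_lit 1) (nat_lit 0) (BT.cnt (nat_lit 0)))))) (BT.dead (nat_lit 191) (BT.frm (nat_lit 0) (nat_lit 0) (nat_lit 797) [nat_lit 0] (BT.pln (nat_lit 0) (nat_lit 1) (BT.img (nat_lit 1) (nat_lit 0) (BT.and (nat_lit 1) (nat_lit 0) (BT.img (nat_lit 1) (nat_lit 0) (BT.img (nat_lit 1) (nat_lit 0) (BT.and (nat_lit 0) (nat_lit 4) (BT.cnt (nat_lit 0))))))))) (BT.dead (nat_lit 141) (BT.frm (nat_lit 0) (nat_lit 0) (nat_lit 539) [nat_lit 0] (BT.pln (nat_lit 0) (nat_lit 1) (BT.img (nat_lit 1) (nat_lit 0) (BT.and (nat_lit 1) (nat_lit 0) (BT.img (nat_lit 1) (nat_lit 0) (BT.img (nat_lit 1) (nat_lit 0) (BT.and (nat_lit 0) (nat_lit 4) (BT.cnt (nat_lit 0))))))))) (BT.dead (nat_lit 93) (BT.frm (nat_lit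 0) (nat_lit 0) (nat_lit 5416) [nat_lit 0] (BT.pln (nat_lit 0) (nat_lit 1) (BT.img (nat_lit 1) (nat_lit 0) (BT.and (nat_lit 1) (nat_lit 0) (BT.img (nat_lit 1) (nat_lit 0) (BT.img (nat_lit 1) (nat_lit 0) (BT.and (nat_lit 0) (nat_lit 4) (BT.cnt (nat_lit 0))))))))) (BT.dead (nat_lit 87) (BT.frm (nat_lit 0) (nat_lit 0) (nat_lit 3589) [nat_lit 0] (BT.pln (nat_lit 0) (nat_lit 1) (BT.img (nat_lit 1) (nat_lit 0) (BT.and (nat_lit 1) (nat_lit 0) (BT.img (nat_lit 1) (nat_lit 0) (BT.img (nat_lit 1) (nat_lit 0) (BT.and (nat_lit 0) (nat_lit 4) (BT.cnt (nat_lit 0))))))))) (BT.dead (nat_lit 85) (BT.frm (nat_lit 0) (nat_lit 0) (nat_lit 3599) [nat_lit 0] (BT.pln (nat_lit 0) (nat_lit 1) (BT.img (nat_lit 1) (nat_lit 0) (BT.and (nat_lit 1) (nat_lit 0) (BT.img (nat_lit 1) (nat_lit 0) (BT.img (nat_lit 1) (nat_lit 0) (BT.and (nat_lit 0) (nat_lit 4) (BT.cnt (nat_lit 0))))))))) (BT.dead (nat_lit 62) (BT.frm (nat_lit 0) (nat_lit 0) (nat_lit 3627) [nat_lit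 0] (BT.pln (nat_lit 0) (nat_lit 1) (BT.img (nat_lit 1) (nat_lit 0) (BT.and (nat_lit 1) (nat_lit 0) (BT.img (nat_lit 1) (nat_lit 0) (BT.img (nat_lit 1) (nat_lit 0) (BT.and (nat_lit 0) (nat_lit 4) (BT.cnt (nat_lit 0))))))))) (BT.dead (nat_lit 61) (BT.frm (nat_lit 0) (nat_lit 0) (nat_lit 3861) [nat_lit 0] (BT.pln (nat_lit 0) (nat_lit 1) (BT.img (nat_lit 1) (nat_lit 0) (BT.and (nat_lit 1) (nat_lit 0) (BT.img (nat_lit 1) (nat_lit 0) (BT.img (nat_lit 1) (nat_lit 0) (BT.and (nat_lit 0) (nat_lit 4) (BT.cnt (nat_lit 0))))))))) (BT.dead (nat_lit 52) (BT.frm (nat_lit 0) (nat_lit 0) (nat_lit 534) [nat_lit 0] (BT.pln (nat_lit 0) (nat_lit 1) (BT.img (nat_lit 1) (nat_lit 0) (BT.and (nat_lit 1) (nat_lit 0) (BT.img (nat_lit 1) (nat_lit 0) (BT.img (nat_lit 1) (nat_lit 0) (BT.and (nat_lit 0) (nat_lit 4) (BT.cnt (nat_lit 0))))))))) (BT.dead (nat_lit 46) (BT.frm (nat_lit 0) (nat_lit 0) (nat_lit 526) [nat_lit 0] (BT.pln (nat_lit 0) (nat_lit 1)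 (BT.img (nat_lit 1) (nat_lit 0) (BT.and (nat_lit 1) (nat_lit 0) (BT.img (nat_lit 1) (nat_lit 0) (BT.img (nat_lit 1) (nat_lit 0) (BT.and (nat_lit 0) (nat_lit 4) (BT.cnt (nat_lit 0))))))))) (BT.dead (nat_lit 30) (BT.frm (nat_lit 0) (nat_lit 0) (nat_lit 5409) [nat_lit 0] (BT.pln (nat_lit 0) (nat_lit 1) (BT.img (nat_lit 1) (nat_lit 0) (BT.and (nat_lit 1) (nat_lit 0) (BT.img (nat_lit 1) (nat_lit 0) (BT.img (nat_lit 1) (nat_lit 0) (BT.and (nat_lit 0) (nat_lit 4) (BT.cnt (nat_lit 0))))))))) (BT.dead (nat_lit 25) (BT.frm (nat_lit 0) (nat_lit 0) (nat_lit 1825) [nat_lit 0] (BT.pln (nat_lit 0) (nat_lit 1) (BT.img (nat_lit 1) (nat_lit 0) (BT.and (nat_lit 1) (nat_lit 0) (BT.img (nat_lit 1) (nat_lit 0) (BT.img (nat_lit 1) (nat_lit 0) (BT.and (nat_lit 0) (nat_lit 4) (BT.cnt (nat_lit 0))))))))) (BT.dead (nat_lit 24) (BT.frm (nat_lit 0) (nat_lit 0) (nat_lit 2860) [nat_lit 0] (BT.pln (nat_lit 0) (nat_lit 1) (BT.img (nat_lit 1) (nat_lit 0) (BT.and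 (nat_lit 1) (nat_lit 0) (BT.img (nat_lit 1) (nat_lit 0) (BT.img (nat_lit 1) (nat_lit 0) (BT.and (nat_lit 0) (nat_lit 4) (BT.cnt (nat_lit 0))))))))) (BT.dead (nat_lit 16) (BT.frm (nat_lit 0) (nat_lit 0) (nat_lit 523) [nat_lit 0] (BT.pln (nat_lit 0) (nat_lit 1) (BT.img (nat_lit 1) (nat_lit 0) (BT.and (nat_lit 1) (nat_lit 0) (BT.img (nat_lit 1) (nat_lit 0) (BT.img (nat_lit 1) (nat_lit 0) (BT.and (nat_lit 0) (nat_lit 4) (BT.cnt (nat_lit 0))))))))) (BT.dead (nat_lit 9) (BT.frm (nat_lit 0) (nat_lit 0) (nat_lit 272) [nat_lit 0] (BT.pln (nat_lit 0) (nat_lit 1) (BT.img (nat_lit 1) (nat_lit 0) (BT.and (nat_lit 1) (nat_lit 0) (BT.img (nat_lit 1) (nat_lit 0) (BT.img (nat_lit 1) (nat_lit 0) (BT.and (nat_lit 0) (nat_lit 4) (BT.cnt (nat_lit 0))))))))) (BT.dead (nat_lit 148) (BT.frm (nat_lit 0) (nat_lit 0) (nat_lit 4366) [nat_lit 0] (BT.pln (nat_lit 0) (nat_lit 1) (BT.img (nat_lit 1) (nat_lit 0) (BT.and (nat_lit 1) (nat_lit 0) (BT.img (nat_lit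 1) (nat_lit 0) (BT.and (nat_lit 0) (nat_lit 3) (BT.cnt (nat_lit 0)))))))) (BT.dead (nat_lit 129) (BT.frm (nat_lit 0) (nat_lit 0) (nat_lit 2315) [nat_lit 0] (BT.pln (nat_lit 0) (nat_lit 1) (BT.img (nat_lit 1) (nat_lit 0) (BT.and (nat_lit 1) (nat_lit 0) (BT.img (nat_lit 1) (nat_lit 0) (BT.and (nat_lit 0) (nat_lit 3) (BT.cnt (nat_lit 0)))))))) (BT.dead (nat_lit 128) (BT.frm (nat_lit 0) (nat_lit 0) (nat_lit 5651) [nat_lit 0] (BT.pln (nat_lit 0) (nat_lit 1) (BT.img (nat_lit 1) (nat_lit 0) (BT.and (nat_lit 1) (nat_lit 0) (BT.img (nat_lit 1) (nat_lit 0) (BT.and (nat_lit 0) (nat_lit 3) (BT.cnt (nat_lit 0)))))))) (BT.dead (nat_lit 80) (BT.frm (nat_lit 0) (nat_lit 0) (nat_lit 3841) [nat_lit 0] (BT.pln (nat_lit 0) (nat_lit 1) (BT.img (nat_lit 1) (nat_lit 0) (BT.and (nat_lit 1) (nat_lit 0) (BT.img (nat_lit 1) (nat_lit 0) (BT.and (nat_lit 0) (nat_lit 3) (BT.cnt (nat_lit 0)))))))) (BT.dead (nat_lit 72) (BT.frm (nat_lit 0) (nat_lit 0) (nat_lit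 4866) [nat_lit 0] (BT.pln (nat_lit 0) (nat_lit 1) (BT.img (nat_lit 1) (nat_lit 0) (BT.and (nat_lit 1) (nat_lit 0) (BT.img (nat_lit 1) (nat_lit 0) (BT.and (nat_lit 0) (nat_lit 3) (BT.cnt (nat_lit 0)))))))) (BT.dead (nat_lit 54) (BT.frm (nat_lit 0) (nat_lit 0) (nat_lit 783) [nat_lit 0] (BT.pln (nat_lit 0) (nat_lit 1) (BT.img (nat_lit 1) (nat_lit 0) (BT.and (nat_lit 1) (nat_lit 0) (BT.img (nat_lit 1) (nat_lit 0) (BT.and (nat_lit 0) (nat_lit 3) (BT.cnt (nat_lit 0)))))))) (BT.dead (nat_lit 50) (BT.frm (nat_lit 0) (nat_lit 0) (nat_lit 277) [nat_lit 0] (BT.pln (nat_lit 0) (nat_lit 1) (BT.img (nat_lit 1) (nat_lit 0) (BT.and (nat_lit 1) (nat_lit 0) (BT.img (nat_lit 1) (nat_lit 0) (BT.and (nat_lit 0) (nat_lit 3) (BT.cnt (nat_lit 0)))))))) (BT.dead (nat_lit 43) (BT.frm (nat_lit 0) (nat_lit 0) (nat_lit 3616) [nat_lit 0] (BT.pln (nat_lit 0) (nat_lit 1) (BT.img (nat_lit 1) (nat_lit 0) (BT.and (nat_lit 1) (nat_lit 0) (BT.img (nat_lit 1)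 (nat_lit 0) (BT.and (nat_lit 0) (nat_lit 3) (BT.cnt (nat_lit 0)))))))) (BT.dead (nat_lit 39) (BT.frm (nat_lit 0) (nat_lit 0) (nat_lit 3847) [nat_lit 0] (BT.pln (nat_lit 0) (nat_lit 1) (BT.img (nat_lit 1) (nat_lit 0) (BT.and (nat_lit 1) (nat_lit 0) (BT.img (nat_lit 1) (nat_lit 0) (BT.and (nat_lit 0) (nat_lit 3) (BT.cnt (nat_lit 0)))))))) (BT.dead (nat_lit 19) (BT.frm (nat_lit 0) (nat_lit 0) (nat_lit 4913) [nat_lit 0] (BT.pln (nat_lit 0) (nat_lit 1) (BT.img (nat_lit 1) (nat_lit 0) (BT.and (nat_lit 1) (nat_lit 0) (BT.img (nat_lit 1) (nat_lit 0) (BT.and (nat_lit 0) (nat_lit 3) (BT.cnt (nat_lit 0)))))))) (BT.dead (nat_lit 7) (BT.frm (nat_lit 0) (nat_lit 0) (nat_lit 2865) [nat_lit 0] (BT.pln (nat_lit 0) (nat_lit 1) (BT.img (nat_lit 1) (nat_lit 0) (BT.and (nat_lit 1) (nat_lit 0) (BT.img (nat_lit 1) (nat_lit 0) (BT.and (nat_lit 0) (nat_lit 3) (BT.cnt (nat_lit 0)))))))) (BT.dead (nat_lit 4) (BT.frm (nat_lit 0) (nat_lit 0) (nat_lit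 817) [nat_lit 0] (BT.pln (nat_lit 0) (nat_lit 1) (BT.img (nat_lit 1) (nat_lit 0) (BT.and (nat_lit 1) (nat_lit 0) (BT.img (nat_lit 1) (nat_lit 0) (BT.and (nat_lit 0) (nat_lit 3) (BT.cnt (nat_lit 0)))))))) (BT.dead (nat_lit 2) (BT.frm (nat_lit 0) (nat_lit 0) (nat_lit 1838) [nat_lit 0] (BT.pln (nat_lit 0) (nat_lit 1) (BT.img (nat_lit 1) (nat_lit 0) (BT.and (nat_lit 1) (nat_lit 0) (BT.img (nat_lit 1) (nat_lit 0) (BT.and (nat_lit 0) (nat_lit 3) (BT.cnt (nat_lit 0)))))))) (BT.dead (nat_lit 1) (BT.frm (nat_lit 0) (nat_lit 0) (nat_lit 782) [nat_lit 0] (BT.pln (nat_lit 0) (nat_lit 1) (BT.img (nat_lit 1) (nat_lit 0) (BT.and (nat_lit 1) (nat_lit 0) (BT.img (nat_lit 1) (nat_lit 0) (BT.and (nat_lit 0) (nat_lit 3) (BT.cnt (nat_lit 0)))))))) (BT.dead (nat_lit 37) (BT.frm (nat_lit 0) (nat_lit 0) (nat_lit 801) [nat_lit 0] (BT.pln (nat_lit 0) (nat_lit 1) (BT.img (nat_lit 1) (nat_lit 2) (BT.img (nat_lit 1) (nat_lit 0) (BT.and (nat_lit 2) (nat_lit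 0) (BT.cnt (nat_lit 0))))))) (BT.dead (nat_lit 13) (BT.frm (nat_lit 0) (nat_lit 0) (nat_lit 1816) [nat_lit 0] (BT.pln (nat_lit 0) (nat_lit 1) (BT.img (nat_lit 1) (nat_lit 2) (BT.img (nat_lit 1) (nat_lit 0) (BT.and (nat_lit 2) (nat_lit 0) (BT.cnt (nat_lit 0))))))) (BT.dead (nat_lit 73) (BT.frm (nat_lit 0) (nat_lit 0) (nat_lit 3371) [nat_lit 0] (BT.pln (nat_lit 0) (nat_lit 1) (BT.img (nat_lit 1) (nat_lit 2) (BT.and (nat_lit 1) (nat_lit 0) (BT.cnt (nat_lit 0)))))) (BT.dead (nat_lit 69) (BT.frm (nat_lit 0) (nat_lit 0) (nat_lit 265) [nat_lit 0] (BT.pln (nat_lit 0) (nat_lit 1) (BT.img (nat_lit 1) (nat_lit 2) (BT.and (nat_lit 1) (nat_lit 0) (BT.cnt (nat_lit 0)))))) (BT.dead (nat_lit 18) (BT.frm (nat_lit 0) (nat_lit 0) (nat_lit 2830) [nat_lit 0] (BT.pln (nat_lit 0) (nat_lit 1) (BT.img (nat_lit 1) (nat_lit 2) (BT.and (nat_lit 1) (nat_lit 0) (BT.cnt (nat_lit 0)))))) (BT.dead (nat_lit 82) (BT.frm (nat_lit 0) (nat_lit 0) (nat_lit 11)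 [nat_lit 0] (BT.pln (nat_lit 0) (nat_lit 1) (BT.img (nat_lit 1) (nat_lit 2) (BT.and (nat_lit 1) (nat_lit 0) (BT.cnt (nat_lit 0)))))) (BT.kid (nat_lit 0) (nat_lit 1) (BT.frm (nat_lit 0) (nat_lit 0) (nat_lit 0) [nat_lit 0] (BT.pln (nat_lit 0) (nat_lit 1) (BT.img (nat_lit 1) (nat_lit 0) (BT.and (nat_lit 1) (nat_lit 0) (BT.img (nat_lit 1) (nat_lit 0) (BT.img (nat_lit 1) (nat_lit 0) (BT.and (nat_lit 4) (nat_lit 0) (BT.frm (nat_lit 1) (nat_lit 8222) (nat_lit 8222) [nat_lit 0, nat_lit 7] (BT.pln (nat_lit 0) (nat_lit 2) (BT.dif (nat_lit 0) (nat_lit 6) (BT.pln (nat_lit 2) (nat_lit 4) (BT.dif (nat_lit 7) (nat_lit 0) (BT.frm (nat_lit 2) (nat_lit 0x22201e) (nat_lit 0x22201e) [nat_lit 0, nat_lit 5, nat_lit 12] (BT.pln (nat_lit 0) (nat_lit 3) (BT.and (nat_lit 4) (nat_lit 0) (BT.img (nat_lit 1) (nat_lit 15) (BT.frm (nat_lit 3) (nat_lit 0x2c3022201e) (nat_lit 0x2c3022201e) [nat_lit 0, nat_lit 4, nat_lit 9, nat_lit 16] (BT.pln (nat_lit 0)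 (nat_lit 4) (BT.dif (nat_lit 3) (nat_lit 0) (BT.pln (nat_lit 2) (nat_lit 8) (BT.dif (nat_lit 1) (nat_lit 0) (BT.dif (nat_lit 24) (nat_lit 19) (BT.dif (nat_lit 0) (nat_lit 19) (BT.dif (nat_lit 0) (nat_lit 14) (BT.pln (nat_lit 16) (nat_lit 3) (BT.dif (nat_lit 1) (nat_lit 0) (BT.dif (nat_lit 0) (nat_lit 26) (BT.dif (nat_lit 0) (nat_lit 11) (BT.dif (nat_lit 0) (nat_lit 22) (BT.img (nat_lit 1) (nat_lit 13) (BT.img (nat_lit 1) (nat_lit 0) (BT.img (nat_lit 1) (nat_lit 0) (BT.dif (nat_lit 3) (nat_lit 0) (BT.dif (nat_lit 30) (nat_lit 31) (BT.dif (nat_lit 0) (nat_lit 29) (BT.img (nat_lit 1) (nat_lit 28) (BT.dif (nat_lit 1) (nat_lit 0) (BT.img (nat_lit 1) (nat_lit 0) (BT.dif (nat_lit 5) (nat_lit 0) (BT.dif (nat_lit 1) (nat_lit 37) (BT.and (nat_lit 38) (nat_lit 2) (BT.img (nat_lit 1) (nat_lit 0) (BT.and (nat_lit 39) (nat_lit 0) (BT.img (nat_lit 1) (nat_lit 0) (BT.dif (nat_lit 4) (nat_lit 0) (BT.img (nat_lit 1) (nat_lit 0) (BT.and (nat_lit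 23) (nat_lit 0) (BT.img (nat_lit 1) (nat_lit 0) (BT.dif (nat_lit 9) (nat_lit 0) (BT.dif (nat_lit 43) (nat_lit 47) (BT.img (nat_lit 1) (nat_lit 0) (BT.dif (nat_lit 2) (nat_lit 0) (BT.dif (nat_lit 0) (nat_lit 6) (BT.dif (nat_lit 28) (nat_lit 50) (BT.dif (nat_lit 0) (nat_lit 24) (BT.dif (nat_lit 0) (nat_lit 24) (BT.dif (nat_lit 0) (nat_lit 18) (BT.dif (nat_lit 0) (nat_lit 11) (BT.dif (nat_lit 0) (nat_lit 7) (BT.dif (nat_lit 0) (nat_lit 11) (BT.img (nat_lit 1) (nat_lit 0) (BT.dif (nat_lit 8) (nat_lit 0) (BT.dif (nat_lit 52) (nat_lit 24) (BT.dif (nat_lit 0) (nat_lit 17) (BT.dif (nat_lit 0) (nat_lit 16) (BT.dif (nat_lit 0) (nat_lit 14) (BT.dif (nat_lit 0) (nat_lit 5) (BT.and (nat_lit 40) (nat_lit 6) (BT.img (nat_lit 1) (nat_lit 0) (BT.dif (nat_lit 2) (nat_lit 0) (BT.and (nat_lit 60) (nat_lit 9) (BT.and (nat_lit 14) (nat_lit 10) (BT.img (nat_lit 1) (nat_lit 0) (BT.and (nat_lit 2) (nat_lit 0) (BT.img (nat_lit 1) (nat_lit 0) (BT.and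 (nat_lit 47) (nat_lit 0) (BT.img (nat_lit 1) (nat_lit 0) (BT.dif (nat_lit 7) (nat_lit 0) (BT.dif (nat_lit 7) (nat_lit 5) (BT.img (nat_lit 1) (nat_lit 0) (BT.dif (nat_lit 2) (nat_lit 0) (BT.and (nat_lit 18) (nat_lit 1) (BT.img (nat_lit 1) (nat_lit 0) (BT.dif (nat_lit 2) (nat_lit 0) (BT.and (nat_lit 21) (nat_lit 1) (BT.img (nat_lit 1) (nat_lit 0) (BT.dif (nat_lit 2) (nat_lit 0) (BT.and (nat_lit 54) (nat_lit 7) (BT.img (nat_lit 1) (nat_lit 0) (BT.and (nat_lit 50) (nat_lit 0) (BT.img (nat_lit 1) (nat_lit 0) (BT.dif (nat_lit 4) (nat_lit 0) (BT.and (nat_lit 64) (nat_lit 23) (BT.img (nat_lit 1) (nat_lit 0) (BT.dif (nat_lit 2) (nat_lit 0) (BT.and (nat_lit 85) (nat_lit 26) (BT.img (nat_lit 1) (nat_lit 0) (BT.dif (nat_lit 2) (nat_lit 0) (BT.img (nat_lit 1) (nat_lit 0) (BT.and (nat_lit 37) (nat_lit 0) (BT.img (nat_lit 1) (nat_lit 0) (BT.and (nat_lit 80) (nat_lit 0) (BT.one (nat_lit 4) (nat_lit 0x2c3022201e) (nat_lit 0x2c3022201e) [nat_lit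 0, nat_lit 86, nat_lit 90, nat_lit 95, nat_lit 102]))))))))))))))))))))))))))))))))))))))))))))))))))))))))))))))))))))))))))))))))))))))))))))))))))))))) BT.nil)))))))))))))))))))))))))))))))))))))))))))))))))))))))))

theorem pt_c8_cnt : Cnt 280 (grp 280 p_E0) [p_g134] [p_g134] 0 0 0 0 5 :=
  BT.sound pt_c8_cnt_P Known.nil (t := pt_c8_cnt_t) (d := 0) (by decide +kernel)

theorem pt_c8_ge : 5 ≤ Nat.card (grp 280 pt_c8_K) :=
  Ch.le_card_grp (k := 9) (L := (lab 280 9)) p_hn pt_c8_K_ok (c := (Ch.cons (nat_lit 0) [nat_lit 1] Ch.nil)) (by decide +kernel)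

theorem pt_c8_eq : (grp 280 p_E0) ⊓ Subgroup.centralizer {Net.toPerm 280 p_g134} = grp 280 pt_c8_K :=
  cent_eq pt_c8_sym pt_c8_cnt pt_c8_ge

theorem pt_c8_card : Nat.card ↥((grp 280 p_E0) ⊓ Subgroup.centralizer {Net.toPerm 280 p_g134}) = 5 :=
  card_cent pt_c8_sym pt_c8_cnt pt_c8_ge

theorem pt_c8_ord : orderOf (Net.toPerm 280 p_g134) = 5 :=
  orderOf_net p_hn p_hk p_g134_ok (by decide) (ps := [5]) (by set_option linter.unusedSimpArgs false in simp [Nat.primeFactorsList_ofNat]) (by decide +kernel)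

theorem p_le139 : grp 280 pt_c9_K ≤ grp 280 p_E0 :=
  grp_le_of_memB p_hn p_hk p_E0_ok pt_c9_K_ok (ws := [nat_lit 0x352a271722050d, nat_lit 0x292d22170f07, nat_lit 0x36292f211927020e]) (by decide +kernel)

theorem pt_c9_le : grp 280 pt_c9_K ≤ (grp 280 p_E0) :=
  (p_le139.trans p_T58_s0.le)

theorem pt_c9_mem : Net.toPerm 280 p_g136 ∈ (grp 280 p_E0) :=
  pt_c9_le (toPerm_mem_grp (E := pt_c9_K) (List.Mem.head _))

theorem pt_c9_sym : Sym 280 (grp 280 p_E0) [p_g136] pt_c9_K 0 :=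
  Sym.of_lab p_hn p_hk (okE_cons.2 ⟨p_g136_ok, okE_nil _⟩) pt_c9_K_ok pt_c9_le (kT := 0) (by decide +kernel)

noncomputable def pt_c9_cnt_L : List ℕ := [1, 2, p_T58_s1_O, 0, 0, 2, 14, p_T58_s2_O, 0, 0, 3, 8, p_T58_s3_O, 0, 0, 4, 11, p_T58_s4_O, 0, 0, 5, 14, p_T58_s5_O, 1, 0]

theorem pt_c9_cnt_P : Prob 280 9 (grp 280 p_E0) pt_c9_cnt_EG [p_g136] [p_g136] pt_c9_K pt_c9_cnt_L 0 0 :=
  Sym.prob p_hn p_hk pt_c9_sym pt_c9_cnt_EG_ok (grp_cons_le p_g11_p_T58 (grp_cons_le p_g1_p_T58 (grp_cons_le p_g2_p_T58 (grp_cons_le p_g3_p_T58 (grp_cons_le p_g4_p_T58 (grp_cons_le p_g5_p_T58 (grp_cons_le p_g6_p_T58 (grp_cons_le p_g7_p_T58 (grp_cons_le p_g8_p_T58 (grp_cons_le p_g9_p_T58 (grp_cons_le p_g10_p_T58 (grp_cons_le p_g20_p_T58 (grp_cons_le p_g14_p_T58 (grp_cons_le p_g15_p_T58 (grp_cons_le p_g16_p_T58 (grp_cons_le p_g17_p_T58 (grp_cons_le p_g28_p_T58 (grp_cons_le p_g23_p_T58 (grp_cons_le p_g24_p_T58 (grp_cons_le p_g25_p_T58 (grp_cons_le p_g37_p_T58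 (grp_cons_le p_g38_p_T58 (grp_cons_le p_g34_p_T58 (grp_cons_le p_g31_p_T58 (grp_cons_le p_g32_p_T58 (grp_cons_le p_g33_p_T58 (grp_cons_le p_g41_p_T58 (grp_cons_le p_g42_p_T58 (grp_cons_le p_g67_p_T58 (grp_cons_le p_g68_p_T58 (grp_nil_le _))))))))))))))))))))))))))))))) (Frames.cons p_T58_s1_F (Frames.cons p_T58_s2_F (Frames.cons p_T58_s3_F (Frames.cons p_T58_s4_F (Frames.cons p_T58_s5_F Frames.nil))))) (okE_cons.2 ⟨p_g136_ok, okE_nil _⟩) _

noncomputable def pt_c9_cnt_t : BT := (BT.fix (nat_lit 65793) (BT.fix (nat_lit 1) (BT.dif (nat_lit 1) (nat_lit 0) (BT.br (nat_lit 0) (nat_lit 97) [nat_lit 1] (BT.kid (nat_lit 97) (nat_lit 24) (BT.frm (nat_lit 0) (nat_lit 4885) (nat_lit 4885) [nat_lit 0] (BT.pln (nat_lit 0) (nat_lit 1) (BT.img (nat_lit 1) (nat_lit 2) (BT.frm (nat_lit 1) (nat_lit 0x20301315) (nat_lit 0x20301315) [nat_lit 0, nat_lit 3] (BT.pln (nat_lit 0) (nat_lit 11) (BT.and (nat_lit 3) (nat_lit 0) (BT.dif (nat_lit 8) (nat_lit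 4) (BT.frm (nat_lit 2) (nat_lit 0x20301315) (nat_lit 0x20301315) [nat_lit 0, nat_lit 4, nat_lit 7] (BT.pln (nat_lit 0) (nat_lit 4) (BT.dif (nat_lit 3) (nat_lit 0) (BT.br (nat_lit 0) (nat_lit 268) [nat_lit 3, nat_lit 5] (BT.kid (nat_lit 268) (nat_lit 3) (BT.dif (nat_lit 17) (nat_lit 2) (BT.pln (nat_lit 4) (nat_lit 3) (BT.dif (nat_lit 1) (nat_lit 0) (BT.pln (nat_lit 6) (nat_lit 5) (BT.dif (nat_lit 1) (nat_lit 0) (BT.pln (nat_lit 8) (nat_lit 6) (BT.dif (nat_lit 1) (nat_lit 0) (BT.pln (nat_lit 10) (nat_lit 7) (BT.dif (nat_lit 1) (nat_lit 0) (BT.dif (nat_lit 0) (nat_lit 23) (BT.frm (nat_lit 3) (nat_lit 0x3b2b20301315) (nat_lit 0x3b2b20301315) [nat_lit 10, nat_lit 14, nat_lit 18, nat_lit 21] (BT.pln (nat_lit 0) (nat_lit 4) (BT.dif (nat_lit 2) (nat_lit 0) (BT.pln (nat_lit 2) (nat_lit 8) (BT.dif (nat_lit 1) (nat_lit 0) (BT.br (nat_lit 0) (nat_lit 110) [nat_lit 5] (BT.kid (nat_lit 110) (nat_lit 1) (BT.one (nat_lit 4) (nat_lit 0x3b2b20301315)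 (nat_lit 0x3b2b20301315) [nat_lit 0, nat_lit 16, nat_lit 20, nat_lit 24, nat_lit 27]) BT.nil))))))))))))))))) BT.nil)))))))))))) BT.nil)))))

theorem pt_c9_cnt : Cnt 280 (grp 280 p_E0) [p_g136] [p_g136] 0 0 0 0 72 :=
  BT.sound pt_c9_cnt_P Known.nil (t := pt_c9_cnt_t) (d := 0) (by decide +kernel)

theorem pt_c9_ge : 72 ≤ Nat.card (grp 280 pt_c9_K) :=
  Ch.le_card_grp (k := 9) (L := (lab 280 9)) p_hn pt_c9_K_ok (c := (Ch.cons (nat_lit 97) [nat_lit 1] (Ch.cons (nat_lit 268) [nat_lit 3] (Ch.cons (nat_lit 110) [nat_lit 5] Ch.nil)))) (by decide +kernel)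

theorem pt_c9_eq : (grp 280 p_E0) ⊓ Subgroup.centralizer {Net.toPerm 280 p_g136} = grp 280 pt_c9_K :=
  cent_eq pt_c9_sym pt_c9_cnt pt_c9_ge

theorem pt_c9_card : Nat.card ↥((grp 280 p_E0) ⊓ Subgroup.centralizer {Net.toPerm 280 p_g136}) = 72 :=
  card_cent pt_c9_sym pt_c9_cnt pt_c9_ge

theorem pt_c9_ord : orderOf (Net.toPerm 280 p_g136) = 6 :=
  orderOf_net p_hn p_hk p_g136_ok (by decide) (ps := [2, 3]) (by set_option linter.unusedSimpArgs false in simp [Nat.primeFactorsList_ofNat]) (by decide +kernel)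

theorem p_le144 : grp 280 pt_c10_K ≤ grp 280 p_E0 :=
  grp_le_of_memB p_hn p_hk p_E0_ok pt_c10_K_ok (ws := [nat_lit 0x352a1d0b1e, nat_lit 0x3629302720010130, nat_lit 0x352931200119, nat_lit 0x35292b21170f16]) (by decide +kernel)

theorem pt_c10_le : grp 280 pt_c10_K ≤ (grp 280 p_E0) :=
  (p_le144.trans p_T58_s0.le)

theorem pt_c10_mem : Net.toPerm 280 p_g140 ∈ (grp 280 p_E0) :=
  pt_c10_le (toPerm_mem_grp (E := pt_c10_K) (List.Mem.head _))

theorem pt_c10_sym : Sym 280 (grp 280 p_E0) [p_g140] pt_c10_K 0 :=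
  Sym.of_lab p_hn p_hk (okE_cons.2 ⟨p_g140_ok, okE_nil _⟩) pt_c10_K_ok pt_c10_le (kT := 0) (by decide +kernel)

theorem p_le149 : grp 280 p_V148 ≤ grp 280 p_V81 :=
  grp_le_of_memB p_hn p_hk p_V81_ok p_V148_ok (ws := [nat_lit 658689, nat_lit 4615, nat_lit 0x160c10]) (by decide +kernel)

theorem p_T58_s20 : Stab 280 (grp 280 p_E0) [nat_lit 149, nat_lit 273, nat_lit 0] p_V148 12 :=
  Stab.step (k := 9) (L := (lab 280 9)) p_hn p_T58_s6 p_V148_ok p_le149 (c := (Ch.cons (nat_lit 133) [nat_lit 1] (Ch.cons (nat_lit 270) [nat_lit 3] (Ch.cons (nat_lit 97) [nat_lit 5] Ch.nil)))) (by decide +kernel)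

theorem p_T58_s21 : Stab 280 (grp 280 p_E0) [nat_lit 133, nat_lit 149, nat_lit 273, nat_lit 0] p_V150 6 :=
  Stab.step (k := 9) (L := (lab 280 9)) p_hn p_T58_s20 p_V150_ok (grp_mono (List.subset_append_right [p_g145] _)) (c := (Ch.cons (nat_lit 270) [nat_lit 1] (Ch.cons (nat_lit 97) [nat_lit 3] Ch.nil))) (by decide +kernel)

theorem p_T58_s22 : Stab 280 (grp 280 p_E0) [nat_lit 270, nat_lit 133, nat_lit 149, nat_lit 273, nat_lit 0] p_V151 3 :=
  Stab.step (k := 9) (L := (lab 280 9)) p_hn p_T58_s21 p_V151_ok (grp_mono (List.subset_append_right [p_g146] _)) (c := (Ch.cons (nat_lit 97) [nat_lit 1] Ch.nil)) (by decide +kernel)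

theorem p_T58_s23 : Stab 280 (grp 280 p_E0) [nat_lit 97, nat_lit 270, nat_lit 133, nat_lit 149, nat_lit 273, nat_lit 0] p_V152 1 :=
  Stab.step (k := 9) (L := (lab 280 9)) p_hn p_T58_s22 p_V152_ok (grp_mono (List.subset_append_right [p_g147] _)) (c := Ch.nil) (by decide +kernel)

theorem p_g145_p_T58 : Net.toPerm 280 p_g145 ∈ (grp 280 p_E0) :=
  p_T58_s20.le (toPerm_mem_grp (E := p_V148) (List.Mem.head _))

theorem p_g146_p_T58 : Net.toPerm 280 p_g146 ∈ (grp 280 p_E0) :=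
  p_T58_s20.le (toPerm_mem_grp (E := p_V148) (List.Mem.tail _ (List.Mem.head _)))

theorem p_g147_p_T58 : Net.toPerm 280 p_g147 ∈ (grp 280 p_E0) :=
  p_T58_s20.le (toPerm_mem_grp (E := p_V148) (List.Mem.tail _ (List.Mem.tail _ (List.Mem.head _))))

noncomputable def p_T58_s23_O : ℕ := (nat_lit 0xffffff0000000000000000000000000000000000000000000000000000000000000000000000ffffffffffffffffffffffffffffffff00000000000000000000000000000000000000ffffffffffffffff0000000000000000ffffffffffffffff0000000000000000000000ffffffff00000000ffffffff00000000ffffffff00000000ffffffff00000000ff0000ffff0000ffff0000ffff0000ffff0000ffff0000ffff0000ffff0000ffff000000ff00ff00ff00ff00ff00ff00ff00ff00ff00ff00ff00ff00ff00ff00ff00ff00ff00f0f0f0f0f0f0f0f0f0f0f0f0f0f0f0f0f0f0f0f0f0f0f0f0f0f0f0f0f0f0f0f0f0f0f0ccccccccccccccccccccccccccccccccccccccccccccccccccccccccccccccccccccccaaaaaaaaaaaaaaaaaaaaaaaaaaaaaaaaaaaaaaaaaaaaaaaaaaaaaaaaaaaaaaaaaaaaaa000000000000000000000000000000000000000000000000000000000000000000000102000000000000000000000000000000000000000000000000000000000000000000000000000000000000000000000000000020000000000000000000000000000000000000000000000000000000000000000000000000200000000000000000000000000000000000400000000000000000000000000000000000000000000000000000000000000000000000000000000000000000000000000000000000000002000000000000000000000000)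

theorem p_T58_s23_F : Frame 280 (grp 280 p_E0) 6 15 p_T58_s23_O 1 1 :=
  IsBase.frame p_T58_s23.isBase (by decide +kernel)

noncomputable def p_T58_s22_O : ℕ := (nat_lit 0x7dafb7dbad32d340606000198264a6685870586082008040110020804404800000182040018281dc9404a2b6feab4155175a13860b0d995c7d35a6aedf597b1b7200000000004d0000000009249d8609dae07c985904820e059fdf3f9ac71dfd24846485bfaff0182030afb7dbcdca283ace8e9764d418dd9bd5800216d71fc1e9f1007fb720093df00fe40030a7b3d8429cd875b7f1461c501a31250bff841de7f0906eae00dd08ff85fa5f0f03c0202bbd23a0b49088f286b04f7c2da95f094fd31bcacc4e3f11c85670fce9671cccdb18a09f26130b39c62395dd10f79b316b9148ad47518d89991dda966c66d25d16caaab2b400000000000000000000000000000000000000000000000000000000000000000000010200000000000000000000000000000000000000000000000000000000000000000000000000000000000000000000000000002000000000000000000000000000000000000000000000000000000000000000000000000020000000000000000000000000000000000040000000000000000000000000000000000000000000000000000000000000000000)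

theorem p_T58_s22_F : Frame 280 (grp 280 p_E0) 5 12 p_T58_s22_O 0 1 :=
  Stab.frame p_hn p_T58_s22 (by decide +kernel)

noncomputable def p_T58_s21_O : ℕ := (nat_lit 0x40418281ad34c140e2e20111d064a26bcc325938da4080c2118060914c0480000018205d6193c99c9820bf0019fa212d0f5304020408868137af61964b1c4e23f33fafc000005de4115810c90ca0b87834c41189498001890e110309742dcb7e3ec0767fb4503ffc203d0ba6cba7a0edd875742e758173b87849b5d4a6269a14280b5fb0ecd3704bf80f03c0108c8efb591054fc40dec23e840dd23fc37a860f12b5709eaf5c6b74a2cee9950cdb189d1906cad33be40a15b82396883675855eab4b0b8fb32d5e6794458b97af1164aab2b40000000000000000000000000000000000000000000000000000000000000000000001020000000000000000000000000000000000000000000000000000000000000000000000000000000000000000000000000000200000000000000000000000000000000000000000000000000000000000000000000000002000000000000000000000000000000000)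

theorem p_T58_s21_F : Frame 280 (grp 280 p_E0) 4 10 p_T58_s21_O 0 1 :=
  Stab.frame p_hn p_T58_s21 (by decide +kernel)

noncomputable def pt_c10_cnt_L : List ℕ := [1, 2, p_T58_s1_O, 0, 0, 2, 7, p_T58_s6_O, 0, 0, 4, 10, p_T58_s21_O, 0, 0, 5, 12, p_T58_s22_O, 0, 0, 6, 15, p_T58_s23_O, 1, 0]

theorem pt_c10_cnt_P : Prob 280 9 (grp 280 p_E0) pt_c10_cnt_EG [p_g140] [p_g140] pt_c10_K pt_c10_cnt_L 0 0 :=
  Sym.prob p_hn p_hk pt_c10_sym pt_c10_cnt_EG_ok (grp_cons_le p_g11_p_T58 (grp_cons_le p_g1_p_T58 (grp_cons_le p_g2_p_T58 (grp_cons_le p_g3_p_T58 (grp_cons_le p_g4_p_T58 (grp_cons_le p_g5_p_T58 (grp_cons_le p_g6_p_T58 (grp_cons_le p_g7_p_T58 (grp_cons_le p_g8_p_T58 (grp_cons_le p_g9_p_T58 (grp_cons_le p_g10_p_T58 (grp_cons_le p_g20_p_T58 (grp_cons_le p_g14_p_T58 (grp_cons_le p_g15_p_T58 (grp_cons_le p_g16_p_T58 (grp_cons_le p_g17_p_T58 (grp_cons_le p_g28_p_T58 (grp_cons_le p_g23_p_T58 (grp_cons_le p_g24_p_T58 (grp_cons_le p_g25_p_T58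 (grp_cons_le p_g37_p_T58 (grp_cons_le p_g38_p_T58 (grp_cons_le p_g34_p_T58 (grp_cons_le p_g31_p_T58 (grp_cons_le p_g32_p_T58 (grp_cons_le p_g33_p_T58 (grp_cons_le p_g41_p_T58 (grp_cons_le p_g42_p_T58 (grp_cons_le p_g145_p_T58 (grp_cons_le p_g146_p_T58 (grp_cons_le p_g147_p_T58 (grp_nil_le _)))))))))))))))))))))))))))))))) (Frames.cons p_T58_s1_F (Frames.cons p_T58_s6_F (Frames.cons p_T58_s21_F (Frames.cons p_T58_s22_F (Frames.cons p_T58_s23_F Frames.nil))))) (okE_cons.2 ⟨p_g140_ok, okE_nil _⟩) _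

noncomputable def pt_c10_cnt_t : BT := (BT.fix (nat_lit 65793) (BT.fix (nat_lit 1) (BT.dif (nat_lit 1) (nat_lit 0) (BT.br (nat_lit 0) (nat_lit 20) [nat_lit 3] (BT.kid (nat_lit 20) (nat_lit 6) (BT.frm (nat_lit 0) (nat_lit 1301) (nat_lit 1301) [nat_lit 0] (BT.pln (nat_lit 0) (nat_lit 1) (BT.and (nat_lit 4) (nat_lit 0) (BT.frm (nat_lit 1) (nat_lit 0x171d0515) (nat_lit 0x171d0515) [nat_lit 0, nat_lit 3] (BT.pln (nat_lit 0) (nat_lit 6) (BT.and (nat_lit 3) (nat_lit 0) (BT.img (nat_lit 1) (nat_lit 6) (BT.img (nat_lit 1) (nat_lit 0) (BT.frm (nat_lit 2) (nat_lit 0x212c171d0515) (nat_lit 0x212c171d0515) [nat_lit 0, nat_lit 1, nat_lit 5, nat_lit 8] (BT.pln (nat_lit 0) (nat_lit 5) (BT.dif (nat_lit 4) (nat_lit 0) (BT.br (nat_lit 0) (nat_lit 61) [nat_lit 5] (BT.kid (nat_lit 61) (nat_lit 3) (BT.dif (nat_lit 18) (nat_lit 2) (BT.pln (nat_lit 4) (nat_lit 8) (BT.and (nat_lit 1) (nat_lit 0) (BT.pln (nat_lit 6) (nat_lit 4) (BT.dif (nat_lit 1)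 (nat_lit 0) (BT.pln (nat_lit 8) (nat_lit 6) (BT.dif (nat_lit 1) (nat_lit 0) (BT.pln (nat_lit 10) (nat_lit 7) (BT.dif (nat_lit 1) (nat_lit 0) (BT.pln (nat_lit 12) (nat_lit 9) (BT.dif (nat_lit 1) (nat_lit 0) (BT.frm (nat_lit 3) (nat_lit 0x3b212c171d0515) (nat_lit 0x3b212c171d0515) [nat_lit 11, nat_lit 15, nat_lit 16, nat_lit 20, nat_lit 23] (BT.pln (nat_lit 0) (nat_lit 5) (BT.dif (nat_lit 2) (nat_lit 0) (BT.br (nat_lit 0) (nat_lit 171) [nat_lit 7] (BT.kid (nat_lit 171) (nat_lit 1) (BT.one (nat_lit 4) (nat_lit 0x3d3b212c171d0515) (nat_lit 0x3d3b212c171d0515) [nat_lit 0, nat_lit 15, nat_lit 19, nat_lit 20, nat_lit 24, nat_lit 27]) BT.nil)))))))))))))))) BT.nil))))))))))))) BT.nil)))))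

theorem pt_c10_cnt : Cnt 280 (grp 280 p_E0) [p_g140] [p_g140] 0 0 0 0 36 :=
  BT.sound pt_c10_cnt_P Known.nil (t := pt_c10_cnt_t) (d := 0) (by decide +kernel)

theorem pt_c10_ge : 36 ≤ Nat.card (grp 280 pt_c10_K) :=
  Ch.le_card_grp (k := 9) (L := (lab 280 9)) p_hn pt_c10_K_ok (c := (Ch.cons (nat_lit 20) [nat_lit 1, nat_lit 3] (Ch.cons (nat_lit 61) [nat_lit 5] (Ch.cons (nat_lit 171) [nat_lit 7] Ch.nil)))) (by decide +kernel)

theorem pt_c10_eq : (grp 280 p_E0) ⊓ Subgroup.centralizer {Net.toPerm 280 p_g140} = grp 280 pt_c10_K :=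
  cent_eq pt_c10_sym pt_c10_cnt pt_c10_ge

theorem pt_c10_card : Nat.card ↥((grp 280 p_E0) ⊓ Subgroup.centralizer {Net.toPerm 280 p_g140}) = 36 :=
  card_cent pt_c10_sym pt_c10_cnt pt_c10_ge

theorem pt_c10_ord : orderOf (Net.toPerm 280 p_g140) = 6 :=
  orderOf_net p_hn p_hk p_g140_ok (by decide) (ps := [2, 3]) (by set_option linter.unusedSimpArgs false in simp [Nat.primeFactorsList_ofNat]) (by decide +kernel)

theorem p_le156 : grp 280 pt_c11_K ≤ grp 280 p_E0 :=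
  grp_le_of_memB p_hn p_hk p_E0_ok pt_c11_K_ok (ws := [nat_lit 0x292f17250e2b, nat_lit 0x362a302717220103, nat_lit 0x21171f0e10, nat_lit 0x352a2d2220032d]) (by decide +kernel)

theorem pt_c11_le : grp 280 pt_c11_K ≤ (grp 280 p_E0) :=
  (p_le156.trans p_T58_s0.le)

theorem pt_c11_mem : Net.toPerm 280 p_g153 ∈ (grp 280 p_E0) :=
  pt_c11_le (toPerm_mem_grp (E := pt_c11_K) (List.Mem.head _))

theorem pt_c11_sym : Sym 280 (grp 280 p_E0) [p_g153] pt_c11_K 0 :=
  Sym.of_lab p_hn p_hk (okE_cons.2 ⟨p_g153_ok, okE_nil _⟩) pt_c11_K_ok pt_c11_le (kT := 0) (by decide +kernel)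

noncomputable def pt_c11_cnt_L : List ℕ := [1, 2, p_T58_s1_O, 0, 0, 2, 7, p_T58_s6_O, 0, 0, 4, 10, p_T58_s21_O, 0, 0, 5, 12, p_T58_s22_O, 0, 0, 6, 15, p_T58_s23_O, 1, 0]

theorem pt_c11_cnt_P : Prob 280 9 (grp 280 p_E0) pt_c11_cnt_EG [p_g153] [p_g153] pt_c11_K pt_c11_cnt_L 0 0 :=
  Sym.prob p_hn p_hk pt_c11_sym pt_c11_cnt_EG_ok (grp_cons_le p_g11_p_T58 (grp_cons_le p_g1_p_T58 (grp_cons_le p_g2_p_T58 (grp_cons_le p_g3_p_T58 (grp_cons_le p_g4_p_T58 (grp_cons_le p_g5_p_T58 (grp_cons_le p_g6_p_T58 (grp_cons_le p_g7_p_T58 (grp_cons_le p_g8_p_T58 (grp_cons_le p_g9_p_T58 (grp_cons_le p_g10_p_T58 (grp_cons_le p_g20_p_T58 (grp_cons_le p_g14_p_T58 (grp_cons_le p_g15_p_T58 (grp_cons_le p_g16_p_T58 (grp_cons_le p_g17_p_T58 (grp_cons_le p_g28_p_T58 (grp_cons_le p_g23_p_T58 (grp_cons_le p_g24_p_T58 (grp_cons_le p_g25_p_T58 (grp_cons_le p_g37_p_T58 (grp_cons_le p_g38_p_T58 (grp_cons_le p_g34_p_T58 (grp_cons_le p_g31_p_T58 (grp_cons_le p_g32_p_T58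 (grp_cons_le p_g33_p_T58 (grp_cons_le p_g41_p_T58 (grp_cons_le p_g42_p_T58 (grp_cons_le p_g145_p_T58 (grp_cons_le p_g146_p_T58 (grp_cons_le p_g147_p_T58 (grp_nil_le _)))))))))))))))))))))))))))))))) (Frames.cons p_T58_s1_F (Frames.cons p_T58_s6_F (Frames.cons p_T58_s21_F (Frames.cons p_T58_s22_F (Frames.cons p_T58_s23_F Frames.nil))))) (okE_cons.2 ⟨p_g153_ok, okE_nil _⟩) _

noncomputable def pt_c11_cnt_t : BT := (BT.fix (nat_lit 65793) (BT.fix (nat_lit 1) (BT.dif (nat_lit 1) (nat_lit 0) (BT.br (nat_lit 0) (nat_lit 5) [nat_lit 3] (BT.kid (nat_lit 5) (nat_lit 6) (BT.frm (nat_lit 0) (nat_lit 65838) (nat_lit 65838) [nat_lit 0] (BT.pln (nat_lit 0) (nat_lit 1) (BT.and (nat_lit 4) (nat_lit 0) (BT.frm (nat_lit 1) (nat_lit 0x191b01012e) (nat_lit 0x191b01012e) [nat_lit 0, nat_lit 3] (BT.pln (nat_lit 0) (nat_lit 6) (BT.and (nat_lit 3) (nat_lit 0) (BT.img (nat_lit 1) (nat_lit 6) (BT.img (nat_lit 1) (nat_lit 0) (BT.frm (nat_lit 2) (nat_lit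 0x39212c191b01012e) (nat_lit 0x39212c191b01012e) [nat_lit 0, nat_lit 1, nat_lit 5, nat_lit 8] (BT.pln (nat_lit 0) (nat_lit 5) (BT.dif (nat_lit 4) (nat_lit 0) (BT.br (nat_lit 0) (nat_lit 60) [nat_lit 5] (BT.kid (nat_lit 60) (nat_lit 3) (BT.dif (nat_lit 18) (nat_lit 2) (BT.pln (nat_lit 4) (nat_lit 8) (BT.and (nat_lit 1) (nat_lit 0) (BT.pln (nat_lit 6) (nat_lit 4) (BT.dif (nat_lit 1) (nat_lit 0) (BT.pln (nat_lit 8) (nat_lit 6) (BT.dif (nat_lit 1) (nat_lit 0) (BT.pln (nat_lit 10) (nat_lit 7) (BT.dif (nat_lit 1) (nat_lit 0) (BT.pln (nat_lit 12) (nat_lit 9) (BT.dif (nat_lit 1) (nat_lit 0) (BT.frm (nat_lit 3) (nat_lit 0x39212c191b01012e) (nat_lit 0x39212c191b01012e) [nat_lit 11, nat_lit 15, nat_lit 16, nat_lit 20, nat_lit 23] (BT.pln (nat_lit 0) (nat_lit 5) (BT.dif (nat_lit 2) (nat_lit 0) (BT.br (nat_lit 0) (nat_lit 75) [nat_lit 7] (BT.kid (nat_lit 75) (nat_lit 1) (BT.one (nat_lit 4) (nat_lit 0x3e39212c191b01012e) (nat_lit 0x3e39212c191b01012e)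 [nat_lit 0, nat_lit 15, nat_lit 19, nat_lit 20, nat_lit 24, nat_lit 27]) BT.nil)))))))))))))))) BT.nil))))))))))))) BT.nil)))))

theorem pt_c11_cnt : Cnt 280 (grp 280 p_E0) [p_g153] [p_g153] 0 0 0 0 36 :=
  BT.sound pt_c11_cnt_P Known.nil (t := pt_c11_cnt_t) (d := 0) (by decide +kernel)

theorem pt_c11_ge : 36 ≤ Nat.card (grp 280 pt_c11_K) :=
  Ch.le_card_grp (k := 9) (L := (lab 280 9)) p_hn pt_c11_K_ok (c := (Ch.cons (nat_lit 5) [nat_lit 1, nat_lit 3] (Ch.cons (nat_lit 60) [nat_lit 5] (Ch.cons (nat_lit 75) [nat_lit 7] Ch.nil)))) (by decide +kernel)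

theorem pt_c11_eq : (grp 280 p_E0) ⊓ Subgroup.centralizer {Net.toPerm 280 p_g153} = grp 280 pt_c11_K :=
  cent_eq pt_c11_sym pt_c11_cnt pt_c11_ge

theorem pt_c11_card : Nat.card ↥((grp 280 p_E0) ⊓ Subgroup.centralizer {Net.toPerm 280 p_g153}) = 36 :=
  card_cent pt_c11_sym pt_c11_cnt pt_c11_ge

theorem pt_c11_ord : orderOf (Net.toPerm 280 p_g153) = 6 :=
  orderOf_net p_hn p_hk p_g153_ok (by decide) (ps := [2, 3]) (by set_option linter.unusedSimpArgs false in simp [Nat.primeFactorsList_ofNat]) (by decide +kernel)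

theorem p_le158 : grp 280 pt_c12_K ≤ grp 280 p_E0 :=
  grp_le_of_memB p_hn p_hk p_E0_ok pt_c12_K_ok (ws := [nat_lit 0x2a2d18310f01]) (by decide +kernel)

theorem pt_c12_le : grp 280 pt_c12_K ≤ (grp 280 p_E0) :=
  (p_le158.trans p_T58_s0.le)

theorem pt_c12_mem : Net.toPerm 280 p_g157 ∈ (grp 280 p_E0) :=
  pt_c12_le (toPerm_mem_grp (E := pt_c12_K) (List.Mem.head _))

theorem pt_c12_sym : Sym 280 (grp 280 p_E0) [p_g157] pt_c12_K 0 :=
  Sym.of_lab p_hn p_hk (okE_cons.2 ⟨p_g157_ok, okE_nil _⟩) pt_c12_K_ok pt_c12_le (kT := 0) (by decide +kernel)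

theorem p_le160 : grp 280 p_V159 ≤ grp 280 p_V71 :=
  grp_le_of_memB p_hn p_hk p_V71_ok p_V159_ok (ws := [nat_lit 515]) (by decide +kernel)

theorem p_T58_s24 : Stab 280 (grp 280 p_E0) [nat_lit 5, nat_lit 196, nat_lit 197, nat_lit 0] p_V159 3 :=
  Stab.step (k := 9) (L := (lab 280 9)) p_hn p_T58_s3 p_V159_ok p_le160 (c := (Ch.cons (nat_lit 265) [nat_lit 1] Ch.nil)) (by decide +kernel)

theorem p_T58_s25 : Stab 280 (grp 280 p_E0) [nat_lit 265, nat_lit 5, nat_lit 196, nat_lit 197, nat_lit 0] p_V161 1 :=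
  Stab.step (k := 9) (L := (lab 280 9)) p_hn p_T58_s24 p_V161_ok (grp_mono (List.subset_append_right [p_g128] _)) (c := Ch.nil) (by decide +kernel)

noncomputable def p_T58_s25_O : ℕ := (nat_lit 0xffffff0000000000000000000000000000000000000000000000000000000000000000000000ffffffffffffffffffffffffffffffff00000000000000000000000000000000000000ffffffffffffffff0000000000000000ffffffffffffffff0000000000000000000000ffffffff00000000ffffffff00000000ffffffff00000000ffffffff00000000ff0000ffff0000ffff0000ffff0000ffff0000ffff0000ffff0000ffff0000ffff000000ff00ff00ff00ff00ff00ff00ff00ff00ff00ff00ff00ff00ff00ff00ff00ff00ff00f0f0f0f0f0f0f0f0f0f0f0f0f0f0f0f0f0f0f0f0f0f0f0f0f0f0f0f0f0f0f0f0f0f0f0ccccccccccccccccccccccccccccccccccccccccccccccccccccccccccccccccccccccaaaaaaaaaaaaaaaaaaaaaaaaaaaaaaaaaaaaaaaaaaaaaaaaaaaaaaaaaaaaaaaaaaaaaa00000000000000000000000000000000000000000000000000000000000000000000010000000000000000000020000000000000000000000000000000000000000000000000000000000000000000001000000000000000000000000000000000000000000000000000000000000000000000000000000000000000000000000000000000000000000000200002000000000000000000000000000000000000000000000000000000000000000000)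

theorem p_T58_s25_F : Frame 280 (grp 280 p_E0) 5 14 p_T58_s25_O 1 1 :=
  IsBase.frame p_T58_s25.isBase (by decide +kernel)

noncomputable def pt_c12_cnt_L : List ℕ := [1, 2, p_T58_s1_O, 0, 0, 2, 14, p_T58_s2_O, 0, 0, 5, 14, p_T58_s25_O, 1, 0]

theorem pt_c12_cnt_P : Prob 280 9 (grp 280 p_E0) pt_c12_cnt_EG [p_g157] [p_g157] pt_c12_K pt_c12_cnt_L 0 0 :=
  Sym.prob p_hn p_hk pt_c12_sym pt_c12_cnt_EG_ok (grp_cons_le p_g11_p_T58 (grp_cons_le p_g1_p_T58 (grp_cons_le p_g2_p_T58 (grp_cons_le p_g3_p_T58 (grp_cons_le p_g4_p_T58 (grp_cons_le p_g5_p_T58 (grp_cons_le p_g6_p_T58 (grp_cons_le p_g7_p_T58 (grp_cons_le p_g8_p_T58 (grp_cons_le p_g9_p_T58 (grp_cons_le p_g10_p_T58 (grp_cons_le p_g20_p_T58 (grp_cons_le p_g14_p_T58 (grp_cons_le p_g15_p_T58 (grp_cons_le p_g16_p_T58 (grp_cons_le p_g17_p_T58 (grp_cons_le p_g28_p_T58 (grp_cons_le p_g23_p_T58 (grp_cons_le p_g24_p_T58 (grp_cons_le p_g25_p_T58 (grp_cons_le p_g37_p_T58 (grp_cons_le p_g38_p_T58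 (grp_cons_le p_g34_p_T58 (grp_cons_le p_g31_p_T58 (grp_cons_le p_g32_p_T58 (grp_cons_le p_g33_p_T58 (grp_cons_le p_g41_p_T58 (grp_cons_le p_g42_p_T58 (grp_cons_le p_g128_p_T58 (grp_cons_le p_g68_p_T58 (grp_cons_le p_g67_p_T58 (grp_nil_le _)))))))))))))))))))))))))))))))) (Frames.cons p_T58_s1_F (Frames.cons p_T58_s2_F (Frames.cons p_T58_s25_F Frames.nil))) (okE_cons.2 ⟨p_g157_ok, okE_nil _⟩) _

noncomputable def pt_c12_cnt_t : BT := (BT.br (nat_lit 2) (nat_lit 0) [nat_lit 1] (BT.dead (nat_lit 40) (BT.frm (nat_lit 0) (nat_lit 0) (nat_lit 132397) [nat_lit 0] (BT.pln (nat_lit 0) (nat_lit 1) (BT.img (nat_lit 1) (nat_lit 0) (BT.dif (nat_lit 0) (nat_lit 1) (BT.and (nat_lit 2) (nat_lit 1) (BT.img (nat_lit 1) (nat_lit 0) (BT.dif (nat_lit 2) (nat_lit 0) (BT.img (nat_lit 1) (nat_lit 0) (BT.and (nat_lit 6) (nat_lit 0) (BT.img (nat_lit 1) (nat_lit 0) (BT.and (nat_lit 7) (nat_lit 0) (BT.img (nat_lit 1) (nat_lit 0) (BT.and (nat_lit 0) (nat_lit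 10) (BT.cnt (nat_lit 0))))))))))))))) (BT.dead (nat_lit 23) (BT.frm (nat_lit 0) (nat_lit 0) (nat_lit 131878) [nat_lit 0] (BT.pln (nat_lit 0) (nat_lit 1) (BT.img (nat_lit 1) (nat_lit 0) (BT.dif (nat_lit 0) (nat_lit 1) (BT.and (nat_lit 2) (nat_lit 1) (BT.img (nat_lit 1) (nat_lit 0) (BT.dif (nat_lit 2) (nat_lit 0) (BT.img (nat_lit 1) (nat_lit 0) (BT.and (nat_lit 6) (nat_lit 0) (BT.img (nat_lit 1) (nat_lit 0) (BT.and (nat_lit 7) (nat_lit 0) (BT.img (nat_lit 1) (nat_lit 0) (BT.and (nat_lit 0) (nat_lit 10) (BT.cnt (nat_lit 0))))))))))))))) (BT.dead (nat_lit 47) (BT.img (nat_lit 1) (nat_lit 0) (BT.frm (nat_lit 1) (nat_lit 6952) (nat_lit 0x202f020317) [nat_lit 0, nat_lit 1] (BT.pln (nat_lit 0) (nat_lit 2) (BT.img (nat_lit 1) (nat_lit 2) (BT.img (nat_lit 1) (nat_lit 0) (BT.and (nat_lit 2) (nat_lit 0) (BT.cnt (nat_lit 0)))))))) (BT.dead (nat_lit 16) (BT.img (nat_lit 1) (nat_lit 0) (BT.frm (nat_lit 1) (nat_lit 6952) (nat_lit 0x222b020b)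 [nat_lit 0, nat_lit 1] (BT.pln (nat_lit 0) (nat_lit 2) (BT.img (nat_lit 1) (nat_lit 2) (BT.img (nat_lit 1) (nat_lit 0) (BT.img (nat_lit 1) (nat_lit 0) (BT.and (nat_lit 3) (nat_lit 0) (BT.cnt (nat_lit 0))))))))) (BT.dead (nat_lit 7) (BT.img (nat_lit 1) (nat_lit 0) (BT.frm (nat_lit 1) (nat_lit 6952) (nat_lit 0x201d0b31) [nat_lit 0, nat_lit 1] (BT.pln (nat_lit 0) (nat_lit 2) (BT.img (nat_lit 1) (nat_lit 2) (BT.img (nat_lit 1) (nat_lit 0) (BT.img (nat_lit 1) (nat_lit 0) (BT.and (nat_lit 3) (nat_lit 0) (BT.cnt (nat_lit 0))))))))) (BT.dead (nat_lit 142) (BT.frm (nat_lit 0) (nat_lit 0) (nat_lit 1832) [nat_lit 0] (BT.pln (nat_lit 0) (nat_lit 1) (BT.img (nat_lit 1) (nat_lit 0) (BT.dif (nat_lit 0) (nat_lit 1) (BT.and (nat_lit 2) (nat_lit 1) (BT.img (nat_lit 1) (nat_lit 0) (BT.dif (nat_lit 2) (nat_lit 0) (BT.img (nat_lit 1) (nat_lit 0) (BT.and (nat_lit 6) (nat_lit 0) (BT.img (nat_lit 1) (nat_lit 0) (BT.and (nat_lit 7) (nat_lit 0) (BT.img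 (nat_lit 1) (nat_lit 0) (BT.and (nat_lit 0) (nat_lit 10) (BT.cnt (nat_lit 0))))))))))))))) (BT.dead (nat_lit 13) (BT.frm (nat_lit 0) (nat_lit 0) (nat_lit 1816) [nat_lit 0] (BT.pln (nat_lit 0) (nat_lit 1) (BT.img (nat_lit 1) (nat_lit 0) (BT.dif (nat_lit 0) (nat_lit 1) (BT.and (nat_lit 2) (nat_lit 1) (BT.img (nat_lit 1) (nat_lit 0) (BT.dif (nat_lit 2) (nat_lit 0) (BT.img (nat_lit 1) (nat_lit 0) (BT.and (nat_lit 6) (nat_lit 0) (BT.img (nat_lit 1) (nat_lit 0) (BT.and (nat_lit 7) (nat_lit 0) (BT.img (nat_lit 1) (nat_lit 0) (BT.and (nat_lit 0) (nat_lit 10) (BT.cnt (nat_lit 0))))))))))))))) (BT.dead (nat_lit 36) (BT.frm (nat_lit 0) (nat_lit 0) (nat_lit 67361) [nat_lit 0] (BT.pln (nat_lit 0) (nat_lit 1) (BT.img (nat_lit 1) (nat_lit 0) (BT.and (nat_lit 1) (nat_lit 0) (BT.img (nat_lit 1) (nat_lit 0) (BT.img (nat_lit 1) (nat_lit 0) (BT.img (nat_lit 1) (nat_lit 0) (BT.and (nat_lit 0) (nat_lit 5) (BT.cnt (nat_lit 0)))))))))) (BT.dead (nat_lit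 11) (BT.frm (nat_lit 0) (nat_lit 0) (nat_lit 66338) [nat_lit 0] (BT.pln (nat_lit 0) (nat_lit 1) (BT.img (nat_lit 1) (nat_lit 0) (BT.and (nat_lit 1) (nat_lit 0) (BT.img (nat_lit 1) (nat_lit 0) (BT.img (nat_lit 1) (nat_lit 0) (BT.img (nat_lit 1) (nat_lit 0) (BT.and (nat_lit 0) (nat_lit 5) (BT.cnt (nat_lit 0)))))))))) (BT.dead (nat_lit 71) (BT.frm (nat_lit 0) (nat_lit 0) (nat_lit 67375) [nat_lit 0] (BT.pln (nat_lit 0) (nat_lit 1) (BT.img (nat_lit 1) (nat_lit 0) (BT.and (nat_lit 1) (nat_lit 0) (BT.img (nat_lit 1) (nat_lit 0) (BT.img (nat_lit 1) (nat_lit 0) (BT.and (nat_lit 0) (nat_lit 4) (BT.cnt (nat_lit 0))))))))) (BT.dead (nat_lit 33) (BT.frm (nat_lit 0) (nat_lit 0) (nat_lit 134438) [nat_lit 0] (BT.pln (nat_lit 0) (nat_lit 1) (BT.img (nat_lit 1) (nat_lit 0) (BT.and (nat_lit 1) (nat_lit 0) (BT.img (nat_lit 1) (nat_lit 0) (BT.img (nat_lit 1) (nat_lit 0) (BT.and (nat_lit 0) (nat_lit 4) (BT.cnt (nat_lit 0))))))))) (BT.dead (nat_lit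 22) (BT.frm (nat_lit 0) (nat_lit 0) (nat_lit 73229) [nat_lit 0] (BT.pln (nat_lit 0) (nat_lit 1) (BT.img (nat_lit 1) (nat_lit 0) (BT.and (nat_lit 1) (nat_lit 0) (BT.img (nat_lit 1) (nat_lit 0) (BT.img (nat_lit 1) (nat_lit 0) (BT.and (nat_lit 0) (nat_lit 4) (BT.cnt (nat_lit 0))))))))) (BT.dead (nat_lit 15) (BT.frm (nat_lit 0) (nat_lit 0) (nat_lit 139785) [nat_lit 0] (BT.pln (nat_lit 0) (nat_lit 1) (BT.img (nat_lit 1) (nat_lit 0) (BT.and (nat_lit 1) (nat_lit 0) (BT.img (nat_lit 1) (nat_lit 0) (BT.img (nat_lit 1) (nat_lit 0) (BT.and (nat_lit 0) (nat_lit 4) (BT.cnt (nat_lit 0))))))))) (BT.dead (nat_lit 6) (BT.frm (nat_lit 0) (nat_lit 0) (nat_lit 66839) [nat_lit 0] (BT.pln (nat_lit 0) (nat_lit 1) (BT.img (nat_lit 1) (nat_lit 0) (BT.and (nat_lit 1) (nat_lit 0) (BT.img (nat_lit 1) (nat_lit 0) (BT.img (nat_lit 1) (nat_lit 0) (BT.and (nat_lit 0) (nat_lit 4) (BT.cnt (nat_lit 0))))))))) (BT.dead (nat_lit 27) (BT.frm (nat_lit 0) (nat_lit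 0) (nat_lit 133921) [nat_lit 0] (BT.pln (nat_lit 0) (nat_lit 1) (BT.img (nat_lit 1) (nat_lit 2) (BT.img (nat_lit 1) (nat_lit 0) (BT.img (nat_lit 1) (nat_lit 0) (BT.and (nat_lit 3) (nat_lit 0) (BT.cnt (nat_lit 0)))))))) (BT.dead (nat_lit 5) (BT.frm (nat_lit 0) (nat_lit 0) (nat_lit 65838) [nat_lit 0] (BT.pln (nat_lit 0) (nat_lit 1) (BT.img (nat_lit 1) (nat_lit 2) (BT.img (nat_lit 1) (nat_lit 0) (BT.img (nat_lit 1) (nat_lit 0) (BT.and (nat_lit 3) (nat_lit 0) (BT.cnt (nat_lit 0)))))))) (BT.dead (nat_lit 10) (BT.frm (nat_lit 0) (nat_lit 0) (nat_lit 68382) [nat_lit 0] (BT.pln (nat_lit 0) (nat_lit 1) (BT.img (nat_lit 1) (nat_lit 2) (BT.img (nat_lit 1) (nat_lit 0) (BT.and (nat_lit 2) (nat_lit 0) (BT.cnt (nat_lit 0))))))) (BT.dead (nat_lit 34) (BT.frm (nat_lit 0) (nat_lit 0) (nat_lit 1302) [nat_lit 0] (BT.pln (nat_lit 0) (nat_lit 1) (BT.img (nat_lit 1) (nat_lit 0) (BT.and (nat_lit 1) (nat_lit 0) (BT.img (nat_lit 1) (nat_lit 0) (BT.img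 (nat_lit 1) (nat_lit 0) (BT.img (nat_lit 1) (nat_lit 0) (BT.and (nat_lit 0) (nat_lit 5) (BT.cnt (nat_lit 0)))))))))) (BT.dead (nat_lit 26) (BT.frm (nat_lit 0) (nat_lit 0) (nat_lit 3339) [nat_lit 0] (BT.pln (nat_lit 0) (nat_lit 1) (BT.img (nat_lit 1) (nat_lit 0) (BT.and (nat_lit 1) (nat_lit 0) (BT.img (nat_lit 1) (nat_lit 0) (BT.img (nat_lit 1) (nat_lit 0) (BT.img (nat_lit 1) (nat_lit 0) (BT.and (nat_lit 0) (nat_lit 5) (BT.cnt (nat_lit 0)))))))))) (BT.dead (nat_lit 29) (BT.frm (nat_lit 0) (nat_lit 0) (nat_lit 65823) [nat_lit 0] (BT.pln (nat_lit 0) (nat_lit 1) (BT.img (nat_lit 1) (nat_lit 2) (BT.and (nat_lit 1) (nat_lit 0) (BT.cnt (nat_lit 0)))))) (BT.dead (nat_lit 12) (BT.frm (nat_lit 0) (nat_lit 0) (nat_lit 66349) [nat_lit 0] (BT.pln (nat_lit 0) (nat_lit 1) (BT.img (nat_lit 1) (nat_lit 2) (BT.and (nat_lit 1) (nat_lit 0) (BT.cnt (nat_lit 0)))))) (BT.dead (nat_lit 134) (BT.frm (nat_lit 0) (nat_lit 0) (nat_lit 287) [nat_lit 0]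 (BT.pln (nat_lit 0) (nat_lit 1) (BT.img (nat_lit 1) (nat_lit 0) (BT.and (nat_lit 1) (nat_lit 0) (BT.img (nat_lit 1) (nat_lit 0) (BT.img (nat_lit 1) (nat_lit 0) (BT.and (nat_lit 0) (nat_lit 4) (BT.cnt (nat_lit 0))))))))) (BT.dead (nat_lit 100) (BT.frm (nat_lit 0) (nat_lit 0) (nat_lit 2853) [nat_lit 0] (BT.pln (nat_lit 0) (nat_lit 1) (BT.img (nat_lit 1) (nat_lit 0) (BT.and (nat_lit 1) (nat_lit 0) (BT.img (nat_lit 1) (nat_lit 0) (BT.img (nat_lit 1) (nat_lit 0) (BT.and (nat_lit 0) (nat_lit 4) (BT.cnt (nat_lit 0))))))))) (BT.dead (nat_lit 61) (BT.frm (nat_lit 0) (nat_lit 0) (nat_lit 3861) [nat_lit 0] (BT.pln (nat_lit 0) (nat_lit 1) (BT.img (nat_lit 1) (nat_lit 0) (BT.and (nat_lit 1) (nat_lit 0) (BT.img (nat_lit 1) (nat_lit 0) (BT.img (nat_lit 1) (nat_lit 0) (BT.and (nat_lit 0) (nat_lit 4) (BT.cnt (nat_lit 0))))))))) (BT.dead (nat_lit 30) (BT.frm (nat_lit 0) (nat_lit 0) (nat_lit 5409) [nat_lit 0] (BT.pln (nat_lit 0) (nat_lit 1)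 (BT.img (nat_lit 1) (nat_lit 0) (BT.and (nat_lit 1) (nat_lit 0) (BT.img (nat_lit 1) (nat_lit 0) (BT.img (nat_lit 1) (nat_lit 0) (BT.and (nat_lit 0) (nat_lit 4) (BT.cnt (nat_lit 0))))))))) (BT.dead (nat_lit 25) (BT.frm (nat_lit 0) (nat_lit 0) (nat_lit 1825) [nat_lit 0] (BT.pln (nat_lit 0) (nat_lit 1) (BT.img (nat_lit 1) (nat_lit 0) (BT.and (nat_lit 1) (nat_lit 0) (BT.img (nat_lit 1) (nat_lit 0) (BT.img (nat_lit 1) (nat_lit 0) (BT.and (nat_lit 0) (nat_lit 4) (BT.cnt (nat_lit 0))))))))) (BT.dead (nat_lit 20) (BT.frm (nat_lit 0) (nat_lit 0) (nat_lit 1301) [nat_lit 0] (BT.pln (nat_lit 0) (nat_lit 1) (BT.img (nat_lit 1) (nat_lit 0) (BT.and (nat_lit 1) (nat_lit 0) (BT.img (nat_lit 1) (nat_lit 0) (BT.img (nat_lit 1) (nat_lit 0) (BT.and (nat_lit 0) (nat_lit 4) (BT.cnt (nat_lit 0))))))))) (BT.dead (nat_lit 2) (BT.frm (nat_lit 0) (nat_lit 0) (nat_lit 1838) [nat_lit 0] (BT.pln (nat_lit 0) (nat_lit 1) (BT.img (nat_lit 1) (nat_lit 0) (BT.and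 (nat_lit 1) (nat_lit 0) (BT.img (nat_lit 1) (nat_lit 0) (BT.img (nat_lit 1) (nat_lit 0) (BT.and (nat_lit 0) (nat_lit 4) (BT.cnt (nat_lit 0))))))))) (BT.dead (nat_lit 81) (BT.frm (nat_lit 0) (nat_lit 0) (nat_lit 784) [nat_lit 0] (BT.pln (nat_lit 0) (nat_lit 1) (BT.img (nat_lit 1) (nat_lit 0) (BT.and (nat_lit 1) (nat_lit 0) (BT.img (nat_lit 1) (nat_lit 0) (BT.and (nat_lit 0) (nat_lit 3) (BT.cnt (nat_lit 0)))))))) (BT.dead (nat_lit 39) (BT.frm (nat_lit 0) (nat_lit 0) (nat_lit 3847) [nat_lit 0] (BT.pln (nat_lit 0) (nat_lit 1) (BT.img (nat_lit 1) (nat_lit 0) (BT.and (nat_lit 1) (nat_lit 0) (BT.img (nat_lit 1) (nat_lit 0) (BT.and (nat_lit 0) (nat_lit 3) (BT.cnt (nat_lit 0)))))))) (BT.dead (nat_lit 18) (BT.frm (nat_lit 0) (nat_lit 0) (nat_lit 2830) [nat_lit 0] (BT.pln (nat_lit 0) (nat_lit 1) (BT.img (nat_lit 1) (nat_lit 0) (BT.and (nat_lit 1) (nat_lit 0) (BT.img (nat_lit 1) (nat_lit 0) (BT.and (nat_lit 0) (nat_lit 3) (BT.cnt (nat_lit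 0)))))))) (BT.dead (nat_lit 3) (BT.frm (nat_lit 0) (nat_lit 0) (nat_lit 1821) [nat_lit 0] (BT.pln (nat_lit 0) (nat_lit 1) (BT.img (nat_lit 1) (nat_lit 0) (BT.and (nat_lit 1) (nat_lit 0) (BT.img (nat_lit 1) (nat_lit 0) (BT.and (nat_lit 0) (nat_lit 3) (BT.cnt (nat_lit 0)))))))) (BT.dead (nat_lit 19) (BT.frm (nat_lit 0) (nat_lit 0) (nat_lit 4913) [nat_lit 0] (BT.pln (nat_lit 0) (nat_lit 1) (BT.img (nat_lit 1) (nat_lit 2) (BT.img (nat_lit 1) (nat_lit 0) (BT.img (nat_lit 1) (nat_lit 0) (BT.and (nat_lit 3) (nat_lit 0) (BT.cnt (nat_lit 0)))))))) (BT.dead (nat_lit 4) (BT.frm (nat_lit 0) (nat_lit 0) (nat_lit 817) [nat_lit 0] (BT.pln (nat_lit 0) (nat_lit 1) (BT.img (nat_lit 1) (nat_lit 2) (BT.img (nat_lit 1) (nat_lit 0) (BT.img (nat_lit 1) (nat_lit 0) (BT.and (nat_lit 3) (nat_lit 0) (BT.cnt (nat_lit 0)))))))) (BT.dead (nat_lit 52) (BT.frm (nat_lit 0) (nat_lit 0) (nat_lit 534) [nat_lit 0] (BT.pln (nat_lit 0) (nat_lit 1) (BT.img (nat_lit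 1) (nat_lit 2) (BT.img (nat_lit 1) (nat_lit 0) (BT.and (nat_lit 2) (nat_lit 0) (BT.cnt (nat_lit 0))))))) (BT.dead (nat_lit 42) (BT.frm (nat_lit 0) (nat_lit 0) (nat_lit 259) [nat_lit 0] (BT.pln (nat_lit 0) (nat_lit 1) (BT.img (nat_lit 1) (nat_lit 2) (BT.img (nat_lit 1) (nat_lit 0) (BT.and (nat_lit 2) (nat_lit 0) (BT.cnt (nat_lit 0))))))) (BT.dead (nat_lit 1) (BT.frm (nat_lit 0) (nat_lit 0) (nat_lit 782) [nat_lit 0] (BT.pln (nat_lit 0) (nat_lit 1) (BT.img (nat_lit 1) (nat_lit 2) (BT.img (nat_lit 1) (nat_lit 0) (BT.and (nat_lit 2) (nat_lit 0) (BT.cnt (nat_lit 0))))))) (BT.dead (nat_lit 46) (BT.frm (nat_lit 0) (nat_lit 0) (nat_lit 526) [nat_lit 0] (BT.pln (nat_lit 0) (nat_lit 1) (BT.img (nat_lit 1) (nat_lit 2) (BT.and (nat_lit 1) (nat_lit 0) (BT.cnt (nat_lit 0)))))) (BT.dead (nat_lit 8) (BT.frm (nat_lit 0) (nat_lit 0) (nat_lit 5682) [nat_lit 0] (BT.pln (nat_lit 0) (nat_lit 1) (BT.img (nat_lit 1) (nat_lit 2) (BT.and (nat_lit 1)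 (nat_lit 0) (BT.cnt (nat_lit 0)))))) (BT.kid (nat_lit 0) (nat_lit 1) (BT.frm (nat_lit 0) (nat_lit 0) (nat_lit 0) [nat_lit 0] (BT.pln (nat_lit 0) (nat_lit 1) (BT.img (nat_lit 1) (nat_lit 0) (BT.and (nat_lit 1) (nat_lit 0) (BT.img (nat_lit 1) (nat_lit 0) (BT.img (nat_lit 1) (nat_lit 0) (BT.img (nat_lit 1) (nat_lit 6) (BT.frm (nat_lit 1) (nat_lit 6952) (nat_lit 6952) [nat_lit 0, nat_lit 7] (BT.pln (nat_lit 0) (nat_lit 8) (BT.and (nat_lit 3) (nat_lit 0) (BT.pln (nat_lit 2) (nat_lit 4) (BT.and (nat_lit 6) (nat_lit 0) (BT.pln (nat_lit 4) (nat_lit 12) (BT.img (nat_lit 1) (nat_lit 7) (BT.img (nat_lit 1) (nat_lit 0) (BT.img (nat_lit 1) (nat_lit 0) (BT.img (nat_lit 1) (nat_lit 0) (BT.and (nat_lit 15) (nat_lit 0) (BT.pln (nat_lit 10) (nat_lit 10) (BT.and (nat_lit 1) (nat_lit 0) (BT.pln (nat_lit 12) (nat_lit 6) (BT.and (nat_lit 0) (nat_lit 5) (BT.img (nat_lit 1) (nat_lit 0) (BT.and (nat_lit 3) (nat_lit 0) (BT.img (nat_lit 1) (nat_lit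 0) (BT.and (nat_lit 12) (nat_lit 0) (BT.img (nat_lit 1) (nat_lit 0) (BT.and (nat_lit 15) (nat_lit 0) (BT.pln (nat_lit 20) (nat_lit 13) (BT.img (nat_lit 1) (nat_lit 0) (BT.pln (nat_lit 22) (nat_lit 2) (BT.dif (nat_lit 1) (nat_lit 0) (BT.img (nat_lit 1) (nat_lit 0) (BT.and (nat_lit 4) (nat_lit 0) (BT.one (nat_lit 2) (nat_lit 0x3a2b3b3d1b28) (nat_lit 0x3a2b3b3d1b28) [nat_lit 24, nat_lit 6, nat_lit 0, nat_lit 27, nat_lit 34]))))))))))))))))))))))))))))))))))) BT.nil)))))))))))))))))))))))))))))))))))))))))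

theorem pt_c12_cnt : Cnt 280 (grp 280 p_E0) [p_g157] [p_g157] 0 0 0 0 7 :=
  BT.sound pt_c12_cnt_P Known.nil (t := pt_c12_cnt_t) (d := 0) (by decide +kernel)

theorem pt_c12_ge : 7 ≤ Nat.card (grp 280 pt_c12_K) :=
  Ch.le_card_grp (k := 9) (L := (lab 280 9)) p_hn pt_c12_K_ok (c := (Ch.cons (nat_lit 0) [nat_lit 1] Ch.nil)) (by decide +kernel)

theorem pt_c12_eq : (grp 280 p_E0) ⊓ Subgroup.centralizer {Net.toPerm 280 p_g157} = grp 280 pt_c12_K :=
  cent_eq pt_c12_sym pt_c12_cnt pt_c12_ge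

theorem pt_c12_card : Nat.card ↥((grp 280 p_E0) ⊓ Subgroup.centralizer {Net.toPerm 280 p_g157}) = 7 :=
  card_cent pt_c12_sym pt_c12_cnt pt_c12_ge

theorem pt_c12_ord : orderOf (Net.toPerm 280 p_g157) = 7 :=
  orderOf_net p_hn p_hk p_g157_ok (by decide) (ps := [7]) (by set_option linter.unusedSimpArgs false in simp [Nat.primeFactorsList_ofNat]) (by decide +kernel)

theorem p_le163 : grp 280 pt_c13_K ≤ grp 280 p_E0 :=
  grp_le_of_memB p_hn p_hk p_E0_ok pt_c13_K_ok (ws := [nat_lit 0x3629211831161e]) (by decide +kernel)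

theorem pt_c13_le : grp 280 pt_c13_K ≤ (grp 280 p_E0) :=
  (p_le163.trans p_T58_s0.le)

theorem pt_c13_mem : Net.toPerm 280 p_g162 ∈ (grp 280 p_E0) :=
  pt_c13_le (toPerm_mem_grp (E := pt_c13_K) (List.Mem.head _))

theorem pt_c13_sym : Sym 280 (grp 280 p_E0) [p_g162] pt_c13_K 0 :=
  Sym.of_lab p_hn p_hk (okE_cons.2 ⟨p_g162_ok, okE_nil _⟩) pt_c13_K_ok pt_c13_le (kT := 0) (by decide +kernel)

noncomputable def pt_c13_cnt_L : List ℕ := [1, 2, p_T58_s1_O, 0, 0, 2, 14, p_T58_s2_O, 0, 0, 5, 14, p_T58_s25_O, 1, 0]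

theorem pt_c13_cnt_P : Prob 280 9 (grp 280 p_E0) pt_c13_cnt_EG [p_g162] [p_g162] pt_c13_K pt_c13_cnt_L 0 0 :=
  Sym.prob p_hn p_hk pt_c13_sym pt_c13_cnt_EG_ok (grp_cons_le p_g11_p_T58 (grp_cons_le p_g1_p_T58 (grp_cons_le p_g2_p_T58 (grp_cons_le p_g3_p_T58 (grp_cons_le p_g4_p_T58 (grp_cons_le p_g5_p_T58 (grp_cons_le p_g6_p_T58 (grp_cons_le p_g7_p_T58 (grp_cons_le p_g8_p_T58 (grp_cons_le p_g9_p_T58 (grp_cons_le p_g10_p_T58 (grp_cons_le p_g20_p_T58 (grp_cons_le p_g14_p_T58 (grp_cons_le p_g15_p_T58 (grp_cons_le p_g16_p_T58 (grp_cons_le p_g17_p_T58 (grp_cons_le p_g28_p_T58 (grp_cons_le p_g23_p_T58 (grp_cons_le p_g24_p_T58 (grp_cons_le p_g25_p_T58 (grp_cons_le p_g37_p_T58 (grp_cons_le p_g38_p_T58 (grp_cons_le p_g34_p_T58 (grp_cons_le p_g31_p_T58 (grp_cons_le p_g32_p_T58 (grp_cons_le p_g33_p_T58 (grp_cons_le p_g41_p_T58 (grp_cons_le p_g42_p_T58 (grp_cons_le p_g128_p_T58 (grp_cons_le p_g68_p_T58 (grp_cons_le p_g67_p_T58 (grp_nil_le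 _)))))))))))))))))))))))))))))))) (Frames.cons p_T58_s1_F (Frames.cons p_T58_s2_F (Frames.cons p_T58_s25_F Frames.nil))) (okE_cons.2 ⟨p_g162_ok, okE_nil _⟩) _

noncomputable def pt_c13_cnt_t : BT := (BT.br (nat_lit 2) (nat_lit 0) [nat_lit 1] (BT.dead (nat_lit 47) (BT.img (nat_lit 1) (nat_lit 0) (BT.frm (nat_lit 1) (nat_lit 10028) (nat_lit 0x2131020317) [nat_lit 0, nat_lit 1] (BT.pln (nat_lit 0) (nat_lit 2) (BT.img (nat_lit 1) (nat_lit 2) (BT.img (nat_lit 1) (nat_lit 0) (BT.and (nat_lit 2) (nat_lit 0) (BT.cnt (nat_lit 0)))))))) (BT.dead (nat_lit 7) (BT.img (nat_lit 1) (nat_lit 0) (BT.frm (nat_lit 1) (nat_lit 10028) (nat_lit 0x171b190b31) [nat_lit 0, nat_lit 1] (BT.pln (nat_lit 0) (nat_lit 2) (BT.img (nat_lit 1) (nat_lit 2) (BT.and (nat_lit 1) (nat_lit 0) (BT.cnt (nat_lit 0))))))) (BT.dead (nat_lit 81) (BT.frm (nat_lit 0) (nat_lit 0) (nat_lit 784) [nat_lit 0] (BT.pln (nat_lit 0) (nat_lit 1) (BT.img (nat_lit 1) (nat_lit 0) (BT.dif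 (nat_lit 0) (nat_lit 1) (BT.and (nat_lit 2) (nat_lit 1) (BT.img (nat_lit 1) (nat_lit 0) (BT.dif (nat_lit 2) (nat_lit 0) (BT.img (nat_lit 1) (nat_lit 0) (BT.and (nat_lit 6) (nat_lit 0) (BT.img (nat_lit 1) (nat_lit 0) (BT.and (nat_lit 7) (nat_lit 0) (BT.img (nat_lit 1) (nat_lit 0) (BT.and (nat_lit 0) (nat_lit 10) (BT.cnt (nat_lit 0))))))))))))))) (BT.dead (nat_lit 39) (BT.frm (nat_lit 0) (nat_lit 0) (nat_lit 3847) [nat_lit 0] (BT.pln (nat_lit 0) (nat_lit 1) (BT.img (nat_lit 1) (nat_lit 0) (BT.dif (nat_lit 0) (nat_lit 1) (BT.and (nat_lit 2) (nat_lit 1) (BT.img (nat_lit 1) (nat_lit 0) (BT.dif (nat_lit 2) (nat_lit 0) (BT.img (nat_lit 1) (nat_lit 0) (BT.and (nat_lit 6) (nat_lit 0) (BT.img (nat_lit 1) (nat_lit 0) (BT.and (nat_lit 7) (nat_lit 0) (BT.img (nat_lit 1) (nat_lit 0) (BT.and (nat_lit 0) (nat_lit 10) (BT.cnt (nat_lit 0))))))))))))))) (BT.dead (nat_lit 18) (BT.frm (nat_lit 0) (nat_lit 0) (nat_lit 2830) [nat_lit 0] (BT.pln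 (nat_lit 0) (nat_lit 1) (BT.img (nat_lit 1) (nat_lit 0) (BT.dif (nat_lit 0) (nat_lit 1) (BT.and (nat_lit 2) (nat_lit 1) (BT.img (nat_lit 1) (nat_lit 0) (BT.dif (nat_lit 2) (nat_lit 0) (BT.img (nat_lit 1) (nat_lit 0) (BT.and (nat_lit 6) (nat_lit 0) (BT.img (nat_lit 1) (nat_lit 0) (BT.and (nat_lit 7) (nat_lit 0) (BT.img (nat_lit 1) (nat_lit 0) (BT.and (nat_lit 0) (nat_lit 10) (BT.cnt (nat_lit 0))))))))))))))) (BT.dead (nat_lit 3) (BT.frm (nat_lit 0) (nat_lit 0) (nat_lit 1821) [nat_lit 0] (BT.pln (nat_lit 0) (nat_lit 1) (BT.img (nat_lit 1) (nat_lit 0) (BT.dif (nat_lit 0) (nat_lit 1) (BT.and (nat_lit 2) (nat_lit 1) (BT.img (nat_lit 1) (nat_lit 0) (BT.dif (nat_lit 2) (nat_lit 0) (BT.img (nat_lit 1) (nat_lit 0) (BT.and (nat_lit 6) (nat_lit 0) (BT.img (nat_lit 1) (nat_lit 0) (BT.and (nat_lit 7) (nat_lit 0) (BT.img (nat_lit 1) (nat_lit 0) (BT.and (nat_lit 0) (nat_lit 10) (BT.cnt (nat_lit 0))))))))))))))) (BT.dead (nat_lit 16) (BT.img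 (nat_lit 1) (nat_lit 0) (BT.frm (nat_lit 1) (nat_lit 10028) (nat_lit 0x182d020b) [nat_lit 0, nat_lit 1] (BT.pln (nat_lit 0) (nat_lit 2) (BT.img (nat_lit 1) (nat_lit 2) (BT.and (nat_lit 1) (nat_lit 0) (BT.cnt (nat_lit 0))))))) (BT.dead (nat_lit 40) (BT.frm (nat_lit 0) (nat_lit 0) (nat_lit 132397) [nat_lit 0] (BT.pln (nat_lit 0) (nat_lit 1) (BT.img (nat_lit 1) (nat_lit 0) (BT.and (nat_lit 1) (nat_lit 0) (BT.img (nat_lit 1) (nat_lit 0) (BT.img (nat_lit 1) (nat_lit 0) (BT.img (nat_lit 1) (nat_lit 0) (BT.and (nat_lit 0) (nat_lit 5) (BT.cnt (nat_lit 0)))))))))) (BT.dead (nat_lit 23) (BT.frm (nat_lit 0) (nat_lit 0) (nat_lit 131878) [nat_lit 0] (BT.pln (nat_lit 0) (nat_lit 1) (BT.img (nat_lit 1) (nat_lit 0) (BT.and (nat_lit 1) (nat_lit 0) (BT.img (nat_lit 1) (nat_lit 0) (BT.img (nat_lit 1) (nat_lit 0) (BT.img (nat_lit 1) (nat_lit 0) (BT.and (nat_lit 0) (nat_lit 5) (BT.cnt (nat_lit 0)))))))))) (BT.dead (nat_lit 71) (BT.frm (nat_lit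 0) (nat_lit 0) (nat_lit 67375) [nat_lit 0] (BT.pln (nat_lit 0) (nat_lit 1) (BT.img (nat_lit 1) (nat_lit 0) (BT.and (nat_lit 1) (nat_lit 0) (BT.img (nat_lit 1) (nat_lit 0) (BT.img (nat_lit 1) (nat_lit 0) (BT.and (nat_lit 0) (nat_lit 4) (BT.cnt (nat_lit 0))))))))) (BT.dead (nat_lit 33) (BT.frm (nat_lit 0) (nat_lit 0) (nat_lit 134438) [nat_lit 0] (BT.pln (nat_lit 0) (nat_lit 1) (BT.img (nat_lit 1) (nat_lit 0) (BT.and (nat_lit 1) (nat_lit 0) (BT.img (nat_lit 1) (nat_lit 0) (BT.img (nat_lit 1) (nat_lit 0) (BT.and (nat_lit 0) (nat_lit 4) (BT.cnt (nat_lit 0))))))))) (BT.dead (nat_lit 22) (BT.frm (nat_lit 0) (nat_lit 0) (nat_lit 73229) [nat_lit 0] (BT.pln (nat_lit 0) (nat_lit 1) (BT.img (nat_lit 1) (nat_lit 0) (BT.and (nat_lit 1) (nat_lit 0) (BT.img (nat_lit 1) (nat_lit 0) (BT.img (nat_lit 1) (nat_lit 0) (BT.and (nat_lit 0) (nat_lit 4) (BT.cnt (nat_lit 0))))))))) (BT.dead (nat_lit 15) (BT.frm (nat_lit 0) (nat_lit 0) (nat_lit 139785)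 [nat_lit 0] (BT.pln (nat_lit 0) (nat_lit 1) (BT.img (nat_lit 1) (nat_lit 0) (BT.and (nat_lit 1) (nat_lit 0) (BT.img (nat_lit 1) (nat_lit 0) (BT.img (nat_lit 1) (nat_lit 0) (BT.and (nat_lit 0) (nat_lit 4) (BT.cnt (nat_lit 0))))))))) (BT.dead (nat_lit 6) (BT.frm (nat_lit 0) (nat_lit 0) (nat_lit 66839) [nat_lit 0] (BT.pln (nat_lit 0) (nat_lit 1) (BT.img (nat_lit 1) (nat_lit 0) (BT.and (nat_lit 1) (nat_lit 0) (BT.img (nat_lit 1) (nat_lit 0) (BT.img (nat_lit 1) (nat_lit 0) (BT.and (nat_lit 0) (nat_lit 4) (BT.cnt (nat_lit 0))))))))) (BT.dead (nat_lit 36) (BT.frm (nat_lit 0) (nat_lit 0) (nat_lit 67361) [nat_lit 0] (BT.pln (nat_lit 0) (nat_lit 1) (BT.img (nat_lit 1) (nat_lit 0) (BT.and (nat_lit 1) (nat_lit 0) (BT.img (nat_lit 1) (nat_lit 0) (BT.and (nat_lit 0) (nat_lit 3) (BT.cnt (nat_lit 0)))))))) (BT.dead (nat_lit 11) (BT.frm (nat_lit 0) (nat_lit 0) (nat_lit 66338) [nat_lit 0] (BT.pln (nat_lit 0) (nat_lit 1) (BT.img (nat_lit 1)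 (nat_lit 0) (BT.and (nat_lit 1) (nat_lit 0) (BT.img (nat_lit 1) (nat_lit 0) (BT.and (nat_lit 0) (nat_lit 3) (BT.cnt (nat_lit 0)))))))) (BT.dead (nat_lit 10) (BT.frm (nat_lit 0) (nat_lit 0) (nat_lit 68382) [nat_lit 0] (BT.pln (nat_lit 0) (nat_lit 1) (BT.img (nat_lit 1) (nat_lit 2) (BT.img (nat_lit 1) (nat_lit 0) (BT.img (nat_lit 1) (nat_lit 0) (BT.and (nat_lit 3) (nat_lit 0) (BT.cnt (nat_lit 0)))))))) (BT.dead (nat_lit 29) (BT.frm (nat_lit 0) (nat_lit 0) (nat_lit 65823) [nat_lit 0] (BT.pln (nat_lit 0) (nat_lit 1) (BT.img (nat_lit 1) (nat_lit 2) (BT.img (nat_lit 1) (nat_lit 0) (BT.and (nat_lit 2) (nat_lit 0) (BT.cnt (nat_lit 0))))))) (BT.dead (nat_lit 12) (BT.frm (nat_lit 0) (nat_lit 0) (nat_lit 66349) [nat_lit 0] (BT.pln (nat_lit 0) (nat_lit 1) (BT.img (nat_lit 1) (nat_lit 2) (BT.img (nat_lit 1) (nat_lit 0) (BT.and (nat_lit 2) (nat_lit 0) (BT.cnt (nat_lit 0))))))) (BT.dead (nat_lit 142) (BT.frm (nat_lit 0) (nat_lit 0) (nat_lit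 1832) [nat_lit 0] (BT.pln (nat_lit 0) (nat_lit 1) (BT.img (nat_lit 1) (nat_lit 0) (BT.and (nat_lit 1) (nat_lit 0) (BT.img (nat_lit 1) (nat_lit 0) (BT.img (nat_lit 1) (nat_lit 0) (BT.img (nat_lit 1) (nat_lit 0) (BT.and (nat_lit 0) (nat_lit 5) (BT.cnt (nat_lit 0)))))))))) (BT.dead (nat_lit 13) (BT.frm (nat_lit 0) (nat_lit 0) (nat_lit 1816) [nat_lit 0] (BT.pln (nat_lit 0) (nat_lit 1) (BT.img (nat_lit 1) (nat_lit 0) (BT.and (nat_lit 1) (nat_lit 0) (BT.img (nat_lit 1) (nat_lit 0) (BT.img (nat_lit 1) (nat_lit 0) (BT.img (nat_lit 1) (nat_lit 0) (BT.and (nat_lit 0) (nat_lit 5) (BT.cnt (nat_lit 0)))))))))) (BT.dead (nat_lit 27) (BT.frm (nat_lit 0) (nat_lit 0) (nat_lit 133921) [nat_lit 0] (BT.pln (nat_lit 0) (nat_lit 1) (BT.img (nat_lit 1) (nat_lit 2) (BT.and (nat_lit 1) (nat_lit 0) (BT.cnt (nat_lit 0)))))) (BT.dead (nat_lit 5) (BT.frm (nat_lit 0) (nat_lit 0) (nat_lit 65838) [nat_lit 0] (BT.pln (nat_lit 0) (nat_lit 1) (BT.img (nat_lit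 1) (nat_lit 2) (BT.and (nat_lit 1) (nat_lit 0) (BT.cnt (nat_lit 0)))))) (BT.dead (nat_lit 134) (BT.frm (nat_lit 0) (nat_lit 0) (nat_lit 287) [nat_lit 0] (BT.pln (nat_lit 0) (nat_lit 1) (BT.img (nat_lit 1) (nat_lit 0) (BT.and (nat_lit 1) (nat_lit 0) (BT.img (nat_lit 1) (nat_lit 0) (BT.img (nat_lit 1) (nat_lit 0) (BT.and (nat_lit 0) (nat_lit 4) (BT.cnt (nat_lit 0))))))))) (BT.dead (nat_lit 100) (BT.frm (nat_lit 0) (nat_lit 0) (nat_lit 2853) [nat_lit 0] (BT.pln (nat_lit 0) (nat_lit 1) (BT.img (nat_lit 1) (nat_lit 0) (BT.and (nat_lit 1) (nat_lit 0) (BT.img (nat_lit 1) (nat_lit 0) (BT.img (nat_lit 1) (nat_lit 0) (BT.and (nat_lit 0) (nat_lit 4) (BT.cnt (nat_lit 0))))))))) (BT.dead (nat_lit 61) (BT.frm (nat_lit 0) (nat_lit 0) (nat_lit 3861) [nat_lit 0] (BT.pln (nat_lit 0) (nat_lit 1) (BT.img (nat_lit 1) (nat_lit 0) (BT.and (nat_lit 1) (nat_lit 0) (BT.img (nat_lit 1) (nat_lit 0) (BT.img (nat_lit 1) (nat_lit 0) (BT.and (nat_lit 0)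 (nat_lit 4) (BT.cnt (nat_lit 0))))))))) (BT.dead (nat_lit 30) (BT.frm (nat_lit 0) (nat_lit 0) (nat_lit 5409) [nat_lit 0] (BT.pln (nat_lit 0) (nat_lit 1) (BT.img (nat_lit 1) (nat_lit 0) (BT.and (nat_lit 1) (nat_lit 0) (BT.img (nat_lit 1) (nat_lit 0) (BT.img (nat_lit 1) (nat_lit 0) (BT.and (nat_lit 0) (nat_lit 4) (BT.cnt (nat_lit 0))))))))) (BT.dead (nat_lit 25) (BT.frm (nat_lit 0) (nat_lit 0) (nat_lit 1825) [nat_lit 0] (BT.pln (nat_lit 0) (nat_lit 1) (BT.img (nat_lit 1) (nat_lit 0) (BT.and (nat_lit 1) (nat_lit 0) (BT.img (nat_lit 1) (nat_lit 0) (BT.img (nat_lit 1) (nat_lit 0) (BT.and (nat_lit 0) (nat_lit 4) (BT.cnt (nat_lit 0))))))))) (BT.dead (nat_lit 20) (BT.frm (nat_lit 0) (nat_lit 0) (nat_lit 1301) [nat_lit 0] (BT.pln (nat_lit 0) (nat_lit 1) (BT.img (nat_lit 1) (nat_lit 0) (BT.and (nat_lit 1) (nat_lit 0) (BT.img (nat_lit 1) (nat_lit 0) (BT.img (nat_lit 1) (nat_lit 0) (BT.and (nat_lit 0) (nat_lit 4) (BT.cnt (nat_lit 0)))))))))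 (BT.dead (nat_lit 2) (BT.frm (nat_lit 0) (nat_lit 0) (nat_lit 1838) [nat_lit 0] (BT.pln (nat_lit 0) (nat_lit 1) (BT.img (nat_lit 1) (nat_lit 0) (BT.and (nat_lit 1) (nat_lit 0) (BT.img (nat_lit 1) (nat_lit 0) (BT.img (nat_lit 1) (nat_lit 0) (BT.and (nat_lit 0) (nat_lit 4) (BT.cnt (nat_lit 0))))))))) (BT.dead (nat_lit 34) (BT.frm (nat_lit 0) (nat_lit 0) (nat_lit 1302) [nat_lit 0] (BT.pln (nat_lit 0) (nat_lit 1) (BT.img (nat_lit 1) (nat_lit 0) (BT.and (nat_lit 1) (nat_lit 0) (BT.img (nat_lit 1) (nat_lit 0) (BT.and (nat_lit 0) (nat_lit 3) (BT.cnt (nat_lit 0)))))))) (BT.dead (nat_lit 26) (BT.frm (nat_lit 0) (nat_lit 0) (nat_lit 3339) [nat_lit 0] (BT.pln (nat_lit 0) (nat_lit 1) (BT.img (nat_lit 1) (nat_lit 0) (BT.and (nat_lit 1) (nat_lit 0) (BT.img (nat_lit 1) (nat_lit 0) (BT.and (nat_lit 0) (nat_lit 3) (BT.cnt (nat_lit 0)))))))) (BT.dead (nat_lit 52) (BT.frm (nat_lit 0) (nat_lit 0) (nat_lit 534) [nat_lit 0] (BT.pln (nat_lit 0)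 (nat_lit 1) (BT.img (nat_lit 1) (nat_lit 2) (BT.img (nat_lit 1) (nat_lit 0) (BT.img (nat_lit 1) (nat_lit 0) (BT.and (nat_lit 3) (nat_lit 0) (BT.cnt (nat_lit 0)))))))) (BT.dead (nat_lit 42) (BT.frm (nat_lit 0) (nat_lit 0) (nat_lit 259) [nat_lit 0] (BT.pln (nat_lit 0) (nat_lit 1) (BT.img (nat_lit 1) (nat_lit 2) (BT.img (nat_lit 1) (nat_lit 0) (BT.img (nat_lit 1) (nat_lit 0) (BT.and (nat_lit 3) (nat_lit 0) (BT.cnt (nat_lit 0)))))))) (BT.dead (nat_lit 1) (BT.frm (nat_lit 0) (nat_lit 0) (nat_lit 782) [nat_lit 0] (BT.pln (nat_lit 0) (nat_lit 1) (BT.img (nat_lit 1) (nat_lit 2) (BT.img (nat_lit 1) (nat_lit 0) (BT.img (nat_lit 1) (nat_lit 0) (BT.and (nat_lit 3) (nat_lit 0) (BT.cnt (nat_lit 0)))))))) (BT.dead (nat_lit 46) (BT.frm (nat_lit 0) (nat_lit 0) (nat_lit 526) [nat_lit 0] (BT.pln (nat_lit 0) (nat_lit 1) (BT.img (nat_lit 1) (nat_lit 2) (BT.img (nat_lit 1) (nat_lit 0) (BT.and (nat_lit 2) (nat_lit 0) (BT.cnt (nat_lit 0))))))) (BT.dead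 (nat_lit 8) (BT.frm (nat_lit 0) (nat_lit 0) (nat_lit 5682) [nat_lit 0] (BT.pln (nat_lit 0) (nat_lit 1) (BT.img (nat_lit 1) (nat_lit 2) (BT.img (nat_lit 1) (nat_lit 0) (BT.and (nat_lit 2) (nat_lit 0) (BT.cnt (nat_lit 0))))))) (BT.dead (nat_lit 19) (BT.frm (nat_lit 0) (nat_lit 0) (nat_lit 4913) [nat_lit 0] (BT.pln (nat_lit 0) (nat_lit 1) (BT.img (nat_lit 1) (nat_lit 2) (BT.and (nat_lit 1) (nat_lit 0) (BT.cnt (nat_lit 0)))))) (BT.dead (nat_lit 4) (BT.frm (nat_lit 0) (nat_lit 0) (nat_lit 817) [nat_lit 0] (BT.pln (nat_lit 0) (nat_lit 1) (BT.img (nat_lit 1) (nat_lit 2) (BT.and (nat_lit 1) (nat_lit 0) (BT.cnt (nat_lit 0)))))) (BT.kid (nat_lit 0) (nat_lit 1) (BT.img (nat_lit 1) (nat_lit 0) (BT.frm (nat_lit 1) (nat_lit 10028) (nat_lit 10028) [nat_lit 0, nat_lit 1] (BT.pln (nat_lit 0) (nat_lit 8) (BT.frm (nat_lit 0) (nat_lit 0) (nat_lit 0) [nat_lit 3] (BT.pln (nat_lit 0) (nat_lit 1) (BT.dif (nat_lit 8) (nat_lit 0) (BT.img (nat_lit 1)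 (nat_lit 1) (BT.dif (nat_lit 1) (nat_lit 0) (BT.dif (nat_lit 1) (nat_lit 3) (BT.and (nat_lit 4) (nat_lit 2) (BT.img (nat_lit 1) (nat_lit 0) (BT.dif (nat_lit 2) (nat_lit 0) (BT.img (nat_lit 1) (nat_lit 0) (BT.dif (nat_lit 0) (nat_lit 8) (BT.and (nat_lit 9) (nat_lit 1) (BT.img (nat_lit 1) (nat_lit 0) (BT.and (nat_lit 9) (nat_lit 0) (BT.img (nat_lit 1) (nat_lit 0) (BT.dif (nat_lit 4) (nat_lit 0) (BT.img (nat_lit 1) (nat_lit 0) (BT.and (nat_lit 12) (nat_lit 0) (BT.dif (nat_lit 16) (nat_lit 14) (BT.and (nat_lit 0) (nat_lit 2) (BT.img (nat_lit 1) (nat_lit 0) (BT.and (nat_lit 12) (nat_lit 0) (BT.img (nat_lit 1) (nat_lit 0) (BT.and (nat_lit 12) (nat_lit 0) (BT.img (nat_lit 1) (nat_lit 0) (BT.dif (nat_lit 7) (nat_lit 0) (BT.img (nat_lit 1) (nat_lit 0) (BT.and (nat_lit 22) (nat_lit 0) (BT.img (nat_lit 1) (nat_lit 0) (BT.and (nat_lit 24) (nat_lit 0) (BT.img (nat_lit 1) (nat_lit 0) (BT.and (nat_lit 31) (nat_lit 0) (BT.pln (nat_lit 33)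 (nat_lit 4) (BT.and (nat_lit 29) (nat_lit 0) (BT.dif (nat_lit 0) (nat_lit 26) (BT.pln (nat_lit 36) (nat_lit 10) (BT.and (nat_lit 34) (nat_lit 0) (BT.and (nat_lit 0) (nat_lit 20) (BT.pln (nat_lit 39) (nat_lit 6) (BT.and (nat_lit 0) (nat_lit 29) (BT.img (nat_lit 1) (nat_lit 32) (BT.img (nat_lit 1) (nat_lit 0) (BT.img (nat_lit 1) (nat_lit 0) (BT.img (nat_lit 1) (nat_lit 0) (BT.img (nat_lit 1) (nat_lit 0) (BT.dif (nat_lit 26) (nat_lit 0) (BT.and (nat_lit 41) (nat_lit 21) (BT.img (nat_lit 1) (nat_lit 0) (BT.and (nat_lit 2) (nat_lit 0) (BT.img (nat_lit 1) (nat_lit 0) (BT.and (nat_lit 41) (nat_lit 0) (BT.img (nat_lit 1) (nat_lit 0) (BT.and (nat_lit 12) (nat_lit 0) (BT.img (nat_lit 1) (nat_lit 0) (BT.and (nat_lit 16) (nat_lit 0) (BT.img (nat_lit 1) (nat_lit 0) (BT.and (nat_lit 21) (nat_lit 0) (BT.pln (nat_lit 58) (nat_lit 13) (BT.pln (nat_lit 59) (nat_lit 2) (BT.dif (nat_lit 54) (nat_lit 0) (BT.pln (nat_lit 61) (nat_lit 3) (BT.dif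 (nat_lit 1) (nat_lit 0) (BT.pln (nat_lit 63) (nat_lit 5) (BT.dif (nat_lit 1) (nat_lit 0) (BT.dif (nat_lit 0) (nat_lit 25) (BT.pln (nat_lit 66) (nat_lit 7) (BT.dif (nat_lit 1) (nat_lit 0) (BT.dif (nat_lit 0) (nat_lit 67) (BT.dif (nat_lit 0) (nat_lit 10) (BT.dif (nat_lit 0) (nat_lit 72) (BT.dif (nat_lit 0) (nat_lit 72) (BT.img (nat_lit 1) (nat_lit 73) (BT.img (nat_lit 1) (nat_lit 0) (BT.img (nat_lit 1) (nat_lit 0) (BT.dif (nat_lit 3) (nat_lit 0) (BT.dif (nat_lit 0) (nat_lit 65) (BT.img (nat_lit 1) (nat_lit 18) (BT.dif (nat_lit 1) (nat_lit 0) (BT.img (nat_lit 1) (nat_lit 63) (BT.dif (nat_lit 1) (nat_lit 0) (BT.dif (nat_lit 21) (nat_lit 38) (BT.dif (nat_lit 0) (nat_lit 38) (BT.dif (nat_lit 0) (nat_lit 10) (BT.dif (nat_lit 0) (nat_lit 10) (BT.img (nat_lit 1) (nat_lit 10) (BT.dif (nat_lit 1) (nat_lit 0) (BT.img (nat_lit 1) (nat_lit 1) (BT.dif (nat_lit 1) (nat_lit 0) (BT.dif (nat_lit 0) (nat_lit 78) (BT.dif (nat_lit 12) (nat_lit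 28) (BT.img (nat_lit 1) (nat_lit 0) (BT.and (nat_lit 2) (nat_lit 0) (BT.img (nat_lit 1) (nat_lit 0) (BT.and (nat_lit 15) (nat_lit 0) (BT.img (nat_lit 1) (nat_lit 0) (BT.and (nat_lit 15) (nat_lit 0) (BT.img (nat_lit 1) (nat_lit 0) (BT.and (nat_lit 8) (nat_lit 0) (BT.img (nat_lit 1) (nat_lit 0) (BT.and (nat_lit 19) (nat_lit 0) (BT.img (nat_lit 1) (nat_lit 0) (BT.and (nat_lit 43) (nat_lit 0) (BT.one (nat_lit 2) (nat_lit 0x3b272c) (nat_lit 0x3b272c) [nat_lit 70, nat_lit 45, nat_lit 0, nat_lit 104, nat_lit 105])))))))))))))))))))))))))))))))))))))))))))))))))))))))))))))))))))))))))))))))))))))))))))))))))))))))))) BT.nil)))))))))))))))))))))))))))))))))))))))))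

theorem pt_c13_cnt : Cnt 280 (grp 280 p_E0) [p_g162] [p_g162] 0 0 0 0 7 :=
  BT.sound pt_c13_cnt_P Known.nil (t := pt_c13_cnt_t) (d := 0) (by decide +kernel)

theorem pt_c13_ge : 7 ≤ Nat.card (grp 280 pt_c13_K) :=
  Ch.le_card_grp (k := 9) (L := (lab 280 9)) p_hn pt_c13_K_ok (c := (Ch.cons (nat_lit 0) [nat_lit 1] Ch.nil)) (by decide +kernel)

theorem pt_c13_eq : (grp 280 p_E0) ⊓ Subgroup.centralizer {Net.toPerm 280 p_g162} = grp 280 pt_c13_K :=
  cent_eq pt_c13_sym pt_c13_cnt pt_c13_ge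

theorem pt_c13_card : Nat.card ↥((grp 280 p_E0) ⊓ Subgroup.centralizer {Net.toPerm 280 p_g162}) = 7 :=
  card_cent pt_c13_sym pt_c13_cnt pt_c13_ge

theorem pt_c13_ord : orderOf (Net.toPerm 280 p_g162) = 7 :=
  orderOf_net p_hn p_hk p_g162_ok (by decide) (ps := [7]) (by set_option linter.unusedSimpArgs false in simp [Nat.primeFactorsList_ofNat]) (by decide +kernel)

theorem p_le165 : grp 280 pt_c14_K ≤ grp 280 p_E0 :=
  grp_le_of_memB p_hn p_hk p_E0_ok pt_c14_K_ok (ws := [nat_lit 0x2b2f211d220117, nat_lit 0x352b221728161d]) (by decide +kernel)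

theorem pt_c14_le : grp 280 pt_c14_K ≤ (grp 280 p_E0) :=
  (p_le165.trans p_T58_s0.le)

theorem pt_c14_mem : Net.toPerm 280 p_g164 ∈ (grp 280 p_E0) :=
  pt_c14_le (toPerm_mem_grp (E := pt_c14_K) (List.Mem.head _))

theorem pt_c14_sym : Sym 280 (grp 280 p_E0) [p_g164] pt_c14_K 0 :=
  Sym.of_lab p_hn p_hk (okE_cons.2 ⟨p_g164_ok, okE_nil _⟩) pt_c14_K_ok pt_c14_le (kT := 0) (by decide +kernel)

theorem p_le167 : grp 280 p_V166 ≤ grp 280 p_V72 :=
  grp_le_of_memB p_hn p_hk p_V72_ok p_V166_ok (ws := []) (by decide +kernel)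

theorem p_T58_s26 : Stab 280 (grp 280 p_E0) [nat_lit 165, nat_lit 247, nat_lit 196, nat_lit 197, nat_lit 0] p_V166 1 :=
  Stab.step (k := 9) (L := (lab 280 9)) p_hn p_T58_s4 p_V166_ok p_le167 (c := Ch.nil) (by decide +kernel)

noncomputable def p_T58_s26_O : ℕ := (nat_lit 0xffffff0000000000000000000000000000000000000000000000000000000000000000000000ffffffffffffffffffffffffffffffff00000000000000000000000000000000000000ffffffffffffffff0000000000000000ffffffffffffffff0000000000000000000000ffffffff00000000ffffffff00000000ffffffff00000000ffffffff00000000ff0000ffff0000ffff0000ffff0000ffff0000ffff0000ffff0000ffff0000ffff000000ff00ff00ff00ff00ff00ff00ff00ff00ff00ff00ff00ff00ff00ff00ff00ff00ff00f0f0f0f0f0f0f0f0f0f0f0f0f0f0f0f0f0f0f0f0f0f0f0f0f0f0f0f0f0f0f0f0f0f0f0ccccccccccccccccccccccccccccccccccccccccccccccccccccccccccccccccccccccaaaaaaaaaaaaaaaaaaaaaaaaaaaaaaaaaaaaaaaaaaaaaaaaaaaaaaaaaaaaaaaaaaaaaa00000000000000000000000000000000000000000000000000000000000000000000010000000000000000000020000000000000000000000000000000000000000000000000000000000000000000001000000000000000000000000000000000000000000000000000000000800000000000000000000000000000000000000000000000000000000000000000000000000000000000000000200000000000000000000000000000000000000000)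

theorem p_T58_s26_F : Frame 280 (grp 280 p_E0) 5 14 p_T58_s26_O 1 1 :=
  IsBase.frame p_T58_s26.isBase (by decide +kernel)

noncomputable def pt_c14_cnt_L : List ℕ := [1, 2, p_T58_s1_O, 0, 0, 2, 14, p_T58_s2_O, 0, 0, 3, 8, p_T58_s3_O, 0, 0, 4, 11, p_T58_s4_O, 0, 0, 5, 14, p_T58_s26_O, 1, 0]

theorem pt_c14_cnt_P : Prob 280 9 (grp 280 p_E0) pt_c14_cnt_EG [p_g164] [p_g164] pt_c14_K pt_c14_cnt_L 0 0 :=
  Sym.prob p_hn p_hk pt_c14_sym pt_c14_cnt_EG_ok (grp_cons_le p_g11_p_T58 (grp_cons_le p_g1_p_T58 (grp_cons_le p_g2_p_T58 (grp_cons_le p_g3_p_T58 (grp_cons_le p_g4_p_T58 (grp_cons_le p_g5_p_T58 (grp_cons_le p_g6_p_T58 (grp_cons_le p_g7_p_T58 (grp_cons_le p_g8_p_T58 (grp_cons_le p_g9_p_T58 (grp_cons_le p_g10_p_T58 (grp_cons_le p_g20_p_T58 (grp_cons_le p_g14_p_T58 (grp_cons_le p_g15_p_T58 (grp_cons_le p_g16_p_T58 (grp_cons_le p_g17_p_T58 (grp_cons_le p_g28_p_T58 (grp_cons_le p_g23_p_T58 (grp_cons_le p_g24_p_T58 (grp_cons_le p_g25_p_T58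 (grp_cons_le p_g37_p_T58 (grp_cons_le p_g38_p_T58 (grp_cons_le p_g34_p_T58 (grp_cons_le p_g31_p_T58 (grp_cons_le p_g32_p_T58 (grp_cons_le p_g33_p_T58 (grp_cons_le p_g41_p_T58 (grp_cons_le p_g42_p_T58 (grp_cons_le p_g67_p_T58 (grp_cons_le p_g68_p_T58 (grp_nil_le _))))))))))))))))))))))))))))))) (Frames.cons p_T58_s1_F (Frames.cons p_T58_s2_F (Frames.cons p_T58_s3_F (Frames.cons p_T58_s4_F (Frames.cons p_T58_s26_F Frames.nil))))) (okE_cons.2 ⟨p_g164_ok, okE_nil _⟩) _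

noncomputable def pt_c14_cnt_t : BT := (BT.fix (nat_lit 0x1010101) (BT.fix (nat_lit 257) (BT.dif (nat_lit 1) (nat_lit 0) (BT.br (nat_lit 0) (nat_lit 28) [nat_lit 1] (BT.kid (nat_lit 28) (nat_lit 2) (BT.frm (nat_lit 0) (nat_lit 789) (nat_lit 789) [nat_lit 0] (BT.pln (nat_lit 0) (nat_lit 1) (BT.img (nat_lit 1) (nat_lit 2) (BT.frm (nat_lit 1) (nat_lit 0x17280315) (nat_lit 0x17280315) [nat_lit 0, nat_lit 3] (BT.pln (nat_lit 0) (nat_lit 11) (BT.and (nat_lit 3) (nat_lit 0) (BT.img (nat_lit 1) (nat_lit 3) (BT.frm (nat_lit 2) (nat_lit 0x17280315) (nat_lit 0x17280315) [nat_lit 0, nat_lit 4, nat_lit 7] (BT.pln (nat_lit 0) (nat_lit 4) (BT.dif (nat_lit 3) (nat_lit 0) (BT.br (nat_lit 0) (nat_lit 83) [nat_lit 3] (BT.dead (nat_lit 197) (BT.frm (nat_lit 3) (nat_lit 0x17280315) (nat_lit 0x3b2b17280315) [nat_lit 0, nat_lit 4, nat_lit 8, nat_lit 11] (BT.pln (nat_lit 0) (nat_lit 4) (BT.img (nat_lit 1) (nat_lit 2) (BT.img (nat_lit 1) (nat_lit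 0) (BT.img (nat_lit 1) (nat_lit 0) (BT.and (nat_lit 3) (nat_lit 0) (BT.cnt (nat_lit 0)))))))) (BT.dead (nat_lit 210) (BT.frm (nat_lit 3) (nat_lit 0x17280315) (nat_lit 0x3b2c17280315) [nat_lit 0, nat_lit 4, nat_lit 8, nat_lit 11] (BT.pln (nat_lit 0) (nat_lit 5) (BT.img (nat_lit 1) (nat_lit 2) (BT.and (nat_lit 1) (nat_lit 0) (BT.cnt (nat_lit 0)))))) (BT.dead (nat_lit 219) (BT.frm (nat_lit 3) (nat_lit 0x17280315) (nat_lit 0x3c17280315) [nat_lit 0, nat_lit 4, nat_lit 8, nat_lit 11] (BT.pln (nat_lit 0) (nat_lit 4) (BT.img (nat_lit 1) (nat_lit 2) (BT.and (nat_lit 1) (nat_lit 0) (BT.cnt (nat_lit 0)))))) (BT.kid (nat_lit 83) (nat_lit 1) (BT.fix (nat_lit 1) (BT.frm (nat_lit 3) (nat_lit 0x17280315) (nat_lit 0x17280315) [nat_lit 1, nat_lit 5, nat_lit 9, nat_lit 12] (BT.pln (nat_lit 0) (nat_lit 5) (BT.dif (nat_lit 2) (nat_lit 0) (BT.one (nat_lit 4) (nat_lit 0x2c17280315) (nat_lit 0x2c17280315) [nat_lit 0, nat_lit 4, nat_lit 8, nat_lit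 12, nat_lit 15]))))) BT.nil))))))))))))))) BT.nil)))))

theorem pt_c14_cnt : Cnt 280 (grp 280 p_E0) [p_g164] [p_g164] 0 0 0 0 8 :=
  BT.sound pt_c14_cnt_P Known.nil (t := pt_c14_cnt_t) (d := 0) (by decide +kernel)

theorem pt_c14_ge : 8 ≤ Nat.card (grp 280 pt_c14_K) :=
  Ch.le_card_grp (k := 9) (L := (lab 280 9)) p_hn pt_c14_K_ok (c := (Ch.cons (nat_lit 28) [nat_lit 1] (Ch.cons (nat_lit 83) [nat_lit 3] Ch.nil))) (by decide +kernel)

theorem pt_c14_eq : (grp 280 p_E0) ⊓ Subgroup.centralizer {Net.toPerm 280 p_g164} = grp 280 pt_c14_K :=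
  cent_eq pt_c14_sym pt_c14_cnt pt_c14_ge

theorem pt_c14_card : Nat.card ↥((grp 280 p_E0) ⊓ Subgroup.centralizer {Net.toPerm 280 p_g164}) = 8 :=
  card_cent pt_c14_sym pt_c14_cnt pt_c14_ge

theorem pt_c14_ord : orderOf (Net.toPerm 280 p_g164) = 8 :=
  orderOf_net p_hn p_hk p_g164_ok (by decide) (ps := [2]) (by set_option linter.unusedSimpArgs false in simp [Nat.primeFactorsList_ofNat]) (by decide +kernel)

theorem p_le171 : grp 280 pt_c15_K ≤ grp 280 p_E0 :=
  grp_le_of_memB p_hn p_hk p_E0_ok pt_c15_K_ok (ws := [nat_lit 0x2a22170310, nat_lit 0x362931172203, nat_lit 0x362e27171e0325]) (by decide +kernel)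

theorem pt_c15_le : grp 280 pt_c15_K ≤ (grp 280 p_E0) :=
  (p_le171.trans p_T58_s0.le)

theorem pt_c15_mem : Net.toPerm 280 p_g168 ∈ (grp 280 p_E0) :=
  pt_c15_le (toPerm_mem_grp (E := pt_c15_K) (List.Mem.head _))

theorem pt_c15_sym : Sym 280 (grp 280 p_E0) [p_g168] pt_c15_K 0 :=
  Sym.of_lab p_hn p_hk (okE_cons.2 ⟨p_g168_ok, okE_nil _⟩) pt_c15_K_ok pt_c15_le (kT := 0) (by decide +kernel)

theorem p_le174 : grp 280 p_V173 ≤ grp 280 p_V84 :=
  grp_le_of_memB p_hn p_hk p_V84_ok p_V173_ok (ws := [nat_lit 6]) (by decide +kernel)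

theorem p_T58_s27 : Stab 280 (grp 280 p_E0) [nat_lit 188, nat_lit 231, nat_lit 273, nat_lit 0] p_V173 3 :=
  Stab.step (k := 9) (L := (lab 280 9)) p_hn p_T58_s7 p_V173_ok p_le174 (c := (Ch.cons (nat_lit 196) [nat_lit 1] Ch.nil)) (by decide +kernel)

theorem p_T58_s28 : Stab 280 (grp 280 p_E0) [nat_lit 196, nat_lit 188, nat_lit 231, nat_lit 273, nat_lit 0] p_V175 1 :=
  Stab.step (k := 9) (L := (lab 280 9)) p_hn p_T58_s27 p_V175_ok (grp_mono (List.subset_append_right [p_g172] _)) (c := Ch.nil) (by decide +kernel)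

theorem p_g172_p_T58 : Net.toPerm 280 p_g172 ∈ (grp 280 p_E0) :=
  p_T58_s27.le (toPerm_mem_grp (E := p_V173) (List.Mem.head _))

noncomputable def p_T58_s28_O : ℕ := (nat_lit 0xffffff0000000000000000000000000000000000000000000000000000000000000000000000ffffffffffffffffffffffffffffffff00000000000000000000000000000000000000ffffffffffffffff0000000000000000ffffffffffffffff0000000000000000000000ffffffff00000000ffffffff00000000ffffffff00000000ffffffff00000000ff0000ffff0000ffff0000ffff0000ffff0000ffff0000ffff0000ffff0000ffff000000ff00ff00ff00ff00ff00ff00ff00ff00ff00ff00ff00ff00ff00ff00ff00ff00ff00f0f0f0f0f0f0f0f0f0f0f0f0f0f0f0f0f0f0f0f0f0f0f0f0f0f0f0f0f0f0f0f0f0f0f0ccccccccccccccccccccccccccccccccccccccccccccccccccccccccccccccccccccccaaaaaaaaaaaaaaaaaaaaaaaaaaaaaaaaaaaaaaaaaaaaaaaaaaaaaaaaaaaaaaaaaaaaaa00000000000000000000000000000000000000000000000000000000000000000000010200000000000000000000000000000000000000000000000000000000000000000000000000000000800000000000000000000000000000000000000000000000000000000000000000000000000000001000000000000000000000000000000000000000000000000000000000000000000010000000000000000000000000000000000000000000000000)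

theorem p_T58_s28_F : Frame 280 (grp 280 p_E0) 5 14 p_T58_s28_O 1 1 :=
  IsBase.frame p_T58_s28.isBase (by decide +kernel)

noncomputable def p_T58_s27_O : ℕ := (nat_lit 0xfdffffffffff7fffe06000009060a0684830503000000000000000000000000000000040418281a1204140df9fffefff9f5f97b7cfafcffffff818000000000000000000000058600000000000001f9fffef6fffffeb4c305030000007e7fffffffff4048000000000a59fffffad1000001f9fffc60860a07cf3cfafc8180007e7fff818000bfb7ff4048000211de7f010ae73f8131c7e084779fc042bbcee04c71f84c71f84c71f8b73258b7325808505bd4dc2a25ea6d89739a1416f5370a8a7b9a625ce6625ce6625ce62707e62707e604497762b226b3b158592f541a5dd8ac89ade955164bd5164bd5164bd58da6358da63500000000000000000000000000000000000000000000000000000000000000000000001020000000000000000000000000000000000000000000000000000000000000000000000000000000080000000000000000000000000000000000000000000000000000000000000000000000000000000100000000000000000000000000000000000000000000000)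

theorem p_T58_s27_F : Frame 280 (grp 280 p_E0) 4 11 p_T58_s27_O 0 1 :=
  Stab.frame p_hn p_T58_s27 (by decide +kernel)

noncomputable def p_T58_s7_O : ℕ := (nat_lit 0x454193c9a12a7350c000001e9e70ac684a38543d9f2e999a2094010200000000000000787de6b1bf75494dc000000061897087bd422b42c251a641532b9e6cb7addef0000000209a40320cd100a1131c7e30b0e2a1ff6db5fab2c251a0609142864cae76a50d57a180c5d7ffef824b3a152a7932b91266070f4510120e5953268342abfaf1f95363c454fa60dc74fc2d6cd357e30f09c6c61820207bfc6329ed1d2e17457f30c2118d57b9ac8ec350000000000000000000000000000000000000000000000000000000000000000000000102000000000000000000000000000000000000000000000000000000000000000000000000000000008000000000000000000000000000000000000000000000000000000000)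

theorem p_T58_s7_F : Frame 280 (grp 280 p_E0) 3 8 p_T58_s7_O 0 1 :=
  Stab.frame p_hn p_T58_s7 (by decide +kernel)

noncomputable def pt_c15_cnt_L : List ℕ := [1, 2, p_T58_s1_O, 0, 0, 2, 7, p_T58_s6_O, 0, 0, 3, 8, p_T58_s7_O, 0, 0, 4, 11, p_T58_s27_O, 0, 0, 5, 14, p_T58_s28_O, 1, 0]

theorem pt_c15_cnt_P : Prob 280 9 (grp 280 p_E0) pt_c15_cnt_EG [p_g168] [p_g168] pt_c15_K pt_c15_cnt_L 0 0 :=
  Sym.prob p_hn p_hk pt_c15_sym pt_c15_cnt_EG_ok (grp_cons_le p_g11_p_T58 (grp_cons_le p_g1_p_T58 (grp_cons_le p_g2_p_T58 (grp_cons_le p_g3_p_T58 (grp_cons_le p_g4_p_T58 (grp_cons_le p_g5_p_T58 (grp_cons_le p_g6_p_T58 (grp_cons_le p_g7_p_T58 (grp_cons_le p_g8_p_T58 (grp_cons_le p_g9_p_T58 (grp_cons_le p_g10_p_T58 (grp_cons_le p_g20_p_T58 (grp_cons_le p_g14_p_T58 (grp_cons_le p_g15_p_T58 (grp_cons_le p_g16_p_T58 (grp_cons_le p_g17_p_T58 (grp_cons_le p_g28_p_T58 (grp_cons_le p_g23_p_T58 (grp_cons_le p_g24_p_T58 (grp_cons_le p_g25_p_T58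 (grp_cons_le p_g37_p_T58 (grp_cons_le p_g38_p_T58 (grp_cons_le p_g34_p_T58 (grp_cons_le p_g31_p_T58 (grp_cons_le p_g32_p_T58 (grp_cons_le p_g33_p_T58 (grp_cons_le p_g41_p_T58 (grp_cons_le p_g42_p_T58 (grp_cons_le p_g82_p_T58 (grp_cons_le p_g83_p_T58 (grp_cons_le p_g172_p_T58 (grp_nil_le _)))))))))))))))))))))))))))))))) (Frames.cons p_T58_s1_F (Frames.cons p_T58_s6_F (Frames.cons p_T58_s7_F (Frames.cons p_T58_s27_F (Frames.cons p_T58_s28_F Frames.nil))))) (okE_cons.2 ⟨p_g168_ok, okE_nil _⟩) _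

noncomputable def pt_c15_cnt_t : BT := (BT.fix (nat_lit 1) (BT.frm (nat_lit 0) (nat_lit 4901) (nat_lit 4901) [nat_lit 0] (BT.pln (nat_lit 0) (nat_lit 1) (BT.br (nat_lit 0) (nat_lit 5) [nat_lit 1, nat_lit 3] (BT.dead (nat_lit 23) (BT.dif (nat_lit 6) (nat_lit 1) (BT.img (nat_lit 1) (nat_lit 1) (BT.frm (nat_lit 2) (nat_lit 0x2231171e1325) (nat_lit 0x223617211325) [nat_lit 0, nat_lit 2, nat_lit 5] (BT.pln (nat_lit 0) (nat_lit 5) (BT.and (nat_lit 3) (nat_lit 0) (BT.pln (nat_lit 2) (nat_lit 4) (BT.and (nat_lit 1) (nat_lit 0) (BT.pln (nat_lit 4) (nat_lit 3) (BT.dif (nat_lit 1) (nat_lit 0) (BT.pln (nat_lit 6) (nat_lit 6) (BT.dif (nat_lit 1) (nat_lit 0) (BT.img (nat_lit 1) (nat_lit 9) (BT.frm (nat_lit 3) (nat_lit 0x3a2231171e1325) (nat_lit 0x39223617211325) [nat_lit 0, nat_lit 10, nat_lit 12, nat_lit 15] (BT.pln (nat_lit 0) (nat_lit 6) (BT.and (nat_lit 3) (nat_lit 0) (BT.pln (nat_lit 2) (nat_lit 7) (BT.and (nat_lit 1) (nat_lit 0)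 (BT.br (nat_lit 0) (nat_lit 34) [nat_lit 6] (BT.dead (nat_lit 40) (BT.frm (nat_lit 4) (nat_lit 0x3e3a2231171e1325) (nat_lit 0x3d39223617211325) [nat_lit 0, nat_lit 6, nat_lit 16, nat_lit 18, nat_lit 21] (BT.pln (nat_lit 0) (nat_lit 5) (BT.img (nat_lit 1) (nat_lit 2) (BT.img (nat_lit 1) (nat_lit 0) (BT.and (nat_lit 2) (nat_lit 0) (BT.cnt (nat_lit 0))))))) BT.nil))))))))))))))))))) (BT.dead (nat_lit 60) (BT.dif (nat_lit 6) (nat_lit 1) (BT.img (nat_lit 1) (nat_lit 1) (BT.frm (nat_lit 2) (nat_lit 0x2231171e1325) (nat_lit 0x33181325) [nat_lit 0, nat_lit 2, nat_lit 5] (BT.pln (nat_lit 0) (nat_lit 5) (BT.and (nat_lit 3) (nat_lit 0) (BT.pln (nat_lit 2) (nat_lit 4) (BT.and (nat_lit 1) (nat_lit 0) (BT.pln (nat_lit 4) (nat_lit 3) (BT.dif (nat_lit 1) (nat_lit 0) (BT.pln (nat_lit 6) (nat_lit 6) (BT.dif (nat_lit 1) (nat_lit 0) (BT.img (nat_lit 1) (nat_lit 9) (BT.frm (nat_lit 3) (nat_lit 0x3a2231171e1325) (nat_lit 0x3a33181325) [nat_lit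 0, nat_lit 10, nat_lit 12, nat_lit 15] (BT.pln (nat_lit 0) (nat_lit 6) (BT.and (nat_lit 3) (nat_lit 0) (BT.pln (nat_lit 2) (nat_lit 7) (BT.and (nat_lit 1) (nat_lit 0) (BT.br (nat_lit 0) (nat_lit 34) [nat_lit 5] (BT.dead (nat_lit 11) (BT.frm (nat_lit 4) (nat_lit 0x3e3a2231171e1325) (nat_lit 0x3e3a33181325) [nat_lit 0, nat_lit 6, nat_lit 16, nat_lit 18, nat_lit 21] (BT.pln (nat_lit 0) (nat_lit 5) (BT.img (nat_lit 1) (nat_lit 2) (BT.img (nat_lit 1) (nat_lit 0) (BT.and (nat_lit 2) (nat_lit 0) (BT.cnt (nat_lit 0))))))) BT.nil))))))))))))))))))) (BT.dead (nat_lit 142) (BT.frm (nat_lit 1) (nat_lit 0x171e1325) (nat_lit 0x1d221325) [nat_lit 0, nat_lit 3] (BT.pln (nat_lit 0) (nat_lit 4) (BT.img (nat_lit 1) (nat_lit 2) (BT.and (nat_lit 1) (nat_lit 0) (BT.cnt (nat_lit 0)))))) (BT.dead (nat_lit 35) (BT.frm (nat_lit 1) (nat_lit 0x171e1325) (nat_lit 0x17291325) [nat_lit 0, nat_lit 3] (BT.pln (nat_lit 0) (nat_lit 4) (BT.img (nat_lit 1) (nat_lit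 2) (BT.and (nat_lit 1) (nat_lit 0) (BT.cnt (nat_lit 0)))))) (BT.dead (nat_lit 10) (BT.frm (nat_lit 1) (nat_lit 0x171e1325) (nat_lit 0x172b1325) [nat_lit 0, nat_lit 3] (BT.pln (nat_lit 0) (nat_lit 4) (BT.img (nat_lit 1) (nat_lit 2) (BT.and (nat_lit 1) (nat_lit 0) (BT.cnt (nat_lit 0)))))) (BT.kid (nat_lit 5) (nat_lit 3) (BT.dif (nat_lit 6) (nat_lit 1) (BT.img (nat_lit 1) (nat_lit 1) (BT.frm (nat_lit 2) (nat_lit 0x2231171e1325) (nat_lit 0x2231171e1325) [nat_lit 0, nat_lit 2, nat_lit 5] (BT.pln (nat_lit 0) (nat_lit 5) (BT.and (nat_lit 3) (nat_lit 0) (BT.pln (nat_lit 2) (nat_lit 4) (BT.and (nat_lit 1) (nat_lit 0) (BT.pln (nat_lit 4) (nat_lit 3) (BT.dif (nat_lit 1) (nat_lit 0) (BT.pln (nat_lit 6) (nat_lit 6) (BT.dif (nat_lit 1) (nat_lit 0) (BT.img (nat_lit 1) (nat_lit 9) (BT.frm (nat_lit 3) (nat_lit 0x3a2231171e1325) (nat_lit 0x3a2231171e1325) [nat_lit 0, nat_lit 10, nat_lit 12, nat_lit 15] (BT.pln (nat_lit 0) (nat_lit 6) (BT.and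 (nat_lit 3) (nat_lit 0) (BT.pln (nat_lit 2) (nat_lit 7) (BT.and (nat_lit 1) (nat_lit 0) (BT.br (nat_lit 0) (nat_lit 34) [nat_lit 5] (BT.kid (nat_lit 34) (nat_lit 1) (BT.one (nat_lit 4) (nat_lit 0x3e3a2231171e1325) (nat_lit 0x3e3a2231171e1325) [nat_lit 0, nat_lit 6, nat_lit 16, nat_lit 18, nat_lit 21]) BT.nil))))))))))))))))))) BT.nil))))))))))

theorem pt_c15_cnt : Cnt 280 (grp 280 p_E0) [p_g168] [p_g168] 0 0 0 0 27 :=
  BT.sound pt_c15_cnt_P Known.nil (t := pt_c15_cnt_t) (d := 0) (by decide +kernel)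

theorem pt_c15_ge : 27 ≤ Nat.card (grp 280 pt_c15_K) :=
  Ch.le_card_grp (k := 9) (L := (lab 280 9)) p_hn pt_c15_K_ok (c := (Ch.cons (nat_lit 5) [nat_lit 1, nat_lit 3] (Ch.cons (nat_lit 34) [nat_lit 5] Ch.nil))) (by decide +kernel)

theorem pt_c15_eq : (grp 280 p_E0) ⊓ Subgroup.centralizer {Net.toPerm 280 p_g168} = grp 280 pt_c15_K :=
  cent_eq pt_c15_sym pt_c15_cnt pt_c15_ge

theorem pt_c15_card : Nat.card ↥((grp 280 p_E0) ⊓ Subgroup.centralizer {Net.toPerm 280 p_g168}) = 27 :=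
  card_cent pt_c15_sym pt_c15_cnt pt_c15_ge

theorem pt_c15_ord : orderOf (Net.toPerm 280 p_g168) = 9 :=
  orderOf_net p_hn p_hk p_g168_ok (by decide) (ps := [3]) (by set_option linter.unusedSimpArgs false in simp [Nat.primeFactorsList_ofNat]) (by decide +kernel)

theorem p_le178 : grp 280 pt_c16_K ≤ grp 280 p_E0 :=
  grp_le_of_memB p_hn p_hk p_E0_ok pt_c16_K_ok (ws := [nat_lit 0x362a221701072d, nat_lit 0x312219270229, nat_lit 0x352a2d2220032d]) (by decide +kernel)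

theorem pt_c16_le : grp 280 pt_c16_K ≤ (grp 280 p_E0) :=
  (p_le178.trans p_T58_s0.le)

theorem pt_c16_mem : Net.toPerm 280 p_g176 ∈ (grp 280 p_E0) :=
  pt_c16_le (toPerm_mem_grp (E := pt_c16_K) (List.Mem.head _))

theorem pt_c16_sym : Sym 280 (grp 280 p_E0) [p_g176] pt_c16_K 0 :=
  Sym.of_lab p_hn p_hk (okE_cons.2 ⟨p_g176_ok, okE_nil _⟩) pt_c16_K_ok pt_c16_le (kT := 0) (by decide +kernel)

noncomputable def pt_c16_cnt_L : List ℕ := [1, 2, p_T58_s1_O, 0, 0, 2, 7, p_T58_s6_O, 0, 0, 3, 8, p_T58_s7_O, 0, 0, 5, 14, p_T58_s28_O, 1, 0]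

theorem pt_c16_cnt_P : Prob 280 9 (grp 280 p_E0) pt_c16_cnt_EG [p_g176] [p_g176] pt_c16_K pt_c16_cnt_L 0 0 :=
  Sym.prob p_hn p_hk pt_c16_sym pt_c16_cnt_EG_ok (grp_cons_le p_g11_p_T58 (grp_cons_le p_g1_p_T58 (grp_cons_le p_g2_p_T58 (grp_cons_le p_g3_p_T58 (grp_cons_le p_g4_p_T58 (grp_cons_le p_g5_p_T58 (grp_cons_le p_g6_p_T58 (grp_cons_le p_g7_p_T58 (grp_cons_le p_g8_p_T58 (grp_cons_le p_g9_p_T58 (grp_cons_le p_g10_p_T58 (grp_cons_le p_g20_p_T58 (grp_cons_le p_g14_p_T58 (grp_cons_le p_g15_p_T58 (grp_cons_le p_g16_p_T58 (grp_cons_le p_g17_p_T58 (grp_cons_le p_g28_p_T58 (grp_cons_le p_g23_p_T58 (grp_cons_le p_g24_p_T58 (grp_cons_le p_g25_p_T58 (grp_cons_le p_g37_p_T58 (grp_cons_le p_g38_p_T58 (grp_cons_le p_g34_p_T58 (grp_cons_le p_g31_p_T58 (grp_cons_le p_g32_p_T58 (grp_cons_le p_g33_p_T58 (grp_cons_le p_g41_p_T58 (grp_cons_le p_g42_p_T58 (grp_cons_le p_g172_p_T58 (grp_cons_le p_g82_p_T58 (grp_cons_le p_g83_p_T58 (grp_nil_le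 _)))))))))))))))))))))))))))))))) (Frames.cons p_T58_s1_F (Frames.cons p_T58_s6_F (Frames.cons p_T58_s7_F (Frames.cons p_T58_s28_F Frames.nil)))) (okE_cons.2 ⟨p_g176_ok, okE_nil _⟩) _

noncomputable def pt_c16_cnt_t : BT := (BT.fix (nat_lit 1) (BT.frm (nat_lit 0) (nat_lit 4901) (nat_lit 4901) [nat_lit 0] (BT.pln (nat_lit 0) (nat_lit 1) (BT.br (nat_lit 0) (nat_lit 5) [nat_lit 1, nat_lit 3] (BT.dead (nat_lit 60) (BT.dif (nat_lit 6) (nat_lit 1) (BT.img (nat_lit 1) (nat_lit 1) (BT.frm (nat_lit 2) (nat_lit 0x28171e1325) (nat_lit 0x262c181325) [nat_lit 0, nat_lit 2, nat_lit 5] (BT.pln (nat_lit 0) (nat_lit 5) (BT.and (nat_lit 3) (nat_lit 0) (BT.pln (nat_lit 2) (nat_lit 4) (BT.and (nat_lit 1) (nat_lit 0) (BT.pln (nat_lit 4) (nat_lit 3) (BT.dif (nat_lit 1) (nat_lit 0) (BT.pln (nat_lit 6) (nat_lit 6) (BT.dif (nat_lit 1) (nat_lit 0) (BT.frm (nat_lit 1) (nat_lit 0x171e1325) (nat_lit 0x181325) [nat_lit 11, nat_lit 14] (BT.pln (nat_lit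 0) (nat_lit 3) (BT.img (nat_lit 1) (nat_lit 0) (BT.pln (nat_lit 2) (nat_lit 2) (BT.dif (nat_lit 1) (nat_lit 0) (BT.dif (nat_lit 0) (nat_lit 3) (BT.and (nat_lit 4) (nat_lit 3) (BT.img (nat_lit 1) (nat_lit 0) (BT.dif (nat_lit 2) (nat_lit 0) (BT.img (nat_lit 1) (nat_lit 0) (BT.and (nat_lit 10) (nat_lit 0) (BT.br (nat_lit 0) (nat_lit 55) [nat_lit 5] (BT.dead (nat_lit 196) (BT.fix (nat_lit 65793) (BT.and (nat_lit 0) (nat_lit 18) (BT.dif (nat_lit 0) (nat_lit 17) (BT.and (nat_lit 0) (nat_lit 22) (BT.pln (nat_lit 15) (nat_lit 6) (BT.img (nat_lit 1) (nat_lit 0) (BT.and (nat_lit 5) (nat_lit 0) (BT.img (nat_lit 1) (nat_lit 0) (BT.dif (nat_lit 4) (nat_lit 0) (BT.and (nat_lit 8) (nat_lit 24) (BT.dif (nat_lit 0) (nat_lit 27) (BT.and (nat_lit 0) (nat_lit 30) (BT.and (nat_lit 0) (nat_lit 25) (BT.pln (nat_lit 24) (nat_lit 5) (BT.img (nat_lit 1) (nat_lit 0) (BT.img (nat_lit 1) (nat_lit 0) (BT.dif (nat_lit 3) (nat_lit 0) (BT.img (nat_lit 1)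 (nat_lit 0) (BT.and (nat_lit 9) (nat_lit 0) (BT.frm (nat_lit 3) (nat_lit 0x28171e1325) (nat_lit 0x393c262c181325) [nat_lit 19, nat_lit 0, nat_lit 40, nat_lit 42, nat_lit 45] (BT.pln (nat_lit 0) (nat_lit 5) (BT.img (nat_lit 1) (nat_lit 21) (BT.img (nat_lit 1) (nat_lit 0) (BT.and (nat_lit 2) (nat_lit 0) (BT.cnt (nat_lit 0)))))))))))))))))))))))))) BT.nil)))))))))))))))))))))))) (BT.dead (nat_lit 23) (BT.dif (nat_lit 6) (nat_lit 1) (BT.img (nat_lit 1) (nat_lit 1) (BT.frm (nat_lit 2) (nat_lit 0x28171e1325) (nat_lit 0x2217211325) [nat_lit 0, nat_lit 2, nat_lit 5] (BT.pln (nat_lit 0) (nat_lit 5) (BT.and (nat_lit 3) (nat_lit 0) (BT.pln (nat_lit 2) (nat_lit 4) (BT.and (nat_lit 1) (nat_lit 0) (BT.pln (nat_lit 4) (nat_lit 3) (BT.dif (nat_lit 1) (nat_lit 0) (BT.pln (nat_lit 6) (nat_lit 6) (BT.dif (nat_lit 1) (nat_lit 0) (BT.frm (nat_lit 1) (nat_lit 0x171e1325) (nat_lit 0x17211325) [nat_lit 11, nat_lit 14] (BT.pln (nat_lit 0) (nat_lit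 3) (BT.img (nat_lit 1) (nat_lit 0) (BT.pln (nat_lit 2) (nat_lit 2) (BT.dif (nat_lit 1) (nat_lit 0) (BT.dif (nat_lit 0) (nat_lit 3) (BT.and (nat_lit 4) (nat_lit 3) (BT.img (nat_lit 1) (nat_lit 0) (BT.dif (nat_lit 2) (nat_lit 0) (BT.img (nat_lit 1) (nat_lit 0) (BT.and (nat_lit 10) (nat_lit 0) (BT.br (nat_lit 0) (nat_lit 55) [nat_lit 6] (BT.dead (nat_lit 201) (BT.fix (nat_lit 65793) (BT.and (nat_lit 0) (nat_lit 18) (BT.dif (nat_lit 0) (nat_lit 17) (BT.and (nat_lit 0) (nat_lit 22) (BT.pln (nat_lit 15) (nat_lit 6) (BT.img (nat_lit 1) (nat_lit 0) (BT.and (nat_lit 5) (nat_lit 0) (BT.img (nat_lit 1) (nat_lit 0) (BT.dif (nat_lit 4) (nat_lit 0) (BT.and (nat_lit 8) (nat_lit 24) (BT.dif (nat_lit 0) (nat_lit 27) (BT.and (nat_lit 0) (nat_lit 30) (BT.and (nat_lit 0) (nat_lit 25) (BT.pln (nat_lit 24) (nat_lit 5) (BT.img (nat_lit 1) (nat_lit 0) (BT.img (nat_lit 1) (nat_lit 0) (BT.dif (nat_lit 3) (nat_lit 0) (BT.img (nat_lit 1) (nat_lit 0)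 (BT.and (nat_lit 9) (nat_lit 0) (BT.frm (nat_lit 3) (nat_lit 0x28171e1325) (nat_lit 0x3b2217211325) [nat_lit 19, nat_lit 0, nat_lit 40, nat_lit 42, nat_lit 45] (BT.pln (nat_lit 0) (nat_lit 5) (BT.img (nat_lit 1) (nat_lit 21) (BT.and (nat_lit 1) (nat_lit 0) (BT.cnt (nat_lit 0))))))))))))))))))))))))) BT.nil)))))))))))))))))))))))) (BT.dead (nat_lit 142) (BT.frm (nat_lit 1) (nat_lit 0x171e1325) (nat_lit 0x1d221325) [nat_lit 0, nat_lit 3] (BT.pln (nat_lit 0) (nat_lit 4) (BT.img (nat_lit 1) (nat_lit 2) (BT.and (nat_lit 1) (nat_lit 0) (BT.cnt (nat_lit 0)))))) (BT.dead (nat_lit 35) (BT.frm (nat_lit 1) (nat_lit 0x171e1325) (nat_lit 0x17291325) [nat_lit 0, nat_lit 3] (BT.pln (nat_lit 0) (nat_lit 4) (BT.img (nat_lit 1) (nat_lit 2) (BT.and (nat_lit 1) (nat_lit 0) (BT.cnt (nat_lit 0)))))) (BT.dead (nat_lit 10) (BT.frm (nat_lit 1) (nat_lit 0x171e1325) (nat_lit 0x172b1325) [nat_lit 0, nat_lit 3] (BT.pln (nat_lit 0) (nat_lit 4) (BT.img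 (nat_lit 1) (nat_lit 2) (BT.and (nat_lit 1) (nat_lit 0) (BT.cnt (nat_lit 0)))))) (BT.kid (nat_lit 5) (nat_lit 3) (BT.dif (nat_lit 6) (nat_lit 1) (BT.img (nat_lit 1) (nat_lit 1) (BT.frm (nat_lit 2) (nat_lit 0x28171e1325) (nat_lit 0x28171e1325) [nat_lit 0, nat_lit 2, nat_lit 5] (BT.pln (nat_lit 0) (nat_lit 5) (BT.and (nat_lit 3) (nat_lit 0) (BT.pln (nat_lit 2) (nat_lit 4) (BT.and (nat_lit 1) (nat_lit 0) (BT.pln (nat_lit 4) (nat_lit 3) (BT.dif (nat_lit 1) (nat_lit 0) (BT.pln (nat_lit 6) (nat_lit 6) (BT.dif (nat_lit 1) (nat_lit 0) (BT.frm (nat_lit 1) (nat_lit 0x171e1325) (nat_lit 0x171e1325) [nat_lit 11, nat_lit 14] (BT.pln (nat_lit 0) (nat_lit 3) (BT.img (nat_lit 1) (nat_lit 0) (BT.pln (nat_lit 2) (nat_lit 2) (BT.dif (nat_lit 1) (nat_lit 0) (BT.dif (nat_lit 0) (nat_lit 3) (BT.and (nat_lit 4) (nat_lit 3) (BT.img (nat_lit 1) (nat_lit 0) (BT.dif (nat_lit 2) (nat_lit 0) (BT.img (nat_lit 1) (nat_lit 0) (BT.and (nat_lit 10) (nat_lit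 0) (BT.br (nat_lit 0) (nat_lit 55) [nat_lit 5] (BT.kid (nat_lit 55) (nat_lit 1) (BT.fix (nat_lit 65793) (BT.and (nat_lit 0) (nat_lit 18) (BT.dif (nat_lit 0) (nat_lit 17) (BT.and (nat_lit 0) (nat_lit 22) (BT.pln (nat_lit 15) (nat_lit 6) (BT.img (nat_lit 1) (nat_lit 0) (BT.and (nat_lit 5) (nat_lit 0) (BT.img (nat_lit 1) (nat_lit 0) (BT.dif (nat_lit 4) (nat_lit 0) (BT.and (nat_lit 8) (nat_lit 24) (BT.dif (nat_lit 0) (nat_lit 27) (BT.and (nat_lit 0) (nat_lit 30) (BT.and (nat_lit 0) (nat_lit 25) (BT.pln (nat_lit 24) (nat_lit 5) (BT.img (nat_lit 1) (nat_lit 0) (BT.img (nat_lit 1) (nat_lit 0) (BT.dif (nat_lit 3) (nat_lit 0) (BT.img (nat_lit 1) (nat_lit 0) (BT.and (nat_lit 9) (nat_lit 0) (BT.one (nat_lit 3) (nat_lit 0x28171e1325) (nat_lit 0x28171e1325) [nat_lit 19, nat_lit 0, nat_lit 40, nat_lit 42, nat_lit 45])))))))))))))))))))) BT.nil)))))))))))))))))))))))) BT.nil))))))))))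

theorem pt_c16_cnt : Cnt 280 (grp 280 p_E0) [p_g176] [p_g176] 0 0 0 0 27 :=
  BT.sound pt_c16_cnt_P Known.nil (t := pt_c16_cnt_t) (d := 0) (by decide +kernel)

theorem pt_c16_ge : 27 ≤ Nat.card (grp 280 pt_c16_K) :=
  Ch.le_card_grp (k := 9) (L := (lab 280 9)) p_hn pt_c16_K_ok (c := (Ch.cons (nat_lit 5) [nat_lit 1, nat_lit 3] (Ch.cons (nat_lit 55) [nat_lit 5] Ch.nil))) (by decide +kernel)

theorem pt_c16_eq : (grp 280 p_E0) ⊓ Subgroup.centralizer {Net.toPerm 280 p_g176} = grp 280 pt_c16_K :=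
  cent_eq pt_c16_sym pt_c16_cnt pt_c16_ge

theorem pt_c16_card : Nat.card ↥((grp 280 p_E0) ⊓ Subgroup.centralizer {Net.toPerm 280 p_g176}) = 27 :=
  card_cent pt_c16_sym pt_c16_cnt pt_c16_ge

theorem pt_c16_ord : orderOf (Net.toPerm 280 p_g176) = 9 :=
  orderOf_net p_hn p_hk p_g176_ok (by decide) (ps := [3]) (by set_option linter.unusedSimpArgs false in simp [Nat.primeFactorsList_ofNat]) (by decide +kernel)

theorem p_le182 : grp 280 pt_c17_K ≤ grp 280 p_E0 :=
  grp_le_of_memB p_hn p_hk p_E0_ok pt_c17_K_ok (ws := [nat_lit 0x363121171a0f01, nat_lit 0x292f181a010711, nat_lit 0x352d2f1d22011e0d]) (by decide +kernel)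

theorem pt_c17_le : grp 280 pt_c17_K ≤ (grp 280 p_E0) :=
  (p_le182.trans p_T58_s0.le)

theorem pt_c17_mem : Net.toPerm 280 p_g179 ∈ (grp 280 p_E0) :=
  pt_c17_le (toPerm_mem_grp (E := pt_c17_K) (List.Mem.head _))

theorem pt_c17_sym : Sym 280 (grp 280 p_E0) [p_g179] pt_c17_K 0 :=
  Sym.of_lab p_hn p_hk (okE_cons.2 ⟨p_g179_ok, okE_nil _⟩) pt_c17_K_ok pt_c17_le (kT := 0) (by decide +kernel)

noncomputable def pt_c17_cnt_L : List ℕ := [1, 2, p_T58_s1_O, 0, 0, 2, 7, p_T58_s6_O, 0, 0, 3, 8, p_T58_s7_O, 0, 0, 4, 11, p_T58_s27_O, 0, 0, 5, 14, p_T58_s28_O, 1, 0]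

theorem pt_c17_cnt_P : Prob 280 9 (grp 280 p_E0) pt_c17_cnt_EG [p_g179] [p_g179] pt_c17_K pt_c17_cnt_L 0 0 :=
  Sym.prob p_hn p_hk pt_c17_sym pt_c17_cnt_EG_ok (grp_cons_le p_g11_p_T58 (grp_cons_le p_g1_p_T58 (grp_cons_le p_g2_p_T58 (grp_cons_le p_g3_p_T58 (grp_cons_le p_g4_p_T58 (grp_cons_le p_g5_p_T58 (grp_cons_le p_g6_p_T58 (grp_cons_le p_g7_p_T58 (grp_cons_le p_g8_p_T58 (grp_cons_le p_g9_p_T58 (grp_cons_le p_g10_p_T58 (grp_cons_le p_g20_p_T58 (grp_cons_le p_g14_p_T58 (grp_cons_le p_g15_p_T58 (grp_cons_le p_g16_p_T58 (grp_cons_le p_g17_p_T58 (grp_cons_le p_g28_p_T58 (grp_cons_le p_g23_p_T58 (grp_cons_le p_g24_p_T58 (grp_cons_le p_g25_p_T58 (grp_cons_le p_g37_p_T58 (grp_cons_le p_g38_p_T58 (grp_cons_le p_g34_p_T58 (grp_cons_le p_g31_p_T58 (grp_cons_le p_g32_p_T58 (grp_cons_le p_g33_p_T58 (grp_cons_le p_g41_p_T58 (grp_cons_le p_g42_p_T58 (grp_cons_le p_g82_p_T58 (grp_cons_le p_g83_p_T58 (grp_cons_le p_g172_p_T58 (grp_nil_le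 _)))))))))))))))))))))))))))))))) (Frames.cons p_T58_s1_F (Frames.cons p_T58_s6_F (Frames.cons p_T58_s7_F (Frames.cons p_T58_s27_F (Frames.cons p_T58_s28_F Frames.nil))))) (okE_cons.2 ⟨p_g179_ok, okE_nil _⟩) _

noncomputable def pt_c17_cnt_t : BT := (BT.fix (nat_lit 1) (BT.frm (nat_lit 0) (nat_lit 1816) (nat_lit 1816) [nat_lit 0] (BT.pln (nat_lit 0) (nat_lit 1) (BT.br (nat_lit 0) (nat_lit 33) [nat_lit 1, nat_lit 3] (BT.dead (nat_lit 52) (BT.dif (nat_lit 6) (nat_lit 1) (BT.img (nat_lit 1) (nat_lit 1) (BT.frm (nat_lit 2) (nat_lit 0x26181a0718) (nat_lit 0x212817340718) [nat_lit 0, nat_lit 2, nat_lit 5] (BT.pln (nat_lit 0) (nat_lit 5) (BT.and (nat_lit 3) (nat_lit 0) (BT.pln (nat_lit 2) (nat_lit 4) (BT.and (nat_lit 1) (nat_lit 0) (BT.pln (nat_lit 4) (nat_lit 3) (BT.dif (nat_lit 1) (nat_lit 0) (BT.pln (nat_lit 6) (nat_lit 6) (BT.dif (nat_lit 1) (nat_lit 0) (BT.frm (nat_lit 1) (nat_lit 0x181a0718) (nat_lit 0x17340718) [nat_lit 11,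 nat_lit 14] (BT.pln (nat_lit 0) (nat_lit 5) (BT.img (nat_lit 1) (nat_lit 0) (BT.img (nat_lit 1) (nat_lit 0) (BT.and (nat_lit 0) (nat_lit 9) (BT.frm (nat_lit 3) (nat_lit 0x3b26181a0718) (nat_lit 0x3b212817340718) [nat_lit 0, nat_lit 14, nat_lit 16, nat_lit 19] (BT.pln (nat_lit 0) (nat_lit 6) (BT.and (nat_lit 7) (nat_lit 0) (BT.pln (nat_lit 2) (nat_lit 7) (BT.and (nat_lit 1) (nat_lit 0) (BT.br (nat_lit 0) (nat_lit 32) [nat_lit 5] (BT.dead (nat_lit 60) (BT.frm (nat_lit 4) (nat_lit 0x3d3b26181a0718) (nat_lit 0x3b212817340718) [nat_lit 0, nat_lit 6, nat_lit 20, nat_lit 22, nat_lit 25] (BT.pln (nat_lit 0) (nat_lit 5) (BT.img (nat_lit 1) (nat_lit 2) (BT.and (nat_lit 1) (nat_lit 0) (BT.cnt (nat_lit 0)))))) BT.nil))))))))))))))))))))))) (BT.dead (nat_lit 36) (BT.dif (nat_lit 6) (nat_lit 1) (BT.img (nat_lit 1) (nat_lit 1) (BT.frm (nat_lit 2) (nat_lit 0x26181a0718) (nat_lit 0x2817280718) [nat_lit 0, nat_lit 2, nat_lit 5] (BT.pln (nat_lit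 0) (nat_lit 5) (BT.and (nat_lit 3) (nat_lit 0) (BT.pln (nat_lit 2) (nat_lit 4) (BT.and (nat_lit 1) (nat_lit 0) (BT.pln (nat_lit 4) (nat_lit 3) (BT.dif (nat_lit 1) (nat_lit 0) (BT.pln (nat_lit 6) (nat_lit 6) (BT.dif (nat_lit 1) (nat_lit 0) (BT.frm (nat_lit 1) (nat_lit 0x181a0718) (nat_lit 0x17280718) [nat_lit 11, nat_lit 14] (BT.pln (nat_lit 0) (nat_lit 5) (BT.img (nat_lit 1) (nat_lit 0) (BT.img (nat_lit 1) (nat_lit 0) (BT.and (nat_lit 0) (nat_lit 9) (BT.frm (nat_lit 3) (nat_lit 0x3b26181a0718) (nat_lit 0x392817280718) [nat_lit 0, nat_lit 14, nat_lit 16, nat_lit 19] (BT.pln (nat_lit 0) (nat_lit 6) (BT.and (nat_lit 7) (nat_lit 0) (BT.pln (nat_lit 2) (nat_lit 7) (BT.and (nat_lit 1) (nat_lit 0) (BT.br (nat_lit 0) (nat_lit 32) [nat_lit 6] (BT.dead (nat_lit 96) (BT.frm (nat_lit 4) (nat_lit 0x3d3b26181a0718) (nat_lit 0x3d392817280718) [nat_lit 0, nat_lit 6, nat_lit 20, nat_lit 22, nat_lit 25] (BT.pln (nat_lit 0) (nat_lit 5) (BT.img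 (nat_lit 1) (nat_lit 2) (BT.img (nat_lit 1) (nat_lit 0) (BT.img (nat_lit 1) (nat_lit 0) (BT.img (nat_lit 1) (nat_lit 0) (BT.and (nat_lit 4) (nat_lit 0) (BT.cnt (nat_lit 0))))))))) BT.nil))))))))))))))))))))))) (BT.dead (nat_lit 85) (BT.frm (nat_lit 1) (nat_lit 0x181a0718) (nat_lit 0x191b0718) [nat_lit 0, nat_lit 3] (BT.pln (nat_lit 0) (nat_lit 4) (BT.img (nat_lit 1) (nat_lit 2) (BT.and (nat_lit 1) (nat_lit 0) (BT.cnt (nat_lit 0)))))) (BT.dead (nat_lit 43) (BT.frm (nat_lit 1) (nat_lit 0x181a0718) (nat_lit 0x201e0718) [nat_lit 0, nat_lit 3] (BT.pln (nat_lit 0) (nat_lit 4) (BT.img (nat_lit 1) (nat_lit 2) (BT.and (nat_lit 1) (nat_lit 0) (BT.cnt (nat_lit 0)))))) (BT.dead (nat_lit 66) (BT.frm (nat_lit 1) (nat_lit 0x181a0718) (nat_lit 1816) [nat_lit 0, nat_lit 3] (BT.pln (nat_lit 0) (nat_lit 4) (BT.img (nat_lit 1) (nat_lit 2) (BT.and (nat_lit 1) (nat_lit 0) (BT.cnt (nat_lit 0)))))) (BT.kid (nat_lit 33) (nat_lit 3) (BT.dif (nat_lit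 6) (nat_lit 1) (BT.img (nat_lit 1) (nat_lit 1) (BT.frm (nat_lit 2) (nat_lit 0x26181a0718) (nat_lit 0x26181a0718) [nat_lit 0, nat_lit 2, nat_lit 5] (BT.pln (nat_lit 0) (nat_lit 5) (BT.and (nat_lit 3) (nat_lit 0) (BT.pln (nat_lit 2) (nat_lit 4) (BT.and (nat_lit 1) (nat_lit 0) (BT.pln (nat_lit 4) (nat_lit 3) (BT.dif (nat_lit 1) (nat_lit 0) (BT.pln (nat_lit 6) (nat_lit 6) (BT.dif (nat_lit 1) (nat_lit 0) (BT.frm (nat_lit 1) (nat_lit 0x181a0718) (nat_lit 0x181a0718) [nat_lit 11, nat_lit 14] (BT.pln (nat_lit 0) (nat_lit 5) (BT.img (nat_lit 1) (nat_lit 0) (BT.img (nat_lit 1) (nat_lit 0) (BT.and (nat_lit 0) (nat_lit 9) (BT.frm (nat_lit 3) (nat_lit 0x3b26181a0718) (nat_lit 0x3b26181a0718) [nat_lit 0, nat_lit 14, nat_lit 16, nat_lit 19] (BT.pln (nat_lit 0) (nat_lit 6) (BT.and (nat_lit 7) (nat_lit 0) (BT.pln (nat_lit 2) (nat_lit 7) (BT.and (nat_lit 1) (nat_lit 0) (BT.br (nat_lit 0) (nat_lit 32) [nat_lit 5] (BT.kid (nat_lit 32) (nat_lit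 1) (BT.one (nat_lit 4) (nat_lit 0x3d3b26181a0718) (nat_lit 0x3d3b26181a0718) [nat_lit 0, nat_lit 6, nat_lit 20, nat_lit 22, nat_lit 25]) BT.nil))))))))))))))))))))))) BT.nil))))))))))

theorem pt_c17_cnt : Cnt 280 (grp 280 p_E0) [p_g179] [p_g179] 0 0 0 0 27 :=
  BT.sound pt_c17_cnt_P Known.nil (t := pt_c17_cnt_t) (d := 0) (by decide +kernel)

theorem pt_c17_ge : 27 ≤ Nat.card (grp 280 pt_c17_K) :=
  Ch.le_card_grp (k := 9) (L := (lab 280 9)) p_hn pt_c17_K_ok (c := (Ch.cons (nat_lit 33) [nat_lit 1, nat_lit 3] (Ch.cons (nat_lit 32) [nat_lit 5] Ch.nil))) (by decide +kernel)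

theorem pt_c17_eq : (grp 280 p_E0) ⊓ Subgroup.centralizer {Net.toPerm 280 p_g179} = grp 280 pt_c17_K :=
  cent_eq pt_c17_sym pt_c17_cnt pt_c17_ge

theorem pt_c17_card : Nat.card ↥((grp 280 p_E0) ⊓ Subgroup.centralizer {Net.toPerm 280 p_g179}) = 27 :=
  card_cent pt_c17_sym pt_c17_cnt pt_c17_ge

theorem pt_c17_ord : orderOf (Net.toPerm 280 p_g179) = 9 :=
  orderOf_net p_hn p_hk p_g179_ok (by decide) (ps := [3]) (by set_option linter.unusedSimpArgs false in simp [Nat.primeFactorsList_ofNat]) (by decide +kernel)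

theorem p_le186 : grp 280 pt_c18_K ≤ grp 280 p_E0 :=
  grp_le_of_memB p_hn p_hk p_E0_ok pt_c18_K_ok (ws := [nat_lit 0x292e221e090f, nat_lit 0x352b2e1722010135, nat_lit 0x362b2f271f0515]) (by decide +kernel)

theorem pt_c18_le : grp 280 pt_c18_K ≤ (grp 280 p_E0) :=
  (p_le186.trans p_T58_s0.le)

theorem pt_c18_mem : Net.toPerm 280 p_g183 ∈ (grp 280 p_E0) :=
  pt_c18_le (toPerm_mem_grp (E := pt_c18_K) (List.Mem.head _))

theorem pt_c18_sym : Sym 280 (grp 280 p_E0) [p_g183] pt_c18_K 0 :=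
  Sym.of_lab p_hn p_hk (okE_cons.2 ⟨p_g183_ok, okE_nil _⟩) pt_c18_K_ok pt_c18_le (kT := 0) (by decide +kernel)

noncomputable def pt_c18_cnt_L : List ℕ := [1, 2, p_T58_s1_O, 0, 0, 2, 7, p_T58_s6_O, 0, 0, 3, 8, p_T58_s7_O, 0, 0, 4, 11, p_T58_s27_O, 0, 0, 5, 14, p_T58_s28_O, 1, 0]

theorem pt_c18_cnt_P : Prob 280 9 (grp 280 p_E0) pt_c18_cnt_EG [p_g183] [p_g183] pt_c18_K pt_c18_cnt_L 0 0 :=
  Sym.prob p_hn p_hk pt_c18_sym pt_c18_cnt_EG_ok (grp_cons_le p_g11_p_T58 (grp_cons_le p_g1_p_T58 (grp_cons_le p_g2_p_T58 (grp_cons_le p_g3_p_T58 (grp_cons_le p_g4_p_T58 (grp_cons_le p_g5_p_T58 (grp_cons_le p_g6_p_T58 (grp_cons_le p_g7_p_T58 (grp_cons_le p_g8_p_T58 (grp_cons_le p_g9_p_T58 (grp_cons_le p_g10_p_T58 (grp_cons_le p_g20_p_T58 (grp_cons_le p_g14_p_T58 (grp_cons_le p_g15_p_T58 (grp_cons_le p_g16_p_T58 (grp_cons_le p_g17_p_T58 (grp_cons_le p_g28_p_T58 (grp_cons_le p_g23_p_T58 (grp_cons_le p_g24_p_T58 (grp_cons_le p_g25_p_T58 (grp_cons_le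 p_g37_p_T58 (grp_cons_le p_g38_p_T58 (grp_cons_le p_g34_p_T58 (grp_cons_le p_g31_p_T58 (grp_cons_le p_g32_p_T58 (grp_cons_le p_g33_p_T58 (grp_cons_le p_g41_p_T58 (grp_cons_le p_g42_p_T58 (grp_cons_le p_g82_p_T58 (grp_cons_le p_g83_p_T58 (grp_cons_le p_g172_p_T58 (grp_nil_le _)))))))))))))))))))))))))))))))) (Frames.cons p_T58_s1_F (Frames.cons p_T58_s6_F (Frames.cons p_T58_s7_F (Frames.cons p_T58_s27_F (Frames.cons p_T58_s28_F Frames.nil))))) (okE_cons.2 ⟨p_g183_ok, okE_nil _⟩) _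

noncomputable def pt_c18_cnt_t : BT := (BT.fix (nat_lit 1) (BT.frm (nat_lit 0) (nat_lit 1816) (nat_lit 1816) [nat_lit 0] (BT.pln (nat_lit 0) (nat_lit 1) (BT.br (nat_lit 0) (nat_lit 33) [nat_lit 1, nat_lit 3] (BT.dead (nat_lit 52) (BT.dif (nat_lit 6) (nat_lit 1) (BT.img (nat_lit 1) (nat_lit 1) (BT.frm (nat_lit 2) (nat_lit 0x2c181a0718) (nat_lit 0x223117340718) [nat_lit 0, nat_lit 2, nat_lit 5] (BT.pln (nat_lit 0) (nat_lit 5) (BT.and (nat_lit 3) (nat_lit 0) (BT.pln (nat_lit 2) (nat_lit 4) (BT.and (nat_lit 1) (nat_lit 0) (BT.pln (nat_lit 4) (nat_lit 3) (BT.dif (nat_lit 1) (nat_lit 0) (BT.pln (nat_lit 6) (nat_lit 6) (BT.dif (nat_lit 1) (nat_lit 0) (BT.frm (nat_lit 1) (nat_lit 0x181a0718) (nat_lit 0x17340718) [nat_lit 11, nat_lit 14] (BT.pln (nat_lit 0) (nat_lit 5) (BT.img (nat_lit 1) (nat_lit 0) (BT.img (nat_lit 1) (nat_lit 0) (BT.dif (nat_lit 0) (nat_lit 7) (BT.frm (nat_lit 3) (nat_lit 0x392c181a0718) (nat_lit 0x39223117340718)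 [nat_lit 0, nat_lit 14, nat_lit 16, nat_lit 19] (BT.pln (nat_lit 0) (nat_lit 6) (BT.and (nat_lit 7) (nat_lit 0) (BT.pln (nat_lit 2) (nat_lit 7) (BT.and (nat_lit 1) (nat_lit 0) (BT.br (nat_lit 0) (nat_lit 167) [nat_lit 6] (BT.dead (nat_lit 28) (BT.frm (nat_lit 4) (nat_lit 0x3e392c181a0718) (nat_lit 0x3e39223117340718) [nat_lit 0, nat_lit 6, nat_lit 20, nat_lit 22, nat_lit 25] (BT.pln (nat_lit 0) (nat_lit 5) (BT.img (nat_lit 1) (nat_lit 2) (BT.and (nat_lit 1) (nat_lit 0) (BT.cnt (nat_lit 0)))))) BT.nil))))))))))))))))))))))) (BT.dead (nat_lit 36) (BT.dif (nat_lit 6) (nat_lit 1) (BT.img (nat_lit 1) (nat_lit 1) (BT.frm (nat_lit 2) (nat_lit 0x2c181a0718) (nat_lit 0x262717280718) [nat_lit 0, nat_lit 2, nat_lit 5] (BT.pln (nat_lit 0) (nat_lit 5) (BT.and (nat_lit 3) (nat_lit 0) (BT.pln (nat_lit 2) (nat_lit 4) (BT.and (nat_lit 1) (nat_lit 0) (BT.pln (nat_lit 4) (nat_lit 3) (BT.dif (nat_lit 1) (nat_lit 0) (BT.pln (nat_lit 6) (nat_lit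 6) (BT.dif (nat_lit 1) (nat_lit 0) (BT.frm (nat_lit 1) (nat_lit 0x181a0718) (nat_lit 0x17280718) [nat_lit 11, nat_lit 14] (BT.pln (nat_lit 0) (nat_lit 5) (BT.img (nat_lit 1) (nat_lit 0) (BT.img (nat_lit 1) (nat_lit 0) (BT.dif (nat_lit 0) (nat_lit 7) (BT.frm (nat_lit 3) (nat_lit 0x392c181a0718) (nat_lit 0x262717280718) [nat_lit 0, nat_lit 14, nat_lit 16, nat_lit 19] (BT.pln (nat_lit 0) (nat_lit 6) (BT.and (nat_lit 7) (nat_lit 0) (BT.pln (nat_lit 2) (nat_lit 7) (BT.and (nat_lit 1) (nat_lit 0) (BT.br (nat_lit 0) (nat_lit 167) [nat_lit 5] (BT.dead (nat_lit 210) (BT.frm (nat_lit 4) (nat_lit 0x3e392c181a0718) (nat_lit 0x262717280718) [nat_lit 0, nat_lit 6, nat_lit 20, nat_lit 22, nat_lit 25] (BT.pln (nat_lit 0) (nat_lit 5) (BT.img (nat_lit 1) (nat_lit 2) (BT.and (nat_lit 1) (nat_lit 0) (BT.cnt (nat_lit 0)))))) BT.nil))))))))))))))))))))))) (BT.dead (nat_lit 85) (BT.frm (nat_lit 1) (nat_lit 0x181a0718) (nat_lit 0x191b0718) [nat_lit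 0, nat_lit 3] (BT.pln (nat_lit 0) (nat_lit 4) (BT.img (nat_lit 1) (nat_lit 2) (BT.and (nat_lit 1) (nat_lit 0) (BT.cnt (nat_lit 0)))))) (BT.dead (nat_lit 43) (BT.frm (nat_lit 1) (nat_lit 0x181a0718) (nat_lit 0x201e0718) [nat_lit 0, nat_lit 3] (BT.pln (nat_lit 0) (nat_lit 4) (BT.img (nat_lit 1) (nat_lit 2) (BT.and (nat_lit 1) (nat_lit 0) (BT.cnt (nat_lit 0)))))) (BT.dead (nat_lit 66) (BT.frm (nat_lit 1) (nat_lit 0x181a0718) (nat_lit 1816) [nat_lit 0, nat_lit 3] (BT.pln (nat_lit 0) (nat_lit 4) (BT.img (nat_lit 1) (nat_lit 2) (BT.and (nat_lit 1) (nat_lit 0) (BT.cnt (nat_lit 0)))))) (BT.kid (nat_lit 33) (nat_lit 3) (BT.dif (nat_lit 6) (nat_lit 1) (BT.img (nat_lit 1) (nat_lit 1) (BT.frm (nat_lit 2) (nat_lit 0x2c181a0718) (nat_lit 0x2c181a0718) [nat_lit 0, nat_lit 2, nat_lit 5] (BT.pln (nat_lit 0) (nat_lit 5) (BT.and (nat_lit 3) (nat_lit 0) (BT.pln (nat_lit 2) (nat_lit 4) (BT.and (nat_lit 1) (nat_lit 0) (BT.pln (nat_lit 4) (nat_lit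 3) (BT.dif (nat_lit 1) (nat_lit 0) (BT.pln (nat_lit 6) (nat_lit 6) (BT.dif (nat_lit 1) (nat_lit 0) (BT.frm (nat_lit 1) (nat_lit 0x181a0718) (nat_lit 0x181a0718) [nat_lit 11, nat_lit 14] (BT.pln (nat_lit 0) (nat_lit 5) (BT.img (nat_lit 1) (nat_lit 0) (BT.img (nat_lit 1) (nat_lit 0) (BT.dif (nat_lit 0) (nat_lit 7) (BT.frm (nat_lit 3) (nat_lit 0x392c181a0718) (nat_lit 0x392c181a0718) [nat_lit 0, nat_lit 14, nat_lit 16, nat_lit 19] (BT.pln (nat_lit 0) (nat_lit 6) (BT.and (nat_lit 7) (nat_lit 0) (BT.pln (nat_lit 2) (nat_lit 7) (BT.and (nat_lit 1) (nat_lit 0) (BT.br (nat_lit 0) (nat_lit 167) [nat_lit 5] (BT.kid (nat_lit 167) (nat_lit 1) (BT.one (nat_lit 4) (nat_lit 0x3e392c181a0718) (nat_lit 0x3e392c181a0718) [nat_lit 0, nat_lit 6, nat_lit 20, nat_lit 22, nat_lit 25]) BT.nil))))))))))))))))))))))) BT.nil))))))))))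

theorem pt_c18_cnt : Cnt 280 (grp 280 p_E0) [p_g183] [p_g183] 0 0 0 0 27 :=
  BT.sound pt_c18_cnt_P Known.nil (t := pt_c18_cnt_t) (d := 0) (by decide +kernel)

theorem pt_c18_ge : 27 ≤ Nat.card (grp 280 pt_c18_K) :=
  Ch.le_card_grp (k := 9) (L := (lab 280 9)) p_hn pt_c18_K_ok (c := (Ch.cons (nat_lit 33) [nat_lit 1, nat_lit 3] (Ch.cons (nat_lit 167) [nat_lit 5] Ch.nil))) (by decide +kernel)

theorem pt_c18_eq : (grp 280 p_E0) ⊓ Subgroup.centralizer {Net.toPerm 280 p_g183} = grp 280 pt_c18_K :=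
  cent_eq pt_c18_sym pt_c18_cnt pt_c18_ge

theorem pt_c18_card : Nat.card ↥((grp 280 p_E0) ⊓ Subgroup.centralizer {Net.toPerm 280 p_g183}) = 27 :=
  card_cent pt_c18_sym pt_c18_cnt pt_c18_ge

theorem pt_c18_ord : orderOf (Net.toPerm 280 p_g183) = 9 :=
  orderOf_net p_hn p_hk p_g183_ok (by decide) (ps := [3]) (by set_option linter.unusedSimpArgs false in simp [Nat.primeFactorsList_ofNat]) (by decide +kernel)

theorem p_le189 : grp 280 pt_c19_K ≤ grp 280 p_E0 :=
  grp_le_of_memB p_hn p_hk p_E0_ok pt_c19_K_ok (ws := [nat_lit 0x2220020b27, nat_lit 0x36292b27182801072d]) (by decide +kernel)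

theorem pt_c19_le : grp 280 pt_c19_K ≤ (grp 280 p_E0) :=
  (p_le189.trans p_T58_s0.le)

theorem pt_c19_mem : Net.toPerm 280 p_g187 ∈ (grp 280 p_E0) :=
  pt_c19_le (toPerm_mem_grp (E := pt_c19_K) (List.Mem.head _))

theorem pt_c19_sym : Sym 280 (grp 280 p_E0) [p_g187] pt_c19_K 0 :=
  Sym.of_lab p_hn p_hk (okE_cons.2 ⟨p_g187_ok, okE_nil _⟩) pt_c19_K_ok pt_c19_le (kT := 0) (by decide +kernel)

noncomputable def p_T58_s24_O : ℕ := (nat_lit 0x5a65a601ff3eff5ec01000301472a96cc9325322004021002010401100502000001800209e64a22120c140fcd789c1e59d5a82a60a2c58fc9dcce79f4b39e27f260000000000810421fc440400001fa78bc3e38900913249ad1e5fd32178b5df46118059efcff0180005e24fd23b3aff5e0cab058c9904534d72c82d9f7b5f65592ab4f8e46001d7f00fe4000e1a8592ab2a3e1cd0528dfe86e9548339b58d1e7260f636d3803f9d1ed9cc3f0f03c06c5254cdb258fa22d3e74c26ead49ce93908715b89985f34a8ec317119a9bb2cccd31816b61dc99990bd0b999cc499aade41369e6567546d491fbf10522a58d54d729aaaaa940000000000000000000000000000000000000000000000000000000000000000000001000000000000000000002000000000000000000000000000000000000000000000000000000000000000000000100000000000000000000000000000000000000000000000000000000000000000000000000000000000000000000000000000000000000000000020)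

theorem p_T58_s24_F : Frame 280 (grp 280 p_E0) 4 11 p_T58_s24_O 0 1 :=
  Stab.frame p_hn p_T58_s24 (by decide +kernel)

noncomputable def pt_c19_cnt_L : List ℕ := [2, 14, p_T58_s2_O, 0, 0, 4, 11, p_T58_s24_O, 0, 0, 5, 14, p_T58_s25_O, 1, 0]

theorem pt_c19_cnt_P : Prob 280 9 (grp 280 p_E0) pt_c19_cnt_EG [p_g187] [p_g187] pt_c19_K pt_c19_cnt_L 0 0 :=
  Sym.prob p_hn p_hk pt_c19_sym pt_c19_cnt_EG_ok (grp_cons_le p_g20_p_T58 (grp_cons_le p_g14_p_T58 (grp_cons_le p_g15_p_T58 (grp_cons_le p_g16_p_T58 (grp_cons_le p_g17_p_T58 (grp_cons_le p_g28_p_T58 (grp_cons_le p_g23_p_T58 (grp_cons_le p_g24_p_T58 (grp_cons_le p_g25_p_T58 (grp_cons_le p_g37_p_T58 (grp_cons_le p_g38_p_T58 (grp_cons_le p_g34_p_T58 (grp_cons_le p_g31_p_T58 (grp_cons_le p_g32_p_T58 (grp_cons_le p_g33_p_T58 (grp_cons_le p_g41_p_T58 (grp_cons_le p_g42_p_T58 (grp_cons_le p_g11_p_T58 (grp_cons_le p_g1_p_T58 (grp_cons_le p_g2_p_T58 (grp_cons_le p_g3_p_T58 (grp_cons_le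 p_g4_p_T58 (grp_cons_le p_g5_p_T58 (grp_cons_le p_g6_p_T58 (grp_cons_le p_g7_p_T58 (grp_cons_le p_g8_p_T58 (grp_cons_le p_g9_p_T58 (grp_cons_le p_g10_p_T58 (grp_cons_le p_g68_p_T58 (grp_cons_le p_g67_p_T58 (grp_cons_le p_g128_p_T58 (grp_nil_le _)))))))))))))))))))))))))))))))) (Frames.cons p_T58_s2_F (Frames.cons p_T58_s24_F (Frames.cons p_T58_s25_F Frames.nil))) (okE_cons.2 ⟨p_g187_ok, okE_nil _⟩) _

noncomputable def pt_c19_cnt_t : BT := (BT.fix (nat_lit 65793) (BT.fix (nat_lit 1) (BT.dif (nat_lit 1) (nat_lit 0) (BT.br (nat_lit 0) (nat_lit 97) [nat_lit 1] (BT.kid (nat_lit 97) (nat_lit 4) (BT.frm (nat_lit 0) (nat_lit 0x5012f15) (nat_lit 0x5012f15) [nat_lit 0, nat_lit 2] (BT.pln (nat_lit 0) (nat_lit 4) (BT.pln (nat_lit 1) (nat_lit 8) (BT.img (nat_lit 1) (nat_lit 0) (BT.dif (nat_lit 2) (nat_lit 0) (BT.br (nat_lit 0) (nat_lit 265) [nat_lit 3] (BT.dead (nat_lit 184) (BT.img (nat_lit 1) (nat_lit 6) (BT.frm (nat_lit 1) (nat_lit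 0x39393b05012f15) (nat_lit 0x393b05012f15) [nat_lit 1, nat_lit 0, nat_lit 7, nat_lit 9] (BT.pln (nat_lit 0) (nat_lit 4) (BT.img (nat_lit 1) (nat_lit 3) (BT.and (nat_lit 1) (nat_lit 0) (BT.cnt (nat_lit 0))))))) (BT.kid (nat_lit 265) (nat_lit 1) (BT.img (nat_lit 1) (nat_lit 0) (BT.img (nat_lit 1) (nat_lit 7) (BT.one (nat_lit 2) (nat_lit 0x3d39393b05012f15) (nat_lit 0x3d39393b05012f15) [nat_lit 1, nat_lit 2, nat_lit 0, nat_lit 8, nat_lit 10]))) BT.nil)))))))) BT.nil)))))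

theorem pt_c19_cnt : Cnt 280 (grp 280 p_E0) [p_g187] [p_g187] 0 0 0 0 12 :=
  BT.sound pt_c19_cnt_P Known.nil (t := pt_c19_cnt_t) (d := 0) (by decide +kernel)

theorem pt_c19_ge : 12 ≤ Nat.card (grp 280 pt_c19_K) :=
  Ch.le_card_grp (k := 9) (L := (lab 280 9)) p_hn pt_c19_K_ok (c := (Ch.cons (nat_lit 97) [nat_lit 1] (Ch.cons (nat_lit 265) [nat_lit 3] Ch.nil))) (by decide +kernel)

theorem pt_c19_eq : (grp 280 p_E0) ⊓ Subgroup.centralizer {Net.toPerm 280 p_g187} = grp 280 pt_c19_K :=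
  cent_eq pt_c19_sym pt_c19_cnt pt_c19_ge

theorem pt_c19_card : Nat.card ↥((grp 280 p_E0) ⊓ Subgroup.centralizer {Net.toPerm 280 p_g187}) = 12 :=
  card_cent pt_c19_sym pt_c19_cnt pt_c19_ge

theorem pt_c19_ord : orderOf (Net.toPerm 280 p_g187) = 12 :=
  orderOf_net p_hn p_hk p_g187_ok (by decide) (ps := [2, 3]) (by set_option linter.unusedSimpArgs false in simp [Nat.primeFactorsList_ofNat]) (by decide +kernel)

noncomputable def pt_xs : List Net := [Net.nil, p_g59, p_g74, p_g89, p_g99, p_g114, p_g119, p_g124, p_g134, p_g136, p_g140, p_g153, p_g157, p_g162, p_g164, p_g168, p_g176, p_g179, p_g183, p_g187]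

noncomputable def pt_cs : List ℕ := [3265920, 1152, 5832, 972, 972, 81, 96, 16, 5, 72, 36, 36, 7, 7, 8, 27, 27, 27, 27, 12]

noncomputable def pt_os : List ℕ := [1, 2, 3, 3, 3, 3, 4, 4, 5, 6, 6, 6, 7, 7, 8, 9, 9, 9, 9, 12]

theorem pt_reps : Reps 280 (grp 280 p_E0) pt_xs pt_cs pt_os :=
  (Reps.cons rfl (one_mem _) (card_cent_nil p_card0) orderOf_one (Reps.cons p_g59_ok pt_c1_mem pt_c1_card pt_c1_ord (Reps.cons p_g74_ok pt_c2_mem pt_c2_card pt_c2_ord (Reps.cons p_g89_ok pt_c3_mem pt_c3_card pt_c3_ord (Reps.cons p_g99_ok pt_c4_mem pt_c4_card pt_c4_ord (Reps.cons p_g114_ok pt_c5_mem pt_c5_card pt_c5_ord (Reps.cons p_g119_ok pt_c6_mem pt_c6_card pt_c6_ord (Reps.cons p_g124_ok pt_c7_mem pt_c7_card pt_c7_ord (Reps.cons p_g134_ok pt_c8_mem pt_c8_card pt_c8_ord (Reps.cons p_g136_ok pt_c9_mem pt_c9_card pt_c9_ord (Reps.cons p_g140_ok pt_c10_mem pt_c10_card pt_c10_ord (Reps.cons p_g153_ok pt_c11_mem pt_c11_card pt_c11_ord (Reps.cons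 p_g157_ok pt_c12_mem pt_c12_card pt_c12_ord (Reps.cons p_g162_ok pt_c13_mem pt_c13_card pt_c13_ord (Reps.cons p_g164_ok pt_c14_mem pt_c14_card pt_c14_ord (Reps.cons p_g168_ok pt_c15_mem pt_c15_card pt_c15_ord (Reps.cons p_g176_ok pt_c16_mem pt_c16_card pt_c16_ord (Reps.cons p_g179_ok pt_c17_mem pt_c17_card pt_c17_ord (Reps.cons p_g183_ok pt_c18_mem pt_c18_card pt_c18_ord (Reps.cons p_g187_ok pt_c19_mem pt_c19_card pt_c19_ord Reps.nil))))))))))))))))))))

noncomputable def pt_nc4_3_cnt_L : List ℕ := [1, 2, p_T58_s1_O, 0, 0, 2, 7, p_T58_s6_O, 0, 0]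

theorem pt_nc4_3_cnt_P : Prob 280 9 (grp 280 p_E0) pt_nc4_3_cnt_EG [p_g99] [p_g89] pt_c3_K pt_nc4_3_cnt_L 0 0 :=
  Sym.prob p_hn p_hk pt_c3_sym pt_nc4_3_cnt_EG_ok (grp_cons_le p_g11_p_T58 (grp_cons_le p_g1_p_T58 (grp_cons_le p_g2_p_T58 (grp_cons_le p_g3_p_T58 (grp_cons_le p_g4_p_T58 (grp_cons_le p_g5_p_T58 (grp_cons_le p_g6_p_T58 (grp_cons_le p_g7_p_T58 (grp_cons_le p_g8_p_T58 (grp_cons_le p_g9_p_T58 (grp_cons_le p_g10_p_T58 (grp_cons_le p_g20_p_T58 (grp_cons_le p_g14_p_T58 (grp_cons_le p_g15_p_T58 (grp_cons_le p_g16_p_T58 (grp_cons_le p_g17_p_T58 (grp_cons_le p_g28_p_T58 (grp_cons_le p_g23_p_T58 (grp_cons_le p_g24_p_T58 (grp_cons_le p_g25_p_T58 (grp_cons_le p_g37_p_T58 (grp_cons_le p_g38_p_T58 (grp_cons_le p_g34_p_T58 (grp_cons_le p_g31_p_T58 (grp_cons_le p_g32_p_T58 (grp_cons_le p_g33_p_T58 (grp_cons_le p_g41_p_T58 (grp_cons_le p_g42_p_T58 (grp_nil_le _))))))))))))))))))))))))))))) (Frames.cons p_T58_s1_F (Frames.cons p_T58_s6_F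 Frames.nil)) (okE_cons.2 ⟨p_g99_ok, okE_nil _⟩) _

noncomputable def pt_nc4_3_cnt_t : BT := (BT.fix (nat_lit 1) (BT.br (nat_lit 0) (nat_lit 26) [nat_lit 1, nat_lit 3] (BT.dead (nat_lit 67) (BT.frm (nat_lit 0) (nat_lit 3339) (nat_lit 139522) [nat_lit 0] (BT.pln (nat_lit 0) (nat_lit 1) (BT.dif (nat_lit 0) (nat_lit 3) (BT.br (nat_lit 0) (nat_lit 211) [nat_lit 2308, nat_lit 0x9050802, nat_lit 525062] (BT.dead (nat_lit 19) (BT.frm (nat_lit 1) (nat_lit 0x190d0b) (nat_lit 0x1d022102) [nat_lit 0, nat_lit 4] (BT.pln (nat_lit 0) (nat_lit 4) (BT.img (nat_lit 1) (nat_lit 2) (BT.and (nat_lit 1) (nat_lit 0) (BT.cnt (nat_lit 0)))))) BT.nil))))) (BT.dead (nat_lit 17) (BT.frm (nat_lit 0) (nat_lit 3339) (nat_lit 139531) [nat_lit 0] (BT.pln (nat_lit 0) (nat_lit 1) (BT.dif (nat_lit 0) (nat_lit 3) (BT.br (nat_lit 0) (nat_lit 211) [nat_lit 3, nat_lit 5] (BT.dead (nat_lit 62) (BT.frm (nat_lit 1) (nat_lit 0x190d0b) (nat_lit 0x1e02210b) [nat_lit 0,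 nat_lit 4] (BT.pln (nat_lit 0) (nat_lit 5) (BT.img (nat_lit 1) (nat_lit 2) (BT.and (nat_lit 1) (nat_lit 0) (BT.cnt (nat_lit 0)))))) BT.nil))))) BT.nil))))

theorem pt_nc4_3_cnt : Cnt 280 (grp 280 p_E0) [p_g99] [p_g89] 0 0 0 0 0 :=
  BT.sound pt_nc4_3_cnt_P Known.nil (t := pt_nc4_3_cnt_t) (d := 0) (by decide +kernel)

theorem pt_nc4_3 : ¬ CjIn (grp 280 p_E0) (Net.toPerm 280 p_g99) (Net.toPerm 280 p_g89) :=
  not_cjIn pt_nc4_3_cnt

noncomputable def pt_nc11_10_cnt_L : List ℕ := [1, 2, p_T58_s1_O, 0, 0, 2, 7, p_T58_s6_O, 0, 0, 4, 10, p_T58_s21_O, 0, 0, 5, 12, p_T58_s22_O, 0, 0, 6, 15, p_T58_s23_O, 1, 0]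

theorem pt_nc11_10_cnt_P : Prob 280 9 (grp 280 p_E0) pt_nc11_10_cnt_EG [p_g153] [p_g140] pt_c10_K pt_nc11_10_cnt_L 0 0 :=
  Sym.prob p_hn p_hk pt_c10_sym pt_nc11_10_cnt_EG_ok (grp_cons_le p_g11_p_T58 (grp_cons_le p_g1_p_T58 (grp_cons_le p_g2_p_T58 (grp_cons_le p_g3_p_T58 (grp_cons_le p_g4_p_T58 (grp_cons_le p_g5_p_T58 (grp_cons_le p_g6_p_T58 (grp_cons_le p_g7_p_T58 (grp_cons_le p_g8_p_T58 (grp_cons_le p_g9_p_T58 (grp_cons_le p_g10_p_T58 (grp_cons_le p_g20_p_T58 (grp_cons_le p_g14_p_T58 (grp_cons_le p_g15_p_T58 (grp_cons_le p_g16_p_T58 (grp_cons_le p_g17_p_T58 (grp_cons_le p_g28_p_T58 (grp_cons_le p_g23_p_T58 (grp_cons_le p_g24_p_T58 (grp_cons_le p_g25_p_T58 (grp_cons_le p_g37_p_T58 (grp_cons_le p_g38_p_T58 (grp_cons_le p_g34_p_T58 (grp_cons_le p_g31_p_T58 (grp_cons_le p_g32_p_T58 (grp_cons_le p_g33_p_T58 (grp_cons_le p_g41_p_T58 (grp_cons_le p_g42_p_T58 (grp_cons_le p_g145_p_T58 (grp_cons_le p_g146_p_T58 (grp_cons_le p_g147_p_T58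 (grp_nil_le _)))))))))))))))))))))))))))))))) (Frames.cons p_T58_s1_F (Frames.cons p_T58_s6_F (Frames.cons p_T58_s21_F (Frames.cons p_T58_s22_F (Frames.cons p_T58_s23_F Frames.nil))))) (okE_cons.2 ⟨p_g153_ok, okE_nil _⟩) _

noncomputable def pt_nc11_10_cnt_t : BT := (BT.fix (nat_lit 65793) (BT.fix (nat_lit 1) (BT.dif (nat_lit 1) (nat_lit 0) (BT.br (nat_lit 0) (nat_lit 5) [nat_lit 3] (BT.dead (nat_lit 20) (BT.frm (nat_lit 0) (nat_lit 65838) (nat_lit 1301) [nat_lit 0] (BT.pln (nat_lit 0) (nat_lit 1) (BT.and (nat_lit 4) (nat_lit 0) (BT.frm (nat_lit 1) (nat_lit 0x191b01012e) (nat_lit 0x171d0515) [nat_lit 0, nat_lit 3] (BT.pln (nat_lit 0) (nat_lit 6) (BT.and (nat_lit 3) (nat_lit 0) (BT.img (nat_lit 1) (nat_lit 6) (BT.img (nat_lit 1) (nat_lit 0) (BT.frm (nat_lit 2) (nat_lit 0x39212c191b01012e) (nat_lit 0x212c171d0515) [nat_lit 0, nat_lit 1, nat_lit 5, nat_lit 8] (BT.pln (nat_lit 0) (nat_lit 5) (BT.dif (nat_lit 4) (nat_lit 0) (BT.br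 (nat_lit 0) (nat_lit 60) [nat_lit 5] (BT.dead (nat_lit 61) (BT.dif (nat_lit 18) (nat_lit 2) (BT.pln (nat_lit 4) (nat_lit 8) (BT.and (nat_lit 1) (nat_lit 0) (BT.pln (nat_lit 6) (nat_lit 4) (BT.dif (nat_lit 1) (nat_lit 0) (BT.pln (nat_lit 8) (nat_lit 6) (BT.dif (nat_lit 1) (nat_lit 0) (BT.pln (nat_lit 10) (nat_lit 7) (BT.dif (nat_lit 1) (nat_lit 0) (BT.pln (nat_lit 12) (nat_lit 9) (BT.dif (nat_lit 1) (nat_lit 0) (BT.frm (nat_lit 3) (nat_lit 0x39212c191b01012e) (nat_lit 0x3b212c171d0515) [nat_lit 11, nat_lit 15, nat_lit 16, nat_lit 20, nat_lit 23] (BT.pln (nat_lit 0) (nat_lit 5) (BT.dif (nat_lit 2) (nat_lit 0) (BT.br (nat_lit 0) (nat_lit 75) [nat_lit 7] (BT.dead (nat_lit 171) (BT.frm (nat_lit 4) (nat_lit 0x3e39212c191b01012e) (nat_lit 0x3d3b212c171d0515) [nat_lit 0, nat_lit 15, nat_lit 19, nat_lit 20, nat_lit 24, nat_lit 27] (BT.pln (nat_lit 0) (nat_lit 6) (BT.img (nat_lit 1) (nat_lit 2) (BT.img (nat_lit 1) (nat_lit 0) (BT.img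 (nat_lit 1) (nat_lit 0) (BT.img (nat_lit 1) (nat_lit 0) (BT.and (nat_lit 4) (nat_lit 0) (BT.cnt (nat_lit 0))))))))) BT.nil)))))))))))))))) BT.nil))))))))))))) BT.nil)))))

theorem pt_nc11_10_cnt : Cnt 280 (grp 280 p_E0) [p_g153] [p_g140] 0 0 0 0 0 :=
  BT.sound pt_nc11_10_cnt_P Known.nil (t := pt_nc11_10_cnt_t) (d := 0) (by decide +kernel)

theorem pt_nc11_10 : ¬ CjIn (grp 280 p_E0) (Net.toPerm 280 p_g153) (Net.toPerm 280 p_g140) :=
  not_cjIn pt_nc11_10_cnt

noncomputable def pt_nc13_12_cnt_L : List ℕ := [1, 2, p_T58_s1_O, 0, 0, 2, 14, p_T58_s2_O, 0, 0]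

theorem pt_nc13_12_cnt_P : Prob 280 9 (grp 280 p_E0) pt_nc13_12_cnt_EG [p_g162] [p_g157] pt_c12_K pt_nc13_12_cnt_L 0 0 :=
  Sym.prob p_hn p_hk pt_c12_sym pt_nc13_12_cnt_EG_ok (grp_cons_le p_g11_p_T58 (grp_cons_le p_g1_p_T58 (grp_cons_le p_g2_p_T58 (grp_cons_le p_g3_p_T58 (grp_cons_le p_g4_p_T58 (grp_cons_le p_g5_p_T58 (grp_cons_le p_g6_p_T58 (grp_cons_le p_g7_p_T58 (grp_cons_le p_g8_p_T58 (grp_cons_le p_g9_p_T58 (grp_cons_le p_g10_p_T58 (grp_cons_le p_g20_p_T58 (grp_cons_le p_g14_p_T58 (grp_cons_le p_g15_p_T58 (grp_cons_le p_g16_p_T58 (grp_cons_le p_g17_p_T58 (grp_cons_le p_g28_p_T58 (grp_cons_le p_g23_p_T58 (grp_cons_le p_g24_p_T58 (grp_cons_le p_g25_p_T58 (grp_cons_le p_g37_p_T58 (grp_cons_le p_g38_p_T58 (grp_cons_le p_g34_p_T58 (grp_cons_le p_g31_p_T58 (grp_cons_le p_g32_p_T58 (grp_cons_le p_g33_p_T58 (grp_cons_le p_g41_p_T58 (grp_cons_le p_g42_p_T58 (grp_nil_le _))))))))))))))))))))))))))))) (Frames.cons p_T58_s1_F (Frames.cons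 p_T58_s2_F Frames.nil)) (okE_cons.2 ⟨p_g162_ok, okE_nil _⟩) _

noncomputable def pt_nc13_12_cnt_t : BT := (BT.br (nat_lit 2) (nat_lit 0) [nat_lit 1] (BT.dead (nat_lit 40) (BT.frm (nat_lit 0) (nat_lit 0) (nat_lit 132397) [nat_lit 0] (BT.pln (nat_lit 0) (nat_lit 1) (BT.img (nat_lit 1) (nat_lit 0) (BT.dif (nat_lit 0) (nat_lit 1) (BT.and (nat_lit 2) (nat_lit 1) (BT.img (nat_lit 1) (nat_lit 0) (BT.dif (nat_lit 2) (nat_lit 0) (BT.img (nat_lit 1) (nat_lit 0) (BT.and (nat_lit 6) (nat_lit 0) (BT.img (nat_lit 1) (nat_lit 0) (BT.and (nat_lit 7) (nat_lit 0) (BT.img (nat_lit 1) (nat_lit 0) (BT.and (nat_lit 0) (nat_lit 10) (BT.cnt (nat_lit 0))))))))))))))) (BT.dead (nat_lit 23) (BT.frm (nat_lit 0) (nat_lit 0) (nat_lit 131878) [nat_lit 0] (BT.pln (nat_lit 0) (nat_lit 1) (BT.img (nat_lit 1) (nat_lit 0) (BT.dif (nat_lit 0) (nat_lit 1) (BT.and (nat_lit 2) (nat_lit 1) (BT.img (nat_lit 1) (nat_lit 0) (BT.dif (nat_lit 2) (nat_lit 0) (BT.img (nat_lit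 1) (nat_lit 0) (BT.and (nat_lit 6) (nat_lit 0) (BT.img (nat_lit 1) (nat_lit 0) (BT.and (nat_lit 7) (nat_lit 0) (BT.img (nat_lit 1) (nat_lit 0) (BT.and (nat_lit 0) (nat_lit 10) (BT.cnt (nat_lit 0))))))))))))))) (BT.dead (nat_lit 47) (BT.img (nat_lit 1) (nat_lit 0) (BT.frm (nat_lit 1) (nat_lit 10028) (nat_lit 0x202f020317) [nat_lit 0, nat_lit 1] (BT.pln (nat_lit 0) (nat_lit 2) (BT.img (nat_lit 1) (nat_lit 2) (BT.and (nat_lit 1) (nat_lit 0) (BT.cnt (nat_lit 0))))))) (BT.dead (nat_lit 142) (BT.frm (nat_lit 0) (nat_lit 0) (nat_lit 1832) [nat_lit 0] (BT.pln (nat_lit 0) (nat_lit 1) (BT.img (nat_lit 1) (nat_lit 0) (BT.dif (nat_lit 0) (nat_lit 1) (BT.and (nat_lit 2) (nat_lit 1) (BT.img (nat_lit 1) (nat_lit 0) (BT.dif (nat_lit 2) (nat_lit 0) (BT.img (nat_lit 1) (nat_lit 0) (BT.and (nat_lit 6) (nat_lit 0) (BT.img (nat_lit 1) (nat_lit 0) (BT.and (nat_lit 7) (nat_lit 0) (BT.img (nat_lit 1) (nat_lit 0) (BT.and (nat_lit 0) (nat_lit 10) (BT.cnt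 (nat_lit 0))))))))))))))) (BT.dead (nat_lit 13) (BT.frm (nat_lit 0) (nat_lit 0) (nat_lit 1816) [nat_lit 0] (BT.pln (nat_lit 0) (nat_lit 1) (BT.img (nat_lit 1) (nat_lit 0) (BT.dif (nat_lit 0) (nat_lit 1) (BT.and (nat_lit 2) (nat_lit 1) (BT.img (nat_lit 1) (nat_lit 0) (BT.dif (nat_lit 2) (nat_lit 0) (BT.img (nat_lit 1) (nat_lit 0) (BT.and (nat_lit 6) (nat_lit 0) (BT.img (nat_lit 1) (nat_lit 0) (BT.and (nat_lit 7) (nat_lit 0) (BT.img (nat_lit 1) (nat_lit 0) (BT.and (nat_lit 0) (nat_lit 10) (BT.cnt (nat_lit 0))))))))))))))) (BT.dead (nat_lit 16) (BT.img (nat_lit 1) (nat_lit 0) (BT.frm (nat_lit 1) (nat_lit 10028) (nat_lit 0x222b020b) [nat_lit 0, nat_lit 1] (BT.pln (nat_lit 0) (nat_lit 2) (BT.img (nat_lit 1) (nat_lit 2) (BT.and (nat_lit 1) (nat_lit 0) (BT.cnt (nat_lit 0))))))) (BT.dead (nat_lit 7) (BT.img (nat_lit 1) (nat_lit 0) (BT.frm (nat_lit 1) (nat_lit 10028) (nat_lit 0x201d0b31) [nat_lit 0, nat_lit 1] (BT.pln (nat_lit 0) (nat_lit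 2) (BT.img (nat_lit 1) (nat_lit 2) (BT.and (nat_lit 1) (nat_lit 0) (BT.cnt (nat_lit 0))))))) (BT.dead (nat_lit 36) (BT.frm (nat_lit 0) (nat_lit 0) (nat_lit 67361) [nat_lit 0] (BT.pln (nat_lit 0) (nat_lit 1) (BT.img (nat_lit 1) (nat_lit 0) (BT.and (nat_lit 1) (nat_lit 0) (BT.img (nat_lit 1) (nat_lit 0) (BT.img (nat_lit 1) (nat_lit 0) (BT.img (nat_lit 1) (nat_lit 0) (BT.and (nat_lit 0) (nat_lit 5) (BT.cnt (nat_lit 0)))))))))) (BT.dead (nat_lit 11) (BT.frm (nat_lit 0) (nat_lit 0) (nat_lit 66338) [nat_lit 0] (BT.pln (nat_lit 0) (nat_lit 1) (BT.img (nat_lit 1) (nat_lit 0) (BT.and (nat_lit 1) (nat_lit 0) (BT.img (nat_lit 1) (nat_lit 0) (BT.img (nat_lit 1) (nat_lit 0) (BT.img (nat_lit 1) (nat_lit 0) (BT.and (nat_lit 0) (nat_lit 5) (BT.cnt (nat_lit 0)))))))))) (BT.dead (nat_lit 71) (BT.frm (nat_lit 0) (nat_lit 0) (nat_lit 67375) [nat_lit 0] (BT.pln (nat_lit 0) (nat_lit 1) (BT.img (nat_lit 1) (nat_lit 0) (BT.and (nat_lit 1) (nat_lit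 0) (BT.img (nat_lit 1) (nat_lit 0) (BT.img (nat_lit 1) (nat_lit 0) (BT.and (nat_lit 0) (nat_lit 4) (BT.cnt (nat_lit 0))))))))) (BT.dead (nat_lit 33) (BT.frm (nat_lit 0) (nat_lit 0) (nat_lit 134438) [nat_lit 0] (BT.pln (nat_lit 0) (nat_lit 1) (BT.img (nat_lit 1) (nat_lit 0) (BT.and (nat_lit 1) (nat_lit 0) (BT.img (nat_lit 1) (nat_lit 0) (BT.img (nat_lit 1) (nat_lit 0) (BT.and (nat_lit 0) (nat_lit 4) (BT.cnt (nat_lit 0))))))))) (BT.dead (nat_lit 22) (BT.frm (nat_lit 0) (nat_lit 0) (nat_lit 73229) [nat_lit 0] (BT.pln (nat_lit 0) (nat_lit 1) (BT.img (nat_lit 1) (nat_lit 0) (BT.and (nat_lit 1) (nat_lit 0) (BT.img (nat_lit 1) (nat_lit 0) (BT.img (nat_lit 1) (nat_lit 0) (BT.and (nat_lit 0) (nat_lit 4) (BT.cnt (nat_lit 0))))))))) (BT.dead (nat_lit 15) (BT.frm (nat_lit 0) (nat_lit 0) (nat_lit 139785) [nat_lit 0] (BT.pln (nat_lit 0) (nat_lit 1) (BT.img (nat_lit 1) (nat_lit 0) (BT.and (nat_lit 1) (nat_lit 0) (BT.img (nat_lit 1) (nat_lit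 0) (BT.img (nat_lit 1) (nat_lit 0) (BT.and (nat_lit 0) (nat_lit 4) (BT.cnt (nat_lit 0))))))))) (BT.dead (nat_lit 6) (BT.frm (nat_lit 0) (nat_lit 0) (nat_lit 66839) [nat_lit 0] (BT.pln (nat_lit 0) (nat_lit 1) (BT.img (nat_lit 1) (nat_lit 0) (BT.and (nat_lit 1) (nat_lit 0) (BT.img (nat_lit 1) (nat_lit 0) (BT.img (nat_lit 1) (nat_lit 0) (BT.and (nat_lit 0) (nat_lit 4) (BT.cnt (nat_lit 0))))))))) (BT.dead (nat_lit 27) (BT.frm (nat_lit 0) (nat_lit 0) (nat_lit 133921) [nat_lit 0] (BT.pln (nat_lit 0) (nat_lit 1) (BT.img (nat_lit 1) (nat_lit 2) (BT.img (nat_lit 1) (nat_lit 0) (BT.img (nat_lit 1) (nat_lit 0) (BT.and (nat_lit 3) (nat_lit 0) (BT.cnt (nat_lit 0)))))))) (BT.dead (nat_lit 5) (BT.frm (nat_lit 0) (nat_lit 0) (nat_lit 65838) [nat_lit 0] (BT.pln (nat_lit 0) (nat_lit 1) (BT.img (nat_lit 1) (nat_lit 2) (BT.img (nat_lit 1) (nat_lit 0) (BT.img (nat_lit 1) (nat_lit 0) (BT.and (nat_lit 3) (nat_lit 0) (BT.cnt (nat_lit 0)))))))) (BT.dead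 (nat_lit 10) (BT.frm (nat_lit 0) (nat_lit 0) (nat_lit 68382) [nat_lit 0] (BT.pln (nat_lit 0) (nat_lit 1) (BT.img (nat_lit 1) (nat_lit 2) (BT.img (nat_lit 1) (nat_lit 0) (BT.and (nat_lit 2) (nat_lit 0) (BT.cnt (nat_lit 0))))))) (BT.dead (nat_lit 34) (BT.frm (nat_lit 0) (nat_lit 0) (nat_lit 1302) [nat_lit 0] (BT.pln (nat_lit 0) (nat_lit 1) (BT.img (nat_lit 1) (nat_lit 0) (BT.and (nat_lit 1) (nat_lit 0) (BT.img (nat_lit 1) (nat_lit 0) (BT.img (nat_lit 1) (nat_lit 0) (BT.img (nat_lit 1) (nat_lit 0) (BT.and (nat_lit 0) (nat_lit 5) (BT.cnt (nat_lit 0)))))))))) (BT.dead (nat_lit 26) (BT.frm (nat_lit 0) (nat_lit 0) (nat_lit 3339) [nat_lit 0] (BT.pln (nat_lit 0) (nat_lit 1) (BT.img (nat_lit 1) (nat_lit 0) (BT.and (nat_lit 1) (nat_lit 0) (BT.img (nat_lit 1) (nat_lit 0) (BT.img (nat_lit 1) (nat_lit 0) (BT.img (nat_lit 1) (nat_lit 0) (BT.and (nat_lit 0) (nat_lit 5) (BT.cnt (nat_lit 0)))))))))) (BT.dead (nat_lit 29) (BT.frm (nat_lit 0)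 (nat_lit 0) (nat_lit 65823) [nat_lit 0] (BT.pln (nat_lit 0) (nat_lit 1) (BT.img (nat_lit 1) (nat_lit 2) (BT.and (nat_lit 1) (nat_lit 0) (BT.cnt (nat_lit 0)))))) (BT.dead (nat_lit 12) (BT.frm (nat_lit 0) (nat_lit 0) (nat_lit 66349) [nat_lit 0] (BT.pln (nat_lit 0) (nat_lit 1) (BT.img (nat_lit 1) (nat_lit 2) (BT.and (nat_lit 1) (nat_lit 0) (BT.cnt (nat_lit 0)))))) (BT.dead (nat_lit 134) (BT.frm (nat_lit 0) (nat_lit 0) (nat_lit 287) [nat_lit 0] (BT.pln (nat_lit 0) (nat_lit 1) (BT.img (nat_lit 1) (nat_lit 0) (BT.and (nat_lit 1) (nat_lit 0) (BT.img (nat_lit 1) (nat_lit 0) (BT.img (nat_lit 1) (nat_lit 0) (BT.and (nat_lit 0) (nat_lit 4) (BT.cnt (nat_lit 0))))))))) (BT.dead (nat_lit 100) (BT.frm (nat_lit 0) (nat_lit 0) (nat_lit 2853) [nat_lit 0] (BT.pln (nat_lit 0) (nat_lit 1) (BT.img (nat_lit 1) (nat_lit 0) (BT.and (nat_lit 1) (nat_lit 0) (BT.img (nat_lit 1) (nat_lit 0) (BT.img (nat_lit 1) (nat_lit 0) (BT.and (nat_lit 0) (nat_lit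 4) (BT.cnt (nat_lit 0))))))))) (BT.dead (nat_lit 61) (BT.frm (nat_lit 0) (nat_lit 0) (nat_lit 3861) [nat_lit 0] (BT.pln (nat_lit 0) (nat_lit 1) (BT.img (nat_lit 1) (nat_lit 0) (BT.and (nat_lit 1) (nat_lit 0) (BT.img (nat_lit 1) (nat_lit 0) (BT.img (nat_lit 1) (nat_lit 0) (BT.and (nat_lit 0) (nat_lit 4) (BT.cnt (nat_lit 0))))))))) (BT.dead (nat_lit 30) (BT.frm (nat_lit 0) (nat_lit 0) (nat_lit 5409) [nat_lit 0] (BT.pln (nat_lit 0) (nat_lit 1) (BT.img (nat_lit 1) (nat_lit 0) (BT.and (nat_lit 1) (nat_lit 0) (BT.img (nat_lit 1) (nat_lit 0) (BT.img (nat_lit 1) (nat_lit 0) (BT.and (nat_lit 0) (nat_lit 4) (BT.cnt (nat_lit 0))))))))) (BT.dead (nat_lit 25) (BT.frm (nat_lit 0) (nat_lit 0) (nat_lit 1825) [nat_lit 0] (BT.pln (nat_lit 0) (nat_lit 1) (BT.img (nat_lit 1) (nat_lit 0) (BT.and (nat_lit 1) (nat_lit 0) (BT.img (nat_lit 1) (nat_lit 0) (BT.img (nat_lit 1) (nat_lit 0) (BT.and (nat_lit 0) (nat_lit 4) (BT.cnt (nat_lit 0))))))))) (BT.dead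 (nat_lit 20) (BT.frm (nat_lit 0) (nat_lit 0) (nat_lit 1301) [nat_lit 0] (BT.pln (nat_lit 0) (nat_lit 1) (BT.img (nat_lit 1) (nat_lit 0) (BT.and (nat_lit 1) (nat_lit 0) (BT.img (nat_lit 1) (nat_lit 0) (BT.img (nat_lit 1) (nat_lit 0) (BT.and (nat_lit 0) (nat_lit 4) (BT.cnt (nat_lit 0))))))))) (BT.dead (nat_lit 2) (BT.frm (nat_lit 0) (nat_lit 0) (nat_lit 1838) [nat_lit 0] (BT.pln (nat_lit 0) (nat_lit 1) (BT.img (nat_lit 1) (nat_lit 0) (BT.and (nat_lit 1) (nat_lit 0) (BT.img (nat_lit 1) (nat_lit 0) (BT.img (nat_lit 1) (nat_lit 0) (BT.and (nat_lit 0) (nat_lit 4) (BT.cnt (nat_lit 0))))))))) (BT.dead (nat_lit 81) (BT.frm (nat_lit 0) (nat_lit 0) (nat_lit 784) [nat_lit 0] (BT.pln (nat_lit 0) (nat_lit 1) (BT.img (nat_lit 1) (nat_lit 0) (BT.and (nat_lit 1) (nat_lit 0) (BT.img (nat_lit 1) (nat_lit 0) (BT.and (nat_lit 0) (nat_lit 3) (BT.cnt (nat_lit 0)))))))) (BT.dead (nat_lit 39) (BT.frm (nat_lit 0) (nat_lit 0) (nat_lit 3847) [nat_lit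 0] (BT.pln (nat_lit 0) (nat_lit 1) (BT.img (nat_lit 1) (nat_lit 0) (BT.and (nat_lit 1) (nat_lit 0) (BT.img (nat_lit 1) (nat_lit 0) (BT.and (nat_lit 0) (nat_lit 3) (BT.cnt (nat_lit 0)))))))) (BT.dead (nat_lit 18) (BT.frm (nat_lit 0) (nat_lit 0) (nat_lit 2830) [nat_lit 0] (BT.pln (nat_lit 0) (nat_lit 1) (BT.img (nat_lit 1) (nat_lit 0) (BT.and (nat_lit 1) (nat_lit 0) (BT.img (nat_lit 1) (nat_lit 0) (BT.and (nat_lit 0) (nat_lit 3) (BT.cnt (nat_lit 0)))))))) (BT.dead (nat_lit 3) (BT.frm (nat_lit 0) (nat_lit 0) (nat_lit 1821) [nat_lit 0] (BT.pln (nat_lit 0) (nat_lit 1) (BT.img (nat_lit 1) (nat_lit 0) (BT.and (nat_lit 1) (nat_lit 0) (BT.img (nat_lit 1) (nat_lit 0) (BT.and (nat_lit 0) (nat_lit 3) (BT.cnt (nat_lit 0)))))))) (BT.dead (nat_lit 19) (BT.frm (nat_lit 0) (nat_lit 0) (nat_lit 4913) [nat_lit 0] (BT.pln (nat_lit 0) (nat_lit 1) (BT.img (nat_lit 1) (nat_lit 2) (BT.img (nat_lit 1) (nat_lit 0) (BT.img (nat_lit 1) (nat_lit 0) (BT.and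 (nat_lit 3) (nat_lit 0) (BT.cnt (nat_lit 0)))))))) (BT.dead (nat_lit 4) (BT.frm (nat_lit 0) (nat_lit 0) (nat_lit 817) [nat_lit 0] (BT.pln (nat_lit 0) (nat_lit 1) (BT.img (nat_lit 1) (nat_lit 2) (BT.img (nat_lit 1) (nat_lit 0) (BT.img (nat_lit 1) (nat_lit 0) (BT.and (nat_lit 3) (nat_lit 0) (BT.cnt (nat_lit 0)))))))) (BT.dead (nat_lit 0) (BT.img (nat_lit 1) (nat_lit 0) (BT.frm (nat_lit 1) (nat_lit 10028) (nat_lit 6952) [nat_lit 0, nat_lit 1] (BT.pln (nat_lit 0) (nat_lit 2) (BT.img (nat_lit 1) (nat_lit 2) (BT.and (nat_lit 1) (nat_lit 0) (BT.cnt (nat_lit 0))))))) (BT.dead (nat_lit 52) (BT.frm (nat_lit 0) (nat_lit 0) (nat_lit 534) [nat_lit 0] (BT.pln (nat_lit 0) (nat_lit 1) (BT.img (nat_lit 1) (nat_lit 2) (BT.img (nat_lit 1) (nat_lit 0) (BT.and (nat_lit 2) (nat_lit 0) (BT.cnt (nat_lit 0))))))) (BT.dead (nat_lit 42) (BT.frm (nat_lit 0) (nat_lit 0) (nat_lit 259) [nat_lit 0] (BT.pln (nat_lit 0) (nat_lit 1) (BT.img (nat_lit 1) (nat_lit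 2) (BT.img (nat_lit 1) (nat_lit 0) (BT.and (nat_lit 2) (nat_lit 0) (BT.cnt (nat_lit 0))))))) (BT.dead (nat_lit 1) (BT.frm (nat_lit 0) (nat_lit 0) (nat_lit 782) [nat_lit 0] (BT.pln (nat_lit 0) (nat_lit 1) (BT.img (nat_lit 1) (nat_lit 2) (BT.img (nat_lit 1) (nat_lit 0) (BT.and (nat_lit 2) (nat_lit 0) (BT.cnt (nat_lit 0))))))) (BT.dead (nat_lit 46) (BT.frm (nat_lit 0) (nat_lit 0) (nat_lit 526) [nat_lit 0] (BT.pln (nat_lit 0) (nat_lit 1) (BT.img (nat_lit 1) (nat_lit 2) (BT.and (nat_lit 1) (nat_lit 0) (BT.cnt (nat_lit 0)))))) (BT.dead (nat_lit 8) (BT.frm (nat_lit 0) (nat_lit 0) (nat_lit 5682) [nat_lit 0] (BT.pln (nat_lit 0) (nat_lit 1) (BT.img (nat_lit 1) (nat_lit 2) (BT.and (nat_lit 1) (nat_lit 0) (BT.cnt (nat_lit 0)))))) BT.nil)))))))))))))))))))))))))))))))))))))))))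

theorem pt_nc13_12_cnt : Cnt 280 (grp 280 p_E0) [p_g162] [p_g157] 0 0 0 0 0 :=
  BT.sound pt_nc13_12_cnt_P Known.nil (t := pt_nc13_12_cnt_t) (d := 0) (by decide +kernel)

theorem pt_nc13_12 : ¬ CjIn (grp 280 p_E0) (Net.toPerm 280 p_g162) (Net.toPerm 280 p_g157) :=
  not_cjIn pt_nc13_12_cnt

noncomputable def pt_nc16_15_cnt_L : List ℕ := [1, 2, p_T58_s1_O, 0, 0, 2, 7, p_T58_s6_O, 0, 0, 3, 8, p_T58_s7_O, 0, 0]

theorem pt_nc16_15_cnt_P : Prob 280 9 (grp 280 p_E0) pt_nc16_15_cnt_EG [p_g176] [p_g168] pt_c15_K pt_nc16_15_cnt_L 0 0 :=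
  Sym.prob p_hn p_hk pt_c15_sym pt_nc16_15_cnt_EG_ok (grp_cons_le p_g11_p_T58 (grp_cons_le p_g1_p_T58 (grp_cons_le p_g2_p_T58 (grp_cons_le p_g3_p_T58 (grp_cons_le p_g4_p_T58 (grp_cons_le p_g5_p_T58 (grp_cons_le p_g6_p_T58 (grp_cons_le p_g7_p_T58 (grp_cons_le p_g8_p_T58 (grp_cons_le p_g9_p_T58 (grp_cons_le p_g10_p_T58 (grp_cons_le p_g20_p_T58 (grp_cons_le p_g14_p_T58 (grp_cons_le p_g15_p_T58 (grp_cons_le p_g16_p_T58 (grp_cons_le p_g17_p_T58 (grp_cons_le p_g28_p_T58 (grp_cons_le p_g23_p_T58 (grp_cons_le p_g24_p_T58 (grp_cons_le p_g25_p_T58 (grp_cons_le p_g37_p_T58 (grp_cons_le p_g38_p_T58 (grp_cons_le p_g34_p_T58 (grp_cons_le p_g31_p_T58 (grp_cons_le p_g32_p_T58 (grp_cons_le p_g33_p_T58 (grp_cons_le p_g41_p_T58 (grp_cons_le p_g42_p_T58 (grp_nil_le _))))))))))))))))))))))))))))) (Frames.cons p_T58_s1_F (Frames.cons p_T58_s6_F (Frames.cons p_T58_s7_F Frames.nil))) (okE_cons.2 ⟨p_g176_ok, okE_nil _⟩) _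

noncomputable def pt_nc16_15_cnt_t : BT := (BT.fix (nat_lit 1) (BT.frm (nat_lit 0) (nat_lit 4901) (nat_lit 4901) [nat_lit 0] (BT.pln (nat_lit 0) (nat_lit 1) (BT.br (nat_lit 0) (nat_lit 5) [nat_lit 1, nat_lit 3] (BT.dead (nat_lit 23) (BT.img (nat_lit 1) (nat_lit 0) (BT.frm (nat_lit 2) (nat_lit 0x28171e1325) (nat_lit 0x223617211325) [nat_lit 0, nat_lit 1, nat_lit 4] (BT.pln (nat_lit 0) (nat_lit 3) (BT.img (nat_lit 1) (nat_lit 2) (BT.and (nat_lit 1) (nat_lit 0) (BT.cnt (nat_lit 0))))))) (BT.dead (nat_lit 5) (BT.img (nat_lit 1) (nat_lit 0) (BT.frm (nat_lit 2) (nat_lit 0x28171e1325) (nat_lit 0x2231171e1325) [nat_lit 0, nat_lit 1, nat_lit 4] (BT.pln (nat_lit 0) (nat_lit 3) (BT.img (nat_lit 1) (nat_lit 2) (BT.and (nat_lit 1) (nat_lit 0) (BT.cnt (nat_lit 0))))))) (BT.dead (nat_lit 60) (BT.img (nat_lit 1) (nat_lit 0) (BT.frm (nat_lit 2) (nat_lit 0x28171e1325) (nat_lit 0x33181325) [nat_lit 0, nat_lit 1, nat_lit 4] (BT.pln (nat_lit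 0) (nat_lit 3) (BT.img (nat_lit 1) (nat_lit 2) (BT.and (nat_lit 1) (nat_lit 0) (BT.cnt (nat_lit 0))))))) (BT.dead (nat_lit 142) (BT.frm (nat_lit 1) (nat_lit 0x171e1325) (nat_lit 0x1d221325) [nat_lit 0, nat_lit 3] (BT.pln (nat_lit 0) (nat_lit 4) (BT.img (nat_lit 1) (nat_lit 2) (BT.and (nat_lit 1) (nat_lit 0) (BT.cnt (nat_lit 0)))))) (BT.dead (nat_lit 35) (BT.frm (nat_lit 1) (nat_lit 0x171e1325) (nat_lit 0x17291325) [nat_lit 0, nat_lit 3] (BT.pln (nat_lit 0) (nat_lit 4) (BT.img (nat_lit 1) (nat_lit 2) (BT.and (nat_lit 1) (nat_lit 0) (BT.cnt (nat_lit 0)))))) (BT.dead (nat_lit 10) (BT.frm (nat_lit 1) (nat_lit 0x171e1325) (nat_lit 0x172b1325) [nat_lit 0, nat_lit 3] (BT.pln (nat_lit 0) (nat_lit 4) (BT.img (nat_lit 1) (nat_lit 2) (BT.and (nat_lit 1) (nat_lit 0) (BT.cnt (nat_lit 0)))))) BT.nil))))))))))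

theorem pt_nc16_15_cnt : Cnt 280 (grp 280 p_E0) [p_g176] [p_g168] 0 0 0 0 0 :=
  BT.sound pt_nc16_15_cnt_P Known.nil (t := pt_nc16_15_cnt_t) (d := 0) (by decide +kernel)

theorem pt_nc16_15 : ¬ CjIn (grp 280 p_E0) (Net.toPerm 280 p_g176) (Net.toPerm 280 p_g168) :=
  not_cjIn pt_nc16_15_cnt

noncomputable def pt_nc17_15_cnt_L : List ℕ := [1, 2, p_T58_s1_O, 0, 0, 2, 7, p_T58_s6_O, 0, 0]

theorem pt_nc17_15_cnt_P : Prob 280 9 (grp 280 p_E0) pt_nc17_15_cnt_EG [p_g179] [p_g168] pt_c15_K pt_nc17_15_cnt_L 0 0 :=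
  Sym.prob p_hn p_hk pt_c15_sym pt_nc17_15_cnt_EG_ok (grp_cons_le p_g11_p_T58 (grp_cons_le p_g1_p_T58 (grp_cons_le p_g2_p_T58 (grp_cons_le p_g3_p_T58 (grp_cons_le p_g4_p_T58 (grp_cons_le p_g5_p_T58 (grp_cons_le p_g6_p_T58 (grp_cons_le p_g7_p_T58 (grp_cons_le p_g8_p_T58 (grp_cons_le p_g9_p_T58 (grp_cons_le p_g10_p_T58 (grp_cons_le p_g20_p_T58 (grp_cons_le p_g14_p_T58 (grp_cons_le p_g15_p_T58 (grp_cons_le p_g16_p_T58 (grp_cons_le p_g17_p_T58 (grp_cons_le p_g28_p_T58 (grp_cons_le p_g23_p_T58 (grp_cons_le p_g24_p_T58 (grp_cons_le p_g25_p_T58 (grp_cons_le p_g37_p_T58 (grp_cons_le p_g38_p_T58 (grp_cons_le p_g34_p_T58 (grp_cons_le p_g31_p_T58 (grp_cons_le p_g32_p_T58 (grp_cons_le p_g33_p_T58 (grp_cons_le p_g41_p_T58 (grp_cons_le p_g42_p_T58 (grp_nil_le _))))))))))))))))))))))))))))) (Frames.cons p_T58_s1_F (Frames.cons p_T58_s6_F Frames.nil)) (okE_cons.2 ⟨p_g179_ok, okE_nil _⟩) _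

noncomputable def pt_nc17_15_cnt_t : BT := (BT.fix (nat_lit 1) (BT.frm (nat_lit 0) (nat_lit 1816) (nat_lit 4901) [nat_lit 0] (BT.pln (nat_lit 0) (nat_lit 1) (BT.br (nat_lit 0) (nat_lit 33) [nat_lit 1, nat_lit 3] (BT.dead (nat_lit 23) (BT.frm (nat_lit 1) (nat_lit 0x181a0718) (nat_lit 0x17211325) [nat_lit 0, nat_lit 3] (BT.pln (nat_lit 0) (nat_lit 3) (BT.img (nat_lit 1) (nat_lit 0) (BT.and (nat_lit 1) (nat_lit 0) (BT.img (nat_lit 1) (nat_lit 0) (BT.pln (nat_lit 4) (nat_lit 2) (BT.and (nat_lit 1) (nat_lit 0) (BT.cnt (nat_lit 0))))))))) (BT.dead (nat_lit 5) (BT.frm (nat_lit 1) (nat_lit 0x181a0718) (nat_lit 0x171e1325) [nat_lit 0, nat_lit 3] (BT.pln (nat_lit 0) (nat_lit 3) (BT.img (nat_lit 1) (nat_lit 0) (BT.and (nat_lit 1) (nat_lit 0) (BT.img (nat_lit 1) (nat_lit 0) (BT.pln (nat_lit 4) (nat_lit 2) (BT.and (nat_lit 1) (nat_lit 0) (BT.cnt (nat_lit 0))))))))) (BT.dead (nat_lit 142) (BT.frm (nat_lit 1) (nat_lit 0x181a0718) (nat_lit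 0x1d221325) [nat_lit 0, nat_lit 3] (BT.pln (nat_lit 0) (nat_lit 4) (BT.img (nat_lit 1) (nat_lit 2) (BT.and (nat_lit 1) (nat_lit 0) (BT.cnt (nat_lit 0)))))) (BT.dead (nat_lit 35) (BT.frm (nat_lit 1) (nat_lit 0x181a0718) (nat_lit 0x17291325) [nat_lit 0, nat_lit 3] (BT.pln (nat_lit 0) (nat_lit 4) (BT.img (nat_lit 1) (nat_lit 2) (BT.and (nat_lit 1) (nat_lit 0) (BT.cnt (nat_lit 0)))))) (BT.dead (nat_lit 10) (BT.frm (nat_lit 1) (nat_lit 0x181a0718) (nat_lit 0x172b1325) [nat_lit 0, nat_lit 3] (BT.pln (nat_lit 0) (nat_lit 4) (BT.img (nat_lit 1) (nat_lit 2) (BT.and (nat_lit 1) (nat_lit 0) (BT.cnt (nat_lit 0)))))) (BT.dead (nat_lit 60) (BT.frm (nat_lit 1) (nat_lit 0x181a0718) (nat_lit 0x181325) [nat_lit 0, nat_lit 3] (BT.pln (nat_lit 0) (nat_lit 3) (BT.img (nat_lit 1) (nat_lit 0) (BT.and (nat_lit 1) (nat_lit 0) (BT.img (nat_lit 1) (nat_lit 0) (BT.pln (nat_lit 4) (nat_lit 2) (BT.and (nat_lit 1) (nat_lit 0) (BT.cnt (nat_lit 0)))))))))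 BT.nil))))))))))

theorem pt_nc17_15_cnt : Cnt 280 (grp 280 p_E0) [p_g179] [p_g168] 0 0 0 0 0 :=
  BT.sound pt_nc17_15_cnt_P Known.nil (t := pt_nc17_15_cnt_t) (d := 0) (by decide +kernel)

theorem pt_nc17_15 : ¬ CjIn (grp 280 p_E0) (Net.toPerm 280 p_g179) (Net.toPerm 280 p_g168) :=
  not_cjIn pt_nc17_15_cnt

noncomputable def pt_nc17_16_cnt_L : List ℕ := [1, 2, p_T58_s1_O, 0, 0, 2, 7, p_T58_s6_O, 0, 0]

theorem pt_nc17_16_cnt_P : Prob 280 9 (grp 280 p_E0) pt_nc17_16_cnt_EG [p_g179] [p_g176] pt_c16_K pt_nc17_16_cnt_L 0 0 :=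
  Sym.prob p_hn p_hk pt_c16_sym pt_nc17_16_cnt_EG_ok (grp_cons_le p_g11_p_T58 (grp_cons_le p_g1_p_T58 (grp_cons_le p_g2_p_T58 (grp_cons_le p_g3_p_T58 (grp_cons_le p_g4_p_T58 (grp_cons_le p_g5_p_T58 (grp_cons_le p_g6_p_T58 (grp_cons_le p_g7_p_T58 (grp_cons_le p_g8_p_T58 (grp_cons_le p_g9_p_T58 (grp_cons_le p_g10_p_T58 (grp_cons_le p_g20_p_T58 (grp_cons_le p_g14_p_T58 (grp_cons_le p_g15_p_T58 (grp_cons_le p_g16_p_T58 (grp_cons_le p_g17_p_T58 (grp_cons_le p_g28_p_T58 (grp_cons_le p_g23_p_T58 (grp_cons_le p_g24_p_T58 (grp_cons_le p_g25_p_T58 (grp_cons_le p_g37_p_T58 (grp_cons_le p_g38_p_T58 (grp_cons_le p_g34_p_T58 (grp_cons_le p_g31_p_T58 (grp_cons_le p_g32_p_T58 (grp_cons_le p_g33_p_T58 (grp_cons_le p_g41_p_T58 (grp_cons_le p_g42_p_T58 (grp_nil_le _))))))))))))))))))))))))))))) (Frames.cons p_T58_s1_F (Frames.cons p_T58_s6_F Frames.nil)) (okE_cons.2 ⟨p_g179_ok, okE_nil _⟩) _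

noncomputable def pt_nc17_16_cnt_t : BT := (BT.fix (nat_lit 1) (BT.frm (nat_lit 0) (nat_lit 1816) (nat_lit 4901) [nat_lit 0] (BT.pln (nat_lit 0) (nat_lit 1) (BT.br (nat_lit 0) (nat_lit 33) [nat_lit 1, nat_lit 3] (BT.dead (nat_lit 23) (BT.frm (nat_lit 1) (nat_lit 0x181a0718) (nat_lit 0x17211325) [nat_lit 0, nat_lit 3] (BT.pln (nat_lit 0) (nat_lit 3) (BT.img (nat_lit 1) (nat_lit 0) (BT.and (nat_lit 1) (nat_lit 0) (BT.img (nat_lit 1) (nat_lit 0) (BT.pln (nat_lit 4) (nat_lit 2) (BT.and (nat_lit 1) (nat_lit 0) (BT.cnt (nat_lit 0))))))))) (BT.dead (nat_lit 5) (BT.frm (nat_lit 1) (nat_lit 0x181a0718) (nat_lit 0x171e1325) [nat_lit 0, nat_lit 3] (BT.pln (nat_lit 0) (nat_lit 3) (BT.img (nat_lit 1) (nat_lit 0) (BT.and (nat_lit 1) (nat_lit 0) (BT.img (nat_lit 1) (nat_lit 0) (BT.pln (nat_lit 4) (nat_lit 2) (BT.and (nat_lit 1) (nat_lit 0) (BT.cnt (nat_lit 0))))))))) (BT.dead (nat_lit 142) (BT.frm (nat_lit 1) (nat_lit 0x181a0718) (nat_lit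 0x1d221325) [nat_lit 0, nat_lit 3] (BT.pln (nat_lit 0) (nat_lit 4) (BT.img (nat_lit 1) (nat_lit 2) (BT.and (nat_lit 1) (nat_lit 0) (BT.cnt (nat_lit 0)))))) (BT.dead (nat_lit 35) (BT.frm (nat_lit 1) (nat_lit 0x181a0718) (nat_lit 0x17291325) [nat_lit 0, nat_lit 3] (BT.pln (nat_lit 0) (nat_lit 4) (BT.img (nat_lit 1) (nat_lit 2) (BT.and (nat_lit 1) (nat_lit 0) (BT.cnt (nat_lit 0)))))) (BT.dead (nat_lit 10) (BT.frm (nat_lit 1) (nat_lit 0x181a0718) (nat_lit 0x172b1325) [nat_lit 0, nat_lit 3] (BT.pln (nat_lit 0) (nat_lit 4) (BT.img (nat_lit 1) (nat_lit 2) (BT.and (nat_lit 1) (nat_lit 0) (BT.cnt (nat_lit 0)))))) (BT.dead (nat_lit 60) (BT.frm (nat_lit 1) (nat_lit 0x181a0718) (nat_lit 0x181325) [nat_lit 0, nat_lit 3] (BT.pln (nat_lit 0) (nat_lit 3) (BT.img (nat_lit 1) (nat_lit 0) (BT.and (nat_lit 1) (nat_lit 0) (BT.img (nat_lit 1) (nat_lit 0) (BT.pln (nat_lit 4) (nat_lit 2) (BT.and (nat_lit 1) (nat_lit 0) (BT.cnt (nat_lit 0)))))))))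 BT.nil))))))))))

theorem pt_nc17_16_cnt : Cnt 280 (grp 280 p_E0) [p_g179] [p_g176] 0 0 0 0 0 :=
  BT.sound pt_nc17_16_cnt_P Known.nil (t := pt_nc17_16_cnt_t) (d := 0) (by decide +kernel)

theorem pt_nc17_16 : ¬ CjIn (grp 280 p_E0) (Net.toPerm 280 p_g179) (Net.toPerm 280 p_g176) :=
  not_cjIn pt_nc17_16_cnt

noncomputable def pt_nc18_15_cnt_L : List ℕ := [1, 2, p_T58_s1_O, 0, 0, 2, 7, p_T58_s6_O, 0, 0]

theorem pt_nc18_15_cnt_P : Prob 280 9 (grp 280 p_E0) pt_nc18_15_cnt_EG [p_g183] [p_g168] pt_c15_K pt_nc18_15_cnt_L 0 0 :=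
  Sym.prob p_hn p_hk pt_c15_sym pt_nc18_15_cnt_EG_ok (grp_cons_le p_g11_p_T58 (grp_cons_le p_g1_p_T58 (grp_cons_le p_g2_p_T58 (grp_cons_le p_g3_p_T58 (grp_cons_le p_g4_p_T58 (grp_cons_le p_g5_p_T58 (grp_cons_le p_g6_p_T58 (grp_cons_le p_g7_p_T58 (grp_cons_le p_g8_p_T58 (grp_cons_le p_g9_p_T58 (grp_cons_le p_g10_p_T58 (grp_cons_le p_g20_p_T58 (grp_cons_le p_g14_p_T58 (grp_cons_le p_g15_p_T58 (grp_cons_le p_g16_p_T58 (grp_cons_le p_g17_p_T58 (grp_cons_le p_g28_p_T58 (grp_cons_le p_g23_p_T58 (grp_cons_le p_g24_p_T58 (grp_cons_le p_g25_p_T58 (grp_cons_le p_g37_p_T58 (grp_cons_le p_g38_p_T58 (grp_cons_le p_g34_p_T58 (grp_cons_le p_g31_p_T58 (grp_cons_le p_g32_p_T58 (grp_cons_le p_g33_p_T58 (grp_cons_le p_g41_p_T58 (grp_cons_le p_g42_p_T58 (grp_nil_le _))))))))))))))))))))))))))))) (Frames.cons p_T58_s1_F (Frames.cons p_T58_s6_F Frames.nil)) (okE_cons.2 ⟨p_g183_ok, okE_nil _⟩) _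

noncomputable def pt_nc18_15_cnt_t : BT := (BT.fix (nat_lit 1) (BT.frm (nat_lit 0) (nat_lit 1816) (nat_lit 4901) [nat_lit 0] (BT.pln (nat_lit 0) (nat_lit 1) (BT.br (nat_lit 0) (nat_lit 33) [nat_lit 1, nat_lit 3] (BT.dead (nat_lit 23) (BT.frm (nat_lit 1) (nat_lit 0x181a0718) (nat_lit 0x17211325) [nat_lit 0, nat_lit 3] (BT.pln (nat_lit 0) (nat_lit 3) (BT.img (nat_lit 1) (nat_lit 0) (BT.pln (nat_lit 2) (nat_lit 2) (BT.and (nat_lit 1) (nat_lit 0) (BT.img (nat_lit 1) (nat_lit 0) (BT.and (nat_lit 0) (nat_lit 2) (BT.cnt (nat_lit 0))))))))) (BT.dead (nat_lit 5) (BT.frm (nat_lit 1) (nat_lit 0x181a0718) (nat_lit 0x171e1325) [nat_lit 0, nat_lit 3] (BT.pln (nat_lit 0) (nat_lit 3) (BT.img (nat_lit 1) (nat_lit 0) (BT.pln (nat_lit 2) (nat_lit 2) (BT.and (nat_lit 1) (nat_lit 0) (BT.img (nat_lit 1) (nat_lit 0) (BT.and (nat_lit 0) (nat_lit 2) (BT.cnt (nat_lit 0))))))))) (BT.dead (nat_lit 142) (BT.frm (nat_lit 1) (nat_lit 0x181a0718) (nat_lit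 0x1d221325) [nat_lit 0, nat_lit 3] (BT.pln (nat_lit 0) (nat_lit 4) (BT.img (nat_lit 1) (nat_lit 2) (BT.and (nat_lit 1) (nat_lit 0) (BT.cnt (nat_lit 0)))))) (BT.dead (nat_lit 35) (BT.frm (nat_lit 1) (nat_lit 0x181a0718) (nat_lit 0x17291325) [nat_lit 0, nat_lit 3] (BT.pln (nat_lit 0) (nat_lit 4) (BT.img (nat_lit 1) (nat_lit 2) (BT.and (nat_lit 1) (nat_lit 0) (BT.cnt (nat_lit 0)))))) (BT.dead (nat_lit 10) (BT.frm (nat_lit 1) (nat_lit 0x181a0718) (nat_lit 0x172b1325) [nat_lit 0, nat_lit 3] (BT.pln (nat_lit 0) (nat_lit 4) (BT.img (nat_lit 1) (nat_lit 2) (BT.and (nat_lit 1) (nat_lit 0) (BT.cnt (nat_lit 0)))))) (BT.dead (nat_lit 60) (BT.frm (nat_lit 1) (nat_lit 0x181a0718) (nat_lit 0x181325) [nat_lit 0, nat_lit 3] (BT.pln (nat_lit 0) (nat_lit 3) (BT.img (nat_lit 1) (nat_lit 0) (BT.pln (nat_lit 2) (nat_lit 2) (BT.and (nat_lit 1) (nat_lit 0) (BT.img (nat_lit 1) (nat_lit 0) (BT.and (nat_lit 0) (nat_lit 2) (BT.cnt (nat_lit 0)))))))))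 BT.nil))))))))))

theorem pt_nc18_15_cnt : Cnt 280 (grp 280 p_E0) [p_g183] [p_g168] 0 0 0 0 0 :=
  BT.sound pt_nc18_15_cnt_P Known.nil (t := pt_nc18_15_cnt_t) (d := 0) (by decide +kernel)

theorem pt_nc18_15 : ¬ CjIn (grp 280 p_E0) (Net.toPerm 280 p_g183) (Net.toPerm 280 p_g168) :=
  not_cjIn pt_nc18_15_cnt

noncomputable def pt_nc18_16_cnt_L : List ℕ := [1, 2, p_T58_s1_O, 0, 0, 2, 7, p_T58_s6_O, 0, 0]

theorem pt_nc18_16_cnt_P : Prob 280 9 (grp 280 p_E0) pt_nc18_16_cnt_EG [p_g183] [p_g176] pt_c16_K pt_nc18_16_cnt_L 0 0 :=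
  Sym.prob p_hn p_hk pt_c16_sym pt_nc18_16_cnt_EG_ok (grp_cons_le p_g11_p_T58 (grp_cons_le p_g1_p_T58 (grp_cons_le p_g2_p_T58 (grp_cons_le p_g3_p_T58 (grp_cons_le p_g4_p_T58 (grp_cons_le p_g5_p_T58 (grp_cons_le p_g6_p_T58 (grp_cons_le p_g7_p_T58 (grp_cons_le p_g8_p_T58 (grp_cons_le p_g9_p_T58 (grp_cons_le p_g10_p_T58 (grp_cons_le p_g20_p_T58 (grp_cons_le p_g14_p_T58 (grp_cons_le p_g15_p_T58 (grp_cons_le p_g16_p_T58 (grp_cons_le p_g17_p_T58 (grp_cons_le p_g28_p_T58 (grp_cons_le p_g23_p_T58 (grp_cons_le p_g24_p_T58 (grp_cons_le p_g25_p_T58 (grp_cons_le p_g37_p_T58 (grp_cons_le p_g38_p_T58 (grp_cons_le p_g34_p_T58 (grp_cons_le p_g31_p_T58 (grp_cons_le p_g32_p_T58 (grp_cons_le p_g33_p_T58 (grp_cons_le p_g41_p_T58 (grp_cons_le p_g42_p_T58 (grp_nil_le _))))))))))))))))))))))))))))) (Frames.cons p_T58_s1_F (Frames.cons p_T58_s6_F Frames.nil)) (okE_cons.2 ⟨p_g183_ok, okE_nil _⟩) _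

noncomputable def pt_nc18_16_cnt_t : BT := (BT.fix (nat_lit 1) (BT.frm (nat_lit 0) (nat_lit 1816) (nat_lit 4901) [nat_lit 0] (BT.pln (nat_lit 0) (nat_lit 1) (BT.br (nat_lit 0) (nat_lit 33) [nat_lit 1, nat_lit 3] (BT.dead (nat_lit 23) (BT.frm (nat_lit 1) (nat_lit 0x181a0718) (nat_lit 0x17211325) [nat_lit 0, nat_lit 3] (BT.pln (nat_lit 0) (nat_lit 3) (BT.img (nat_lit 1) (nat_lit 0) (BT.pln (nat_lit 2) (nat_lit 2) (BT.and (nat_lit 1) (nat_lit 0) (BT.img (nat_lit 1) (nat_lit 0) (BT.and (nat_lit 0) (nat_lit 2) (BT.cnt (nat_lit 0))))))))) (BT.dead (nat_lit 5) (BT.frm (nat_lit 1) (nat_lit 0x181a0718) (nat_lit 0x171e1325) [nat_lit 0, nat_lit 3] (BT.pln (nat_lit 0) (nat_lit 3) (BT.img (nat_lit 1) (nat_lit 0) (BT.pln (nat_lit 2) (nat_lit 2) (BT.and (nat_lit 1) (nat_lit 0) (BT.img (nat_lit 1) (nat_lit 0) (BT.and (nat_lit 0) (nat_lit 2) (BT.cnt (nat_lit 0))))))))) (BT.dead (nat_lit 142) (BT.frm (nat_lit 1) (nat_lit 0x181a0718) (nat_lit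 0x1d221325) [nat_lit 0, nat_lit 3] (BT.pln (nat_lit 0) (nat_lit 4) (BT.img (nat_lit 1) (nat_lit 2) (BT.and (nat_lit 1) (nat_lit 0) (BT.cnt (nat_lit 0)))))) (BT.dead (nat_lit 35) (BT.frm (nat_lit 1) (nat_lit 0x181a0718) (nat_lit 0x17291325) [nat_lit 0, nat_lit 3] (BT.pln (nat_lit 0) (nat_lit 4) (BT.img (nat_lit 1) (nat_lit 2) (BT.and (nat_lit 1) (nat_lit 0) (BT.cnt (nat_lit 0)))))) (BT.dead (nat_lit 10) (BT.frm (nat_lit 1) (nat_lit 0x181a0718) (nat_lit 0x172b1325) [nat_lit 0, nat_lit 3] (BT.pln (nat_lit 0) (nat_lit 4) (BT.img (nat_lit 1) (nat_lit 2) (BT.and (nat_lit 1) (nat_lit 0) (BT.cnt (nat_lit 0)))))) (BT.dead (nat_lit 60) (BT.frm (nat_lit 1) (nat_lit 0x181a0718) (nat_lit 0x181325) [nat_lit 0, nat_lit 3] (BT.pln (nat_lit 0) (nat_lit 3) (BT.img (nat_lit 1) (nat_lit 0) (BT.pln (nat_lit 2) (nat_lit 2) (BT.and (nat_lit 1) (nat_lit 0) (BT.img (nat_lit 1) (nat_lit 0) (BT.and (nat_lit 0) (nat_lit 2) (BT.cnt (nat_lit 0)))))))))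 BT.nil))))))))))

theorem pt_nc18_16_cnt : Cnt 280 (grp 280 p_E0) [p_g183] [p_g176] 0 0 0 0 0 :=
  BT.sound pt_nc18_16_cnt_P Known.nil (t := pt_nc18_16_cnt_t) (d := 0) (by decide +kernel)

theorem pt_nc18_16 : ¬ CjIn (grp 280 p_E0) (Net.toPerm 280 p_g183) (Net.toPerm 280 p_g176) :=
  not_cjIn pt_nc18_16_cnt

noncomputable def pt_nc18_17_cnt_L : List ℕ := [1, 2, p_T58_s1_O, 0, 0, 2, 7, p_T58_s6_O, 0, 0, 3, 8, p_T58_s7_O, 0, 0]

theorem pt_nc18_17_cnt_P : Prob 280 9 (grp 280 p_E0) pt_nc18_17_cnt_EG [p_g183] [p_g179] pt_c17_K pt_nc18_17_cnt_L 0 0 :=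
  Sym.prob p_hn p_hk pt_c17_sym pt_nc18_17_cnt_EG_ok (grp_cons_le p_g11_p_T58 (grp_cons_le p_g1_p_T58 (grp_cons_le p_g2_p_T58 (grp_cons_le p_g3_p_T58 (grp_cons_le p_g4_p_T58 (grp_cons_le p_g5_p_T58 (grp_cons_le p_g6_p_T58 (grp_cons_le p_g7_p_T58 (grp_cons_le p_g8_p_T58 (grp_cons_le p_g9_p_T58 (grp_cons_le p_g10_p_T58 (grp_cons_le p_g20_p_T58 (grp_cons_le p_g14_p_T58 (grp_cons_le p_g15_p_T58 (grp_cons_le p_g16_p_T58 (grp_cons_le p_g17_p_T58 (grp_cons_le p_g28_p_T58 (grp_cons_le p_g23_p_T58 (grp_cons_le p_g24_p_T58 (grp_cons_le p_g25_p_T58 (grp_cons_le p_g37_p_T58 (grp_cons_le p_g38_p_T58 (grp_cons_le p_g34_p_T58 (grp_cons_le p_g31_p_T58 (grp_cons_le p_g32_p_T58 (grp_cons_le p_g33_p_T58 (grp_cons_le p_g41_p_T58 (grp_cons_le p_g42_p_T58 (grp_nil_le _))))))))))))))))))))))))))))) (Frames.cons p_T58_s1_F (Frames.cons p_T58_s6_F (Frames.cons p_T58_s7_F Frames.nil))) (okE_cons.2 ⟨p_g183_ok, okE_nil _⟩) _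

noncomputable def pt_nc18_17_cnt_t : BT := (BT.fix (nat_lit 1) (BT.frm (nat_lit 0) (nat_lit 1816) (nat_lit 1816) [nat_lit 0] (BT.pln (nat_lit 0) (nat_lit 1) (BT.br (nat_lit 0) (nat_lit 33) [nat_lit 1, nat_lit 3] (BT.dead (nat_lit 52) (BT.img (nat_lit 1) (nat_lit 0) (BT.frm (nat_lit 2) (nat_lit 0x2c181a0718) (nat_lit 0x212817340718) [nat_lit 0, nat_lit 1, nat_lit 4] (BT.pln (nat_lit 0) (nat_lit 3) (BT.img (nat_lit 1) (nat_lit 2) (BT.and (nat_lit 1) (nat_lit 0) (BT.cnt (nat_lit 0))))))) (BT.dead (nat_lit 36) (BT.img (nat_lit 1) (nat_lit 0) (BT.frm (nat_lit 2) (nat_lit 0x2c181a0718) (nat_lit 0x2817280718) [nat_lit 0, nat_lit 1, nat_lit 4] (BT.pln (nat_lit 0) (nat_lit 3) (BT.img (nat_lit 1) (nat_lit 2) (BT.and (nat_lit 1) (nat_lit 0) (BT.cnt (nat_lit 0))))))) (BT.dead (nat_lit 33) (BT.img (nat_lit 1) (nat_lit 0) (BT.frm (nat_lit 2) (nat_lit 0x2c181a0718) (nat_lit 0x26181a0718) [nat_lit 0, nat_lit 1, nat_lit 4] (BT.pln (nat_lit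 0) (nat_lit 3) (BT.img (nat_lit 1) (nat_lit 2) (BT.and (nat_lit 1) (nat_lit 0) (BT.cnt (nat_lit 0))))))) (BT.dead (nat_lit 85) (BT.frm (nat_lit 1) (nat_lit 0x181a0718) (nat_lit 0x191b0718) [nat_lit 0, nat_lit 3] (BT.pln (nat_lit 0) (nat_lit 4) (BT.img (nat_lit 1) (nat_lit 2) (BT.and (nat_lit 1) (nat_lit 0) (BT.cnt (nat_lit 0)))))) (BT.dead (nat_lit 43) (BT.frm (nat_lit 1) (nat_lit 0x181a0718) (nat_lit 0x201e0718) [nat_lit 0, nat_lit 3] (BT.pln (nat_lit 0) (nat_lit 4) (BT.img (nat_lit 1) (nat_lit 2) (BT.and (nat_lit 1) (nat_lit 0) (BT.cnt (nat_lit 0)))))) (BT.dead (nat_lit 66) (BT.frm (nat_lit 1) (nat_lit 0x181a0718) (nat_lit 1816) [nat_lit 0, nat_lit 3] (BT.pln (nat_lit 0) (nat_lit 4) (BT.img (nat_lit 1) (nat_lit 2) (BT.and (nat_lit 1) (nat_lit 0) (BT.cnt (nat_lit 0)))))) BT.nil))))))))))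

theorem pt_nc18_17_cnt : Cnt 280 (grp 280 p_E0) [p_g183] [p_g179] 0 0 0 0 0 :=
  BT.sound pt_nc18_17_cnt_P Known.nil (t := pt_nc18_17_cnt_t) (d := 0) (by decide +kernel)

theorem pt_nc18_17 : ¬ CjIn (grp 280 p_E0) (Net.toPerm 280 p_g183) (Net.toPerm 280 p_g179) :=
  not_cjIn pt_nc18_17_cnt

theorem pt_exc : Exc 280 (grp 280 p_E0) pt_xs [18017, 18016, 18015, 17016, 17015, 16015, 13012, 11010, 4003] :=
  (Exc.cons 18 17 (by decide) pt_nc18_17 (Exc.cons 18 16 (by decide) pt_nc18_16 (Exc.cons 18 15 (by decide) pt_nc18_15 (Exc.cons 17 16 (by decide) pt_nc17_16 (Exc.cons 17 15 (by decide) pt_nc17_15 (Exc.cons 16 15 (by decide) pt_nc16_15 (Exc.cons 13 12 (by decide) pt_nc13_12 (Exc.cons 11 10 (by decide) pt_nc11_10 (Exc.cons 4 3 (by decide) pt_nc4_3 Exc.nil)))))))))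

theorem pt : Table 280 (grp 280 p_E0) pt_xs pt_cs pt_os :=
  Reps.table (D := 1) p_hn p_hk pt_reps pt_exc p_card0 (by decide +kernel)

noncomputable def p_vec : ℕ := (nat_lit 0x6881388128811881678137812781178186817681568146816581358125811581648134812481148183817381538143818281728152814281818171815181418100816871387128711871677137712771177186717671567146716571357125711571647134712471147183717371537143718271727152714271817171715171417100718861786158614861876177615761476106618561756155614561846174615461446103610261016160613061206110616851385128511851675137512751175186517651565146516551355125511551645134512451145183517351535143518251725152514251815171515151415100516841384128411841674137412741174186417641564146416541354125411541644134412441144183417341534143418241724152414241814171415141414100418831783158314831873177315731473106318531753155314531843174315431443103310231013160313031203110318821782158214821872177215721472106218521752155214521842174215421442103210221012160213021202110218811781158114811871177115711471106118511751155114511841174115411441103110211011160113011201110110801070166013601260116010501040163013301230113016201320122011201610131012101110180017001500140010810071066103610261016100510041063103310231013106210321022101210611031102110111080107010501040108100710051004100)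

noncomputable def p_inv : ℕ := (Nat.lor (Nat.lor (nat_lit 0x450000000000000000000000000000000000000000000000000000000000000000000000000000000000000000000000000000000000000000000000000000000000000000000000000000000000000000000000000000000000000000000000000000000000000000000000000000000000000000000000000000440000000000000000a40000000000000000000000000000000000000000000000000000000000000000000000000000000000000000000000000000000000000000000000000000000000000000000000000000000000000000001a00000000000000004a00000000000000000000000000000000000000000000000000000000000000000000000000000000000000000000000000000000000000000000000000000000000000000000000000000000000000000009000000000000000021000000000000000000000000000000000000000000000000000000000017e00000000000000000000000000000000000000000000000000000000001940000000000000000009a0000000000000000003500000000000000000000000000000000000000450000000000000000001e6000000000000000000000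000000000000000005d00000000000000000026400000000000000000000000000000000000000000000000000000000000000000000000000000000000000000000000000220000000000000000000ef000000000000000000000000000000000000002d80000000000000000012a0000000000000000000000000000000000000000000000000000000000000000000000000000000000000000000000000000000000000000000000000000000000000000000000000000000000000000000000000000000000000000000000000000000000000000000000000000000000000000000000000001600000000000000002e0000000000000000008400000000000000000039c00000000000000000000000000000000000000ae00000000000000000046800000000000000000000000000000000000000000000000000000000000000000000000000000000000000000000000000410000000000000000001c6000000000000000000000000000000000000005500000000000000000022400000000000000000000000000000000000000000000000000000000000000000000000000000000000000000000000000000000000000000000000000000000000000000000000000000000000000000000000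0000000000000000000000000000000000000000000000000000000000000000000000000000200000000000000000500000000000000000000000000000000000000000000000000000000000000000000000000000000000000000000000000000000000000000000000000000000000000000000000000000000000000000000c0000000000000000240000000000000000000000000000000000000000000000000000000000000000000000000000000000000000000000000000000000000000000000000000000000000000000000000000000000000000000400000000000000001000000000000000000000000000000000000000000000000000000000000be00000000000000000000000000000000000000000000000000000000000c80000000000000000004c0000000000000000001a00000000000000000000000000000000000000000000000000000000000000000000000000000000000000000000000000000000000000000000000000000000000000000000000000000000000000000000000000000000000000036000000000000000066000000000000000000000000000000000000000000000000000000000000000000000000000000000000000000000000000000000000000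0000000000000000000000000000000000000000000000000001a000000000000000032000000000000000000000000000000000000000000000000000000000019a00000000000000000000000000000000000000000000000000000000001cc000000000000000000b600000000000000000043000000000000000000000000000000000000000000000000000000000000000000000000000000000000000000000000000000000000000000000000000000000000000000000000000000000000000000000000000000000000000540000000000000000b40000000000000000000000000000000000000000000000000000000000000000000000000000000000000000000000000000000000000000000000000000000000000000000000000000000000000000002800000000000000005800000000000000000000000000000000000000000000000000000000003100000000000000000000000000000000000000000000000000000000000350000000000000000001480000000000000000007400000000000000000000000000000000000000000000000000000000000000000000000000000018600000000000000000000000000000000000000000000000000000000001a4000000000000000000a2000000000000000000390000000000000000000000000000000000000000000000000000000000000000000000000000000c200000000000000000000000000000000000000000000000000000000000d0000000000000000000500000000000000000001c000000000000000000000000000000000000001ee000000000000000000d600000000000000000000000000000000000000274000000000000000000f800000000000000000000000000000000000000000000000000000000000000000000000000000000000)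 (Nat.shiftLeft (nat_lit 0x6900000000000000000000000000000000000000000000000000000000000780000000000000000003000000000000000000012000000000000000000000000000000000000000000000000000000000000000000000000000000033800000000000000000000000000000000000000000000000000000000003a0000000000000000001700000000000000000008800000000000000000000000000000000000000860000000000000000003ac00000000000000000000000000000000000000b20000000000000000004880000000000000000000000000000000000000000000000000000000000000000000000000000000000000000000000000000000000000000000000000000000000000000000c900000000000000000000000000000000000000000000000000000000000de000000000000000000570000000000000000001f800000000000000000000000000000000000000000000000000000000000000000000000000000062800000000000000000000000000000000000000000000000000000000006b000000000000000000298000000000000000000ec00000000000000000000000000000000000001000000000000000000006f8000000000000000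000000000000000000000014c000000000000000000850000000000000000000000000000000000000000000000000000000000000000000000000000000000000000000000000007e00000000000000000036c00000000000000000000000000000000000000a2000000000000000000408000000000000000000000000000000000000000000000000000000000000000000000000000000000000000000000000003e0000000000000000001ae000000000000000000000000000000000000004f0000000000000000001f400000000000000000000000000000000000000000000000000000000000000000000000000000000000000000000000000000000000000000000000000000000000000000000000000000000000000000000000000000000000000000000000000000000000000000000000000000000000000000000000000008000000000000000038000000000000000001160000000000000000007a800000000000000000000000000000000000001780000000000000000009b000000000000000000000000000000000000000000000000000000000000000000000000000000000000000000000000000890000000000000000003c400000000000000000000000000000000000000b8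0000000000000000004b8000000000000000000000000000000000000000000000000000000000000000000000000000000000000000000000000000000000000000000000000000000000000000000000000000000000000000000000000000000000000000000000000000000000000000000000000000000000000000000000000000600000000000000000c000000000000000000214000000000000000000e9000000000000000000000000000000000000002c00000000000000000011e0000000000000000000000000000000000000000000000000000000000000000000000000000000000000000000000000010600000000000000000072800000000000000000000000000000000000001580000000000000000008b000000000000000000000000000000000000000000000000000000000000000000000000000000000000000000000000000000000000000000000000000000000000000000000000000000000000000000000000000000000000000000000000000000000000000000000000000000000000000000000000000090000000000000000150000000000000000000000000000000000000000000000000000000000000000000000000000000000000000000000000000000000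000000000000000000000000000000000000000000000000000000000380000000000000000980000000000000000000000000000000000000000000000000000000000000000000000000000000000000000000000000000000000000000000000000000000000000000000000000000000000000000001400000000000000004400000000000000000000000000000000000000000000000000000000003000000000000000000000000000000000000000000000000000000000000330000000000000000001380000000000000000006c000000000000000000000000000000000000008a8000000000000000003d000000000000000000000000000000000000000bb0000000000000000004d000000000000000000000000000000000000000000000000000000000000000000000000000000000000000000000000000444000000000000000001e0000000000000000000000000000000000000005b8000000000000000002580000000000000000000000000000000000000000000000000000000000000000000000000000000000000000000000000000000000000000000000000000000000000000000000000000000000000000000000000000000000000000000000000000000000000000000000000000000000000000000000000002e00000000000000005e00000000000000000109000000000000000000740000000000000000000000000000000000000015e0000000000000000008e0000000000000000000000000000000000000000000000000000000000000000000000000000000000000000000000000008280000000000000000039000000000000000000000000000000000000000ab00000000000000000)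 (nat_lit 16384))) (Nat.shiftLeft (Nat.lor (nat_lit 0x368000000000000000001540000000000000000007a000000000000000000000000000000000000008100000000000000000038400000000000000000000000000000000000000a8000000000000000000438000000000000000000000000000000000000000000000000000000000000000000000000000000000000000000000000003f8000000000000000001ba000000000000000000000000000000000000005200000000000000000020c000000000000000000000000000000000000000000000000000000000000000000000000000000000000000000000000001f4000000000000000000d900000000000000000000000000000000000000280000000000000000000fe0000000000000000000000000000000000000000000000000000000000000000000000000000000000200000000000000000000000000000000000000000000000000000000000000000000000000000000000000000000000000000000000000000000000000000000000000000000000000000000000000000600000000000000001e0000000000000000008b8000000000000000003d800000000000000000000000000000000000000bd000000000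0000000004e00000000000000000000000000000000000000000000000000000000000000000000000000000000000000000000000000044c000000000000000001e4000000000000000000000000000000000000005c800000000000000000260000000000000000000000000000000000000000000000000000000000000000000000000000000000000000000000000000000000000000000000000000000000000000000000000000000000000000000000000000000000000000000000000000000000000000000000000000000000000000000000000000320000000000000000620000000000000000010b0000000000000000007500000000000000000000000000000000000000162000000000000000000900000000000000000000000000000000000000000000000000000000000000000000000000000000000000000000000000008380000000000000000039800000000000000000000000000000000000000ad000000000000000000460000000000000000000000000000000000000000000000000000000000000000000000000000000000000000000000000000000000000000000000000000000000000000000000000000000000000000000000000000000000000000000000000000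0000000000000000000000000000000000000000000000004c0000000000000000ac0000000000000000000000000000000000000000000000000000000000000000000000000000000000000000000000000000000000000000000000000000000000000000000000000000000000000000001e00000000000000004e0000000000000000000000000000000000000000000000000000000000000000000000000000000000000000000000000000000000000000000000000000000000000000000000000000000000000000000b0000000000000000230000000000000000000000000000000000000000000000000000000000182000000000000000000000000000000000000000000000000000000000019c0000000000000000009e000000000000000000370000000000000000000000000000000000000000000000000000000000000000000000000000000d300000000000000000000000000000000000000000000000000000000000f200000000000000000061000000000000000000248000000000000000000000000000000000000000000000000000000000000000000000000000000678000000000000000000000000000000000000000000000000000000000075000000000000000000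2e800000000000000000114000000000000000000000000000000000000010d000000000000000000760000000000000000000000000000000000000016600000000000000000092000000000000000000000000000000000000000000000000000000000000000000000000000000000000000000000000000000000000000000000000000000000000000000019400000000000000000000000000000000000000000000000000000000001c0000000000000000000b0000000000000000000400000000000000000000000000000000000000000000000000000000000000000000000000000000c600000000000000000000000000000000000000000000000000000000000d8000000000000000000540000000000000000001e00000000000000000000000000000000000000202000000000000000000e00000000000000000000000000000000000000029c0000000000000000010c000000000000000000000000000000000000000000000000000000000000000000000000000000000000000000000000000fd0000000000000000006e00000000000000000000000000000000000000146000000000000000000820000000000000000000000000000000000000000000000000000000000000000000000000000000000000000000000000007c800000000000000000360000000000000000000000000000000000000009f0000000000000000003f00000000000000000000000000000000000000000000000000000000000000000000000000000000000400000000000000000000000000000000000000000000000000000000000000000000000000000000000000000000000000000000000000000000000000000000000000000000000000000000000000001400000000000000007400000000000)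 (Nat.shiftLeft (nat_lit 0x6a800000000000000000000000000000000000000000000000000000000007b0000000000000000003180000000000000000012c00000000000000000000000000000000000000000000000000000000000000000000000000000034400000000000000000000000000000000000000000000000000000000003b80000000000000000017c0000000000000000008e00000000000000000000000000000000000000878000000000000000003b800000000000000000000000000000000000000b50000000000000000004a00000000000000000000000000000000000000000000000000000000000000000000000000000000000000000000000000000000000000000000000000000000000000000000cc00000000000000000000000000000000000000000000000000000000000e40000000000000000005a00000000000000000021000000000000000000000000000000000000000000000000000000000000000000000000000000064000000000000000000000000000000000000000000000000000000000006e0000000000000000002b0000000000000000000f80000000000000000000000000000000000000103000000000000000000710000000000000000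0000000000000000000000152000000000000000000880000000000000000000000000000000000000000000000000000000000000000000000000000000000000000000000000007f80000000000000000037800000000000000000000000000000000000000a5000000000000000000420000000000000000000000000000000000000000000000000000000000000000000000000000000000000000000000000003ec000000000000000001b400000000000000000000000000000000000000508000000000000000002000000000000000000000000000000000000000000000000000000000000000000000000000000000000600000000000000000000000000000000000000000000000000000000000000000000000000000000000000000000000000000000000000000000000000000000000000000000000000000000000000000e00000000000000003e000000000000000000000000000000000000000000000000000000000035000000000000000000000000000000000000000000000000000000000003d000000000000000000188000000000000000000940000000000000000000000000000000000000000000000000000000000000000000000000000001a000000000000000000000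000000000000000000000000000000000000001d8000000000000000000bc0000000000000000004600000000000000000000000000000000000000438000000000000000001da000000000000000000000000000000000000005a00000000000000000024c00000000000000000000000000000000000000000000000000000000000000000000000000000000000000000000000000000000000000000000000000000000000000000006580000000000000000000000000000000000000000000000000000000000710000000000000000002c80000000000000000010400000000000000000000000000000000000000000000000000000000000000000000000000000031c0000000000000000000000000000000000000000000000) (nat_lit 16384))) (nat_lit 32768)))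

noncomputable def p_Mz : ℕ := (nat_lit 0x2754418785277441)
noncomputable def p_Sz : ℕ := (nat_lit 0x3255278145811671653878381362625742781734681466538512438246257571386581814637538382414348131676653877388457411357138146466526538512438244413686213624615558177438382415713136282727811362625748146468525151246257571314625458171616754446132727815124167824717373465151248457421357135713)

noncomputable def p_Mt : ℕ := (nat_lit 0x1875528845178542)
noncomputable def p_St : ℕ := (nat_lit 0x6286463737841354817272546123486155748652323486286463737875672145615672445616123486154224154637241515378172385656724861234878523716161234637241515372456725483456728484861234862662853785153727214567235245232348612373788153721881721881725815232415628486153113147557484637241515372348)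

noncomputable def p_Ma : ℕ := (nat_lit 0x1745428575188852)
noncomputable def p_Sa : ℕ := (nat_lit 0x2523463764565748628256722348378817661241572445523463734566123153786123153782348378517281724637817248616282134461233787724452415385623484637817248611537567281537567233784726452375237456486125672612341524157254234861456486128262848562871524158172652382152315234857482415385623485672)

noncomputable def p_Mc : ℕ := (nat_lit 0x1207203506144871)
noncomputable def p_Sc : ℕ := (nat_lit 0x3145758473518365771618736543168428365771618731827563251482765321646543168422765321641542512628314532164251836584325188654374251836584326473182716847351276585128654377351276586177163216735188432187317218278432187311684513838431457218278431457716425144274875846127166473182716842765)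

noncomputable def p_Ms : ℕ := (nat_lit 0x1855516083018011)
noncomputable def p_Ss : ℕ := (nat_lit 0x2415241537852415241537833781378761324136456721314137456725672567284861486174861486177735238172817284568172817264564456145637361716123487461716123482348234851537153741537153744462866123612326123612367457488615831528715841522246371138561138563856385672341138561138563856385672246123)

noncomputable def p_Mx : ℕ := (nat_lit 0x2650620540230432)
noncomputable def p_Sx : ℕ := (nat_lit 0x5732888844447777333322225555111166666555511114444314788882222777733333222271111666658442511111666655558888444447273333222277777333322225555111166665178888844444321682222777736511112222777736666555514488888888444453333222271655555166663844447777333322226511114288882222777733334444)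

noncomputable def p_My : ℕ := (nat_lit 0x8005085004504005)
noncomputable def p_Sy : ℕ := (nat_lit 0x5716171684321716871684328432843253716871684327716371684328432843258432843258432843255547166716571684324716671684328432843254716271684322716771684328432843258432843258432843255587168432843258432843255577168432843258432843255557165577165557168716471684328475843275847584758432163216)

noncomputable def p_Maa : ℕ := (nat_lit 0x1204202802147571)
noncomputable def p_Saa : ℕ := (nat_lit 0x6538451346351677845781467138571322781653862573265167713625581713846257463511362814654251245124286275816538451346353824136277346512457132781653862578146382485713658166257463518716773824136277138571321827818146382482581713843145138716774251244513278124746473461827811672845781463824)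

noncomputable def p_Mcc : ℕ := (nat_lit 0x1488724857185552)
noncomputable def p_Scc : ℕ := (nat_lit 0x4875235242838626376483277526586412356614726313764154231755564774284283263178357317521872188726376483672431721847422631641853764154231757218568375266418428358337317527742752635623547526576412631641854215425464274286418428312685261872185723551542822618564215428356834875235142834283)

noncomputable def p_Mr : ℕ := (nat_lit 0x142167054382056)
noncomputable def p_Sr : ℕ := (nat_lit 0x2567256781342567256771341134613486245674578126645654578127812781235386538615386538611147223612361245783612361245784578457841486148625531486148627532353225376741675156721677155582348626862548624862444471533467346723467346722258616673786653788378437812455582345582348234823467614578)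

end Cfsg.Agent.H59.U43P
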