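import Mathlib
import Cfsg.Agent.H59.OnA

/-!
# Lists of elements of the O'Nan group
-/

set_option autoImplicit false
set_option maxRecDepth 1000000
set_option linter.all false
set_option Elab.async false

namespace Cfsg.Agent.H59.On

open Cfsg.Agent.H44

/-- The letter `b` does not occur. -/
noncomputable def okK (w : List ℕ) : Bool := allL (fun x => bN (Nat.beq x 2)) w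

/-- The word `s` fixes the node `q` and does not commute with `a`. -/
noncomputable def sChk (q : ℕ) (s : List ℕ) : Bool :=
  bO (Nat.beq q 15) (bA (okL 6 s) (bA (Nat.beq (T s q) q) (bN (eqB (s ++ [1]) (1 :: s)))))

/-- The entries of `F` lead from `p` to the listed nodes. -/
noncomputable def fChk (p : ℕ) (F : List (ℕ × List ℕ × List ℕ)) : Bool :=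
  allL (fun e => bA (okK e.2.1) (bA (Nat.beq (T e.2.1 p) e.1) (sChk e.1 e.2.2))) F

/-- If `w` is an involution, then `k` conjugates it to the letter `t`. -/
noncomputable def iChk (w k : List ℕ) (t : ℕ) : Bool :=
  bO (bN (eqB (w ++ w) [])) (bO (eqB w []) (bA (okK k)
    (bA (anyL (Nat.beq t) [1, 6, 3]) (eqB (k ++ w) (t :: k)))))

/-- Fixed points of `a`. -/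
def F1 : List (ℕ × List ℕ × List ℕ) :=
  [(0, [], [2]),
  (1, [7], [2, 3, 4, 3, 2, 1, 4, 3, 4, 5, 4, 3, 4, 2, 3, 4, 5, 4, 3, 4, 1, 2, 3, 4, 3, 2]),
  (3, [7, 3], [2, 3, 4, 3, 2, 4, 3, 4, 3, 5, 4, 3, 4, 2, 3, 4, 5, 3, 4, 3, 4, 2, 3, 4, 3, 2]),
  (4, [7, 4], [2, 1, 3, 2, 4, 3, 2, 1, 4, 5, 4, 3, 4, 2, 3, 4, 5, 4, 1, 2, 3, 4, 2, 3, 1, 2]),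
  (5, [7, 5], [4, 3, 2, 4, 3, 2, 1, 4, 5, 4, 3, 4, 2, 3, 4, 5, 4, 1, 2, 3, 4, 2, 3, 4]),
  (13, [7, 3, 4], [2, 1, 3, 2, 4, 3, 2, 4, 3, 5, 4, 3, 4, 2, 3, 4, 5, 3, 4, 2, 3, 4, 2, 3, 1, 2]),
  (14, [7, 3, 5], [2, 4, 3, 2, 4, 3, 4, 3, 5, 4, 3, 4, 2, 3, 4, 5, 3, 4, 3, 4, 2, 3, 4, 2]),
  (15, [7, 3, 7], []),
  (16, [7, 4, 5], [2, 3, 4, 3, 5, 4, 3, 2, 4, 3, 4, 5, 3, 4, 3, 4, 2, 3, 4, 5, 3, 4, 3, 2]),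
  (17, [7, 4, 7], [2]),
  (18, [7, 5, 4], [3, 2, 4, 3, 2, 1, 4, 5, 4, 3, 4, 2, 3, 4, 5, 4, 1, 2, 3, 4, 2, 3]),
  (19, [7, 5, 6], [3, 4, 3, 2, 1, 4, 3, 4, 5, 4, 3, 4, 2, 3, 4, 5, 4, 3, 4, 1, 2, 3, 4, 3]),
  (20, [7, 5, 7], [2]),
  (21, [7, 5, 8], [2]),
  (45, [7, 3, 4, 5], [4, 3, 4, 6, 5, 4, 3, 2, 4, 3, 4, 5, 3, 4, 3, 4, 2, 3, 4, 5, 6, 4, 3, 4]),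
  (46, [7, 3, 4, 7], [2, 1, 5, 4, 3, 2, 4, 3, 2, 5, 4, 3, 2, 1, 4, 6, 5, 4, 3, 2, 4, 3, 5, 4, 2, 3, 4, 5, 6, 2, 3, 4, 5, 4, 3, 4, 2, 3, 4, 5, 4, 3, 1, 2]),
  (47, [7, 3, 5, 4], [2, 3, 2, 4, 3, 4, 3, 5, 4, 3, 4, 2, 3, 4, 5, 3, 4, 3, 4, 2, 3, 2]),
  (48, [7, 3, 5, 6], [4, 3, 2, 1, 4, 3, 4, 5, 4, 3, 4, 2, 3, 4, 5, 4, 3, 4, 1, 2, 3, 4]),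
  (49, [7, 3, 5, 7], [2, 1, 3, 2, 4, 5, 3, 4, 2, 3, 1, 2]),
  (50, [7, 3, 5, 8], [2, 1, 3, 2, 4, 3, 5, 4, 3, 4, 2, 3, 1, 2]),
  (51, [7, 4, 5, 4], [3, 4, 3, 5, 4, 3, 2, 4, 3, 4, 5, 3, 4, 3, 4, 2, 3, 4, 5, 3, 4, 3]),
  (52, [7, 4, 5, 6], [3, 4, 3, 4, 5, 4, 3, 2, 4, 3, 4, 5, 3, 4, 3, 4, 2, 3, 4, 5, 4, 3, 4, 3]),
  (53, [7, 4, 5, 7], [2]),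
  (54, [7, 4, 5, 8], [2]),
  (55, [7, 5, 4, 3], [2, 4, 3, 2, 1, 4, 5, 4, 3, 4, 2, 3, 4, 5, 4, 1, 2, 3, 4, 2]),
  (56, [7, 5, 4, 6], [2, 3, 2, 4, 3, 2, 1, 4, 5, 4, 3, 4, 2, 3, 4, 5, 4, 1, 2, 3, 4, 2, 3, 2]),
  (57, [7, 5, 4, 7], [2]),
  (58, [7, 5, 4, 8], [2]),
  (59, [7, 5, 7, 4], [2]),
  (60, [7, 5, 8, 4], [2]),
  (117, [7, 3, 4, 5, 4], [3, 4, 6, 5, 4, 3, 2, 4, 3, 4, 5, 3, 4, 3, 4, 2, 3, 4, 5, 6, 4, 3]),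
  (118, [7, 3, 4, 5, 6], [4, 3, 4, 5, 4, 3, 2, 4, 3, 4, 5, 3, 4, 3, 4, 2, 3, 4, 5, 4, 3, 4]),
  (119, [7, 3, 4, 5, 7], [2, 1, 4, 3, 2, 4, 3, 2, 5, 4, 3, 2, 1, 4, 6, 5, 4, 3, 2, 4, 3, 5, 6, 4, 5, 2, 3, 4, 2, 3, 4, 5, 4, 3, 4, 1, 2, 3, 4, 3, 1, 2]),
  (120, [7, 3, 4, 5, 8], [2, 4, 3, 2, 4, 3, 2, 1, 4, 5, 4, 3, 2, 4, 3, 2, 5, 4, 3, 2, 6, 5, 4, 3, 4, 5, 1, 2, 3, 4, 3, 4, 5, 4, 1, 2, 3, 4, 3, 2]),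
  (121, [7, 3, 5, 4, 3], [2, 1, 4, 3, 4, 6, 5, 4, 3, 4, 2, 3, 4, 5, 6, 4, 3, 4, 1, 2]),
  (122, [7, 3, 5, 4, 6], [3, 2, 1, 4, 3, 4, 5, 4, 3, 4, 2, 3, 4, 5, 4, 3, 4, 1, 2, 3]),
  (123, [7, 3, 5, 4, 7], [2, 3, 2, 4, 3, 2, 1, 4, 5, 4, 3, 2, 4, 3, 2, 5, 4, 3, 2, 1, 6, 4, 5, 4, 3, 4, 2, 3, 4, 5, 6, 4, 5, 2, 3, 4, 2, 3, 1, 2]),
  (124, [7, 3, 5, 4, 8], [2, 3, 2, 4, 3, 2, 1, 4, 6, 5, 4, 3, 2, 4, 3, 2, 5, 4, 3, 2, 6, 5, 4, 3, 4, 5, 6, 4, 1, 2, 3, 4, 5, 2, 3, 4, 2, 3, 1, 2]),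
  (125, [7, 3, 5, 7, 4], [2, 1, 4, 3, 2, 4, 5, 3, 4, 2, 3, 4, 1, 2]),
  (127, [7, 3, 5, 8, 4], [2, 3, 4, 3, 4, 5, 4, 2, 3, 4, 3, 2]),
  (128, [7, 4, 5, 4, 3], [4, 3, 5, 4, 3, 2, 4, 3, 4, 5, 3, 4, 3, 4, 2, 3, 4, 5, 3, 4]),
  (129, [7, 4, 5, 4, 6], [3, 4, 3, 6, 5, 4, 3, 2, 4, 3, 4, 5, 3, 4, 3, 4, 2, 3, 4, 5, 6, 3, 4, 3]),
  (131, [7, 5, 4, 3, 4], [2, 3, 2, 1, 4, 5, 4, 3, 4, 2, 3, 4, 5, 4, 1, 2, 3, 2]),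
  (132, [7, 5, 4, 3, 6], [2, 3, 4, 3, 2, 1, 4, 5, 4, 3, 4, 2, 3, 4, 5, 4, 1, 2, 3, 4, 3, 2]),
  (133, [7, 5, 4, 3, 7], [2, 1, 4, 5, 4, 3, 2, 4, 3, 2, 5, 4, 3, 2, 1, 4, 6, 5, 4, 3, 4, 5, 3, 4, 2, 3, 4, 5, 6, 1, 2, 3, 4, 5, 3, 4, 2]),
  (134, [7, 5, 4, 3, 8], [2, 1, 3, 2, 4, 3, 4, 5, 4, 3, 2, 4, 3, 2, 5, 4, 3, 2, 1, 4, 6, 5, 4, 3, 4, 5, 6, 2, 3, 4, 5, 2, 3, 4, 2, 3, 4, 1, 2]),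
  (135, [7, 5, 4, 6, 5], [2, 1, 3, 4, 3, 5, 4, 3, 2, 4, 3, 4, 5, 3, 4, 3, 4, 2, 3, 4, 5, 3, 4, 3, 1, 2]),
  (136, [7, 5, 4, 7, 3], [2, 3, 2]),
  (137, [7, 5, 4, 7, 5], [2]),
  (138, [7, 5, 4, 8, 3], [2, 3, 2]),
  (139, [7, 5, 7, 4, 3], [2, 3, 2]),
  (140, [7, 5, 7, 4, 5], [2]),
  (141, [7, 5, 8, 4, 3], [2, 3, 2]),
  (142, [7, 5, 8, 4, 5], [2]),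
  (264, [7, 3, 4, 5, 4, 3], [4, 6, 5, 4, 3, 2, 4, 3, 4, 5, 3, 4, 3, 4, 2, 3, 4, 5, 6, 4]),
  (265, [7, 3, 4, 5, 4, 6], [3, 4, 5, 4, 3, 2, 4, 3, 4, 5, 3, 4, 3, 4, 2, 3, 4, 5, 4, 3]),
  (268, [7, 3, 5, 4, 3, 4], [2, 1, 3, 4, 6, 5, 4, 3, 4, 2, 3, 4, 5, 6, 4, 3, 1, 2]),
  (269, [7, 3, 5, 4, 3, 6], [2, 1, 4, 3, 4, 5, 4, 3, 4, 2, 3, 4, 5, 4, 3, 4, 1, 2]),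
  (270, [7, 3, 5, 4, 6, 5], [3, 2, 4, 3, 2, 4, 5, 4, 6, 3, 4, 5, 4, 2, 3, 4, 2, 3]),
  (271, [7, 3, 5, 4, 7, 5], [3, 2, 1, 4, 3, 2, 1, 4, 3, 2, 5, 4, 3, 2, 4, 3, 5, 4, 3, 6, 5, 4, 3, 4, 2, 3, 4, 1, 2, 3, 4, 5, 4, 3, 4, 2, 3]),
  (273, [7, 3, 5, 7, 4, 3], [2, 3, 2, 4, 3, 4, 5, 6, 5, 4, 2, 3, 4, 2, 3, 2]),
  (274, [7, 3, 5, 7, 4, 5], [2, 1, 5, 4, 3, 2, 4, 5, 3, 4, 2, 3, 4, 5, 1, 2]),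
  (276, [7, 3, 5, 8, 4, 3], [2, 3, 2, 4, 3, 4, 5, 4, 2, 3, 4, 2, 3, 2]),
  (277, [7, 3, 5, 8, 4, 5], [2, 3, 4, 5, 4, 3, 4, 2, 3, 4, 5, 4, 3, 2]),
  (279, [7, 4, 5, 4, 3, 4], [3, 5, 4, 3, 2, 4, 3, 4, 5, 3, 4, 3, 4, 2, 3, 4, 5, 3]),
  (280, [7, 4, 5, 4, 3, 6], [4, 3, 6, 5, 4, 3, 2, 4, 3, 4, 5, 3, 4, 3, 4, 2, 3, 4, 5, 6, 3, 4]),
  (281, [7, 4, 5, 4, 6, 5], [2, 3, 4, 3, 4, 5, 4, 3, 2, 4, 3, 4, 5, 3, 4, 3, 4, 2, 3, 4, 5, 4, 3, 4, 3, 2]),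
  (287, [7, 5, 4, 3, 4, 3], [2, 1, 3, 4, 5, 4, 3, 4, 2, 3, 4, 5, 4, 3, 1, 2]),
  (288, [7, 5, 4, 3, 4, 5], [2, 3, 2, 1, 4, 3, 4, 5, 4, 2, 3, 4, 1, 2, 3, 2]),
  (289, [7, 5, 4, 3, 4, 6], [2, 3, 2, 1, 4, 6, 5, 4, 3, 4, 2, 3, 4, 5, 6, 4, 1, 2, 3, 2]),
  (290, [7, 5, 4, 3, 4, 7], [2, 3, 4, 5, 4, 3, 2, 4, 3, 5, 4, 3, 4, 2, 3, 4, 5]),
  (291, [7, 5, 4, 3, 4, 8], [2, 4, 3, 2, 4, 3, 4, 5, 4, 2, 3, 4, 2, 3, 4, 2]),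
  (292, [7, 5, 4, 3, 6, 5], [2, 3, 4, 5, 4, 3, 2, 1, 4, 3, 4, 5, 4, 2, 3, 4, 1, 2, 3, 4, 5, 4, 3, 2]),
  (294, [7, 5, 4, 3, 7, 4], [2, 1, 5, 4, 3, 2, 4, 3, 2, 5, 4, 3, 2, 1, 4, 6, 5, 4, 3, 4, 5, 3, 4, 2, 3, 4, 5, 6, 1, 2, 3, 4, 5, 3, 2]),
  (295, [7, 5, 4, 3, 7, 5], [2, 1, 4, 3, 2, 1, 4, 3, 2, 5, 4, 3, 2, 4, 3, 5, 4, 3, 6, 5, 4, 3, 4, 2, 3, 4, 1, 2, 3, 4, 5, 4, 3, 4, 2]),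
  (297, [7, 5, 4, 3, 8, 4], [2, 1, 6, 5, 4, 3, 2, 4, 3, 2, 5, 4, 3, 2, 1, 4, 6, 5, 4, 3, 4, 5, 3, 4, 2, 3, 4, 5, 6, 1, 2, 3, 4, 5, 2, 3, 2]),
  (298, [7, 5, 4, 6, 5, 7], [2]),
  (300, [7, 5, 4, 7, 3, 4], [2, 4, 3, 4, 2]),
  (301, [7, 5, 4, 7, 3, 5], [2, 3, 2]),
  (302, [7, 5, 4, 7, 5, 7], [3, 2, 4, 3, 4, 2, 3]),
  (304, [7, 5, 4, 8, 3, 4], [2, 4, 3, 4, 2]),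
  (306, [7, 5, 7, 4, 3, 4], [2, 4, 3, 4, 2]),
  (307, [7, 5, 7, 4, 3, 5], [2, 3, 2]),
  (308, [7, 5, 7, 4, 3, 7], [4, 5, 4, 3, 2, 4, 3, 4, 5, 3, 4, 3, 4, 2, 3, 4, 5, 4]),
  (310, [7, 5, 8, 4, 3, 4], [2, 4, 3, 4, 2]),
  (311, [7, 5, 8, 4, 3, 5], [2, 3, 2]),
  (312, [7, 5, 8, 4, 5, 6], [2]),
  (313, [7, 5, 8, 4, 5, 7], [3, 2, 6, 5, 4, 3, 4, 5, 6, 2, 3]),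
  (314, [7, 5, 8, 4, 5, 8], [3, 2, 5, 4, 3, 4, 5, 2, 3]),
  (571, [7, 3, 4, 5, 4, 3, 4], [6, 5, 4, 3, 2, 4, 3, 4, 5, 3, 4, 3, 4, 2, 3, 4, 5, 6]),
  (572, [7, 3, 4, 5, 4, 6, 5], [3, 4, 3, 2, 5, 4, 3, 4, 5, 3, 4, 3, 4, 5, 2, 3, 4, 3]),
  (578, [7, 3, 5, 4, 3, 4, 5], [2, 6, 5, 4, 3, 2, 4, 5, 3, 4, 2, 3, 4, 5, 6, 2]),
  (579, [7, 3, 5, 4, 3, 6, 5], [2, 4, 3, 2, 4, 5, 4, 6, 3, 4, 5, 4, 2, 3, 4, 2]),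
  (580, [7, 3, 5, 4, 6, 5, 7], [2, 1, 6, 5, 4, 3, 2, 4, 5, 3, 4, 2, 3, 4, 5, 6, 1, 2]),
  (581, [7, 3, 5, 4, 7, 5, 7], [2, 1, 3, 4, 3, 2, 1, 5, 4, 3, 2, 4, 3, 5, 4, 3, 6, 5, 4, 3, 4, 2, 3, 4, 5, 1, 2, 3, 4, 3, 2]),
  (583, [7, 3, 5, 7, 4, 3, 5], [2, 1, 4, 3, 2, 1, 4, 3, 5, 4, 2, 3, 4, 1, 2]),
  (586, [7, 3, 5, 8, 4, 3, 5], [2, 3, 2, 4, 5, 4, 3, 4, 2, 3, 4, 5, 4, 2, 3, 2]),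
  (587, [7, 3, 5, 8, 4, 5, 6], [2, 3, 4, 6, 5, 4, 3, 4, 2, 3, 4, 5, 6, 4, 3, 2]),
  (588, [7, 3, 5, 8, 4, 5, 7], [2, 1, 3, 4, 3, 2, 5, 4, 3, 2, 4, 3, 2, 5, 4, 3, 4, 5, 2, 3, 4, 2, 3, 4, 5, 2, 3, 4, 3, 1, 2]),
  (589, [7, 3, 5, 8, 4, 5, 8], [2, 1, 3, 2, 1, 4, 3, 2, 4, 5, 4, 3, 2, 4, 3, 4, 5, 4, 3, 4, 5, 2, 3, 4, 2, 3, 4, 5, 2, 3, 4, 3, 2]),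
  (595, [7, 4, 5, 4, 3, 4, 3], [5, 4, 3, 2, 4, 3, 4, 5, 3, 4, 3, 4, 2, 3, 4, 5]),
  (596, [7, 4, 5, 4, 3, 4, 5], [3, 4, 3, 2, 4, 3, 4, 5, 3, 4, 3, 4, 2, 3, 4, 3]),
  (597, [7, 4, 5, 4, 3, 4, 6], [3, 6, 5, 4, 3, 2, 4, 3, 4, 5, 3, 4, 3, 4, 2, 3, 4, 5, 6, 3]),
  (598, [7, 4, 5, 4, 3, 6, 5], [2, 4, 3, 2, 5, 4, 3, 2, 6, 5, 4, 3, 4, 5, 6, 4, 2, 3, 4, 5, 2, 3, 4, 2]),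
  (617, [7, 5, 4, 3, 4, 3, 5], [2, 1, 3, 4, 3, 4, 5, 4, 2, 3, 4, 3, 1, 2]),
  (618, [7, 5, 4, 3, 4, 5, 6], [3, 2, 4, 3, 2, 4, 5, 3, 4, 2, 3, 4, 2, 3]),
  (619, [7, 5, 4, 3, 4, 5, 7], [2, 4, 3, 4, 5, 3, 4, 3, 4, 2]),
  (620, [7, 5, 4, 3, 4, 5, 8], [2, 1, 3, 4, 3, 5, 4, 3, 2]),
  (621, [7, 5, 4, 3, 4, 6, 5], [3, 2, 6, 5, 4, 3, 2, 4, 5, 3, 4, 2, 3, 4, 5, 6, 2, 3]),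
  (623, [7, 5, 4, 3, 4, 7, 5], [2, 3, 4, 3, 2, 1, 4, 3, 5, 6, 4, 2, 3, 4, 2]),
  (625, [7, 5, 4, 3, 4, 8, 5], [2, 3, 2, 4, 3, 2, 1, 4, 3, 5, 4, 2, 3, 4, 5, 6, 2]),
  (626, [7, 5, 4, 3, 6, 5, 4], [3, 2, 5, 4, 3, 4, 3, 2, 5, 4, 3, 4, 5, 6, 2, 3, 4, 5, 1, 2, 3, 2]),
  (627, [7, 5, 4, 3, 6, 5, 7], [2, 3, 4, 3, 2, 1, 4, 3, 5, 6, 4, 2, 3, 4, 2]),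
  (634, [7, 5, 4, 3, 7, 4, 5], [2, 1, 4, 3, 2, 4, 3, 2, 5, 4, 3, 2, 1, 4, 6, 5, 4, 3, 4, 5, 3, 4, 2, 3, 4, 5, 6, 1, 2, 3, 4, 3, 2]),
  (635, [7, 5, 4, 3, 7, 5, 4], [2, 1, 3, 2, 1, 4, 3, 2, 5, 4, 3, 2, 4, 3, 5, 4, 3, 6, 5, 4, 3, 4, 2, 3, 4, 1, 2, 3, 4, 5, 4, 3, 2]),
  (636, [7, 5, 4, 3, 7, 5, 7], [2, 4, 3, 4, 2]),
  (641, [7, 5, 4, 3, 8, 4, 5], [2, 3, 2, 4, 3, 2, 1, 4, 3, 5, 4, 3, 2, 6, 5, 4, 3, 2, 4, 5, 3, 4, 2, 3, 4, 5, 1, 2, 3, 4, 3, 4, 2, 3, 1, 2]),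
  (642, [7, 5, 4, 6, 5, 7, 3], [2, 3, 2]),
  (648, [7, 5, 4, 7, 3, 4, 5], [2, 5, 4, 3, 4, 5, 2]),
  (653, [7, 5, 4, 8, 3, 4, 5], [2, 5, 4, 3, 4, 5, 2]),
  (659, [7, 5, 7, 4, 3, 4, 5], [2, 5, 4, 3, 4, 5, 2]),
  (660, [7, 5, 7, 4, 3, 5, 4], [2, 4, 3, 4, 2]),
  (661, [7, 5, 7, 4, 3, 5, 8], [4, 3, 2, 5, 4, 3, 4, 5, 3, 4, 3, 4, 5, 2, 3, 4]),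
  (668, [7, 5, 8, 4, 3, 4, 5], [2, 5, 4, 3, 4, 5, 2]),
  (669, [7, 5, 8, 4, 3, 5, 4], [2, 4, 3, 4, 2]),
  (670, [7, 5, 8, 4, 3, 5, 6], [2, 3, 2]),
  (671, [7, 5, 8, 4, 3, 5, 7], [2, 3, 4, 3, 2, 5, 4, 3, 4, 6, 5, 4, 3, 2, 1, 4, 3, 4, 5, 4, 3, 4, 2, 3, 4, 5, 3, 4, 2, 3, 1, 2]),
  (672, [7, 5, 8, 4, 3, 5, 8], [2, 1, 3, 2, 4, 3, 2, 5, 4, 3, 2, 4, 3, 5, 4, 6, 5, 4, 3, 4, 2, 3, 4, 5, 1, 2, 3, 4, 3, 1, 2]),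
  (673, [7, 5, 8, 4, 5, 7, 3], [2, 6, 5, 4, 3, 4, 5, 6, 2]),
  (675, [7, 5, 8, 4, 5, 8, 3], [2, 5, 4, 3, 4, 5, 2]),
  (1267, [7, 3, 4, 5, 4, 3, 4, 5], [2, 4, 6, 5, 4, 3, 2, 4, 5, 3, 4, 2, 3, 4, 5, 6, 4, 2]),
  (1284, [7, 3, 5, 4, 3, 4, 5, 6], [2, 5, 4, 3, 2, 4, 5, 3, 4, 2, 3, 4, 5, 2]),
  (1285, [7, 3, 5, 4, 3, 4, 5, 7], [2, 3, 4, 3, 2, 6, 5, 4, 3, 4, 5, 2, 3, 4, 3, 4, 1, 2]),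
  (1286, [7, 3, 5, 4, 3, 4, 5, 8], [2, 3, 4, 3, 2, 5, 4, 3, 4, 5, 4, 2, 3, 4, 3, 2]),
  (1287, [7, 3, 5, 4, 3, 6, 5, 4], [2, 3, 2, 4, 5, 4, 6, 3, 4, 5, 4, 2, 3, 2]),
  (1292, [7, 3, 5, 7, 4, 3, 5, 4], [2, 1, 3, 2, 1, 4, 3, 5, 4, 2, 3, 1, 2]),
  (1300, [7, 3, 5, 8, 4, 3, 5, 4], [2, 3, 4, 3, 4, 5, 4, 3, 6, 4, 5, 2, 3, 4, 3, 2]),
  (1301, [7, 3, 5, 8, 4, 3, 5, 6], [2, 3, 4, 5, 4, 3, 4, 3, 5, 4, 2, 3, 4, 3, 1, 2]),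
  (1319, [7, 4, 5, 4, 3, 4, 3, 5], [4, 3, 2, 4, 3, 4, 5, 3, 4, 3, 4, 2, 3, 4]),
  (1320, [7, 4, 5, 4, 3, 4, 5, 6], [3, 2, 4, 3, 2, 1, 4, 3, 5, 4, 2, 3, 4, 2, 3]),
  (1321, [7, 4, 5, 4, 3, 4, 5, 7], [3, 4, 3, 2, 5, 4, 3, 4, 5, 2, 3, 4, 3]),
  (1322, [7, 4, 5, 4, 3, 4, 5, 8], [3, 4, 3, 2, 6, 5, 4, 3, 4, 5, 6, 2, 3, 4, 3]),
  (1323, [7, 4, 5, 4, 3, 4, 6, 5], [3, 2, 4, 6, 5, 4, 3, 2, 4, 5, 3, 4, 2, 3, 4, 5, 6, 4, 2, 3]),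
  (1324, [7, 4, 5, 4, 3, 6, 5, 4], [2, 3, 2, 5, 4, 3, 2, 6, 5, 4, 3, 4, 5, 6, 4, 2, 3, 4, 5, 2, 3, 2]),
  (1383, [7, 5, 4, 3, 4, 3, 5, 4], [2, 3, 2, 4, 5, 6, 5, 3, 4, 2, 3, 2]),
  (1384, [7, 5, 4, 3, 4, 3, 5, 6], [2, 4, 3, 2, 4, 5, 3, 4, 2, 3, 4, 2]),
  (1385, [7, 5, 4, 3, 4, 3, 5, 7], [2, 3, 2, 4, 3, 2, 6, 5, 4, 3, 4, 5, 6, 4, 2, 3, 4, 2, 3, 2]),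
  (1386, [7, 5, 4, 3, 4, 3, 5, 8], [2, 3, 2, 4, 3, 2, 5, 4, 3, 4, 5, 4, 2, 3, 4, 2, 3, 2]),
  (1387, [7, 5, 4, 3, 4, 5, 6, 5], [3, 2, 5, 4, 3, 2, 4, 5, 3, 4, 2, 3, 4, 5, 2, 3]),
  (1389, [7, 5, 4, 3, 4, 5, 7, 3], [3, 2, 4, 3, 4, 5, 3, 4, 3, 4, 2, 3]),
  (1390, [7, 5, 4, 3, 4, 5, 7, 4], [2, 3, 4, 5, 3, 4, 3, 2]),
  (1391, [7, 5, 4, 3, 4, 5, 7, 5], [2, 5, 4, 3, 4, 5, 3, 4, 3, 4, 5, 2]),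
  (1393, [7, 5, 4, 3, 4, 5, 8, 3], [2, 3, 2, 1, 4, 3, 5, 4, 2, 3, 2]),
  (1394, [7, 5, 4, 3, 4, 5, 8, 4], [2, 3, 4, 5, 6, 5, 3, 4, 3, 2]),
  (1395, [7, 5, 4, 3, 4, 6, 5, 4], [3, 2, 4, 3, 4, 3, 2, 5, 4, 3, 4, 5, 6, 2, 3, 4, 1, 2, 3, 2]),
  (1401, [7, 5, 4, 3, 4, 7, 5, 4], [2, 1, 3, 2, 1, 4, 3, 2, 5, 6, 5, 4, 3, 1, 2]),
  (1402, [7, 5, 4, 3, 4, 7, 5, 6], [2, 1, 4, 3, 2, 1, 4, 3, 5, 4, 2, 3, 4, 1, 2]),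
  (1403, [7, 5, 4, 3, 4, 7, 5, 7], [2, 6, 5, 4, 3, 4, 5, 6, 2]),
  (1404, [7, 5, 4, 3, 4, 7, 5, 8], [2, 5, 4, 3, 4, 5, 2]),
  (1410, [7, 5, 4, 3, 4, 8, 5, 4], [2, 1, 3, 2, 4, 3, 2, 4, 3, 5, 4, 2, 3, 4, 5, 6, 2]),
  (1411, [7, 5, 4, 3, 4, 8, 5, 6], [2, 1, 5, 4, 3, 2, 1, 4, 3, 5, 4, 2, 3, 4, 5, 1, 2]),
  (1412, [7, 5, 4, 3, 4, 8, 5, 7], [3, 2, 5, 4, 3, 4, 3, 2, 5, 4, 3, 4, 2, 3, 1, 2]),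
  (1413, [7, 5, 4, 3, 4, 8, 5, 8], [2, 1, 4, 3, 4, 5, 4, 3, 2, 4, 5, 3, 4, 1, 2, 3, 1, 2]),
  (1414, [7, 5, 4, 3, 6, 5, 4, 3], [2, 5, 4, 3, 4, 3, 2, 5, 4, 3, 4, 5, 6, 2, 3, 4, 5, 3, 1, 2]),
  (1415, [7, 5, 4, 3, 6, 5, 4, 7], [2, 4, 3, 4, 5, 4, 3, 2, 4, 5, 6, 3, 4, 2, 3, 2]),
  (1417, [7, 5, 4, 3, 6, 5, 7, 4], [2, 1, 3, 2, 1, 4, 3, 2, 5, 6, 5, 4, 3, 1, 2]),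
  (1436, [7, 5, 4, 3, 7, 4, 5, 6], [2, 3, 4, 3, 2, 1, 4, 5, 4, 3, 2, 4, 3, 2, 5, 4, 6, 5, 3, 4, 2, 3, 4, 5, 4, 1, 2, 3, 4, 3, 2]),
  (1437, [7, 5, 4, 3, 7, 4, 5, 7], [2, 4, 3, 4, 2]),
  (1447, [7, 5, 4, 3, 8, 4, 5, 6], [2, 3, 2, 4, 3, 2, 1, 4, 5, 4, 3, 2, 4, 3, 2, 5, 4, 6, 5, 3, 4, 2, 3, 4, 5, 4, 1, 2, 3, 4, 2, 3, 2]),
  (1448, [7, 5, 4, 3, 8, 4, 5, 7], [2, 1, 3, 2, 1, 4, 3, 2, 5, 6, 5, 4, 3, 1, 2]),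
  (1449, [7, 5, 4, 3, 8, 4, 5, 8], [2, 1, 3, 2, 1, 4, 3, 5, 4, 2, 3, 1, 2]),
  (1463, [7, 5, 4, 7, 3, 4, 5, 6], [2, 6, 5, 4, 3, 4, 5, 6, 2]),
  (1475, [7, 5, 4, 8, 3, 4, 5, 6], [2, 6, 5, 4, 3, 4, 5, 6, 2]),
  (1476, [7, 5, 4, 8, 3, 4, 5, 7], [3, 2, 4, 3, 4, 2, 3]),
  (1477, [7, 5, 4, 8, 3, 4, 5, 8], [3, 2, 4, 3, 4, 2, 3]),
  (1489, [7, 5, 7, 4, 3, 4, 5, 4], [2, 5, 4, 3, 4, 5, 2]),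
  (1490, [7, 5, 7, 4, 3, 4, 5, 6], [2, 6, 5, 4, 3, 4, 5, 6, 2]),
  (1491, [7, 5, 7, 4, 3, 4, 5, 7], [2, 5, 4, 3, 4, 3, 2, 1, 5, 4, 3, 4, 2, 3, 1, 2]),
  (1493, [7, 5, 7, 4, 3, 5, 8, 4], [3, 2, 5, 4, 3, 4, 5, 3, 4, 3, 4, 5, 2, 3]),
  (1510, [7, 5, 8, 4, 3, 4, 5, 6], [2, 6, 5, 4, 3, 4, 5, 6, 2]),
  (1511, [7, 5, 8, 4, 3, 4, 5, 7], [3, 2, 6, 5, 4, 3, 4, 5, 6, 2, 3]),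
  (1512, [7, 5, 8, 4, 3, 4, 5, 8], [3, 2, 5, 4, 3, 4, 5, 2, 3]),
  (1513, [7, 5, 8, 4, 3, 5, 4, 3], [3, 2, 4, 3, 4, 2, 3]),
  (1514, [7, 5, 8, 4, 3, 5, 4, 6], [2, 4, 3, 4, 2]),
  (2840, [7, 3, 4, 5, 4, 3, 4, 5, 6], [2, 4, 5, 4, 3, 2, 4, 5, 3, 4, 2, 3, 4, 5, 4, 2]),
  (2841, [7, 3, 4, 5, 4, 3, 4, 5, 7], [2, 1, 5, 4, 3, 2, 1, 4, 3, 5, 4, 2, 3, 4, 5, 1, 2]),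
  (2842, [7, 3, 4, 5, 4, 3, 4, 5, 8], [2, 5, 4, 3, 2, 4, 3, 2, 4, 5, 4, 3, 4, 2, 3, 2]),
  (2883, [7, 3, 5, 4, 3, 4, 5, 7, 4], [2, 1, 3, 4, 3, 2, 5, 4, 3, 4, 2, 3, 4, 5, 4, 3, 2]),
  (2884, [7, 3, 5, 4, 3, 4, 5, 7, 5], [2, 3, 5, 4, 3, 2, 6, 5, 4, 3, 4, 5, 2, 3, 4, 3, 4, 5, 1, 2]),
  (2886, [7, 3, 5, 4, 3, 4, 5, 8, 4], [2, 4, 3, 4, 3, 2, 5, 4, 3, 4, 5, 6, 2, 3, 4, 3, 1, 2]),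
  (2887, [7, 3, 5, 4, 3, 6, 5, 4, 3], [2, 3, 4, 5, 4, 6, 3, 4, 5, 4, 3, 2]),
  (2902, [7, 3, 5, 8, 4, 3, 5, 4, 3], [2, 3, 4, 3, 2, 1, 4, 3, 5, 6, 4, 2, 3, 4, 2]),
  (2950, [7, 4, 5, 4, 3, 4, 3, 5, 6], [2, 4, 3, 2, 1, 4, 3, 5, 4, 2, 3, 4, 2]),
  (2951, [7, 4, 5, 4, 3, 4, 3, 5, 7], [2, 1, 4, 3, 2, 1, 4, 3, 5, 4, 2, 3, 4, 1, 2]),
  (2952, [7, 4, 5, 4, 3, 4, 3, 5, 8], [2, 3, 4, 3, 2, 1, 4, 3, 5, 6, 4, 2, 3, 4, 2]),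
  (2953, [7, 4, 5, 4, 3, 4, 5, 6, 5], [3, 2, 4, 5, 4, 3, 2, 4, 5, 3, 4, 2, 3, 4, 5, 4, 2, 3]),
  (2955, [7, 4, 5, 4, 3, 4, 5, 7, 3], [4, 3, 2, 5, 4, 3, 4, 5, 2, 3, 4]),
  (2956, [7, 4, 5, 4, 3, 4, 5, 7, 4], [3, 4, 3, 2, 6, 5, 4, 3, 4, 5, 6, 2, 3, 4, 3]),
  (2957, [7, 4, 5, 4, 3, 4, 5, 7, 5], [3, 4, 3, 2, 5, 4, 3, 4, 5, 2, 3, 4, 3]),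
  (2959, [7, 4, 5, 4, 3, 4, 5, 8, 3], [4, 3, 2, 6, 5, 4, 3, 4, 5, 6, 2, 3, 4]),
  (2960, [7, 4, 5, 4, 3, 4, 5, 8, 4], [3, 4, 3, 2, 5, 4, 3, 4, 5, 2, 3, 4, 3]),
  (2961, [7, 4, 5, 4, 3, 4, 5, 8, 5], [4, 3, 2, 6, 5, 4, 3, 4, 5, 6, 2, 3, 4]),
  (3114, [7, 5, 4, 3, 4, 3, 5, 4, 6], [2, 3, 2, 4, 5, 3, 4, 2, 3, 2]),
  (3115, [7, 5, 4, 3, 4, 3, 5, 4, 7], [2, 4, 3, 2, 4, 5, 4, 3, 4, 5, 2, 3, 4, 2, 3, 2]),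
  (3116, [7, 5, 4, 3, 4, 3, 5, 4, 8], [2, 3, 4, 3, 2, 4, 3, 4, 5, 4, 3, 4, 5, 3, 1, 2]),
  (3119, [7, 5, 4, 3, 4, 3, 5, 8, 5], [4, 3, 2, 5, 4, 3, 2, 4, 5, 3, 4, 2, 3, 4, 5, 2, 3, 4]),
  (3127, [7, 5, 4, 3, 4, 5, 7, 4, 7], [2, 5, 4, 3, 4, 5, 2]),
  (3128, [7, 5, 4, 3, 4, 5, 7, 4, 8], [2, 6, 5, 4, 3, 4, 5, 6, 2]),
  (3129, [7, 5, 4, 3, 4, 5, 7, 5, 8], [2, 1, 4, 3, 2, 1, 4, 3, 5, 4, 2, 3, 4, 1, 2]),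
  (3136, [7, 5, 4, 3, 4, 6, 5, 4, 7], [3, 2, 6, 5, 4, 3, 4, 5, 6, 2, 3]),
  (3137, [7, 5, 4, 3, 4, 6, 5, 4, 8], [3, 2, 5, 4, 3, 4, 5, 2, 3]),
  (3152, [7, 5, 4, 3, 4, 7, 5, 4, 3], [2, 1, 3, 2, 1, 4, 3, 2, 5, 6, 5, 4, 3, 1, 2]),
  (3153, [7, 5, 4, 3, 4, 7, 5, 4, 6], [2, 1, 3, 2, 1, 4, 3, 5, 4, 2, 3, 1, 2]),
  (3154, [7, 5, 4, 3, 4, 7, 5, 4, 7], [2, 3, 4, 3, 2, 1, 4, 3, 5, 6, 4, 2, 3, 4, 2]),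
  (3155, [7, 5, 4, 3, 4, 7, 5, 4, 8], [2, 1, 4, 3, 2, 1, 4, 3, 5, 4, 2, 3, 4, 1, 2]),
  (3171, [7, 5, 4, 3, 4, 8, 5, 7, 4], [2, 3, 2, 4, 3, 2, 1, 4, 3, 5, 6, 4, 2, 3, 4, 2, 3]),
  (3173, [7, 5, 4, 3, 4, 8, 5, 8, 4], [2, 1, 4, 3, 2, 1, 4, 3, 2, 5, 4, 3, 4, 5, 4, 3, 1, 2]),
  (3175, [7, 5, 4, 3, 6, 5, 4, 3, 7], [3, 2, 4, 3, 4, 2, 3]),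
  (3177, [7, 5, 4, 3, 6, 5, 4, 7, 5], [2, 1, 4, 3, 2, 1, 4, 3, 5, 4, 2, 3, 4, 1, 2]),
  (3181, [7, 5, 4, 3, 6, 5, 7, 4, 5], [2, 1, 3, 2, 1, 4, 3, 5, 4, 2, 3, 1, 2]),
  (3221, [7, 5, 4, 3, 7, 4, 5, 7, 5], [2, 5, 4, 3, 4, 5, 2]),
  (3242, [7, 5, 4, 3, 8, 4, 5, 7, 5], [2, 1, 3, 2, 1, 4, 3, 5, 4, 2, 3, 1, 2]),
  (3293, [7, 5, 4, 8, 3, 4, 5, 7, 5], [3, 2, 5, 4, 3, 4, 5, 2, 3]),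
  (3295, [7, 5, 4, 8, 3, 4, 5, 8, 5], [3, 2, 5, 4, 3, 4, 5, 2, 3]),
  (3321, [7, 5, 7, 4, 3, 4, 5, 4, 6], [2, 6, 5, 4, 3, 4, 5, 6, 2]),
  (3322, [7, 5, 7, 4, 3, 4, 5, 4, 7], [4, 3, 2, 5, 4, 3, 4, 5, 2, 3, 4]),
  (3324, [7, 5, 7, 4, 3, 4, 5, 7, 5], [2, 3, 4, 3, 2, 1, 4, 3, 5, 6, 4, 2, 3, 4, 2]),
  (3356, [7, 5, 8, 4, 3, 4, 5, 7, 4], [3, 4, 3, 2, 5, 4, 3, 4, 5, 2, 3, 4, 3]),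
  (3358, [7, 5, 8, 4, 3, 4, 5, 8, 4], [4, 3, 2, 5, 4, 3, 4, 5, 2, 3, 4]),
  (6130, [7, 3, 4, 5, 4, 3, 4, 5, 7, 4], [3, 2, 4, 3, 2, 4, 3, 2, 5, 4, 3, 4, 5, 4, 3, 2]),
  (6132, [7, 3, 4, 5, 4, 3, 4, 5, 8, 4], [2, 3, 4, 6, 5, 4, 3, 4, 3, 5, 4, 2, 3, 4, 1, 2, 3, 2]),
  (6133, [7, 3, 4, 5, 4, 3, 4, 5, 8, 5], [2, 4, 3, 2, 4, 3, 2, 4, 5, 4, 3, 4, 5, 2, 3, 2]),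
  (6338, [7, 4, 5, 4, 3, 4, 3, 5, 8, 4], [2, 1, 3, 2, 1, 4, 3, 2, 5, 6, 5, 4, 3, 1, 2]),
  (6345, [7, 4, 5, 4, 3, 4, 5, 7, 4, 7], [2, 6, 5, 4, 3, 4, 5, 6, 2]),
  (6346, [7, 4, 5, 4, 3, 4, 5, 7, 5, 4], [3, 2, 6, 5, 4, 3, 4, 5, 6, 2, 3]),
  (6353, [7, 4, 5, 4, 3, 4, 5, 8, 3, 4], [3, 2, 6, 5, 4, 3, 4, 5, 6, 2, 3]),
  (6354, [7, 4, 5, 4, 3, 4, 5, 8, 4, 3], [4, 3, 2, 5, 4, 3, 4, 5, 2, 3, 4]),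
  (6701, [7, 5, 4, 3, 4, 3, 5, 4, 8, 4], [2, 1, 4, 3, 4, 5, 4, 3, 2, 4, 5, 6, 3, 4, 2, 3, 1, 2]),
  (6777, [7, 5, 4, 3, 4, 7, 5, 4, 3, 6], [2, 1, 3, 2, 1, 4, 3, 5, 4, 2, 3, 1, 2]),
  (6778, [7, 5, 4, 3, 4, 7, 5, 4, 6, 5], [2, 1, 3, 2, 1, 4, 3, 2, 5, 6, 5, 4, 3, 1, 2])]

/-- Fixed points of `a`. -/
def F2 : List (ℕ × List ℕ × List ℕ) :=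
  [(81, [4], [2, 3, 4, 3, 2]),
  (184, [3, 7], [2, 3, 4, 3, 1, 2]),
  (193, [3, 4, 5, 7], [2, 1, 4, 3, 2, 4, 3, 4, 5, 4, 3, 2, 4, 6, 3, 4, 5, 4, 3, 4, 2, 3, 4, 1, 2]),
  (197, [], [2, 3, 4, 3, 1, 2]),
  (198, [3, 4], [2, 3, 1, 2]),
  (212, [3, 7, 4], [2, 3, 4, 3, 2]),
  (337, [3, 4, 5, 8], [2, 3, 4, 3, 2, 4, 3, 4, 5, 4, 3, 2, 4, 3, 4, 5, 4, 3, 4, 2, 3, 4, 1, 2]),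
  (400, [3, 5, 7], [3, 5, 4, 3, 2, 6, 5, 4, 3, 4, 5, 6, 1, 2, 3, 4, 5, 3]),
  (407, [7], [2, 4, 3, 4, 1, 2]),
  (408, [3, 7, 5], [2, 3, 4, 5, 4, 3, 1, 2]),
  (409, [3], [2, 4, 3, 4, 1, 2]),
  (428, [3, 4, 5, 4, 7], [2, 3, 4, 3, 4, 5, 4, 3, 4, 3, 2]),
  (432, [3, 4, 5, 7, 4], [2, 1, 3, 2, 4, 3, 4, 5, 4, 3, 2, 4, 6, 3, 4, 5, 4, 3, 4, 2, 3, 1, 2]),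
  (433, [3, 4, 5, 6], [2, 3, 1, 2]),
  (434, [3, 4, 5], [2, 3, 1, 2]),
  (441, [5], [2, 3, 4, 5, 4, 3, 1, 2]),
  (465, [3, 7, 4, 5], [2, 3, 4, 5, 4, 3, 2]),
  (466, [7, 4], [2, 3, 1, 2]),
  (718, [3, 5, 8], [3, 5, 4, 6, 5, 4, 3, 2, 4, 3, 4, 1, 2, 3, 4, 5, 6, 4, 5, 3]),
  (730, [3, 4, 5, 4, 8], [2, 4, 3, 4, 5, 4, 3, 4, 2]),
  (734, [3, 4, 5, 8, 4], [2, 1, 3, 2, 4, 3, 4, 5, 4, 3, 2, 4, 3, 4, 5, 6, 4, 2, 3, 4, 2, 3, 1, 2]),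
  (749, [7, 4, 5, 8], [2, 3, 4, 5, 6, 5, 4, 3, 2]),
  (885, [3, 5, 4, 7], [5, 4, 3, 2, 4, 3, 4, 5, 4, 3, 4, 2, 3, 4, 5]),
  (892, [5, 7], [5, 4, 3, 2, 6, 5, 4, 3, 4, 5, 6, 1, 2, 3, 4, 5]),
  (893, [3, 5, 7, 4], [4, 3, 5, 4, 3, 2, 6, 5, 4, 3, 4, 5, 6, 1, 2, 3, 4, 5, 3, 4]),
  (894, [3, 5, 7, 5], [3, 4, 3, 2, 6, 5, 4, 3, 4, 5, 6, 1, 2, 3, 4, 3]),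
  (895, [3, 5, 6], [2, 6, 5, 4, 3, 4, 5, 6, 1, 2]),
  (896, [3, 5], [2, 5, 4, 3, 4, 5, 1, 2]),
  (916, [7, 5], [2, 5, 4, 3, 4, 5, 1, 2]),
  (917, [3, 7, 5, 4], [2, 4, 3, 4, 5, 4, 3, 4, 1, 2]),
  (918, [3, 7, 5, 6], [2, 3, 4, 5, 6, 5, 4, 3, 1, 2]),
  (919, [3, 7, 5, 7], [4, 3, 2, 5, 4, 3, 4, 5, 1, 2, 3, 4]),
  (920, [3, 7, 5, 8], [4, 3, 2, 6, 5, 4, 3, 4, 5, 6, 1, 2, 3, 4]),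
  (968, [3, 4, 5, 4, 3, 7], [2, 3, 2, 4, 3, 4, 5, 4, 3, 4, 2, 3, 2]),
  (969, [3, 4, 5, 4, 7, 5], [2, 1, 3, 4, 3, 5, 4, 6, 5, 3, 4, 3, 2]),
  (970, [3, 4, 5, 4, 6], [2, 4, 3, 4, 1, 2]),
  (971, [3, 4, 5, 4], [2, 4, 3, 4, 1, 2]),
  (980, [3, 4, 5, 7, 4, 3], [2, 1, 3, 2, 1, 4, 3, 2, 4, 5, 4, 3, 2, 4, 3, 4, 5, 3, 4, 3, 4, 2, 3, 1, 2]),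
  (981, [7, 4, 5, 4, 6], [2, 4, 3, 4, 1, 2]),
  (982, [7, 4, 5, 4], [2, 4, 3, 4, 1, 2]),
  (1000, [5, 6], [2, 3, 4, 5, 6, 5, 4, 3, 1, 2]),
  (1001, [5, 8], [5, 4, 6, 5, 4, 3, 2, 4, 3, 4, 1, 2, 3, 4, 5, 6, 4, 5]),
  (1046, [7, 5, 7], [3, 4, 3, 2, 5, 4, 3, 4, 5, 1, 2, 3, 4, 3]),
  (1057, [7, 4, 5, 6], [2, 3, 1, 2]),
  (1058, [7, 4, 5], [2, 3, 1, 2]),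
  (1611, [3, 5, 4, 8], [6, 5, 4, 3, 2, 4, 3, 4, 5, 4, 3, 4, 2, 3, 4, 5, 6]),
  (1623, [3, 5, 8, 4], [3, 2, 4, 5, 4, 3, 2, 4, 3, 4, 5, 4, 3, 4, 2, 3, 4, 5, 4, 2, 3]),
  (1624, [3, 5, 8, 5], [3, 4, 6, 5, 4, 3, 2, 4, 3, 4, 1, 2, 3, 4, 5, 6, 4, 3]),
  (1655, [7, 5, 8, 4, 5], [3, 2, 4, 3, 4, 5, 4, 3, 4, 2, 3]),
  (1664, [3, 4, 5, 8, 4, 3], [2, 1, 3, 2, 1, 4, 3, 4, 5, 4, 3, 2, 4, 3, 4, 5, 2, 3, 4, 3, 4, 2, 3, 1, 2]),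
  (1665, [3, 4, 5, 8, 4, 5], [2, 1, 3, 2, 5, 4, 3, 2, 4, 6, 5, 4, 3, 4, 5, 2, 3, 4, 3, 4, 5, 4, 2, 3, 1, 2]),
  (1684, [7, 5, 8], [4, 3, 2, 4, 3, 4, 5, 4, 3, 4, 1, 2, 3, 4]),
  (2014, [3, 5, 4, 3, 7], [2, 5, 4, 3, 2, 4, 3, 4, 5, 4, 3, 4, 2, 3, 4, 5, 2]),
  (2015, [5, 7, 4, 3], [5, 4, 3, 2, 4, 3, 4, 5, 4, 3, 4, 1, 2, 3, 4, 5]),
  (2016, [3, 5, 4, 7, 5], [4, 3, 2, 4, 3, 4, 5, 4, 3, 4, 2, 3, 4]),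
  (2017, [3, 5, 4, 6], [2, 6, 5, 4, 3, 4, 5, 6, 1, 2]),
  (2018, [3, 5, 4], [2, 5, 4, 3, 4, 5, 1, 2]),
  (2038, [5, 7, 4], [5, 4, 3, 2, 6, 5, 4, 3, 4, 5, 6, 1, 2, 3, 4, 5]),
  (2039, [5, 7, 5], [4, 3, 2, 6, 5, 4, 3, 4, 5, 6, 1, 2, 3, 4]),
  (2040, [3, 5, 7, 4, 3], [2, 4, 6, 5, 4, 3, 2, 4, 3, 4, 5, 4, 3, 4, 2, 3, 4, 5, 6, 4, 2]),
  (2041, [7, 5, 4, 8], [4, 3, 4, 5, 4, 3, 2, 4, 3, 4, 1, 2, 3, 4, 5, 4, 3, 4]),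
  (2042, [5, 7, 5, 4], [3, 2, 6, 5, 4, 3, 4, 5, 6, 1, 2, 3]),
  (2043, [3, 5, 7, 4, 8], [3, 2, 5, 4, 3, 4, 5, 1, 2, 3]),
  (2044, [5, 7, 4, 7], [3, 4, 3, 2, 5, 4, 3, 4, 5, 1, 2, 3, 4, 3]),
  (2045, [5, 8, 4], [5, 4, 6, 5, 4, 3, 2, 4, 3, 4, 1, 2, 3, 4, 5, 6, 4, 5]),
  (2089, [7, 5, 4], [2, 5, 4, 3, 4, 5, 1, 2]),
  (2090, [7, 5, 6], [2, 6, 5, 4, 3, 4, 5, 6, 1, 2]),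
  (2091, [7, 5, 8, 4], [3, 2, 4, 3, 4, 5, 4, 3, 4, 1, 2, 3]),
  (2092, [3, 7, 5, 4, 6], [2, 3, 4, 3, 4, 5, 4, 3, 4, 3, 1, 2]),
  (2093, [5, 8, 5, 4], [6, 5, 4, 3, 2, 4, 3, 4, 1, 2, 3, 4, 5, 6]),
  (2094, [3, 7, 5, 4, 8], [5, 4, 3, 2, 4, 3, 4, 1, 2, 3, 4, 5]),
  (2096, [7, 5, 4, 3], [3, 2, 5, 4, 3, 4, 5, 1, 2, 3]),
  (2097, [3, 5, 8, 5, 8], [4, 5, 4, 3, 2, 4, 3, 4, 1, 2, 3, 4, 5, 4]),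
  (2098, [3, 7, 5, 8, 4], [3, 2, 6, 5, 4, 3, 4, 5, 6, 1, 2, 3]),
  (2209, [3, 5, 4, 6, 5, 8], [2, 3, 2, 1, 4, 3, 5, 4, 6, 5, 3, 4, 2, 3, 2]),
  (2215, [3, 5, 4, 3, 7, 5], [2, 4, 3, 2, 4, 3, 4, 5, 4, 3, 4, 2, 3, 4, 2]),
  (2216, [3, 4, 5, 4, 3, 6], [3, 2, 4, 3, 4, 1, 2, 3]),
  (2217, [3, 4, 5, 4, 3], [3, 2, 4, 3, 4, 1, 2, 3]),
  (2218, [3, 7, 5, 4, 6, 5], [2, 3, 4, 3, 5, 6, 4, 5, 3, 4, 3, 2]),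
  (2219, [3, 5, 4, 3, 4, 5], [3, 2, 6, 5, 4, 3, 4, 5, 6, 1, 2, 3]),
  (2220, [3, 4, 5, 4, 3, 6, 5], [3, 2, 5, 4, 3, 4, 5, 1, 2, 3]),
  (2221, [3, 4, 5, 4, 6, 5], [2, 5, 4, 3, 4, 5, 1, 2]),
  (2240, [3, 5, 7, 4, 8, 5], [3, 2, 4, 3, 4, 1, 2, 3]),
  (2241, [7, 4, 5, 4, 3], [3, 2, 4, 3, 4, 1, 2, 3]),
  (2242, [3, 5, 7, 4, 3, 8], [2, 5, 4, 3, 4, 5, 1, 2]),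
  (2278, [5, 8, 5], [4, 6, 5, 4, 3, 2, 4, 3, 4, 1, 2, 3, 4, 5, 6, 4]),
  (2371, [7, 5, 4, 7], [3, 2, 5, 4, 3, 2, 4, 3, 5, 6, 4, 5, 3, 4, 2, 3, 4, 5, 2, 3]),
  (2375, [7, 5, 7, 4], [2, 3, 2, 4, 3, 4, 5, 4, 3, 4, 1, 2, 3, 2]),
  (2376, [5, 8, 5, 8], [3, 4, 5, 4, 3, 2, 4, 3, 4, 1, 2, 3, 4, 5, 4, 3]),
  (3593, [3, 5, 4, 3, 8], [2, 6, 5, 4, 3, 2, 4, 3, 4, 5, 4, 3, 4, 2, 3, 4, 5, 6, 2]),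
  (3594, [5, 7, 5, 8], [6, 5, 4, 3, 2, 4, 3, 4, 5, 4, 3, 4, 1, 2, 3, 4, 5, 6]),
  (3619, [3, 5, 8, 4, 3], [2, 4, 5, 4, 3, 2, 4, 3, 4, 5, 4, 3, 4, 2, 3, 4, 5, 4, 2]),
  (3620, [3, 5, 8, 4, 5], [3, 2, 4, 3, 2, 1, 4, 3, 5, 4, 6, 5, 3, 4, 2, 3, 4, 2, 3]),
  (3621, [3, 5, 8, 5, 6], [3, 4, 5, 4, 3, 2, 4, 3, 4, 1, 2, 3, 4, 5, 4, 3]),
  (3622, [5, 8, 4, 5], [4, 6, 5, 4, 3, 2, 4, 3, 4, 1, 2, 3, 4, 5, 6, 4]),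
  (3684, [7, 5, 7, 4, 5], [2, 3, 2, 4, 3, 5, 6, 4, 5, 3, 4, 2, 3, 2]),
  (3712, [3, 4, 5, 4, 3, 4, 8], [2, 1, 3, 2, 4, 3, 5, 4, 3, 2, 6, 5, 4, 3, 4, 5, 6, 2, 3, 4, 5, 1, 2, 3, 1, 2]),
  (3713, [3, 4, 5, 4, 3, 4, 3], [4, 3, 2, 4, 3, 4, 1, 2, 3, 4]),
  (3714, [3, 4, 5, 4, 3, 4], [4, 3, 2, 4, 3, 4, 1, 2, 3, 4]),
  (4477, [3, 5, 4, 3, 4], [3, 2, 6, 5, 4, 3, 4, 5, 6, 1, 2, 3]),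
  (4478, [3, 5, 4, 3], [3, 2, 5, 4, 3, 4, 5, 1, 2, 3]),
  (4479, [5, 7, 5, 6], [4, 3, 2, 5, 4, 3, 4, 5, 1, 2, 3, 4]),
  (4480, [3, 5, 4, 7, 5, 7], [4, 3, 2, 4, 3, 4, 1, 2, 3, 4]),
  (4481, [3, 5, 4, 7, 5, 8], [4, 3, 2, 4, 3, 4, 1, 2, 3, 4]),
  (4482, [3, 5, 4, 6, 5], [2, 6, 5, 4, 3, 4, 5, 6, 1, 2]),
  (4509, [5, 8, 5, 7, 4], [2, 6, 5, 4, 3, 2, 4, 3, 5, 6, 4, 5, 3, 4, 2, 3, 4, 5, 6, 2]),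
  (4510, [5, 7, 5, 4, 3], [2, 6, 5, 4, 3, 4, 5, 6, 1, 2]),
  (4511, [7, 5, 4, 6], [2, 6, 5, 4, 3, 4, 5, 6, 1, 2]),
  (4603, [5, 8, 4, 5, 4], [6, 5, 4, 3, 2, 4, 3, 4, 1, 2, 3, 4, 5, 6]),
  (4604, [7, 5, 7, 4, 7], [5, 4, 3, 2, 4, 3, 4, 1, 2, 3, 4, 5]),
  (4606, [5, 8, 5, 6], [4, 5, 4, 3, 2, 4, 3, 4, 1, 2, 3, 4, 5, 4]),
  (4608, [5, 8, 5, 8, 4], [2, 5, 4, 3, 2, 4, 3, 5, 6, 4, 5, 3, 4, 2, 3, 4, 5, 2]),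
  (4880, [3, 5, 8, 4, 3, 5], [2, 4, 3, 2, 1, 4, 3, 5, 4, 6, 5, 3, 4, 2, 3, 4, 2]),
  (4890, [3, 5, 8, 4, 5, 8], [5, 4, 3, 2, 4, 3, 4, 1, 2, 3, 4, 5]),
  (4892, [3, 5, 8, 4, 5, 7], [4, 3, 2, 5, 4, 3, 4, 5, 1, 2, 3, 4]),
  (5009, [5, 8, 5, 7], [3, 4, 6, 5, 4, 3, 2, 4, 3, 4, 1, 2, 3, 4, 5, 6, 4, 3]),
  (5203, [7, 5, 4, 7, 5], [3, 2, 4, 3, 2, 4, 3, 5, 6, 4, 5, 3, 4, 2, 3, 4, 2, 3]),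
  (7838, [5, 8, 5, 8, 4, 5], [2, 4, 3, 2, 4, 3, 5, 6, 4, 5, 3, 4, 2, 3, 4, 2]),
  (7881, [3, 5, 8, 4, 3, 5, 8], [5, 4, 3, 2, 4, 3, 4, 1, 2, 3, 4, 5]),
  (10373, [3, 5, 8, 4, 3, 5, 7], [3, 4, 3, 2, 5, 4, 3, 4, 5, 1, 2, 3, 4, 3])]

theorem fix_chk : allN (fun i => allN (fun j => bO
    (bN (Nat.beq (T [1] (Nat.add (Nat.mul i 360) j)) (Nat.add (Nat.mul i 360) j)))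
    (bO (anyL (fun e => Nat.beq (Nat.add (Nat.mul i 360) j) e.1) F1)
      (anyL (fun e => Nat.beq (Nat.add (Nat.mul i 360) j) e.1) F2))) 360) 341 = true := by
  decide +kernel

theorem f1_chk : fChk 0 F1 = true := by decide +kernel

theorem f2_chk : fChk 197 F2 = true := by decide +kernel

theorem f1_len : F1.length = 240 := by decide +kernel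

/-- Elements giving the conjugates of `f` in `C(a)`. -/
def Vf : List (List ℕ) :=
  [[7, 5], [6, 5], [4, 5, 7, 3, 4, 5, 3, 4, 3, 4, 5],
  [5, 6, 4, 5], [], [4, 5, 7, 3, 4, 7, 5, 6, 3, 4, 5],
  [4, 7, 5, 6, 4, 5], [5, 8, 5], [7, 3, 4, 7, 5, 6, 3, 4, 5],
  [5, 8, 4, 5, 7, 3, 4, 5, 3, 4, 3, 4, 5], [5, 7, 5, 6, 4, 5], [5, 8, 5, 4, 7, 5],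
  [4, 7, 4, 5], [4, 7, 5, 7, 4, 5], [5, 7, 4, 5],
  [5, 6, 3, 4, 5], [7, 3, 4, 5, 6, 3, 4, 5], [4, 7, 5, 7, 3, 4, 5, 3, 4, 3, 4, 5],
  [6, 4, 5], [7, 5, 6, 4, 5], [5],
  [5, 3, 4, 7, 5, 6, 3, 4, 5], [3, 4, 5, 6, 3, 4, 5], [6, 4, 5, 3, 4, 8, 5, 3, 4, 3, 4, 5],
  [7, 5, 7, 4, 7, 5], [4, 5, 3, 4, 3, 4, 5, 7, 4, 3, 4, 5], [4, 5, 6, 3, 4, 5, 4, 7, 3, 4, 5],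
  [6, 4, 5, 7, 3, 4, 5, 3, 4, 3, 4, 5], [8, 5], [6, 5, 3, 4, 7, 5, 6, 3, 4, 5],
  [8, 5, 7, 4, 7, 5], [6, 5, 3, 4, 7, 5, 3, 4, 3, 4, 5], [4, 8, 5],
  [5, 8, 5, 7, 4, 5], [8, 4, 5], [5, 4, 7, 5],
  [6, 5, 7, 4, 7, 5], [5, 7, 5], [8, 5, 7, 5],
  [3, 4, 7, 5, 6, 4, 5], [7, 4, 7, 5, 6, 3, 4, 5], [5, 7, 5, 6, 3, 4, 5],
  [5, 8, 5, 3, 4, 7, 5], [7, 5, 4, 7, 5, 6, 3, 4, 5], [5, 4, 8, 5, 3, 4, 3, 4, 5],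
  [7, 4, 5, 3, 4, 3, 4, 5], [7, 5, 7, 4, 5, 6, 3, 4, 5], [6, 5, 8, 4, 5],
  [7, 5, 4, 8, 5], [5, 7, 3, 4, 7, 5, 6, 3, 4, 5], [3, 4, 7, 5, 6, 3, 4, 5],
  [8, 4, 5, 7, 3, 4, 5, 3, 4, 3, 4, 5], [8, 5, 4, 7, 5], [4, 8, 5, 7, 3, 4, 5, 3, 4, 3, 4, 5],
  [5, 7, 3, 4, 5, 6, 3, 4, 5], [4, 3, 4, 5, 7, 5, 4, 3, 4, 5], [3, 4, 3, 4, 5, 7, 5, 4, 3, 4, 5],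
  [8, 5, 7, 3, 4, 5, 6, 3, 4, 5], [5, 7, 5, 8, 4, 5], [8, 3, 4, 5, 3, 4, 3, 4, 5],
  [7, 4, 5], [7, 5, 4, 7, 5], [5, 7, 4, 7, 5],
  [6, 5, 4, 8, 5], [6, 5, 4, 7, 5], [6, 5, 7, 3, 4, 5, 6, 3, 4, 5],
  [6, 5, 7, 3, 4, 5, 3, 4, 3, 4, 5], [4, 5, 7, 3, 4, 5, 6, 3, 4, 5], [5, 3, 4, 8, 5, 3, 4, 3, 4, 5],
  [7, 3, 4, 5, 3, 4, 3, 4, 5], [7, 5, 7, 3, 4, 5, 6, 3, 4, 5], [8, 5, 7, 4, 5],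
  [4, 5, 3, 4, 8, 5, 3, 4, 3, 4, 5], [5, 8, 5, 7, 3, 4, 5], [8, 3, 4, 5],
  [5, 3, 4, 7, 5], [6, 5, 7, 3, 4, 7, 5], [7, 4, 5, 6, 3, 4, 5],
  [6, 3, 4, 5], [7, 5, 6, 3, 4, 5], [5, 4, 7, 5, 6, 3, 4, 5],
  [4, 5, 6, 3, 4, 5], [7, 5, 7, 3, 4, 7, 5], [5, 8, 4, 5],
  [7, 5, 7, 4, 5], [3, 4, 7, 5, 3, 4, 3, 4, 5], [8, 5, 8, 3, 4, 5, 3, 4, 3, 4, 5],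
  [3, 4, 5, 3, 4, 3, 4, 5], [6, 5, 3, 4, 8, 5, 3, 4, 3, 4, 5], [7, 5, 8, 4, 5],
  [8, 5, 3, 4, 7, 5, 6, 3, 4, 5], [4, 5], [5, 3, 4, 7, 5, 3, 4, 3, 4, 5],
  [6, 5, 7, 4, 5], [4, 5, 3, 4, 7, 5, 6, 3, 4, 5], [4, 7, 5],
  [7, 5, 8, 3, 4, 5, 3, 4, 3, 4, 5], [5, 4, 8, 5], [4, 3, 4, 5, 3, 4, 3, 4, 5],
  [4, 5, 7, 4, 5], [5, 8, 3, 4, 5, 3, 4, 3, 4, 5], [3, 4, 8, 5, 3, 4, 3, 4, 5],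
  [8, 3, 4, 7, 5, 3, 4, 3, 4, 5], [8, 5, 3, 4, 7, 5, 3, 4, 3, 4, 5], [5, 7, 4, 7, 5, 6, 3, 4, 5],
  [4, 7, 5, 6, 3, 4, 5], [8, 5, 3, 4, 7, 5], [5, 7, 4, 5, 6, 3, 4, 5],
  [8, 5, 7, 4, 5, 6, 3, 4, 5], [5, 7, 5, 8, 3, 4, 5], [5, 8, 4, 3, 4, 5, 7, 5, 4, 3, 4, 5],
  [5, 7, 4, 5, 6, 3, 4, 5, 7, 3, 4, 5], [5, 4, 3, 4, 5, 8, 5, 7, 4, 3, 4, 5], [5, 4, 8, 5, 6, 3, 4, 5, 3, 4, 8, 5],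
  [8, 4, 5, 3, 4, 3, 4, 5], [7, 3, 4, 5], [8, 5, 7, 3, 4, 5, 3, 4, 3, 4, 5],
  [8, 5, 8, 4, 5], [8, 4, 7, 5], [7, 5, 3, 4, 8, 5, 3, 4, 3, 4, 5],
  [5, 7, 3, 4, 5, 3, 4, 3, 4, 5], [7, 5, 3, 4, 3, 4, 5], [6, 3, 4, 5, 8, 3, 4, 5],
  [5, 4, 8, 5, 4, 3, 4, 5], [5, 6, 4, 5, 3, 4, 7, 5], [7, 5, 7, 3, 4, 5, 3, 4, 3, 4, 5],
  [6, 5, 8, 3, 4, 5, 3, 4, 3, 4, 5], [7, 4, 7, 5], [7, 3, 4, 7, 5, 3, 4, 3, 4, 5],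
  [5, 7, 3, 4, 7, 5], [6, 5, 3, 4, 7, 5], [5, 8, 3, 4, 5, 3, 4, 8, 5],
  [7, 3, 4, 5, 4, 7, 3, 4, 5], [4, 5, 3, 4, 3, 4, 5], [6, 5, 4, 8, 5, 3, 4, 3, 4, 5],
  [8, 5, 4, 7, 5, 6, 3, 4, 5], [6, 5, 7, 3, 4, 5], [7, 5, 8, 3, 4, 5, 8, 4, 3, 4, 5],
  [7, 3, 4, 7, 5, 7, 3, 4, 5], [3, 4, 5], [5, 4, 7, 5, 3, 4, 3, 4, 5],
  [4, 5, 6, 3, 4, 5, 7, 3, 4, 5], [5, 8, 5, 4, 3, 4, 5], [4, 3, 4, 5, 8, 5, 7, 4, 3, 4, 5],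
  [4, 8, 5, 6, 3, 4, 5, 3, 4, 8, 5], [7, 5, 4, 7, 5, 3, 4, 3, 4, 5], [3, 4, 8, 5],
  [6, 5, 8, 4, 5, 3, 4, 3, 4, 5], [6, 4, 3, 4, 5, 7, 5, 4, 3, 4, 5], [3, 4, 7, 5],
  [7, 5, 8, 4, 5, 3, 4, 3, 4, 5], [3, 4, 5, 3, 4, 8, 5], [7, 5, 4, 3, 4, 5],
  [6, 4, 5, 8, 3, 4, 5], [5, 4, 3, 4, 5, 8, 3, 4, 5], [7, 5, 7, 4, 7, 3, 4, 5],
  [3, 4, 3, 4, 5], [8, 4, 5, 7, 5, 4, 3, 4, 5], [4, 8, 3, 4, 5, 7, 5, 4, 3, 4, 5],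
  [4, 8, 5, 7, 5, 3, 4, 3, 4, 5], [8, 5, 4, 3, 4, 5], [8, 5, 7, 4, 5, 3, 4, 8, 5],
  [4, 5, 6, 3, 4, 5, 7, 4, 3, 4, 5], [8, 5, 8, 3, 4, 5, 3, 4, 8, 5], [5, 6, 3, 4, 5, 3, 4, 8, 5],
  [3, 4, 5, 6, 3, 4, 5, 7, 3, 4, 5], [4, 5, 4, 8, 3, 4, 5], [8, 4, 3, 4, 5, 7, 5, 4, 3, 4, 5],
  [7, 4, 5, 6, 3, 4, 5, 7, 3, 4, 5], [4, 3, 4, 5, 7, 5, 3, 4, 3, 4, 5], [3, 4, 5, 6, 3, 4, 5, 7, 4, 3, 4, 5],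
  [8, 4, 7, 3, 4, 5], [4, 7, 5, 7, 4, 5, 3, 4, 3, 4, 5], [6, 4, 3, 4, 5, 4, 7, 3, 4, 5],
  [4, 8, 5, 7, 4, 3, 4, 5], [4, 5, 3, 4, 7, 5], [4, 7, 5, 4, 8, 3, 4, 5],
  [8, 5, 8, 4, 5, 7, 3, 4, 5], [4, 8, 3, 4, 5, 4, 7, 3, 4, 5], [8, 5, 7, 3, 4, 5],
  [3, 4, 5, 7, 4, 5], [5, 7, 4, 7, 3, 4, 5], [7, 3, 4, 5, 8, 4, 3, 4, 5],
  [7, 3, 4, 5, 4, 7, 5, 6, 3, 4, 5], [7, 5, 4, 8, 5, 8, 3, 4, 5], [3, 4, 7, 5, 7, 5, 4, 3, 4, 5],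
  [5, 4, 7, 3, 4, 5], [5, 7, 4, 3, 4, 5, 8, 4, 3, 4, 5], [3, 4, 5, 7, 3, 4, 5],
  [8, 4, 3, 4, 5, 8, 4, 7, 3, 4, 5], [7, 5, 6, 3, 4, 5, 7, 3, 4, 5], [5, 3, 4, 8, 5, 4, 7, 3, 4, 5],
  [3, 4, 7, 5, 7, 3, 4, 5], [8, 5, 8, 4, 5, 3, 4, 3, 4, 5], [6, 5, 8, 3, 4, 5],
  [8, 5, 4, 7, 5, 3, 4, 3, 4, 5], [5, 8, 3, 4, 5], [4, 7, 5, 3, 4, 3, 4, 5],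
  [7, 5, 3, 4, 8, 5], [4, 8, 5, 3, 4, 3, 4, 5], [7, 5, 7, 3, 4, 5],
  [8, 5, 8, 3, 4, 5], [5, 4, 3, 4, 5, 4, 7, 3, 4, 5], [7, 5, 3, 4, 7, 5],
  [8, 5, 7, 4, 5, 3, 4, 3, 4, 5], [6, 5, 4, 7, 5, 3, 4, 3, 4, 5], [3, 4, 7, 5, 7, 4, 5],
  [4, 5, 3, 4, 8, 5, 7, 3, 4, 5], [7, 5, 4, 8, 5, 3, 4, 3, 4, 5], [3, 4, 5, 4, 8, 3, 4, 5],
  [6, 5, 7, 4, 5, 3, 4, 3, 4, 5], [5, 7, 4, 5, 3, 4, 3, 4, 5], [4, 5, 7, 5, 4, 3, 4, 5],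
  [8, 3, 4, 7, 5], [5, 3, 4, 8, 5], [4, 3, 4, 5, 8, 4, 3, 4, 5],
  [8, 5, 3, 4, 8, 5, 7, 3, 4, 5], [6, 3, 4, 5, 7, 4, 5, 6, 3, 4, 5], [7, 5, 8, 3, 4, 5],
  [4, 8, 5, 6, 4, 5, 8, 3, 4, 5], [7, 5, 7, 4, 5, 3, 4, 3, 4, 5], [6, 4, 5, 3, 4, 3, 4, 5],
  [4, 7, 5, 4, 3, 4, 5], [6, 5, 8, 4, 3, 4, 5], [5, 7, 3, 4, 5],
  [6, 5, 4, 7, 5, 6, 3, 4, 5], [7, 4, 5, 6, 3, 4, 5, 3, 4, 8, 5], [5, 8, 4, 3, 4, 5],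
  [7, 5, 7, 3, 4, 5, 8, 4, 3, 4, 5], [5, 7, 5, 4, 3, 4, 5], [5, 4, 3, 4, 5, 8, 4, 3, 4, 5],
  [8, 5, 7, 3, 4, 7, 5], [6, 5, 8, 5, 4, 3, 4, 5], [8, 5, 4, 8, 3, 4, 5],
  [7, 4, 7, 5, 8, 4, 3, 4, 5], [8, 5, 4, 8, 5, 7, 3, 4, 5], [3, 4, 5, 8, 3, 4, 5],
  [3, 4, 8, 5, 8, 4, 7, 3, 4, 5], [5, 7, 4, 5, 8, 3, 4, 5], [4, 7, 5, 6, 4, 5, 3, 4, 7, 5],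
  [7, 5, 8, 4, 5, 8, 4, 3, 4, 5], [3, 4, 5, 8, 4, 3, 4, 5], [3, 4, 7, 5, 7, 4, 7, 3, 4, 5],
  [5, 8, 5, 3, 4, 3, 4, 5], [6, 4, 5, 4, 8, 3, 4, 5], [6, 4, 5, 7, 3, 4, 5],
  [4, 3, 4, 5, 8, 4, 7, 3, 4, 5], [3, 4, 5, 7, 4, 3, 4, 5], [7, 4, 5, 8, 3, 4, 5],
  [7, 4, 5, 4, 7, 3, 4, 5], [3, 4, 3, 4, 5, 7, 4, 5], [7, 4, 5, 8, 4, 3, 4, 5],
  [4, 7, 5, 7, 5, 4, 3, 4, 5], [7, 4, 5, 4, 7, 5, 6, 3, 4, 5], [4, 5, 3, 4, 8, 5],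
  [6, 5, 4, 8, 5, 8, 4, 3, 4, 5], [6, 3, 4, 5, 4, 7, 5, 3, 4, 3, 4, 5], [4, 8, 5, 8, 4, 7, 3, 4, 5],
  [6, 5, 8, 4, 5, 7, 3, 4, 5], [7, 4, 7, 5, 7, 4, 3, 4, 5], [4, 7, 5, 8, 3, 4, 5],
  [5, 6, 3, 4, 5, 7, 5, 4, 3, 4, 5], [7, 5, 3, 4, 7, 5, 7, 5, 4, 3, 4, 5], [6, 3, 4, 5, 7, 3, 4, 5],
  [7, 5, 4, 7, 3, 4, 5], [4, 8, 5, 4, 8, 3, 4, 5], [7, 5, 8, 4, 3, 4, 5],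
  [4, 7, 5, 7, 4, 3, 4, 5], [4, 7, 5, 7, 4, 7, 3, 4, 5], [5, 3, 4, 3, 4, 5],
  [3, 4, 5, 8, 5, 4, 3, 4, 5], [6, 5, 7, 4, 3, 4, 5], [8, 5, 4, 7, 3, 4, 5],
  [7, 5, 7, 4, 3, 4, 5], [3, 4, 7, 5, 7, 4, 3, 4, 5], [7, 3, 4, 5, 7, 4, 3, 4, 5],
  [7, 4, 5, 4, 8, 3, 4, 5], [5, 8, 5, 7, 4, 3, 4, 5], [7, 5, 6, 4, 5, 3, 4, 7, 5],
  [5, 7, 5, 4, 8, 3, 4, 5], [5, 6, 4, 5, 8, 4, 3, 4, 5], [5, 3, 4, 3, 4, 5, 7, 4, 3, 4, 5],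
  [7, 5, 4, 7, 5, 3, 4, 8, 5], [5, 8, 5, 4, 7, 5, 3, 4, 8, 5], [7, 5, 8, 4, 5, 3, 4, 8, 5],
  [8, 5, 8, 4, 5, 8, 4, 3, 4, 5], [7, 5, 4, 8, 5, 7, 3, 4, 5], [6, 4, 5, 8, 5, 4, 3, 4, 5],
  [7, 4, 5, 8, 4, 7, 3, 4, 5], [5, 7, 5, 8, 4, 5, 7, 3, 4, 5], [5, 6, 4, 5, 4, 8, 3, 4, 5],
  [4, 8, 5, 8, 4, 3, 4, 5], [6, 3, 4, 5, 4, 7, 3, 4, 5], [5, 7, 3, 4, 5, 8, 3, 4, 5],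
  [8, 5, 7, 4, 3, 4, 5], [4, 3, 4, 5, 7, 4, 7, 3, 4, 5], [8, 4, 5, 6, 3, 4, 5, 7, 3, 4, 5],
  [5, 7, 3, 4, 5, 8, 4, 3, 4, 5], [8, 5, 8, 5, 4, 3, 4, 5], [5, 6, 4, 5, 8, 3, 4, 5],
  [3, 4, 7, 5, 4, 3, 4, 5], [8, 5, 8, 4, 3, 4, 5], [6, 5, 8, 3, 4, 5, 7, 3, 4, 5],
  [4, 7, 5, 7, 4, 5, 3, 4, 8, 5], [5, 7, 4, 5, 4, 8, 3, 4, 5], [7, 3, 4, 7, 5],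
  [7, 5, 8, 3, 4, 5, 3, 4, 8, 5], [5, 6, 3, 4, 5, 8, 3, 4, 5], [5, 8, 4, 5, 8, 4, 3, 4, 5],
  [7, 3, 4, 7, 5, 4, 3, 4, 5], [8, 5, 6, 4, 5, 3, 4, 7, 5], [5, 7, 5, 6, 4, 5, 3, 4, 8, 5],
  [5, 3, 4, 8, 5, 8, 4, 3, 4, 5], [6, 4, 5, 3, 4, 8, 5], [7, 5, 6, 3, 4, 5, 3, 4, 8, 5],
  [6, 4, 5, 3, 4, 7, 5], [6, 3, 4, 5, 4, 8, 3, 4, 5], [3, 4, 8, 5, 4, 3, 4, 5],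
  [7, 5, 6, 4, 5, 7, 5, 4, 3, 4, 5], [3, 4, 5, 7, 4, 5, 6, 3, 4, 5], [4, 5, 4, 8, 5, 7, 4, 3, 4, 5],
  [6, 3, 4, 5, 7, 4, 3, 4, 5], [8, 4, 3, 4, 5], [7, 4, 7, 5, 3, 4, 3, 4, 5],
  [6, 4, 3, 4, 5, 8, 5, 4, 3, 4, 5], [8, 5, 7, 5, 4, 3, 4, 5], [6, 5, 3, 4, 8, 5, 7, 3, 4, 5],
  [3, 4, 5, 4, 7, 5, 6, 3, 4, 5], [4, 7, 5, 3, 4, 8, 5], [5, 4, 7, 5, 4, 3, 4, 5],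
  [7, 5, 7, 3, 4, 5, 4, 7, 3, 4, 5], [4, 3, 4, 5, 4, 8, 5, 4, 3, 4, 5], [8, 5, 3, 4, 3, 4, 5],
  [7, 5, 7, 4, 5, 8, 3, 4, 5], [4, 5, 8, 3, 4, 5], [3, 4, 5, 6, 3, 4, 5, 3, 4, 8, 5],
  [7, 5, 6, 4, 5, 3, 4, 8, 5], [5, 7, 5, 6, 3, 4, 5, 3, 4, 8, 5], [3, 4, 5, 8, 4, 7, 3, 4, 5],
  [6, 4, 5, 4, 7, 5, 6, 3, 4, 5], [6, 5, 7, 4, 5, 3, 4, 8, 5], [5, 8, 4, 3, 4, 5, 7, 3, 4, 5],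
  [5, 3, 4, 7, 5, 4, 7, 3, 4, 5], [8, 4, 3, 4, 5, 7, 5, 3, 4, 3, 4, 5], [5, 8, 4, 5, 3, 4, 3, 4, 5],
  [8, 4, 7, 5, 3, 4, 3, 4, 5], [6, 5, 3, 4, 8, 5], [4, 5, 4, 7, 5, 6, 3, 4, 5],
  [5, 4, 3, 4, 5, 7, 4, 3, 4, 5], [3, 4, 5, 4, 7, 3, 4, 5], [7, 3, 4, 7, 5, 7, 4, 3, 4, 5],
  [5, 6, 3, 4, 5, 4, 8, 3, 4, 5], [7, 3, 4, 7, 5, 8, 4, 3, 4, 5], [7, 5, 3, 4, 8, 5, 8, 4, 3, 4, 5],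
  [3, 4, 5, 3, 4, 7, 5], [5, 7, 4, 3, 4, 5, 7, 4, 5], [4, 3, 4, 5],
  [3, 4, 7, 5, 6, 4, 5, 3, 4, 7, 5], [5, 6, 4, 5, 3, 4, 8, 5], [8, 5, 7, 3, 4, 5, 4, 7, 3, 4, 5],
  [4, 5, 8, 4, 3, 4, 5], [6, 5, 4, 7, 5, 7, 3, 4, 5], [8, 4, 3, 4, 5, 7, 4, 3, 4, 5],
  [8, 4, 7, 5, 4, 8, 3, 4, 5], [7, 3, 4, 5, 7, 3, 4, 5], [8, 5, 4, 7, 5, 7, 3, 4, 5],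
  [4, 5, 8, 5, 4, 3, 4, 5], [8, 5, 7, 5, 3, 4, 3, 4, 5], [8, 5, 8, 4, 5, 3, 4, 8, 5],
  [6, 5, 7, 4, 5, 6, 3, 4, 5], [4, 7, 5, 6, 3, 4, 5, 7, 3, 4, 5], [8, 3, 4, 7, 5, 7, 4, 3, 4, 5],
  [5, 7, 3, 4, 7, 5, 8, 4, 3, 4, 5], [6, 5, 7, 5, 4, 3, 4, 5], [6, 5, 4, 8, 3, 4, 5],
  [5, 8, 3, 4, 5, 8, 4, 3, 4, 5], [7, 4, 3, 4, 5, 7, 4, 5], [8, 5, 4, 7, 5, 3, 4, 8, 5],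
  [5, 8, 5, 7, 4, 7, 3, 4, 5], [8, 4, 5, 4, 7, 3, 4, 5], [7, 4, 5, 3, 4, 8, 5],
  [6, 3, 4, 5, 7, 5, 4, 3, 4, 5], [6, 5, 8, 4, 5, 3, 4, 8, 5], [5, 4, 8, 5, 8, 4, 3, 4, 5],
  [5, 4, 8, 5, 8, 3, 4, 5], [7, 5, 7, 4, 7, 5, 7, 3, 4, 5], [8, 5, 4, 7, 5, 4, 3, 4, 5],
  [7, 5, 4, 7, 5, 4, 7, 3, 4, 5], [5, 7, 4, 7, 5, 7, 3, 4, 5], [7, 4, 7, 3, 4, 5],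
  [6, 4, 3, 4, 5, 7, 4, 3, 4, 5], [5, 8, 4, 5, 3, 4, 8, 5], [8, 5, 7, 4, 5, 4, 7, 3, 4, 5],
  [4, 7, 5, 7, 3, 4, 5], [7, 5, 6, 4, 5, 7, 3, 4, 5], [6, 5, 8, 4, 5, 4, 7, 3, 4, 5],
  [8, 5, 4, 3, 4, 5, 7, 3, 4, 5], [3, 4, 5, 4, 7, 5, 3, 4, 3, 4, 5], [7, 5, 4, 8, 3, 4, 5],
  [3, 4, 8, 5, 4, 8, 3, 4, 5], [4, 7, 3, 4, 5, 4, 7, 3, 4, 5], [4, 8, 3, 4, 5, 8, 4, 3, 4, 5],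
  [4, 3, 4, 5, 7, 4, 5], [5, 8, 5, 6, 4, 5, 7, 3, 4, 5], [4, 5, 8, 4, 3, 4, 5, 7, 3, 4, 5],
  [4, 5, 4, 8, 5, 3, 4, 3, 4, 5], [6, 5, 8, 5, 3, 4, 3, 4, 5], [4, 5, 4, 7, 5, 3, 4, 3, 4, 5],
  [5, 8, 5, 6, 3, 4, 5, 7, 3, 4, 5], [5, 3, 4, 7, 5, 7, 5, 4, 3, 4, 5], [7, 4, 3, 4, 5],
  [4, 5, 7, 4, 5, 6, 3, 4, 5], [4, 5, 7, 5, 6, 3, 4, 5], [5, 7, 4, 7, 5, 4, 3, 4, 5],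
  [7, 5, 7, 4, 5, 8, 4, 3, 4, 5], [7, 5, 7, 4, 5, 4, 7, 3, 4, 5], [4, 5, 7, 4, 5, 4, 7, 3, 4, 5],
  [4, 8, 3, 4, 5], [6, 5, 4, 7, 3, 4, 5], [6, 5, 7, 4, 7, 5, 7, 3, 4, 5],
  [4, 7, 3, 4, 5], [3, 4, 8, 5, 8, 4, 3, 4, 5], [5, 7, 3, 4, 7, 5, 7, 3, 4, 5],
  [6, 5, 4, 7, 5, 3, 4, 8, 5], [3, 4, 8, 5, 6, 4, 5, 8, 3, 4, 5], [4, 8, 5, 7, 4, 5, 6, 3, 4, 5],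
  [3, 4, 7, 5, 7, 4, 5, 6, 3, 4, 5], [4, 5, 7, 4, 7, 3, 4, 5], [3, 4, 7, 5, 8, 4, 3, 4, 5],
  [5, 4, 3, 4, 5, 7, 3, 4, 5], [5, 4, 8, 5, 7, 4, 3, 4, 5], [7, 5, 8, 5, 3, 4, 3, 4, 5],
  [8, 5, 4, 7, 5, 4, 7, 3, 4, 5], [8, 5, 6, 4, 5, 8, 3, 4, 5], [8, 3, 4, 5, 4, 7, 3, 4, 5],
  [4, 7, 5, 4, 7, 3, 4, 5], [5, 4, 7, 5, 8, 3, 4, 5], [3, 4, 8, 5, 7, 5, 3, 4, 3, 4, 5],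
  [6, 5, 7, 3, 4, 7, 5, 7, 3, 4, 5], [5, 6, 4, 5, 7, 5, 4, 3, 4, 5], [6, 5, 4, 3, 4, 5, 7, 3, 4, 5],
  [4, 7, 5, 3, 4, 8, 5, 7, 3, 4, 5], [5, 4, 7, 5, 3, 4, 8, 5], [6, 5, 4, 7, 5, 4, 7, 3, 4, 5],
  [7, 5, 7, 4, 5, 3, 4, 8, 5], [8, 5, 4, 8, 5, 8, 3, 4, 5], [7, 5, 8, 4, 5, 7, 3, 4, 5],
  [8, 5, 6, 3, 4, 5, 3, 4, 8, 5], [5, 7, 5, 3, 4, 3, 4, 5], [6, 4, 5, 7, 4, 5, 6, 3, 4, 5],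
  [8, 4, 5, 3, 4, 8, 5], [3, 4, 5, 4, 7, 5, 4, 3, 4, 5], [3, 4, 5, 4, 8, 5, 7, 4, 3, 4, 5],
  [7, 4, 5, 7, 4, 3, 4, 5], [3, 4, 5, 8, 5, 7, 4, 3, 4, 5], [7, 3, 4, 5, 4, 8, 3, 4, 5],
  [6, 5, 7, 4, 7, 3, 4, 5], [5, 7, 5, 4, 7, 3, 4, 5], [7, 5, 8, 5, 4, 3, 4, 5],
  [4, 3, 4, 5, 7, 4, 3, 4, 5], [6, 5, 8, 4, 7, 3, 4, 5], [3, 4, 5, 7, 5, 4, 3, 4, 5],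
  [5, 7, 4, 7, 5, 8, 4, 3, 4, 5], [3, 4, 3, 4, 5, 7, 4, 3, 4, 5], [4, 8, 5, 7, 4, 7, 3, 4, 5],
  [8, 4, 3, 4, 5, 8, 4, 3, 4, 5], [6, 4, 5, 7, 5, 4, 3, 4, 5], [6, 4, 5, 8, 4, 3, 4, 5],
  [5, 4, 8, 5, 4, 7, 3, 4, 5], [7, 5, 4, 7, 5, 7, 3, 4, 5], [5, 6, 4, 5, 4, 7, 3, 4, 5],
  [8, 5, 6, 4, 5, 7, 3, 4, 5], [8, 3, 4, 5, 7, 3, 4, 5], [3, 4, 7, 5, 8, 3, 4, 5],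
  [5, 8, 5, 6, 4, 5, 3, 4, 7, 5], [6, 5, 7, 5, 3, 4, 3, 4, 5], [4, 3, 4, 5, 8, 3, 4, 5],
  [4, 3, 4, 5, 8, 5, 4, 3, 4, 5], [4, 5, 4, 8, 5, 4, 3, 4, 5], [7, 5, 7, 3, 4, 5, 3, 4, 8, 5],
  [8, 4, 5, 7, 4, 5, 6, 3, 4, 5], [4, 8, 5, 6, 4, 5, 7, 3, 4, 5], [8, 4, 5, 6, 3, 4, 5, 3, 4, 8, 5],
  [8, 4, 5, 4, 7, 5, 6, 3, 4, 5], [7, 4, 3, 4, 5, 7, 4, 7, 3, 4, 5], [4, 7, 5, 6, 3, 4, 5, 3, 4, 8, 5],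
  [5, 4, 8, 5, 7, 3, 4, 5], [8, 3, 4, 5, 3, 4, 8, 5], [6, 5, 7, 4, 5, 8, 4, 3, 4, 5],
  [5, 4, 7, 5, 7, 4, 3, 4, 5], [3, 4, 8, 5, 7, 4, 3, 4, 5], [5, 4, 7, 5, 4, 7, 3, 4, 5],
  [5, 7, 5, 8, 3, 4, 5, 7, 3, 4, 5], [6, 5, 4, 3, 4, 5], [3, 4, 8, 5, 8, 3, 4, 5],
  [5, 4, 8, 3, 4, 5], [6, 3, 4, 5, 8, 4, 3, 4, 5], [5, 7, 4, 5, 4, 7, 3, 4, 5],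
  [5, 4, 7, 5, 7, 5, 4, 3, 4, 5], [5, 8, 5, 4, 7, 3, 4, 5], [4, 5, 8, 4, 5, 3, 4, 3, 4, 5],
  [5, 8, 5, 4, 3, 4, 5, 7, 3, 4, 5], [7, 4, 7, 5, 4, 3, 4, 5], [3, 4, 5, 4, 8, 5, 4, 3, 4, 5],
  [3, 4, 8, 5, 6, 4, 5, 3, 4, 7, 5], [8, 5, 7, 4, 7, 3, 4, 5], [8, 4, 3, 4, 5, 7, 3, 4, 5],
  [5, 7, 3, 4, 5, 4, 7, 3, 4, 5], [7, 4, 5, 7, 3, 4, 5], [8, 4, 5, 7, 3, 4, 5],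
  [3, 4, 5, 7, 5, 3, 4, 3, 4, 5], [6, 3, 4, 5, 8, 5, 4, 3, 4, 5], [5, 7, 5, 4, 8, 5, 8, 3, 4, 5],
  [6, 5, 4, 7, 5, 4, 3, 4, 5], [6, 4, 5, 8, 4, 7, 3, 4, 5], [8, 3, 4, 7, 5, 7, 3, 4, 5],
  [4, 5, 8, 5, 7, 4, 3, 4, 5], [6, 4, 5, 7, 4, 3, 4, 5], [5, 6, 3, 4, 5, 7, 3, 4, 5],
  [5, 3, 4, 7, 5, 4, 3, 4, 5], [4, 5, 7, 4, 3, 4, 5], [5, 6, 3, 4, 5, 8, 4, 3, 4, 5],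
  [3, 4, 5, 7, 4, 5, 4, 7, 3, 4, 5], [5, 4, 3, 4, 5], [3, 4, 8, 5, 4, 7, 3, 4, 5],
  [3, 4, 5, 7, 5, 6, 3, 4, 5], [5, 7, 4, 5, 3, 4, 8, 5], [6, 5, 8, 3, 4, 5, 8, 4, 3, 4, 5],
  [6, 5, 8, 4, 5, 8, 4, 3, 4, 5], [8, 5, 7, 4, 5, 8, 3, 4, 5], [8, 3, 4, 5, 8, 4, 3, 4, 5],
  [3, 4, 5, 6, 3, 4, 5, 8, 4, 3, 4, 5], [4, 8, 5, 6, 3, 4, 5, 7, 3, 4, 5], [6, 5, 7, 3, 4, 5, 3, 4, 8, 5],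
  [7, 5, 7, 3, 4, 7, 5, 7, 3, 4, 5], [8, 5, 6, 4, 5, 7, 5, 4, 3, 4, 5], [5, 3, 4, 7, 5, 7, 3, 4, 5],
  [6, 3, 4, 5, 4, 7, 5, 6, 3, 4, 5], [7, 4, 3, 4, 5, 7, 5, 4, 3, 4, 5], [8, 5, 8, 3, 4, 5, 8, 4, 3, 4, 5],
  [4, 8, 5, 7, 3, 4, 5], [4, 5, 6, 3, 4, 5, 8, 4, 3, 4, 5], [8, 3, 4, 5, 7, 5, 4, 3, 4, 5],
  [3, 4, 8, 5, 7, 4, 5, 6, 3, 4, 5], [5, 3, 4, 8, 5, 7, 4, 3, 4, 5], [7, 5, 4, 8, 5, 8, 4, 3, 4, 5],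
  [7, 3, 4, 5, 8, 3, 4, 5], [7, 5, 4, 7, 5, 7, 5, 4, 3, 4, 5], [4, 5, 7, 3, 4, 5],
  [6, 5, 7, 4, 5, 4, 7, 3, 4, 5], [5, 8, 5, 7, 4, 5, 3, 4, 8, 5], [4, 3, 4, 5, 4, 7, 3, 4, 5],
  [6, 5, 4, 3, 4, 5, 4, 7, 3, 4, 5], [8, 4, 7, 5, 7, 3, 4, 5], [3, 4, 5, 7, 4, 7, 3, 4, 5],
  [4, 5, 6, 3, 4, 5, 3, 4, 8, 5], [3, 4, 3, 4, 5, 7, 4, 7, 3, 4, 5], [5, 7, 4, 3, 4, 5],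
  [3, 4, 7, 5, 4, 7, 3, 4, 5], [5, 3, 4, 8, 5, 7, 3, 4, 5], [7, 5, 8, 3, 4, 5, 7, 3, 4, 5],
  [5, 8, 4, 5, 4, 7, 3, 4, 5], [4, 7, 5, 8, 4, 3, 4, 5], [8, 5, 6, 4, 5, 3, 4, 8, 5],
  [3, 4, 8, 5, 7, 5, 4, 3, 4, 5], [8, 4, 5, 8, 4, 3, 4, 5], [7, 5, 8, 4, 5, 4, 7, 3, 4, 5],
  [6, 5, 3, 4, 3, 4, 5], [8, 4, 7, 5, 4, 3, 4, 5], [4, 5, 8, 4, 7, 3, 4, 5],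
  [5, 6, 3, 4, 5, 4, 7, 3, 4, 5], [4, 5, 7, 3, 4, 5, 4, 7, 3, 4, 5], [8, 5, 8, 3, 4, 5, 7, 3, 4, 5],
  [4, 7, 5, 6, 4, 5, 7, 3, 4, 5], [6, 4, 5, 4, 7, 5, 3, 4, 3, 4, 5], [7, 5, 4, 3, 4, 5, 4, 7, 3, 4, 5],
  [8, 4, 5, 4, 8, 3, 4, 5], [8, 4, 5, 7, 4, 3, 4, 5], [8, 4, 5, 8, 3, 4, 5],
  [7, 4, 3, 4, 5, 8, 4, 3, 4, 5], [4, 8, 5, 6, 4, 5, 3, 4, 7, 5], [4, 8, 5, 3, 4, 8, 5, 7, 3, 4, 5],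
  [8, 5, 6, 3, 4, 5, 7, 3, 4, 5], [4, 5, 8, 5, 3, 4, 3, 4, 5], [4, 8, 5, 8, 3, 4, 5],
  [7, 3, 4, 5, 8, 4, 7, 3, 4, 5], [6, 3, 4, 5, 3, 4, 8, 5], [5, 6, 4, 3, 4, 5, 4, 7, 3, 4, 5],
  [4, 5, 7, 3, 4, 5, 3, 4, 8, 5], [3, 4, 5, 8, 4, 5, 3, 4, 3, 4, 5], [5, 4, 3, 4, 5, 7, 5, 4, 3, 4, 5],
  [7, 4, 7, 5, 7, 3, 4, 5], [7, 3, 4, 5, 3, 4, 8, 5], [6, 5, 7, 3, 4, 5, 8, 4, 3, 4, 5],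
  [6, 3, 4, 5, 8, 4, 7, 3, 4, 5], [5, 7, 4, 5, 8, 4, 3, 4, 5], [4, 8, 5, 4, 3, 4, 5],
  [7, 5, 7, 5, 4, 3, 4, 5], [3, 4, 8, 5, 7, 4, 7, 3, 4, 5], [8, 3, 4, 5, 4, 7, 5, 6, 3, 4, 5],
  [5, 8, 4, 7, 3, 4, 5], [6, 5, 4, 8, 5, 7, 3, 4, 5], [4, 3, 4, 5, 7, 3, 4, 5],
  [4, 5, 4, 7, 5, 4, 3, 4, 5], [5, 8, 5, 4, 7, 5, 7, 3, 4, 5], [5, 4, 7, 5, 7, 4, 5, 6, 3, 4, 5],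
  [8, 3, 4, 5, 7, 4, 5, 6, 3, 4, 5], [3, 4, 8, 5, 7, 3, 4, 5], [7, 4, 5, 7, 3, 4, 5, 3, 4, 8, 5],
  [5, 4, 7, 5, 7, 3, 4, 5], [5, 4, 7, 5, 8, 4, 3, 4, 5], [5, 7, 3, 4, 5, 3, 4, 8, 5],
  [5, 7, 5, 8, 4, 3, 4, 5], [8, 3, 4, 5, 8, 3, 4, 5], [8, 4, 7, 5, 7, 4, 3, 4, 5],
  [5, 6, 4, 5, 7, 4, 3, 4, 5], [8, 5, 8, 4, 7, 3, 4, 5], [7, 5, 3, 4, 8, 5, 7, 3, 4, 5],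
  [5, 8, 4, 5, 7, 3, 4, 5], [8, 5, 8, 4, 5, 4, 7, 3, 4, 5], [4, 5, 7, 5, 3, 4, 3, 4, 5],
  [4, 8, 5, 7, 5, 4, 3, 4, 5], [4, 7, 5, 7, 4, 5, 6, 3, 4, 5], [4, 5, 4, 7, 3, 4, 5],
  [5, 8, 3, 4, 5, 7, 3, 4, 5], [5, 6, 3, 4, 5, 7, 4, 3, 4, 5], [4, 8, 5, 4, 7, 3, 4, 5],
  [7, 4, 3, 4, 5, 4, 7, 3, 4, 5], [5, 6, 4, 5, 7, 3, 4, 5], [6, 4, 5, 4, 7, 3, 4, 5]]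

/-- Elements giving the conjugates of `c` in `C(a)`. -/
def Vc : List (List ℕ) :=
  [[7, 5, 7, 4], [7, 5, 3, 7, 4], [],
  [7, 5, 4, 3, 7, 4], [7, 5, 4, 3, 7], [7, 5, 7, 3, 4],
  [7, 3, 7, 5, 4, 3, 4], [7, 3, 7], [7, 5, 7, 4, 3, 4],
  [7, 4, 3, 7, 4], [6, 5, 4, 3, 4], [5, 8, 5, 4, 3, 7, 4],
  [4, 3, 4], [7, 5, 3, 8, 5, 4, 3, 4], [8, 5, 6, 4, 5, 3, 7, 4],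
  [4], [7, 4, 5, 4, 3, 8, 5, 4, 3, 4], [7, 4, 3, 4],
  [7], [3, 7, 5, 4, 3, 4], [7, 5, 4],
  [3, 7, 5, 4], [7, 5, 7, 5, 4, 3, 4], [5, 7, 4, 3, 7, 4],
  [7, 5, 8, 5, 4, 3, 4], [8, 5, 7, 4, 3, 4], [8, 5, 4, 3, 7, 4],
  [4, 3, 7, 4], [5, 3, 8, 5, 4, 3, 4], [5, 7, 5, 4, 3, 7, 4],
  [3, 7, 5, 3, 4], [7, 5, 3, 4], [6, 5, 8, 4, 3, 7, 5, 4],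
  [8, 5, 6, 4, 5, 7, 3, 4], [5, 8, 5, 4, 3, 4], [6, 5, 4, 3, 7, 4],
  [7, 4, 3, 7], [7, 4, 5, 4, 8, 5, 4, 3, 4], [3, 7],
  [7, 5, 4, 3, 4], [7, 3, 7, 4], [4, 7, 3, 7, 5, 4, 3, 4],
  [8, 5, 4, 3, 4], [3, 8, 5, 4, 3, 4], [4, 7, 4, 5, 4, 3, 4],
  [7, 4, 5, 3, 7, 4], [5, 7, 5, 4, 3, 7, 5, 4], [8, 5, 4, 7, 3, 7, 5, 4],
  [6, 5, 7, 4, 3, 4], [8, 5, 3, 7, 5, 4, 3, 4], [5, 4, 3, 4],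
  [3, 8, 5, 6, 4, 5, 7, 3, 4], [4, 5, 7, 3, 4, 5, 4, 3, 4], [4, 5, 4, 3, 4, 8, 5, 4, 3, 4],
  [4, 5, 3, 7, 5, 6, 4, 5, 3, 4], [4, 5, 8, 5, 4, 3, 4, 5, 4, 3, 4], [8, 5, 7, 5, 4, 3, 4],
  [3, 4], [5, 4, 3, 4, 5, 3, 7, 4, 5, 3, 4], [5, 4, 3, 7, 5, 4, 8, 5, 4, 3, 4],
  [3, 7, 4, 5, 4, 8, 5, 4, 3, 4], [5, 8, 4, 5, 7, 3, 4, 5, 4, 3, 4], [5, 4, 3, 4, 5, 3, 4, 8, 5, 3, 4],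
  [5, 6, 4, 3, 4, 5, 4, 8, 5, 3, 4], [5, 3, 8, 4, 5, 7, 3, 4, 5, 4, 3, 4], [4, 5, 3, 7, 4, 5, 4, 3, 4],
  [4, 5, 8, 4, 3, 4, 5, 4, 3, 4], [4, 5, 7, 5, 4, 3, 4, 5, 3, 4], [3, 4, 5, 3, 7, 4, 5, 7, 4, 3, 4],
  [5, 3, 4, 3, 7, 5, 4, 8, 5, 4, 3, 4], [8, 5, 4, 3, 4, 5, 3, 4], [5, 6, 4, 3, 4, 5, 7, 4, 5, 3, 4],
  [3, 4, 7, 4, 5, 4, 3, 4], [5, 4, 3, 7, 4], [8, 5, 8, 5, 4, 3, 4],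
  [5, 8, 4, 5, 4, 3, 7, 5, 4], [8, 5, 6, 4, 5, 3, 4], [7, 5, 4, 8, 5, 4, 3, 4],
  [5, 4], [7, 4, 5, 7, 3, 4], [5, 7, 4, 3, 4],
  [4, 5, 3, 7, 4, 5, 7, 4, 3, 4], [4, 5, 8, 4, 3, 4, 5, 7, 4, 3, 4], [3, 4, 5, 3, 7, 4, 5, 4, 3, 4],
  [8, 4, 3, 4, 5, 7, 4, 5, 3, 4], [5, 3, 7, 5, 4, 3, 4], [6, 5, 8, 5, 4, 3, 4],
  [4, 7, 4, 5, 4, 3, 7, 5, 4], [6, 4, 5, 4, 3, 4], [6, 4, 5, 4, 3, 4, 7, 5, 4],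
  [8, 5, 3, 8, 4, 7, 5, 3, 4], [5, 3, 4, 3, 4, 5, 7, 4, 3, 4], [3, 7, 4, 5, 7, 3, 4, 5, 3, 4],
  [3, 8, 4, 5, 7, 4, 5, 3, 4], [7, 3, 4], [7, 4],
  [7, 3, 4, 5, 7, 3, 4, 5, 7, 3, 4], [4, 5, 7, 3, 4, 5, 7, 4, 3, 4], [4, 5, 4, 3, 4, 8, 5, 7, 4, 3, 4],
  [3, 4, 5, 7, 3, 4, 5, 4, 3, 4], [4, 3, 4, 8, 5, 7, 4, 5, 3, 4], [3, 8, 5, 6, 4, 5, 3, 4],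
  [6, 5, 3, 8, 5, 4, 3, 4], [5, 4, 8, 5, 3, 7, 4], [7, 5, 4, 7, 5, 4, 3, 4],
  [7, 5, 8, 4, 5, 4, 3, 4], [8, 5, 7, 5, 4, 3, 8, 5, 4], [4, 3, 4, 7, 5, 4],
  [7, 5, 7, 4, 5, 4, 3, 4], [5, 7, 5, 4, 3, 4], [5, 8, 5, 7, 4, 5, 3, 7, 4],
  [5, 8, 3, 4, 5, 3, 4], [8, 5, 4, 3, 4, 5, 7, 3, 4], [5, 4, 7, 5, 3, 4, 8, 5, 4, 3, 4],
  [5, 4, 3, 4, 5, 7, 3, 4, 5, 3, 4], [5, 4, 7, 5, 3, 4, 8, 5, 7, 4, 3, 4], [5, 3, 4, 7, 5, 3, 4, 8, 5, 4, 3, 4],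
  [7, 3, 4, 5, 4, 8, 5, 4, 3, 4], [5, 8, 4, 5, 3, 7, 4, 5, 4, 3, 4], [5, 4, 3, 4, 5, 3, 4, 3, 8, 5, 4],
  [5, 6, 4, 3, 4, 5, 4, 3, 8, 5, 4], [5, 8, 3, 4, 5, 7, 3, 4, 5, 4, 3, 4], [6, 4, 5, 4, 3, 4, 8, 5, 4, 3, 4],
  [4, 3, 4, 5, 3, 4, 3, 8, 5, 4], [8, 4, 5, 3, 7, 4, 5, 4, 3, 4], [7, 3, 7, 4, 5, 4, 3, 4],
  [4, 3, 4, 5, 3, 7, 4, 5, 3, 4], [6, 4, 5, 3, 7, 4, 5, 4, 3, 4], [4, 3, 7, 5, 4, 8, 5, 4, 3, 4],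
  [3, 4, 3, 7, 5, 4, 8, 5, 4, 3, 4], [7, 5, 7, 3, 4, 7, 5, 4, 3, 4], [6, 4, 3, 4, 5, 7, 4, 5, 3, 4],
  [7, 5, 7, 4, 7, 5, 4, 3, 4], [8, 3, 4, 5, 7, 3, 4, 5, 4, 3, 4], [4, 3, 4, 5, 3, 8, 5, 4, 3, 4],
  [6, 4, 3, 4, 5, 4, 3, 8, 5, 4], [7, 3, 4, 5, 3, 4], [3, 7, 4, 5, 7, 3, 4],
  [8, 3, 4, 5, 4, 3, 4], [3, 7, 4, 5, 3, 4], [6, 4, 5, 7, 3, 4, 5, 4, 3, 4],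
  [5, 3, 4, 8, 5, 3, 4], [7, 4, 5, 3, 4], [5, 7, 4, 3, 7],
  [8, 4, 7, 5, 4, 3, 8, 5, 4], [6, 5, 4, 7, 3, 7, 5, 4], [8, 3, 7, 5, 4],
  [8, 5, 3, 7, 4, 7, 5, 3, 4], [3, 8, 4, 5, 4, 8, 5, 3, 4], [4, 3, 7],
  [3, 7, 4], [6, 5, 3, 4, 8, 5, 4, 3, 4], [7, 3, 4, 5, 7, 3, 4, 5, 3, 4],
  [8, 3, 4, 5, 7, 4, 5, 3, 4], [6, 4, 5, 7, 4, 5, 3, 4], [7, 5, 4, 7, 5, 4, 3, 7, 4],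
  [3, 4, 3, 4, 5, 4, 8, 5, 4, 3, 4], [7, 4, 5, 3, 8, 4, 7, 5, 3, 4], [4, 3, 4, 7, 5, 7, 4, 5, 3, 4],
  [8, 5, 7, 3, 4], [8, 5, 7, 4], [6, 5, 8, 5, 4, 3, 4, 5, 3, 4],
  [5, 4, 8, 3, 7, 5, 4], [5, 3, 4, 3, 8, 5, 4, 8, 5, 3, 4], [5, 3, 4],
  [4, 8, 5, 4, 3, 7, 4], [5, 6, 4, 3, 4, 5, 7, 4, 3, 4], [3, 8, 4, 7, 5, 3, 4],
  [4, 7, 5, 4, 3, 7, 4], [6, 4, 5, 4, 3, 7, 4], [6, 5, 7, 5, 4, 3, 4, 5, 7, 4, 3, 4],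
  [5, 7, 3, 4], [5, 7, 4], [4, 3, 8, 5, 4, 3, 4],
  [4, 3, 7, 5, 4, 3, 4], [7, 5, 8, 4, 5, 7, 4, 3, 4], [7, 5, 3, 7, 4, 7, 5, 4, 3, 4],
  [8, 5, 3, 4], [3, 8, 3, 4, 5, 4, 3, 4], [5, 4, 3, 7],
  [5, 3, 7, 4], [8, 5, 4], [3, 7, 3, 4, 5, 4, 3, 4],
  [5, 4, 8, 5, 7, 3, 4], [7, 5, 8, 4, 5, 4, 3, 7, 4], [7, 5, 4, 7, 5, 7, 4, 3, 4],
  [7, 5, 7, 4, 5, 7, 4, 3, 4], [5, 7, 5, 4, 3, 8, 5, 4], [8, 4, 5, 7, 4, 3, 4],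
  [8, 4, 5, 4, 3, 7, 4], [8, 4, 7, 5, 7, 4, 5, 3, 4], [4, 5, 8, 4, 5, 4, 3, 7, 5, 4],
  [5, 8, 5, 4, 3, 4, 7, 5, 4], [4, 7, 5, 7, 4, 3, 7, 5, 4], [6, 4, 5, 4, 3, 8, 5, 4],
  [5, 8, 3, 4, 7, 5, 7, 3, 4], [8, 5, 7, 3, 4, 5, 4, 3, 4], [5, 3, 8, 4, 5, 3, 4],
  [8, 5, 7, 4, 3, 7, 5, 4], [5, 8, 3, 4, 7, 5, 3, 4], [8, 5, 7, 4, 5, 4, 3, 7, 5, 4],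
  [4, 3, 4, 8, 5, 3, 4, 8, 5, 3, 4], [8, 4, 5, 7, 3, 4, 5, 4, 3, 4], [7, 3, 4, 5, 7, 3, 4],
  [4, 3, 4, 5, 3, 4, 8, 5, 3, 4], [6, 4, 3, 4, 5, 4, 8, 5, 3, 4], [3, 8, 4, 5, 7, 3, 4, 5, 4, 3, 4],
  [6, 4, 5, 8, 4, 3, 4, 5, 4, 3, 4], [6, 3, 4, 5, 4, 3, 4], [4, 3, 4, 5, 7, 3, 4, 5, 3, 4],
  [4, 7, 5, 3, 4, 8, 5, 4, 3, 4], [3, 4, 7, 5, 3, 4, 8, 5, 4, 3, 4], [4, 7, 5, 3, 4, 8, 5, 7, 4, 3, 4],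
  [7, 4, 5, 8, 3, 4, 7, 5, 3, 4], [3, 7, 5, 4, 3, 4, 5, 7, 4, 3, 4], [8, 4, 5, 4, 3, 7, 4, 5, 4, 3, 4],
  [7, 5, 4, 3, 4, 5, 4, 3, 7, 4], [6, 5, 4, 8, 5, 4, 3, 4], [7, 5, 4, 3, 4, 5, 8, 5, 4, 3, 4],
  [6, 5, 4, 3, 4, 5, 4, 8, 5, 4, 3, 4], [7, 4, 5, 3, 7, 4, 5, 3, 4], [8, 4, 5, 4, 3, 4, 7, 5, 4],
  [5, 4, 3, 8, 5, 6, 4, 5, 3, 4], [5, 3, 4, 8, 5, 3, 7, 4], [3, 8, 4, 5, 7, 4, 3, 4],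
  [7, 5, 7, 4, 7, 3, 4, 5, 4, 3, 4], [4, 3, 4, 5, 4, 8, 5, 4, 3, 4], [3, 7, 5, 4, 3, 4, 5, 4, 3, 4],
  [4, 3, 4, 5, 8, 5, 4, 3, 4], [7, 5, 4, 3, 4, 5, 4, 3, 4], [3, 8, 5, 4, 3, 4, 5, 4, 3, 4],
  [3, 8, 4, 5, 4, 3, 4], [8, 4, 5, 4, 7, 3, 4, 5, 4, 3, 4], [5, 3, 4, 3, 7, 5, 4, 3, 4],
  [4, 5, 3, 4, 7, 5, 7, 3, 4], [5, 3, 4, 3, 8, 5, 4], [3, 8, 5, 4, 7, 5, 7, 3, 4],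
  [8, 4, 7, 3, 4, 5, 4, 3, 4], [5, 4, 3, 4, 5, 7, 3, 4], [7, 4, 5, 4, 3, 7, 4],
  [5, 6, 4, 5, 4, 3, 4], [8, 5, 4, 3, 7, 4, 5, 7, 4, 3, 4], [8, 5, 7, 3, 4, 7, 5, 3, 4],
  [8, 3, 4, 5, 4, 8, 5, 3, 4], [7, 4, 3, 4, 5, 4, 8, 5, 3, 4], [6, 5, 8, 3, 4, 5, 4, 3, 4],
  [8, 4, 7, 5, 4, 3, 4], [8, 5, 4, 3, 7], [7, 4, 5, 7, 4, 3, 4],
  [5, 4, 3, 4, 5, 3, 4], [8, 5, 3, 7, 4], [6, 4, 5, 8, 5, 4, 3, 4],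
  [3, 8, 5, 3, 4], [7, 4, 5, 4, 3, 4], [3, 8, 5, 4],
  [8, 4, 5, 4, 3, 4], [7, 4, 3, 4, 5, 7, 4, 5, 3, 4], [6, 5, 3, 8, 5, 6, 4, 5, 3, 4],
  [4, 5, 4, 3, 4], [3, 8, 5, 4, 7, 5, 3, 4], [6, 5, 7, 5, 4, 3, 4, 5, 4, 3, 4],
  [4, 8, 5, 7, 4, 3, 4], [4, 7, 5, 7, 4, 3, 4], [6, 4, 5, 7, 4, 3, 4],
  [5, 4, 3, 8, 5, 4], [5, 3, 4, 3, 4, 5, 7, 4, 5, 4, 3, 4], [4, 8, 5, 4, 3, 4],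
  [4, 7, 5, 4, 3, 4], [5, 8, 5, 4, 7, 5, 3, 4], [5, 7, 5, 3, 4, 3, 4, 5, 4, 3, 4],
  [3, 7, 4, 5, 8, 3, 4, 7, 5, 3, 4], [7, 5, 6, 4, 5, 3, 7, 4], [4, 8, 4, 5, 4, 3, 7, 5, 4],
  [5, 7, 4, 3, 7, 5, 4, 3, 4], [8, 3, 7, 4, 5, 4, 3, 4], [5, 8, 4, 5, 4, 3, 7, 4],
  [6, 5, 4, 7, 3, 4, 5, 4, 3, 4], [8, 3, 4, 7, 5, 3, 4], [4, 3, 4, 5, 3, 7, 4],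
  [3, 7, 4, 7, 5, 4, 3, 4, 5, 3, 4], [4, 8, 5, 4, 3, 8, 5, 4], [4, 5, 4, 3, 8, 5, 4, 3, 4],
  [4, 5, 7, 4, 3, 4], [8, 4, 7, 5, 4, 3, 7, 4], [8, 4, 3, 7, 5, 4, 3, 4],
  [6, 5, 3, 8, 4, 5, 7, 4, 3, 4], [8, 5, 3, 4, 7, 5, 7, 3, 4], [7, 5, 7, 4, 3, 7, 4, 5, 4, 3, 4],
  [5, 6, 4, 5, 4, 3, 7, 4], [5, 3, 8, 3, 4, 5, 4, 3, 4], [6, 5, 4, 3, 7, 4, 5, 7, 4, 3, 4],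
  [5, 4, 8, 5, 4, 3, 4, 5, 3, 4], [5, 3, 7, 3, 4, 5, 4, 3, 4], [6, 5, 4],
  [5, 4, 3, 4, 5, 3, 7, 4], [8, 4, 3, 7, 4, 5, 4, 3, 4], [4, 3, 4, 7, 5, 6, 4, 5, 3, 4],
  [5, 4, 7, 5, 4, 3, 4], [5, 6, 4, 5, 7, 4, 3, 4], [5, 4, 7, 5, 7, 4, 3, 4],
  [3, 8, 5, 4, 3, 4, 5, 7, 4, 3, 4], [7, 5, 4, 7, 3, 7, 5, 4], [7, 5, 3, 4, 3, 4, 5, 4, 3, 4],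
  [8, 5, 4, 3, 4, 5, 4, 3, 7, 4], [4, 3, 4, 8, 5, 6, 4, 5, 3, 4], [5, 4, 8, 5, 4, 3, 4],
  [5, 4, 8, 5, 7, 4, 3, 4], [5, 4, 8, 5, 3, 4], [6, 3, 4, 5, 8, 5, 3, 4],
  [7, 4, 3, 7, 5, 4, 3, 4], [7, 5, 8, 3, 4, 5, 7, 4, 3, 4], [6, 5, 4, 3, 7, 4, 5, 4, 3, 4],
  [5, 4, 7, 5, 4, 3, 7, 4], [5, 4, 8, 5, 4, 3, 7, 4], [5, 7, 5, 4, 8, 5, 3, 4],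
  [6, 5, 4, 7, 5, 4, 3, 7, 4], [5, 7, 3, 7, 4, 5, 3, 4], [5, 3, 8, 5, 4, 7, 5, 3, 4],
  [4, 7, 5, 7, 4, 5, 4, 3, 4], [5, 8, 5, 7, 4, 5, 3, 4], [6, 4, 5, 4, 8, 5, 3, 4],
  [7, 5, 4, 3, 4, 5, 3, 4], [5, 3, 4, 3, 8, 5, 4, 3, 4], [5, 8, 5, 7, 4, 5, 4, 3, 4],
  [5, 4, 3, 4, 7, 5, 4], [6, 5, 7, 4, 3, 7, 5, 4], [3, 4, 5, 3, 4, 8, 5, 7, 4, 3, 4],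
  [5, 3, 7, 4, 7, 5, 4, 3, 4], [6, 4, 5, 3, 4, 8, 5, 3, 7, 4], [4, 8, 5, 7, 3, 4],
  [4, 7, 4, 5, 4, 3, 8, 5, 4], [6, 5, 4, 7, 5, 3, 7, 4], [4, 7, 5, 7, 4, 7, 5, 3, 4],
  [6, 5, 4, 7, 5, 4, 3, 4], [6, 5, 4, 3, 7, 5, 4], [6, 5, 8, 5, 6, 4, 5, 3, 4],
  [3, 4, 5, 7, 4, 5, 3, 4], [5, 3, 8, 4, 7, 5, 3, 4], [6, 5, 7, 4, 7, 5, 3, 4],
  [8, 5, 3, 7, 4, 5, 4, 3, 4], [8, 5, 3, 7, 4, 5, 7, 4, 3, 4], [3, 7, 4, 7, 5, 3, 4],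
  [8, 5, 8, 4, 5, 3, 7, 4], [5, 7, 4, 7, 3, 4, 5, 4, 3, 4], [5, 3, 8, 5, 4, 7, 5, 7, 4, 3, 4],
  [8, 5, 8, 4, 3, 7, 5, 4], [6, 5, 3, 8, 3, 4, 5, 4, 3, 4], [8, 5, 7, 4, 7, 5, 3, 4],
  [6, 3, 4, 5, 8, 5, 4, 3, 4], [5, 6, 4, 5, 7, 3, 4, 5, 7, 3, 4], [8, 3, 4, 7, 5, 4, 3, 4],
  [3, 4, 5, 4, 3, 8, 5, 4], [8, 3, 4, 5, 4, 8, 5, 4, 3, 4], [5, 8, 5, 3, 4, 7, 5, 7, 4, 3, 4],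
  [8, 3, 4, 7, 5, 7, 4, 3, 4], [3, 8, 4, 7, 5, 4, 3, 4], [5, 6, 4, 5, 3, 7, 4],
  [4, 8, 5, 4, 3, 4, 5, 7, 3, 4], [6, 4, 5, 3, 4, 8, 5, 4, 3, 4], [7, 5, 8, 4, 3, 4, 5, 7, 4, 3, 4],
  [4, 3, 4, 8, 5, 7, 4, 3, 4], [8, 5, 3, 7, 4, 5, 3, 4], [6, 3, 4, 5, 7, 3, 4, 5, 4, 3, 4],
  [6, 3, 4, 5, 7, 4, 5, 3, 4], [7, 5, 3, 4, 8, 5, 4, 3, 4], [7, 5, 7, 3, 4, 5, 7, 4, 3, 4],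
  [7, 5, 3, 7, 4, 5, 4, 3, 4], [7, 5, 3, 4, 8, 5, 7, 4, 3, 4], [3, 7, 5, 4, 8, 5, 4, 3, 4],
  [7, 5, 3, 7, 4, 5, 7, 4, 3, 4], [7, 5, 7, 3, 4, 5, 4, 3, 4], [8, 4, 3, 4, 5, 3, 4, 8, 5, 3, 4],
  [5, 7, 3, 7, 4, 5, 4, 3, 4], [7, 5, 4, 3, 4, 5, 7, 4, 3, 4], [8, 5, 3, 4, 3, 4, 5, 7, 4, 3, 4],
  [7, 5, 3, 4, 3, 4, 5, 7, 4, 3, 4], [8, 3, 4, 5, 7, 4, 3, 4], [4, 5, 3, 4, 3, 7, 5, 4],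
  [8, 4, 5, 4, 3, 8, 5, 4], [8, 5, 3, 4, 3, 4, 5, 4, 3, 4], [5, 4, 3, 8, 5, 6, 4, 5, 7, 3, 4],
  [3, 7, 5, 4, 3, 4, 5, 8, 5, 4, 3, 4], [7, 4, 5, 7, 3, 4, 5, 3, 4], [8, 4, 5, 7, 4, 5, 3, 4],
  [7, 4, 5, 3, 7, 4, 5, 7, 3, 4], [7, 3, 4, 5, 8, 3, 4, 7, 5, 3, 4], [4, 8, 5, 3, 7, 4, 5, 4, 3, 4],
  [3, 8, 4, 5, 7, 3, 4], [6, 3, 4, 5, 7, 4, 3, 4], [5, 3, 4, 8, 5, 7, 3, 4],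
  [5, 4, 8, 5, 3, 4, 8, 5, 3, 4], [3, 4, 8, 5, 4, 3, 7, 4], [8, 5, 3, 4, 8, 5, 3, 4],
  [4, 5, 7, 5, 8, 3, 4, 5, 4, 3, 4], [5, 4, 8, 3, 4, 5, 7, 4, 3, 4], [3, 4, 7, 5, 4, 3, 7, 4],
  [6, 3, 4, 5, 4, 3, 7, 4], [7, 5, 3, 8, 4, 5, 7, 4, 3, 4], [7, 5, 8, 3, 4, 5, 4, 3, 4],
  [5, 4, 3, 4, 5, 7, 4, 5, 4, 3, 4], [6, 3, 4, 5, 3, 7, 4, 5, 4, 3, 4], [3, 4, 3, 8, 5, 4, 3, 4],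
  [4, 5, 3, 4, 7, 5, 3, 4], [3, 4, 3, 7, 5, 4, 3, 4], [8, 3, 4, 5, 3, 4],
  [5, 3, 4, 7, 5, 4, 3, 4], [4, 3, 4, 7, 5, 4, 8, 5, 3, 4], [5, 3, 4, 7, 5, 4, 3, 7, 4],
  [5, 7, 5, 8, 3, 4, 5, 4, 3, 4], [7, 3, 4, 5, 7, 4, 3, 4], [7, 3, 4, 5, 4, 3, 4],
  [8, 4, 5, 7, 3, 4, 5, 3, 4], [8, 4, 5, 7, 3, 4, 5, 7, 3, 4], [4, 7, 5, 4, 3, 4, 5, 3, 4],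
  [6, 5, 3, 4, 7, 5, 7, 4, 3, 4], [4, 3, 4, 7, 5, 7, 4, 3, 4], [3, 4, 8, 5, 7, 4, 5, 3, 4],
  [7, 5, 7, 3, 4, 7, 5, 3, 4], [7, 3, 4, 5, 4, 8, 5, 3, 4], [3, 4, 8, 5, 4, 3, 4],
  [8, 4, 5, 3, 7, 4, 5, 3, 4], [4, 8, 5, 3, 7, 4], [3, 4, 3, 4, 5, 8, 5, 4, 3, 4],
  [5, 8, 4, 3, 4, 5, 7, 4, 5, 4, 3, 4], [8, 5, 8, 3, 4, 5, 4, 3, 4], [3, 4, 5, 7, 4, 3, 4],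
  [4, 8, 5, 7, 3, 4, 5, 4, 3, 4], [8, 4, 5, 3, 4, 8, 5, 4, 3, 4], [4, 5, 3, 4, 7, 5, 3, 7, 4],
  [3, 4, 5, 8, 5, 4, 3, 4], [6, 5, 8, 4, 3, 4, 5, 4, 3, 4], [4, 3, 8, 5, 6, 4, 5, 7, 3, 4],
  [5, 7, 3, 4, 5, 7, 4, 3, 4], [3, 7, 4, 7, 5, 7, 4, 5, 3, 4], [5, 3, 4, 3, 4, 5, 4, 3, 4],
  [5, 4, 7, 5, 4, 3, 8, 5, 4], [6, 5, 3, 8, 4, 5, 4, 3, 4], [8, 5, 4, 7, 3, 4, 5, 7, 4, 3, 4],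
  [8, 5, 7, 3, 4, 5, 7, 3, 4], [7, 4, 7, 5, 4], [4, 8, 3, 7, 5, 4],
  [6, 4, 5, 3, 4, 3, 8, 5, 4], [8, 5, 4, 7, 5, 4, 3, 4], [7, 5, 6, 4, 5, 7, 3, 4],
  [8, 5, 4, 3, 4, 5, 7, 4, 3, 4], [6, 3, 4, 5, 3, 4, 8, 5, 4, 3, 4], [8, 5, 4, 7, 5, 7, 4, 3, 4],
  [3, 4, 7, 5, 7, 4, 5, 4, 3, 4], [4, 5, 4, 3, 7, 4], [4, 5, 3, 8, 5, 4, 3, 4],
  [6, 5, 4, 7, 3, 4, 5, 7, 4, 3, 4], [7, 3, 4, 7, 5, 7, 4, 5, 3, 4], [7, 5, 6, 4, 5, 3, 4],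
  [8, 5, 4, 3, 4, 5, 4, 3, 4], [5, 4, 3, 8, 5, 4, 3, 4], [5, 4, 3, 7, 5, 4, 3, 4],
  [7, 3, 7, 5, 4], [5, 8, 5, 4, 3, 7, 5, 4], [5, 3, 7, 5, 4, 3, 4, 5, 4, 3, 4],
  [8, 5, 8, 4, 5, 4, 3, 4], [3, 4, 5, 4, 3, 4], [7, 5, 4, 3, 4, 5, 7, 4, 5, 4, 3, 4],
  [5, 7, 4, 7, 5, 4, 3, 4], [8, 5, 3, 4, 7, 5, 3, 4], [5, 6, 5, 4, 3, 4, 5, 7, 4, 3, 4],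
  [3, 4, 5, 7, 3, 4], [5, 8, 4, 5, 7, 4, 3, 4], [5, 7, 4, 5, 7, 4, 3, 4],
  [4, 5, 4, 8, 5, 4, 3, 4], [6, 5, 8, 3, 4, 5, 7, 4, 3, 4], [5, 8, 4, 5, 4, 3, 4],
  [6, 4, 5, 4, 8, 5, 4, 3, 4], [8, 3, 4, 7, 5, 7, 3, 4], [5, 7, 4, 5, 4, 3, 4],
  [7, 3, 7, 5, 3, 4], [4, 7, 3, 7, 4, 5, 4, 3, 4], [7, 4, 3, 7, 5, 3, 4],
  [3, 8, 5, 4, 8, 5, 3, 4], [4, 8, 5, 3, 7, 4, 5, 7, 4, 3, 4], [3, 4, 3, 8, 5, 4],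
  [4, 5, 3, 7, 5, 4], [8, 4, 5, 3, 7, 4], [7, 4, 5, 4, 8, 5, 3, 4],
  [5, 8, 4, 7, 5, 3, 4], [8, 5, 7, 4, 5, 4, 3, 4], [4, 8, 5, 3, 7, 4, 5, 3, 4],
  [8, 5, 4, 8, 5, 3, 4], [3, 4, 3, 8, 5, 6, 4, 5, 3, 4], [8, 4, 7, 5, 4, 3, 4, 5, 7, 3, 4],
  [4, 3, 4, 5, 7, 3, 4], [7, 3, 4, 7, 5, 4, 3, 4, 5, 3, 4], [3, 4, 3, 4, 5, 4, 3, 4],
  [8, 5, 3, 7, 5, 4], [3, 4, 7, 5, 4, 3, 4, 5, 3, 4], [6, 5, 8, 4, 5, 4, 3, 4],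
  [3, 4, 8, 5, 7, 3, 4], [5, 4, 7, 3, 7, 5, 4], [4, 5, 7, 4, 5, 4, 3, 4],
  [5, 4, 7, 3, 7, 4, 5, 4, 3, 4], [5, 8, 5, 4, 7, 5, 7, 3, 4], [5, 4, 3, 7, 5, 3, 4],
  [3, 4, 3, 8, 5, 6, 4, 5, 7, 3, 4], [6, 5, 4, 3, 4, 5, 7, 4, 5, 4, 3, 4], [5, 3, 4, 7, 5, 4],
  [3, 4, 7, 5, 4, 3, 4, 5, 7, 3, 4], [4, 8, 5, 3, 7, 4, 5, 7, 3, 4], [7, 5, 8, 3, 4, 5, 3, 4],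
  [7, 5, 4, 3, 8, 5, 4], [8, 4, 5, 3, 4], [8, 5, 4, 3, 7, 4, 5, 4, 3, 4],
  [4, 5, 3, 7, 4], [3, 7, 4, 5, 4, 3, 4], [7, 5, 7, 4, 7, 5, 3, 4],
  [5, 4, 7, 5, 4, 3, 4, 5, 3, 4], [8, 5, 4, 8, 5, 3, 7, 4], [5, 4, 7, 5, 4, 3, 4, 5, 7, 3, 4],
  [8, 5, 4, 3, 8, 5, 4], [7, 4, 7, 5, 4, 3, 4], [3, 4, 5, 4, 3, 7, 4],
  [5, 4, 3, 4, 5, 8, 3, 4, 7, 5, 3, 4], [4, 7, 3, 7, 5, 4], [6, 5, 3, 4, 8, 5, 3, 4],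
  [5, 8, 4, 3, 4, 5, 4, 3, 4], [3, 4, 8, 5, 4, 3, 4, 5, 3, 4], [4, 8, 5, 7, 3, 4, 5, 3, 4],
  [7, 5, 3, 7, 4, 7, 5, 3, 4], [7, 5, 4, 3, 8, 5, 4, 8, 5, 3, 4], [4, 7, 3, 4, 5, 4, 8, 5, 3, 4],
  [3, 4, 8, 5, 3, 8, 4, 7, 5, 3, 4], [7, 5, 4, 8, 5, 3, 4, 8, 5, 3, 4], [5, 7, 5, 3, 8, 4, 5, 4, 3, 4],
  [3, 4, 5, 3, 4, 8, 5, 4, 3, 4], [3, 4, 8, 5, 7, 3, 4, 7, 5, 3, 4], [5, 7, 4, 5, 3, 7, 4],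
  [4, 8, 5, 8, 4, 3, 7, 5, 4], [5, 7, 4, 5, 7, 3, 4], [5, 7, 4, 5, 3, 4],
  [4, 5, 8, 5, 4, 3, 4], [6, 5, 4, 7, 5, 7, 4, 3, 4], [4, 8, 5, 7, 3, 4, 5, 7, 3, 4],
  [6, 5, 4, 3, 4, 5, 8, 5, 4, 3, 4], [4, 7, 5, 4, 3, 8, 5, 4], [8, 4, 5, 7, 3, 4],
  [4, 8, 3, 7, 4, 5, 4, 3, 4], [5, 8, 5, 3, 4, 7, 5, 3, 4], [5, 8, 4, 5, 7, 3, 4],
  [6, 5, 4, 7, 5, 3, 4], [3, 7, 5, 6, 4, 5, 3, 4], [7, 4, 5, 4, 3, 8, 5, 4],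
  [5, 3, 4, 8, 5, 4, 3, 4], [7, 5, 7, 5, 4, 3, 4, 5, 4, 3, 4], [5, 3, 7, 4, 7, 5, 3, 4],
  [4, 5, 4, 7, 5, 4, 3, 4, 5, 3, 4], [6, 4, 5, 4, 7, 3, 4, 5, 4, 3, 4], [6, 5, 4, 3, 7],
  [5, 7, 3, 4, 7, 5, 4, 3, 4], [5, 8, 4, 3, 7, 4, 5, 4, 3, 4], [6, 4, 5, 3, 4, 8, 5, 7, 3, 4],
  [8, 5, 4, 7, 5, 3, 4], [6, 5, 4, 7, 5, 7, 3, 4], [5, 4, 3, 4, 8, 5, 7, 4, 3, 4],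
  [6, 5, 4, 3, 7, 5, 4, 3, 4], [6, 4, 5, 8, 5, 3, 4], [5, 4, 3, 4, 5, 7, 4, 3, 4],
  [6, 5, 4, 3, 4, 7, 5, 4], [4, 3, 8, 5, 4], [6, 4, 3, 4, 5, 8, 5, 4, 3, 4],
  [6, 3, 4, 5, 3, 7, 4, 5, 3, 4], [4, 5, 8, 5, 7, 4, 3, 7, 5, 4], [4, 5, 3, 4, 7, 5, 4],
  [5, 4, 3, 4, 5, 4, 3, 7, 4], [5, 4, 3, 4, 8, 5, 7, 4, 5, 4, 3, 4], [5, 3, 4, 7, 5, 7, 4, 3, 4],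
  [4, 5, 4, 7, 3, 4, 5, 4, 3, 4], [5, 8, 4, 5, 3, 4], [3, 4, 8, 5, 3, 7, 4, 7, 5, 3, 4],
  [4, 7, 5, 4, 3, 7, 5, 4], [6, 5, 3, 8, 4, 5, 3, 4], [3, 4, 8, 5, 6, 4, 5, 3, 4],
  [8, 5, 3, 7, 4, 5, 7, 3, 4], [3, 7, 4, 7, 5, 4, 3, 4], [3, 7, 4, 5, 4, 8, 5, 3, 4],
  [8, 5, 8, 4, 5, 7, 3, 4], [5, 3, 8, 4, 5, 4, 3, 4], [5, 8, 3, 4, 5, 7, 4, 3, 4],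
  [7, 3, 4, 7, 5, 3, 4], [4, 3, 4, 7, 5, 7, 3, 4, 5, 4, 3, 4], [8, 5, 7, 3, 4, 5, 7, 4, 3, 4],
  [7, 5, 3, 4, 8, 5, 7, 3, 4], [3, 4, 5, 3, 7, 4, 5, 7, 3, 4], [5, 8, 4, 5, 7, 3, 4, 5, 3, 4],
  [5, 8, 5, 4, 7, 3, 4, 5, 4, 3, 4], [8, 4, 3, 4, 5, 7, 4, 3, 4], [8, 5, 8, 4, 5, 3, 4],
  [8, 5, 7, 4, 5, 4, 3, 8, 5, 4], [3, 4, 7, 5, 4], [4, 3, 7, 5, 4],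
  [5, 7, 4, 3, 7, 4, 5, 4, 3, 4], [3, 4, 5, 4, 8, 5, 3, 4], [5, 4, 3, 4, 5, 4, 8, 5, 4, 3, 4],
  [8, 5, 8, 4, 3, 4, 5, 4, 3, 4], [5, 3, 8, 5, 4, 7, 5, 4, 3, 4], [5, 3, 7, 4, 5, 4, 3, 4],
  [4, 7, 5, 4, 3, 4, 7, 5, 4], [4, 7, 3, 4, 5, 7, 4, 3, 4], [6, 5, 7, 3, 4, 5, 3, 4],
  [5, 7, 4, 5, 3, 7, 4, 5, 7, 3, 4], [6, 5, 8, 4, 3, 4, 5, 7, 4, 3, 4], [8, 4, 3, 4, 5, 4, 3, 4],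
  [8, 4, 5, 4, 3, 7, 5, 4], [5, 6, 3, 4, 5, 4, 3, 7, 4], [6, 4, 5, 7, 3, 4],
  [5, 6, 3, 4, 5, 4, 3, 4], [3, 4, 5, 3, 4], [7, 4, 7, 5, 4, 3, 4, 5, 7, 3, 4],
  [8, 4, 5, 4, 8, 5, 3, 4], [3, 4, 5, 3, 7, 4], [7, 4, 7, 5, 7, 4, 5, 3, 4],
  [3, 4, 7, 5, 7, 3, 4], [3, 8, 4, 5, 4, 8, 5, 4, 3, 4], [6, 5, 4, 3, 4, 8, 5, 7, 4, 3, 4],
  [8, 3, 7, 4, 5, 3, 4], [5, 6, 3, 4, 5, 7, 4, 3, 4], [4, 3, 4, 5, 4, 3, 7, 4],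
  [6, 4, 5, 3, 7, 4], [8, 5, 3, 4, 7, 5, 7, 4, 3, 4], [3, 8, 5, 4, 7, 5, 4, 3, 4],
  [5, 4, 3, 7, 5, 4], [4, 7, 5, 3, 4], [5, 6, 4, 5, 7, 3, 4],
  [6, 5, 7, 4], [8, 5, 4, 3, 4, 5, 3, 8, 5, 4, 3, 4], [3, 4, 8, 5, 7, 4, 3, 4],
  [7, 4, 5, 3, 4, 8, 5, 7, 3, 4], [4, 8, 5, 4, 3, 4, 5, 3, 4], [4, 8, 5, 3, 8, 4, 7, 5, 3, 4],
  [5, 3, 8, 4, 5, 7, 4, 3, 4], [4, 5, 4, 3, 7, 4, 5, 7, 4, 3, 4], [7, 5, 4, 3, 4, 8, 5, 7, 4, 3, 4],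
  [4, 3, 4, 5, 4, 3, 8, 5, 4], [5, 7, 5, 4], [3, 4, 5, 3, 4, 8, 5, 3, 7, 4],
  [3, 4, 7, 5, 7, 3, 4, 5, 4, 3, 4], [3, 7, 5, 6, 4, 5, 7, 3, 4], [7, 5, 4, 3, 4, 5, 7, 3, 4],
  [5, 4, 3, 7, 4, 5, 7, 4, 3, 4], [3, 4, 8, 5, 3, 7, 4, 5, 4, 3, 4], [4, 3, 4, 5, 4, 8, 5, 3, 4],
  [3, 4, 7, 5, 3, 7, 4, 5, 4, 3, 4], [8, 5, 7, 3, 4, 5, 3, 4], [5, 7, 3, 4, 5, 3, 4],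
  [3, 4, 3, 8, 5, 4, 8, 5, 3, 4], [4, 7, 5, 4, 8, 5, 3, 7, 4], [5, 8, 5, 3, 4, 7, 5, 7, 3, 4],
  [5, 8, 4, 5, 3, 7, 4], [7, 5, 8, 4, 5, 7, 3, 4], [8, 5, 3, 8, 4, 5, 4, 3, 4],
  [8, 5, 7, 5, 3, 4], [5, 4, 3, 4, 5, 3, 8, 4, 7, 5, 3, 4], [4, 5, 3, 4, 3, 4, 5, 7, 4, 3, 4],
  [7, 5, 3, 8, 4, 5, 4, 3, 4], [5, 3, 4, 3, 4, 5, 8, 5, 4, 3, 4], [6, 5, 3, 4, 8, 5, 7, 3, 4],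
  [4, 3, 8, 4, 5, 7, 4, 3, 4], [4, 8, 5, 4, 3, 4, 8, 5, 4, 3, 4], [3, 7, 4, 5, 7, 4, 3, 4],
  [8, 4, 5, 3, 7, 4, 5, 7, 3, 4], [8, 3, 4, 5, 7, 3, 4], [3, 8, 4, 5, 3, 4],
  [4, 5, 8, 3, 4, 7, 5, 7, 3, 4], [4, 5, 3, 4, 8, 5, 7, 3, 4], [3, 4, 5, 3, 7, 4, 7, 5, 3, 4],
  [4, 8, 3, 4, 5, 4, 8, 5, 4, 3, 4], [8, 4, 3, 7, 5, 4], [5, 4, 3, 8, 5, 4, 8, 5, 3, 4],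
  [3, 4, 7, 5, 7, 4, 3, 4], [5, 4, 8, 5, 3, 4, 8, 5, 7, 3, 4], [3, 4, 7, 5, 4, 3, 4],
  [4, 3, 4, 5, 4, 3, 4], [4, 8, 5, 8, 4, 3, 4, 5, 4, 3, 4], [5, 7, 5, 4, 3, 4, 5, 4, 3, 4],
  [5, 3, 4, 7, 5, 3, 7, 4], [4, 5, 7, 3, 7, 4, 5, 3, 4], [8, 5, 8, 5, 3, 4],
  [5, 3, 7, 5, 4], [8, 5, 8, 3, 4, 5, 7, 4, 3, 4], [7, 5, 4, 8, 5, 7, 3, 4],
  [3, 4, 5, 4, 8, 5, 4, 3, 4], [7, 4, 5, 3, 4, 3, 8, 5, 4], [5, 4, 3, 8, 4, 5, 7, 4, 3, 4],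
  [7, 3, 4, 7, 5, 4, 3, 4], [3, 4, 5, 4, 3, 8, 5, 4, 3, 4], [8, 4, 5, 3, 4, 8, 5, 7, 4, 3, 4],
  [5, 8, 3, 4, 5, 4, 3, 4], [7, 4, 5, 3, 4, 8, 5, 3, 4], [3, 8, 4, 5, 3, 4, 8, 5, 4, 3, 4],
  [5, 7, 3, 4, 5, 4, 3, 4], [6, 5, 3, 4], [4, 7, 5, 7, 3, 4, 5, 4, 3, 4],
  [4, 5, 3, 4, 3, 8, 5, 4, 3, 4], [3, 4, 3, 4, 5, 7, 4, 5, 3, 4], [3, 4, 5, 3, 4, 8, 5, 3, 4],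
  [4, 5, 3, 8, 4, 7, 5, 3, 4], [4, 5, 3, 4, 3, 8, 5, 4], [4, 5, 3, 7, 4, 7, 5, 3, 4],
  [7, 5, 4, 3, 4, 8, 5, 4, 3, 4], [3, 4, 3, 4, 5, 4, 8, 5, 3, 4], [7, 5, 7, 4, 3, 4, 5, 4, 3, 4],
  [3, 4, 5, 3, 8, 4, 7, 5, 3, 4], [4, 3, 4, 5, 7, 4, 5, 3, 4], [4, 5, 3, 4, 8, 5, 3, 7, 4],
  [5, 3, 4, 7, 5, 3, 4], [4, 8, 5, 7, 3, 4, 5, 7, 4, 3, 4], [7, 4, 3, 4, 5, 4, 3, 4],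
  [3, 4, 8, 5, 7, 3, 4, 5, 4, 3, 4], [5, 3, 4, 8, 5, 7, 4, 3, 4], [5, 4, 8, 3, 4, 5, 4, 3, 4],
  [6, 5, 8, 3, 4, 5, 7, 3, 4], [4, 3, 7, 5, 6, 4, 5, 3, 4], [5, 8, 3, 4, 5, 7, 4, 5, 3, 4],
  [4, 3, 7, 5, 6, 4, 5, 7, 3, 4], [7, 4, 3, 4, 5, 7, 4, 3, 4], [3, 4, 5, 7, 4, 5, 4, 3, 4],
  [6, 5, 3, 7, 4, 5, 7, 3, 4], [5, 7, 5, 4, 3, 4, 5, 7, 3, 4], [7, 4, 5, 3, 4, 8, 5, 3, 7, 4],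
  [5, 4, 7, 5, 4], [8, 5, 3, 8, 4, 5, 7, 4, 3, 4], [8, 5, 7, 5, 4, 3, 4, 5, 4, 3, 4],
  [5, 4, 3, 4, 5, 4, 3, 4], [5, 7, 5, 3, 4, 8, 5, 7, 3, 4], [5, 7, 5, 8, 4, 5, 3, 4],
  [5, 3, 7, 5, 4, 3, 4, 5, 7, 4, 3, 4], [3, 4, 5, 3, 8, 5, 4, 3, 4], [6, 5, 4, 3, 4, 8, 5, 4, 3, 4],
  [8, 5, 3, 7, 4, 7, 5, 4, 3, 4], [4, 7, 5, 4, 3, 4, 5, 4, 3, 4], [6, 5, 7, 3, 4, 5, 7, 3, 4],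
  [4, 3, 4, 5, 7, 3, 4, 5, 4, 3, 4], [4, 3, 4, 5, 3, 7, 4, 5, 4, 3, 4], [5, 3, 7, 4, 5, 7, 4, 3, 4],
  [3, 4, 3, 4, 5, 7, 4, 5, 4, 3, 4], [5, 7, 5, 4, 3, 4, 7, 5, 4, 3, 4], [7, 4, 3, 4, 5, 7, 3, 4, 5, 4, 3, 4],
  [7, 3, 7, 4, 5, 3, 4], [8, 5, 3, 4, 8, 5, 7, 3, 4], [8, 4, 3, 7, 5, 6, 4, 5, 3, 4],
  [7, 5, 4, 8, 5, 3, 4, 8, 5, 7, 3, 4], [6, 5, 8, 4, 5, 7, 4, 3, 4], [5, 7, 5, 8, 3, 4, 5, 3, 4],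
  [5, 7, 5, 3, 8, 4, 5, 3, 4], [4, 5, 3, 4], [8, 5, 4, 7, 5, 4, 3, 7, 4],
  [7, 3, 4, 7, 5, 7, 4, 7, 5, 3, 4], [4, 8, 5, 7, 4, 5, 3, 4], [5, 3, 7, 4, 5, 3, 4],
  [5, 7, 4, 5, 4, 3, 7, 5, 4], [8, 4, 7, 3, 4, 5, 7, 4, 5, 3, 4], [3, 4, 5, 3, 7, 4, 5, 3, 4],
  [6, 4, 5, 3, 4, 8, 5, 3, 4], [3, 4, 5, 3, 4, 8, 5, 7, 3, 4], [3, 4, 3, 7, 5, 4],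
  [6, 3, 4, 5, 4, 8, 5, 3, 4], [8, 5, 3, 7, 3, 4, 5, 4, 3, 4], [8, 5, 4, 3, 4, 7, 5, 4],
  [5, 8, 4, 3, 7, 5, 4], [4, 3, 4, 5, 3, 4, 8, 5, 4, 3, 4], [8, 5, 4, 7, 3, 4, 5, 4, 3, 4],
  [4, 5, 7, 3, 4], [6, 5, 3, 7, 4, 7, 5, 3, 4], [7, 4, 7, 5, 4, 3, 8, 5, 4],
  [8, 5, 8, 4, 5, 4, 3, 7, 4], [4, 5, 4, 3, 4, 7, 5, 4], [7, 5, 7, 4, 3, 7, 5, 4],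
  [3, 8, 4, 5, 7, 3, 4, 5, 3, 4], [4, 5, 8, 3, 4, 7, 5, 3, 4], [4, 5, 3, 4, 8, 5, 3, 4],
  [7, 4, 5, 8, 4, 3, 4, 5, 4, 3, 4], [3, 4, 5, 3, 4, 3, 8, 5, 4], [8, 5, 8, 5, 4, 3, 7, 5, 4],
  [6, 5, 3, 7, 4], [7, 5, 8, 5, 4, 3, 7, 5, 4], [5, 8, 5, 4],
  [6, 5, 7, 3, 4], [3, 8, 4, 7, 5, 7, 4, 5, 3, 4], [3, 4, 8, 5, 3, 4],
  [8, 5, 8, 3, 4, 5, 3, 4], [8, 4, 3, 7, 5, 6, 4, 5, 7, 3, 4], [4, 3, 7, 4, 5, 7, 4, 3, 4],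
  [3, 4, 8, 5, 3, 7, 4], [5, 6, 4, 5, 3, 4], [5, 8, 5, 4, 7, 5, 3, 7, 4],
  [3, 4, 8, 5, 4, 3, 4, 5, 7, 3, 4], [6, 5, 8, 5, 3, 4], [5, 8, 4, 5, 7, 3, 4, 5, 7, 3, 4],
  [5, 4, 7, 5, 7, 3, 4], [5, 7, 5, 4, 3, 7], [7, 4, 5, 4, 3, 7, 4, 5, 4, 3, 4],
  [7, 4, 7, 5, 3, 4], [5, 3, 7, 5, 3, 4], [8, 5, 8, 4, 5, 7, 4, 3, 4],
  [7, 4, 3, 7, 5, 4], [5, 8, 4, 5, 4, 3, 8, 5, 4], [5, 7, 4, 5, 7, 3, 4, 5, 3, 4],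
  [4, 7, 5, 7, 4, 5, 3, 4], [4, 7, 5, 3, 4, 8, 5, 3, 4], [4, 3, 4, 5, 8, 3, 4, 7, 5, 3, 4],
  [6, 4, 5, 3, 7, 4, 5, 3, 4], [6, 5, 4, 8, 5, 3, 7, 4], [8, 5, 8, 3, 4, 5, 7, 3, 4],
  [6, 5, 8, 4, 3, 7, 4, 5, 4, 3, 4], [8, 5, 4, 3, 4, 5, 8, 5, 4, 3, 4], [8, 5, 8, 4, 7, 3, 4, 5, 4, 3, 4],
  [6, 5, 8, 3, 4, 5, 3, 4], [5, 7, 5, 3, 8, 4, 5, 7, 3, 4], [3, 7, 5, 4, 8, 5, 3, 4],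
  [3, 4, 7, 5, 3, 7, 4], [3, 4, 7, 5, 3, 4], [4, 5, 3, 8, 5, 4],
  [4, 5, 7, 4, 5, 3, 4], [4, 5, 4, 3, 8, 5, 6, 4, 5, 3, 4], [8, 4, 7, 5, 4, 3, 4, 5, 3, 4],
  [6, 5, 7, 5, 6, 4, 5, 3, 4], [4, 7, 5, 3, 4, 8, 5, 7, 3, 4], [8, 3, 4, 5, 3, 4, 8, 5, 4, 3, 4],
  [6, 5, 4, 3, 8, 5, 4], [4, 7, 5, 4], [5, 8, 5, 4, 7, 3, 7, 5, 4],
  [6, 5, 7, 4, 5, 4, 3, 4], [4, 7, 5, 4, 8, 5, 3, 4], [5, 8, 5, 7, 4, 3, 7, 5, 4],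
  [6, 5, 3, 8, 4, 5, 7, 3, 4], [5, 7, 5, 4, 7, 3, 7, 5, 4], [7, 5, 4, 8, 5, 3, 4],
  [7, 5, 3, 8, 4, 5, 3, 4], [3, 4, 5, 3, 8, 5, 6, 4, 5, 3, 4], [3, 4, 5, 3, 4, 3, 8, 5, 4, 3, 4],
  [8, 5, 3, 8, 5, 4], [5, 7, 4, 5, 4, 8, 5, 3, 4], [7, 5, 7, 5, 3, 4],
  [4, 7, 5, 6, 4, 5, 3, 7, 4], [8, 4, 7, 5, 4], [5, 8, 5, 3, 4],
  [4, 3, 8, 4, 5, 4, 8, 5, 4, 3, 4], [4, 8, 5, 6, 4, 5, 3, 4], [6, 4, 5, 4, 3, 7, 4, 5, 4, 3, 4],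
  [4, 5, 3, 4, 3, 4, 5, 4, 3, 4], [5, 3, 4, 3, 7, 5, 4], [5, 7, 4, 7, 5, 3, 4],
  [6, 4, 3, 4, 5, 7, 4, 3, 4], [4, 3, 4, 5, 3, 4], [8, 5, 7, 4, 3, 4, 5, 4, 3, 4],
  [6, 4, 5, 3, 4], [8, 5, 4, 3, 4, 7, 5, 4, 3, 4], [5, 3, 8, 5, 3, 4],
  [4, 3, 4, 7, 5, 4, 3, 4], [6, 5, 3, 4, 7, 5, 4, 3, 4], [6, 5, 3, 4, 3, 8, 5, 4],
  [3, 4, 8, 5, 3, 4, 8, 5, 7, 3, 4], [5, 4, 3, 4, 8, 5, 4, 3, 4], [6, 5, 4, 8, 5, 7, 3, 4],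
  [8, 3, 4, 7, 5, 7, 4, 5, 3, 4], [8, 4, 5, 4, 8, 5, 4, 3, 4], [6, 5, 8, 4, 7, 3, 4, 5, 4, 3, 4],
  [4, 7, 3, 4, 5, 7, 3, 4, 5, 3, 4], [4, 5, 3, 4, 8, 5, 7, 4, 3, 4], [4, 3, 7, 4, 5, 4, 8, 5, 3, 4],
  [4, 3, 7, 4, 5, 7, 3, 4, 5, 3, 4], [4, 7, 5, 3, 7, 4, 5, 7, 4, 3, 4], [4, 7, 3, 4, 5, 7, 4, 5, 3, 4],
  [6, 5, 4, 3, 4, 5, 3, 8, 5, 4, 3, 4], [4, 8, 5, 7, 4, 3, 7, 5, 4], [4, 5, 8, 5, 7, 3, 4, 5, 3, 4],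
  [4, 7, 5, 3, 7, 4, 7, 5, 3, 4], [7, 4, 7, 3, 4, 5, 7, 4, 5, 3, 4], [7, 5, 8, 5, 4],
  [5, 8, 5, 4, 3, 7], [4, 5, 7, 3, 4, 7, 5, 3, 4], [7, 5, 8, 4, 3, 4, 5, 4, 3, 4],
  [3, 4, 3, 4, 5, 4, 3, 8, 5, 4], [7, 5, 4, 3, 4, 7, 5, 4, 3, 4], [4, 7, 5, 6, 4, 5, 7, 3, 4],
  [3, 4, 5, 7, 3, 4, 7, 5, 3, 4], [7, 5, 3, 7, 5, 4], [5, 4, 3, 7, 4, 5, 4, 8, 5, 4, 3, 4],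
  [7, 4, 5, 4, 3, 7, 5, 4], [7, 5, 7, 4, 5, 3, 4], [7, 5, 4, 7, 5, 3, 4],
  [4, 5, 8, 3, 4, 5, 3, 4], [5, 4, 7, 4, 5, 4, 3, 7, 5, 4], [5, 7, 4, 3, 7, 5, 4],
  [4, 5, 3, 7, 4, 5, 3, 4], [4, 5, 4, 3, 8, 5, 4], [7, 5, 4, 8, 5, 3, 7, 4],
  [7, 5, 4, 7, 5, 7, 3, 4], [4, 8, 5, 3, 4], [6, 5, 7, 4, 5, 7, 3, 4],
  [8, 5, 8, 5, 4], [4, 8, 5, 4, 3, 4, 7, 5, 4], [8, 5, 7, 4, 7, 5, 4, 3, 4],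
  [4, 5, 7, 3, 7, 4, 5, 4, 3, 4], [5, 8, 4, 3, 4, 5, 7, 4, 3, 4], [5, 7, 4, 5, 4, 3, 8, 5, 4],
  [5, 8, 5, 6, 4, 5, 3, 7, 4], [4, 7, 5, 7, 3, 4], [7, 5, 4, 3, 7, 5, 4],
  [7, 5, 4, 7, 5, 3, 7, 4], [7, 3, 4, 5, 7, 4, 5, 3, 4], [5, 4, 3, 7, 4, 5, 4, 3, 4],
  [7, 4, 3, 7, 4, 5, 4, 3, 4], [5, 8, 5, 4, 3, 4, 8, 5, 4, 3, 4], [8, 5, 4, 7, 5, 7, 3, 4],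
  [3, 4, 7, 5, 6, 4, 5, 3, 7, 4], [5, 3, 8, 4, 5, 7, 3, 4], [3, 4, 8, 5, 7, 4, 7, 5, 3, 4],
  [5, 7, 3, 4, 7, 5, 3, 4], [5, 6, 4, 3, 4, 5, 8, 5, 4, 3, 4], [7, 4, 3, 7, 5, 6, 4, 5, 3, 4],
  [5, 8, 4, 7, 3, 4, 5, 4, 3, 4], [7, 5, 7, 4, 5, 7, 3, 4], [3, 8, 5, 4, 7, 5, 7, 4, 3, 4],
  [4, 8, 5, 4, 3, 4, 5, 8, 5, 4, 3, 4], [7, 4, 5, 3, 4, 8, 5, 7, 4, 3, 4], [5, 3, 8, 5, 4, 7, 5, 7, 3, 4],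
  [5, 8, 5, 6, 4, 5, 3, 4], [8, 5, 4, 3, 7, 5, 4], [5, 7, 5, 8, 4, 5, 4, 3, 4],
  [6, 5, 7, 4, 5, 3, 7, 4], [7, 4, 7, 3, 4, 5, 4, 3, 4], [6, 5, 7, 4, 5, 3, 4],
  [3, 4, 8, 5, 3, 4, 8, 5, 3, 4], [4, 5, 4, 3, 7, 5, 4], [6, 3, 4, 5, 7, 3, 4, 5, 3, 4],
  [5, 8, 5, 4, 7, 3, 4, 5, 7, 4, 3, 4], [8, 5, 4, 7, 5, 3, 7, 4], [8, 4, 7, 5, 3, 4],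
  [5, 4, 3, 4, 5, 3, 8, 5, 4, 3, 4], [5, 8, 5, 3, 4, 7, 5, 4, 3, 4], [5, 3, 8, 5, 4],
  [7, 4, 5, 4, 7, 3, 4, 5, 4, 3, 4], [4, 5, 4, 3, 7, 4, 5, 4, 3, 4], [4, 8, 3, 4, 5, 7, 4, 5, 3, 4],
  [4, 3, 8, 5, 6, 4, 5, 3, 4], [5, 7, 5, 4, 3, 4, 5, 4, 3, 7, 4], [4, 8, 3, 4, 5, 7, 4, 3, 4],
  [4, 3, 4, 5, 3, 8, 4, 7, 5, 3, 4], [8, 4, 3, 4, 5, 7, 3, 4, 5, 4, 3, 4], [4, 3, 4, 7, 5, 7, 4, 5, 4, 3, 4],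
  [4, 3, 7, 5, 4, 8, 5, 7, 3, 4], [7, 3, 7, 5, 4, 3, 4, 5, 4, 3, 4], [5, 3, 7, 4, 5, 7, 3, 4],
  [4, 8, 5, 4, 3, 4, 5, 4, 3, 4], [8, 5, 7, 3, 4, 7, 5, 4, 3, 4], [5, 3, 8, 5, 6, 4, 5, 3, 4],
  [3, 4, 7, 5, 7, 4, 5, 3, 4], [3, 4, 3, 7, 5, 4, 8, 5, 3, 4], [7, 4, 5, 3, 4, 8, 5, 4, 3, 4],
  [5, 8, 3, 4, 5, 7, 3, 4], [5, 8, 5, 4, 3, 7, 4, 5, 4, 3, 4], [8, 5, 4, 3, 4, 8, 5, 4, 3, 4],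
  [3, 7, 5, 4, 8, 5, 7, 3, 4], [3, 4, 5, 7, 3, 4, 5, 7, 3, 4], [8, 5, 7, 4, 5, 3, 4],
  [7, 5, 8, 5, 4, 3, 4, 5, 4, 3, 4], [7, 4, 7, 5, 4, 3, 4, 5, 3, 4], [7, 5, 3, 8, 4, 5, 7, 3, 4],
  [3, 4, 5, 3, 8, 5, 4], [3, 4, 5, 8, 5, 3, 4], [4, 3, 4, 5, 7, 4, 3, 4],
  [5, 8, 5, 4, 7, 5, 4, 3, 4], [7, 5, 8, 5, 3, 4], [5, 8, 5, 4, 7, 5, 7, 4, 3, 4],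
  [7, 5, 7, 4, 5, 3, 7, 4], [4, 7, 4, 5, 3, 4], [4, 7, 3, 4, 5, 4, 8, 5, 4, 3, 4],
  [4, 3, 8, 4, 5, 4, 3, 4], [8, 5, 3, 8, 4, 5, 7, 3, 4], [4, 7, 5, 3, 7, 4],
  [8, 5, 8, 4, 3, 7, 4, 5, 4, 3, 4], [6, 5, 3, 7, 4, 5, 3, 4], [4, 3, 7, 4, 5, 4, 3, 4],
  [6, 4, 5, 4, 3, 7, 5, 4], [3, 4, 3, 4, 5, 7, 4, 3, 4], [4, 8, 3, 4, 5, 4, 3, 4],
  [5, 7, 5, 4, 3, 4, 5, 7, 4, 3, 4], [4, 3, 4, 8, 5, 4, 3, 4], [5, 4, 7, 5, 3, 4],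
  [5, 4, 7, 5, 4, 3, 7, 5, 4], [7, 5, 3, 8, 5, 4], [4, 5, 7, 3, 4, 5, 7, 3, 4],
  [4, 5, 4, 8, 5, 3, 4], [8, 5, 3, 4, 7, 5, 4, 3, 4], [5, 3, 4, 7, 5, 7, 3, 4],
  [5, 4, 3, 8, 4, 5, 4, 3, 4], [5, 4, 3, 4, 5, 8, 5, 4, 3, 4], [5, 8, 5, 4, 3, 4, 5, 4, 3, 4],
  [4, 5, 3, 4, 8, 5, 4, 3, 4], [4, 7, 5, 4, 3, 4, 8, 5, 4, 3, 4], [4, 5, 4, 7, 3, 4, 5, 7, 4, 3, 4],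
  [5, 4, 7, 3, 4, 5, 4, 3, 4], [7, 5, 3, 7, 4, 5, 3, 4], [3, 7, 4, 5, 3, 4, 8, 5, 4, 3, 4],
  [7, 5, 4, 3, 4, 7, 5, 4], [3, 4, 5, 8, 3, 4, 7, 5, 3, 4], [4, 3, 7, 5, 3, 4],
  [5, 4, 7, 3, 4, 5, 7, 4, 3, 4], [5, 4, 3, 4, 7, 5, 6, 4, 5, 3, 4], [5, 7, 5, 3, 4],
  [4, 3, 8, 4, 5, 4, 8, 5, 3, 4], [5, 4, 3, 4, 7, 5, 4, 3, 4], [4, 7, 3, 4, 5, 4, 3, 4],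
  [6, 5, 4, 8, 5, 3, 4], [7, 5, 8, 4, 5, 3, 7, 4], [8, 5, 8, 5, 4, 3, 4, 5, 4, 3, 4],
  [3, 4, 7, 5, 6, 4, 5, 3, 4], [6, 5, 8, 4, 5, 3, 4], [8, 5, 4, 3, 4, 8, 5, 7, 4, 3, 4],
  [5, 7, 4, 5, 3, 7, 4, 5, 3, 4], [6, 5, 3, 4, 8, 5, 3, 7, 4], [5, 3, 7, 5, 4, 8, 5, 3, 4],
  [4, 7, 5, 3, 7, 4, 5, 4, 3, 4], [4, 8, 5, 7, 4, 7, 5, 3, 4], [6, 5, 3, 4, 7, 5, 7, 3, 4],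
  [4, 8, 5, 3, 4, 8, 5, 7, 3, 4], [5, 8, 5, 7, 3, 4, 5, 3, 4], [4, 8, 5, 7, 3, 4, 7, 5, 3, 4],
  [3, 4, 7, 5, 4, 8, 5, 3, 4], [4, 7, 5, 4, 3, 4, 5, 7, 3, 4], [5, 7, 4, 3, 4, 5, 7, 4, 3, 4],
  [5, 7, 5, 4, 3, 4, 5, 3, 4], [6, 3, 4, 5, 4, 8, 5, 4, 3, 4], [4, 7, 5, 7, 3, 4, 7, 5, 3, 4],
  [3, 4, 7, 5, 6, 4, 5, 7, 3, 4], [6, 5, 3, 7, 4, 5, 4, 3, 4], [8, 5, 7, 4, 5, 7, 3, 4],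
  [8, 5, 3, 8, 4, 5, 3, 4], [6, 4, 5, 7, 3, 4, 5, 3, 4], [6, 4, 5, 3, 7, 4, 5, 7, 3, 4],
  [6, 5, 4, 3, 4, 5, 4, 3, 7, 4], [3, 4, 5, 7, 3, 4, 5, 3, 4], [6, 3, 4, 5, 4, 3, 8, 5, 4],
  [6, 5, 7, 3, 4, 7, 5, 3, 4], [8, 5, 7, 4, 5, 7, 4, 3, 4], [4, 7, 5, 6, 4, 5, 3, 4],
  [5, 4, 7, 5, 3, 7, 4], [5, 8, 5, 4, 3, 4, 5, 7, 3, 4], [5, 8, 5, 4, 3, 4, 5, 3, 4],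
  [4, 8, 5, 7, 4, 5, 4, 3, 4], [4, 5, 8, 5, 3, 4], [4, 3, 7, 4, 5, 4, 8, 5, 4, 3, 4],
  [7, 3, 4, 5, 3, 4, 8, 5, 4, 3, 4], [3, 4, 7, 5, 7, 4, 7, 5, 3, 4], [3, 4, 7, 5, 7, 4, 3, 7, 5, 4],
  [6, 4, 5, 7, 3, 4, 5, 7, 3, 4], [4, 3, 7, 5, 4, 8, 5, 3, 4], [7, 5, 3, 4, 8, 5, 3, 4],
  [4, 7, 5, 7, 4, 5, 3, 7, 4], [5, 7, 5, 6, 4, 5, 3, 4], [6, 5, 8, 4, 5, 3, 7, 4],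
  [6, 5, 4, 3, 4, 5, 7, 4, 3, 4], [5, 8, 5, 3, 7, 4, 5, 3, 4], [5, 7, 3, 4, 5, 7, 3, 4],
  [6, 5, 8, 4, 5, 7, 3, 4], [6, 5, 4, 3, 4, 5, 4, 3, 4], [4, 3, 8, 5, 4, 8, 5, 3, 4],
  [5, 4, 3, 4, 7, 5, 7, 4, 3, 4], [4, 5, 3, 7, 4, 5, 7, 3, 4], [4, 3, 4, 5, 7, 4, 5, 4, 3, 4],
  [4, 5, 3, 8, 4, 5, 3, 4], [4, 5, 7, 5, 4, 3, 4, 5, 4, 3, 4], [5, 6, 5, 4, 3, 4, 5, 8, 5, 4, 3, 4],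
  [4, 7, 5, 4, 3, 7], [5, 3, 7, 5, 6, 4, 5, 3, 4], [4, 7, 5, 7, 3, 4, 5, 7, 4, 3, 4],
  [4, 3, 4, 8, 5, 7, 3, 4, 5, 4, 3, 4], [8, 5, 7, 4, 5, 3, 7, 4], [5, 7, 5, 3, 4, 8, 5, 3, 4],
  [7, 4, 5, 3, 4, 3, 7, 5, 4], [6, 5, 3, 4, 3, 7, 5, 4], [5, 7, 4, 3, 4, 5, 4, 3, 4],
  [4, 7, 5, 8, 4, 3, 4, 5, 4, 3, 4], [8, 5, 4, 3, 4, 5, 7, 4, 5, 4, 3, 4], [7, 5, 8, 3, 4, 5, 7, 3, 4],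
  [4, 8, 3, 4, 5, 4, 8, 5, 3, 4], [5, 8, 5, 4, 3, 4, 7, 5, 4, 3, 4], [6, 5, 3, 4, 7, 5, 3, 4],
  [3, 4, 8, 5, 7, 4, 5, 4, 3, 4], [7, 5, 8, 4, 5, 3, 4], [4, 5, 3, 8, 4, 5, 7, 3, 4],
  [4, 5, 7, 3, 4, 5, 3, 4], [8, 5, 4, 3, 4, 5, 4, 8, 5, 4, 3, 4], [7, 5, 7, 3, 4, 5, 3, 4],
  [6, 5, 7, 4, 7, 3, 4, 5, 4, 3, 4], [4, 5, 3, 8, 5, 6, 4, 5, 3, 4], [4, 3, 4, 8, 5, 7, 4, 5, 4, 3, 4],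
  [6, 5, 7, 4, 3, 7, 4, 5, 4, 3, 4], [3, 4, 7, 5, 4, 3, 8, 5, 4], [8, 4, 3, 7, 5, 4, 8, 5, 3, 4],
  [4, 5, 8, 5, 4, 3, 4, 5, 3, 4], [3, 4, 7, 5, 4, 3, 4, 7, 5, 4], [7, 5, 7, 5, 4, 3, 4, 5, 7, 4, 3, 4],
  [8, 4, 3, 4, 5, 7, 4, 5, 4, 3, 4], [4, 3, 8, 4, 5, 7, 4, 5, 3, 4], [5, 8, 5, 4, 3, 7, 4, 5, 7, 4, 3, 4],
  [6, 5, 3, 4, 7, 5, 3, 7, 4], [6, 5, 7, 5, 4, 3, 4, 5, 3, 4], [5, 3, 7, 4, 5, 4, 8, 5, 3, 4],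
  [7, 4, 3, 4, 5, 7, 4, 5, 4, 3, 4], [8, 5, 8, 4, 3, 4, 5, 7, 4, 3, 4], [4, 8, 5, 3, 4, 8, 5, 3, 4],
  [5, 7, 3, 4, 5, 4, 8, 5, 3, 4], [4, 8, 5, 3, 7, 4, 7, 5, 3, 4], [5, 8, 5, 7, 3, 4, 5, 4, 3, 4],
  [6, 5, 7, 3, 4, 5, 4, 3, 4], [6, 5, 3, 7, 5, 6, 4, 5, 3, 4], [5, 8, 5, 3, 7, 4, 5, 4, 3, 4],
  [8, 4, 7, 5, 3, 4, 8, 5, 3, 4], [7, 5, 7, 3, 4, 5, 7, 3, 4], [7, 5, 3, 7, 4, 5, 7, 3, 4],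
  [4, 5, 8, 3, 4, 5, 7, 3, 4]]

/-- The elements of `C(a, c)`. -/
def Wc : List (List ℕ) :=
  [[], [5, 8, 4, 7, 4], [8, 5, 7], [4, 8, 4, 7, 5],
  [3], [5, 8, 4, 7, 4, 3], [8, 5, 7, 3], [4, 8, 4, 7, 5, 3],
  [5], [4, 8, 4, 7], [8, 5, 7, 5], [8, 5, 4, 8, 4, 1],
  [1], [5, 4, 7, 4, 7], [8, 5, 7, 1], [7, 4, 7, 4, 5],
  [6], [5, 4, 8, 4, 7], [8, 5, 8, 1], [4, 8, 4, 7, 5, 6],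
  [5, 3], [4, 8, 4, 7, 3], [8, 5, 7, 5, 3], [8, 5, 4, 8, 4, 3, 1],
  [3, 1], [5, 4, 7, 4, 7, 3], [8, 5, 7, 3, 1], [7, 4, 7, 4, 5, 3],
  [6, 3], [5, 4, 8, 4, 7, 3], [8, 5, 8, 3, 1], [4, 8, 4, 7, 5, 6, 3],
  [5, 1], [7, 4, 7, 4], [8, 5, 7, 5, 1], [8, 5, 4, 8, 4],
  [5, 6], [8, 4, 7, 4], [5, 7, 5, 8, 5], [8, 5, 4, 7, 4],
  [6, 1], [5, 7, 4, 7, 4], [8, 5, 8], [7, 4, 7, 4, 5, 6],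
  [6, 5], [8, 5, 8, 5, 1], [4, 7, 4, 5, 7, 1], [5, 8, 5, 4, 7, 4],
  [5, 3, 1], [7, 4, 7, 4, 3], [8, 5, 7, 5, 3, 1], [8, 5, 4, 8, 4, 3],
  [5, 6, 3], [8, 4, 7, 4, 3], [5, 7, 5, 8, 5, 3], [8, 5, 4, 7, 4, 3],
  [6, 3, 1], [5, 7, 4, 7, 4, 3], [8, 5, 8, 3], [7, 4, 7, 4, 5, 6, 3],
  [6, 5, 3], [8, 5, 8, 5, 3, 1], [4, 7, 4, 5, 7, 3, 1], [5, 8, 5, 4, 7, 4, 3],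
  [5, 6, 1], [4, 7, 4, 7], [5, 7, 5, 8, 5, 1], [8, 5, 4, 7, 4, 1],
  [5, 6, 5], [5, 7, 5, 8], [8, 4, 7, 4, 5], [4, 7, 4, 5, 8],
  [6, 5, 1], [8, 5, 8, 5], [4, 7, 4, 5, 7], [4, 7, 4, 7, 5, 6],
  [7, 5, 7], [7, 5, 8, 1], [7, 5, 4, 8, 4, 1], [7, 5, 4, 7, 4],
  [7, 5, 7, 1], [7, 5, 8], [7, 5, 4, 8, 4], [7, 5, 4, 7, 4, 1],
  [4, 8, 4, 5, 7, 5], [5, 8, 5, 7], [5, 8, 5, 7, 5], [4, 8, 4, 5, 7],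
  [6, 5, 8, 4, 7, 4], [7, 5, 8, 5], [7, 5, 7, 5, 1], [4, 8, 4, 5, 8, 1],
  [5, 6, 3, 1], [4, 7, 4, 7, 3], [5, 7, 5, 8, 5, 3, 1], [8, 5, 4, 7, 4, 3, 1],
  [5, 6, 5, 3], [5, 7, 5, 8, 3], [8, 4, 7, 4, 5, 3], [4, 7, 4, 5, 8, 3],
  [6, 5, 3, 1], [8, 5, 8, 5, 3], [4, 7, 4, 5, 7, 3], [4, 7, 4, 7, 5, 6, 3],
  [7, 5, 7, 3], [7, 5, 8, 3, 1], [7, 5, 4, 8, 4, 3, 1], [7, 5, 4, 7, 4, 3],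
  [7, 5, 7, 3, 1], [7, 5, 8, 3], [7, 5, 4, 8, 4, 3], [7, 5, 4, 7, 4, 3, 1],
  [4, 8, 4, 5, 7, 5, 3], [5, 8, 5, 7, 3], [5, 8, 5, 7, 5, 3], [4, 8, 4, 5, 7, 3],
  [5, 6, 5, 1], [5, 7, 5, 8, 1], [4, 7, 4, 7, 5], [4, 7, 4, 5, 8, 1],
  [6, 5, 4, 7, 4, 7], [7, 5, 8, 5, 1], [7, 5, 7, 5], [4, 8, 4, 5, 8],
  [6, 5, 7, 4, 7, 4], [5, 8, 5, 7, 1], [5, 8, 5, 7, 5, 1], [4, 8, 4, 5, 7, 1],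
  [6, 5, 8, 4, 7, 4, 3], [7, 5, 8, 5, 3], [7, 5, 7, 5, 3, 1], [4, 8, 4, 5, 8, 3, 1],
  [5, 6, 5, 3, 1], [5, 7, 5, 8, 3, 1], [4, 7, 4, 7, 5, 3], [4, 7, 4, 5, 8, 3, 1],
  [6, 5, 4, 7, 4, 7, 3], [7, 5, 8, 5, 3, 1], [7, 5, 7, 5, 3], [4, 8, 4, 5, 8, 3],
  [6, 5, 7, 4, 7, 4, 3], [5, 8, 5, 7, 3, 1], [5, 8, 5, 7, 5, 3, 1], [4, 8, 4, 5, 7, 3, 1]]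

/-- The elements of `C(a, f)` with conjugating elements. -/
def QI : List (List ℕ × (List ℕ × ℕ) × List ℕ × ℕ) :=
  [([], ([], 1), [], 1),
  ([3], ([], 3), [5, 4, 3, 8, 5, 8, 4, 8, 5, 6], 6),
  ([4, 7, 4, 8], ([], 1), [], 1),
  ([1], ([], 1), [], 1),
  ([4], ([5, 4, 6, 5], 6), [], 1),
  ([6], ([], 6), [], 1),
  ([7], ([], 1), [5, 4, 3, 8, 4, 5, 4, 8, 5], 6),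
  ([8], ([], 1), [], 1),
  ([3, 4, 7, 4, 8], ([], 1), [], 1),
  ([1, 3], ([8, 3, 8], 3), [5, 4, 3, 8, 5, 8, 4, 8, 5], 6),
  ([3, 4], ([], 1), [5, 4, 3, 4, 7, 5, 7, 4, 5, 8], 6),
  ([3, 6], ([4, 8, 3, 4, 8], 3), [], 1),
  ([3, 7], ([], 1), [], 1),
  ([3, 8], ([], 1), [], 1),
  ([7, 4, 7, 4], ([], 1), [], 1),
  ([1, 7, 4, 7], ([5, 4, 6, 5, 8, 4], 6), [], 1),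
  ([7, 4, 8, 4], ([], 1), [], 1),
  ([4, 7, 4], ([], 1), [], 1),
  ([4, 8, 4], ([], 1), [], 1),
  ([1, 4], ([5, 4, 3, 6, 5, 8, 4, 3, 8], 6), [], 1),
  ([1, 6], ([5, 4, 3, 4, 3, 5, 4, 3, 8, 5, 4, 7, 5], 6), [], 1),
  ([1, 7], ([], 1), [5, 4, 3, 8, 4, 5, 4, 8, 5, 6], 6),
  ([1, 8], ([], 1), [], 1),
  ([4, 3], ([], 1), [], 1),
  ([4, 6], ([5, 8, 4, 5, 7, 5], 6), [], 1),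
  ([4, 7], ([], 1), [], 1),
  ([4, 8], ([], 1), [5, 4, 3, 4, 5, 8, 5, 8, 4, 5], 6),
  ([7, 3], ([], 1), [], 1),
  ([7, 4], ([], 1), [], 1),
  ([8, 3], ([], 1), [], 1),
  ([8, 4], ([], 1), [], 1),
  ([3, 7, 4, 7, 4], ([], 1), [], 1),
  ([1, 3, 7, 4, 7], ([], 1), [], 1),
  ([3, 7, 4, 8, 4], ([], 1), [], 1),
  ([3, 4, 7, 4], ([], 1), [], 1),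
  ([3, 4, 8, 4], ([], 1), [], 1),
  ([1, 3, 4], ([], 1), [5, 4, 8, 5, 4, 3, 4, 8, 5], 6),
  ([1, 3, 6], ([4, 3, 4], 3), [], 1),
  ([1, 3, 7], ([], 1), [], 1),
  ([1, 3, 8], ([], 1), [], 1),
  ([3, 4, 3], ([5, 4, 3, 6, 5], 6), [], 1),
  ([3, 4, 6], ([], 1), [], 1),
  ([3, 4, 7], ([], 1), [], 1),
  ([3, 4, 8], ([], 1), [], 1),
  ([3, 7, 3], ([], 1), [], 1),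
  ([3, 7, 4], ([], 1), [], 1),
  ([3, 8, 3], ([], 1), [5, 4, 3, 8, 4, 5, 4, 3, 8, 5, 8], 6),
  ([3, 8, 4], ([], 1), [], 1),
  ([1, 3, 8, 3], ([], 1), [5, 4, 3, 8, 4, 5, 4, 3, 8, 5, 7], 6),
  ([7, 4, 7], ([5, 4, 3, 6, 5, 4, 3, 8], 6), [], 1),
  ([4, 7, 4, 7], ([], 1), [], 1),
  ([1, 4, 7, 4], ([], 1), [], 1),
  ([1, 4, 8, 4], ([], 1), [], 1),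
  ([1, 7, 4, 7, 3], ([], 1), [], 1),
  ([7, 4, 8], ([5, 4, 6, 5, 8], 6), [], 1),
  ([1, 8, 4], ([], 1), [], 1),
  ([1, 7, 4], ([], 1), [], 1),
  ([4, 7, 4, 3], ([], 1), [], 1),
  ([4, 8, 4, 3], ([], 1), [], 1),
  ([1, 4, 3], ([], 1), [], 1),
  ([1, 4, 6], ([5, 4, 3, 6, 5, 4, 3], 6), [], 1),
  ([1, 4, 7], ([], 1), [], 1),
  ([1, 4, 8], ([], 1), [5, 7, 4, 3, 5, 4, 6, 5, 8, 5], 6),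
  ([1, 7, 3], ([], 1), [], 1),
  ([1, 8, 3], ([], 1), [], 1),
  ([4, 3, 4], ([4], 3), [], 1),
  ([4, 3, 6], ([], 1), [], 1),
  ([4, 3, 7], ([], 1), [], 1),
  ([4, 3, 8], ([], 1), [], 1),
  ([4, 7, 3], ([], 1), [], 1),
  ([4, 8, 3], ([], 1), [], 1),
  ([7, 3, 4], ([], 1), [], 1),
  ([7, 3, 7], ([4, 3, 4, 8], 3), [5, 4, 3, 8, 5, 8, 4, 3, 8, 5, 8], 6),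
  ([7, 3, 8], ([8], 3), [], 1),
  ([7, 4, 3], ([], 1), [], 1),
  ([8, 3, 4], ([], 1), [], 1),
  ([8, 4, 3], ([], 1), [], 1),
  ([7, 3, 7, 3], ([], 1), [], 1),
  ([3, 7, 3, 8], ([], 1), [], 1),
  ([3, 7, 3, 4, 8, 4], ([], 1), [], 1),
  ([3, 4, 7, 4, 3, 8], ([], 1), [], 1),
  ([3, 7, 4, 7], ([], 1), [], 1),
  ([3, 4, 7, 4, 7], ([], 1), [], 1),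
  ([1, 3, 4, 7, 4], ([], 1), [], 1),
  ([1, 3, 4, 8, 4], ([], 1), [], 1),
  ([1, 3, 7, 4, 7, 3], ([5, 4, 6, 5, 8, 4, 3], 6), [], 1),
  ([3, 7, 4, 8], ([], 1), [], 1),
  ([1, 3, 8, 4], ([], 1), [], 1),
  ([1, 3, 7, 4], ([], 1), [], 1),
  ([3, 4, 7, 4, 3], ([], 1), [], 1),
  ([3, 4, 8, 4, 3], ([], 1), [], 1),
  ([1, 3, 4, 3], ([5, 4, 3, 6, 5, 8, 4, 8], 6), [], 1),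
  ([1, 3, 4, 6], ([], 1), [], 1),
  ([1, 3, 4, 7], ([], 1), [], 1),
  ([1, 3, 4, 8], ([], 1), [], 1),
  ([1, 3, 7, 3], ([], 1), [], 1),
  ([3, 4, 3, 4], ([], 1), [], 1),
  ([3, 4, 3, 6], ([5, 8, 4, 3, 5, 7, 5], 6), [], 1),
  ([3, 4, 3, 7], ([], 1), [], 1),
  ([3, 4, 3, 8], ([], 1), [], 1),
  ([3, 4, 7, 3], ([], 1), [], 1),
  ([3, 4, 8, 3], ([], 1), [], 1),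
  ([3, 7, 3, 4], ([], 1), [], 1),
  ([3, 7, 3, 7], ([], 1), [], 1),
  ([3, 7, 4, 3], ([], 1), [5, 4, 3, 4, 5, 8, 5, 8, 4, 3, 5, 8], 6),
  ([3, 8, 3, 4], ([], 1), [], 1),
  ([3, 8, 4, 3], ([], 1), [], 1),
  ([1, 7, 3, 7], ([4, 8, 3, 4], 3), [5, 4, 3, 8, 4, 5, 4, 8, 5, 4, 3], 6),
  ([7, 3, 4, 8, 4], ([], 1), [], 1),
  ([1, 3, 4, 8, 4, 3], ([], 1), [], 1),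
  ([1, 4, 3, 8, 3], ([], 1), [], 1),
  ([1, 3, 8, 3, 4], ([], 1), [], 1),
  ([7, 3, 8, 3], ([], 1), [], 1),
  ([7, 4, 7, 3], ([], 1), [], 1),
  ([1, 7, 4, 8], ([5, 4, 3, 6, 5, 8, 4, 3], 6), [], 1),
  ([1, 4, 7, 4, 3], ([], 1), [], 1),
  ([1, 4, 8, 4, 3], ([], 1), [], 1),
  ([4, 3, 7, 4, 8], ([], 1), [5, 4, 3, 8, 4, 5, 4, 8, 5, 8], 6),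
  ([7, 4, 8, 3], ([], 1), [5, 7, 4, 3, 5, 4, 8, 5, 7, 5], 6),
  ([1, 3, 8, 3, 4, 3], ([], 1), [], 1),
  ([1, 3, 7, 3, 4, 3], ([], 1), [], 1),
  ([1, 8, 4, 3], ([], 1), [], 1),
  ([1, 7, 4, 3], ([], 1), [], 1),
  ([3, 4, 3, 7, 3], ([], 1), [], 1),
  ([4, 7, 4, 3, 7], ([], 1), [], 1),
  ([4, 7, 4, 3, 8], ([], 1), [], 1),
  ([3, 4, 3, 8, 3], ([], 1), [], 1),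
  ([1, 4, 3, 4], ([8, 3, 4, 8], 3), [], 1),
  ([1, 4, 3, 6], ([], 1), [], 1),
  ([1, 4, 3, 7], ([], 1), [], 1),
  ([1, 4, 3, 8], ([], 1), [], 1),
  ([1, 4, 7, 3], ([], 1), [], 1),
  ([1, 4, 8, 3], ([], 1), [], 1),
  ([1, 7, 3, 4], ([], 1), [], 1),
  ([1, 7, 3, 8], ([8, 3], 3), [], 1),
  ([1, 8, 3, 4], ([], 1), [], 1),
  ([4, 3, 4, 3], ([], 1), [], 1),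
  ([4, 3, 4, 6], ([4, 8, 3, 8], 3), [], 1),
  ([4, 3, 4, 7], ([], 1), [], 1),
  ([4, 3, 4, 8], ([], 1), [], 1),
  ([4, 3, 7, 3], ([], 1), [5, 4, 3, 4, 7, 5, 7, 4, 3, 5, 8], 6),
  ([4, 3, 7, 4], ([], 1), [], 1),
  ([4, 3, 8, 3], ([], 1), [], 1),
  ([4, 3, 8, 4], ([], 1), [], 1),
  ([4, 7, 3, 4], ([], 1), [], 1),
  ([4, 7, 3, 7], ([], 1), [], 1),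
  ([4, 7, 3, 8], ([], 1), [], 1),
  ([4, 8, 3, 4], ([], 1), [], 1),
  ([7, 3, 4, 3], ([], 1), [], 1),
  ([7, 3, 4, 7], ([], 1), [], 1),
  ([7, 3, 4, 8], ([], 1), [], 1),
  ([7, 3, 7, 4], ([], 1), [5, 7, 4, 3, 5, 4, 3, 6, 5, 8, 5], 6),
  ([7, 3, 8, 4], ([], 1), [], 1),
  ([7, 4, 3, 4], ([], 1), [], 1),
  ([7, 4, 3, 7], ([], 1), [5, 4, 3, 4, 7, 5, 7, 4, 3, 5], 6),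
  ([7, 4, 3, 8], ([], 1), [], 1),
  ([8, 3, 4, 3], ([], 1), [5, 4, 3, 4, 7, 5, 7, 4, 5], 6),
  ([8, 4, 3, 4], ([], 1), [], 1),
  ([7, 4, 3, 7, 3], ([], 1), [], 1),
  ([4, 7, 3, 7, 3], ([], 1), [], 1),
  ([3, 7, 3, 4, 8], ([], 1), [], 1),
  ([3, 7, 3, 8, 4], ([], 1), [], 1),
  ([3, 4, 7, 4, 3, 7], ([], 1), [], 1),
  ([1, 3, 4, 7, 4, 3], ([], 1), [], 1),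
  ([3, 7, 3, 4, 7, 4], ([], 1), [], 1),
  ([7, 3, 4, 7, 4], ([], 1), [], 1),
  ([3, 7, 4, 7, 3], ([5, 4, 3, 6, 5, 4, 8], 6), [], 1),
  ([1, 3, 7, 4, 8], ([], 1), [], 1),
  ([3, 4, 3, 7, 4, 8], ([], 1), [], 1),
  ([3, 7, 4, 8, 3], ([5, 4, 3, 6, 5, 8], 6), [], 1),
  ([1, 8, 3, 4, 3], ([], 1), [5, 4, 3, 4, 7, 5, 7, 4, 5, 6], 6),
  ([1, 7, 3, 4, 3], ([], 1), [], 1),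
  ([1, 3, 8, 4, 3], ([], 1), [], 1),
  ([1, 3, 7, 4, 3], ([], 1), [5, 4, 3, 8, 5, 4, 3, 4, 7, 5, 4], 6),
  ([1, 3, 4, 3, 4], ([], 1), [], 1),
  ([1, 3, 4, 3, 6], ([5, 4, 3, 6, 5, 4], 6), [], 1),
  ([1, 3, 4, 3, 7], ([], 1), [], 1),
  ([1, 3, 4, 3, 8], ([], 1), [], 1),
  ([1, 3, 4, 7, 3], ([], 1), [], 1),
  ([1, 3, 4, 8, 3], ([], 1), [], 1),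
  ([1, 3, 7, 3, 4], ([], 1), [], 1),
  ([1, 4, 3, 4, 6], ([4, 3], 3), [], 1),
  ([1, 4, 3, 4, 3], ([], 1), [], 1),
  ([3, 4, 3, 4, 7], ([4, 3, 5, 4, 8, 3, 5, 4, 3, 4, 5], 3), [], 1),
  ([3, 4, 3, 4, 8], ([4, 3, 4, 5, 7, 4, 5, 8, 3, 4, 5], 3), [], 1),
  ([3, 4, 3, 7, 4], ([4, 3, 4, 5, 4, 3, 8, 5, 4, 7, 5], 3), [5, 4, 3, 8, 4, 5, 4, 8, 5, 4], 6),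
  ([3, 4, 3, 8, 4], ([4, 3, 5, 7, 4, 3, 5, 4, 3, 4, 5], 3), [], 1),
  ([3, 4, 7, 3, 4], ([4, 3, 5, 7, 4, 5, 4, 3, 4, 6, 5], 3), [], 1),
  ([3, 4, 7, 3, 7], ([], 1), [], 1),
  ([3, 4, 7, 3, 8], ([], 1), [], 1),
  ([3, 4, 8, 3, 4], ([4, 3, 4, 5, 4, 3, 8, 5, 4, 7, 3, 5], 3), [5, 4, 3, 8, 5, 8, 4, 3, 8, 5, 6], 6),
  ([3, 7, 3, 4, 3], ([], 1), [], 1),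
  ([3, 7, 3, 4, 7], ([], 1), [], 1),
  ([3, 7, 3, 7, 4], ([], 1), [], 1),
  ([3, 7, 4, 3, 4], ([4, 3, 4, 5, 7, 4, 5, 8, 3, 4, 3, 5], 3), [], 1),
  ([3, 7, 4, 3, 7], ([], 1), [], 1),
  ([3, 7, 4, 3, 8], ([], 1), [], 1),
  ([3, 8, 3, 4, 3], ([], 1), [], 1),
  ([3, 8, 4, 3, 4], ([4, 3, 5, 4, 8, 5, 4, 3, 4, 6, 5], 3), [], 1),
  ([1, 7, 3, 4, 7], ([], 1), [], 1),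
  ([1, 7, 3, 7, 4], ([], 1), [5, 4, 3, 4, 5, 8, 5, 8, 4, 3, 5], 6),
  ([1, 3, 4, 3, 8, 3], ([], 1), [], 1),
  ([4, 7, 3, 8, 3], ([], 1), [], 1),
  ([7, 4, 3, 8, 3], ([], 1), [], 1),
  ([7, 4, 7, 3, 4], ([], 1), [5, 4, 3, 8, 4, 5, 4, 8, 5, 7], 6),
  ([1, 7, 4, 8, 3], ([], 1), [5, 4, 3, 4, 5, 8, 5, 8, 4, 5, 8], 6),
  ([1, 3, 4, 3, 7, 3], ([], 1), [], 1),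
  ([3, 4, 3, 7, 4, 7], ([], 1), [], 1),
  ([7, 4, 8, 3, 4], ([], 1), [], 1),
  ([1, 4, 3, 4, 8], ([], 1), [], 1),
  ([1, 4, 3, 4, 7], ([], 1), [], 1),
  ([1, 8, 4, 3, 4], ([], 1), [], 1),
  ([1, 7, 4, 3, 8], ([], 1), [], 1),
  ([1, 7, 4, 3, 7], ([], 1), [5, 4, 3, 4, 7, 5, 4, 3, 4, 8, 5], 6),
  ([1, 7, 4, 3, 4], ([], 1), [], 1),
  ([1, 7, 3, 4, 8], ([], 1), [], 1),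
  ([1, 4, 3, 7, 3], ([], 1), [5, 4, 3, 8, 5, 4, 3, 4, 7, 5], 6),
  ([1, 4, 3, 7, 4], ([], 1), [], 1),
  ([1, 4, 3, 8, 4], ([], 1), [], 1),
  ([1, 4, 7, 3, 4], ([], 1), [], 1),
  ([1, 4, 7, 3, 7], ([], 1), [], 1),
  ([1, 4, 7, 3, 8], ([], 1), [], 1),
  ([1, 4, 8, 3, 4], ([], 1), [], 1),
  ([1, 7, 3, 8, 4], ([], 1), [], 1),
  ([4, 3, 7, 4, 7], ([], 1), [], 1),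
  ([4, 7, 3, 4, 7], ([], 1), [5, 4, 3, 8, 4, 5, 4, 3, 8, 5, 4], 6),
  ([4, 7, 3, 4, 8], ([], 1), [], 1),
  ([4, 7, 3, 7, 4], ([4, 3, 8], 3), [], 1),
  ([4, 7, 3, 8, 4], ([4, 8], 3), [], 1),
  ([7, 3, 4, 7, 3], ([], 1), [], 1),
  ([7, 3, 4, 8, 3], ([], 1), [], 1),
  ([7, 3, 7, 4, 3], ([], 1), [], 1),
  ([7, 3, 8, 4, 3], ([], 1), [], 1),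
  ([7, 4, 3, 7, 4], ([], 1), [], 1),
  ([7, 4, 3, 8, 4], ([], 1), [5, 4, 3, 8, 4, 5, 4, 3, 8, 5], 6),
  ([3, 7, 4, 7, 3, 4], ([], 1), [], 1),
  ([1, 3, 7, 4, 8, 3], ([5, 4, 3, 6, 5, 8, 4], 6), [], 1),
  ([3, 7, 4, 8, 3, 4], ([], 1), [], 1),
  ([1, 3, 4, 3, 4, 8], ([4, 3, 4, 5, 7, 4, 3, 5, 8, 4, 5], 3), [], 1),
  ([1, 3, 4, 3, 4, 7], ([4, 3, 5, 4, 3, 8, 5, 4, 3, 4, 5], 3), [], 1),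
  ([1, 3, 8, 4, 3, 4], ([4, 3, 4, 8, 5, 7, 4, 3, 5, 8, 4, 5], 3), [], 1),
  ([1, 3, 7, 4, 3, 4], ([4, 3, 4, 5, 7, 4, 3, 5, 8, 4, 3, 5], 3), [], 1),
  ([1, 3, 4, 3, 7, 4], ([4, 3, 4, 5, 4, 8, 3, 5, 4, 7, 5], 3), [5, 4, 3, 8, 5, 8, 4, 8, 5, 8], 6),
  ([1, 3, 4, 3, 8, 4], ([4, 5, 7, 3, 4, 3, 5, 4, 3, 4, 5], 3), [], 1),
  ([1, 3, 4, 7, 3, 4], ([4, 5, 7, 3, 4, 5, 4, 3, 4, 6, 5], 3), [], 1),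
  ([1, 3, 4, 8, 3, 4], ([4, 3, 4, 5, 4, 3, 8, 5, 4, 3, 7, 5], 3), [5, 4, 3, 8, 5, 8, 4, 3, 8, 5], 6),
  ([3, 4, 7, 3, 4, 7], ([5, 4, 3, 4, 5, 8, 5, 4, 3, 4, 7, 5], 6), [], 1),
  ([3, 4, 7, 3, 4, 8], ([5, 4, 3, 8, 5, 4, 3, 6, 5, 4, 8, 5], 6), [], 1),
  ([3, 4, 7, 3, 7, 4], ([], 1), [], 1),
  ([3, 4, 7, 3, 8, 4], ([], 1), [], 1),
  ([3, 7, 4, 3, 7, 4], ([5, 4, 3, 4, 8, 5, 7, 5, 4, 3, 4, 5], 6), [], 1),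
  ([3, 7, 4, 3, 8, 4], ([5, 7, 4, 3, 5, 4, 3, 6, 5, 7, 4, 5], 6), [], 1),
  ([1, 4, 7, 3, 8, 4], ([8, 3, 4], 3), [], 1),
  ([1, 4, 7, 3, 7, 4], ([4, 8, 3], 3), [], 1),
  ([4, 7, 3, 7, 4, 3], ([], 1), [], 1),
  ([4, 7, 3, 8, 4, 3], ([], 1), [], 1)]

/-- The elements of `C(a, f)`. -/
def Wf : List (List ℕ) := QI.map Prod.fst

/-- An element of `C(a)` conjugating `f` to `a f`. -/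
def τ : List ℕ := [5, 8, 4, 5, 7, 3, 4, 5, 3, 4, 3, 4, 5]

theorem vf_ok : allL okK Vf = true := by decide +kernel

theorem vc_ok : allL okK Vc = true := by decide +kernel

theorem vf_inc : incB (fun v => key (v ++ ([6] ++ invW iv v))) Vf 0 = true := by decide +kernel

theorem vc_inc : incB (fun v => key (v ++ ([3] ++ invW iv v))) Vc 0 = true := by decide +kernel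

theorem wf_com : comK eqB [[1], [6]] Wf = true := by decide +kernel

theorem wc_com : comK eqB [[1], [3]] Wc = true := by decide +kernel

theorem wf_inc : incB key Wf 0 = true := by decide +kernel

theorem wc_inc : incB key Wc 0 = true := by decide +kernel

theorem lens : Vf.length = 630 ∧ Wf.length = 256 ∧ Vc.length = 1120 ∧ Wc.length = 144 := by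
  decide +kernel

theorem qi_chk : allL (fun e => bA (iChk e.1 e.2.1.1 e.2.1.2)
    (iChk (τ ++ e.1) e.2.2.1 e.2.2.2)) QI = true := by decide +kernel

end Cfsg.Agent.H59.On
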