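import Mathlib
import Cfsg.Agent.H1.P81Defs
import Cfsg.Agent.H69.O8pSl
import Cfsg.Agent.H27.O8A

/-! Project X9P: the pieces SL, CZ, FIN. -/

set_option autoImplicit false
set_option linter.unusedSectionVars false

namespace Cfsg.Agent.H59.P81Sl

open Equiv Subgroup Cfsg.Agent.H49 Cfsg.Agent.H1 Cfsg.Agent.H1.O8P
open Cfsg.Agent.H1.O8P.H69
open Cfsg.Agent.H1.P81 (Bg)
open Cfsg.Agent.H27.O8 (odd3 tt_mem ρ_pow κ_eq)
open Cfsg.Agent.H17.Wo (HomOn Im mem_Im_of)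
open Cfsg.Agent.H69.XV (VD NP Cj)
open Cfsg.Agent.H92.Lx (IP)
open Cfsg.Agent.H98 (SylIn)

universe u

theorem sl : P81.SlStmt.{u} := by
  intro K G _ _ κ d x B hR
  obtain ⟨⟨m1, m2, m3, mt⟩, ⟨b1, b2, b3⟩, ⟨p1, p2, p3⟩, s3, st, s1, s2, tN, nN⟩ := facts
  have hom := B.fr.hom
  have ker := B.fr.ker
  have sN : St ≤ NN := fun n h => h.1.1
  have oN : SO ≤ NN := fun n h => h.1.1.1
  have k1 : κ ng = 1 := (ker _ nN).2 (.inr rfl)
  have n6 := B.n6
  have oL : Im SO κ ≤ OL (κ tt) := (closure_le _).2 (by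
    rintro _ ⟨n, hn, rfl⟩
    exact n6 n hn.1)
  have k0 : ∀ n ∈ St, n ∈ P0 → β n = 0 → κ n ∈ Im SO κ := fun n h h0 hb => by
    rcases mem_SO_or h h0 hb with e | e
    · exact mem_Im_of e
    · have := mem_Im_of (φ := κ) e
      rwa [hom _ (sN h) _ nN, k1, mul_one] at this
  have mv : ∀ n ∈ St, κ n ∈ OL (κ tt) → ∀ u ∈ St, n * u ∈ P0 → β (n * u) = 0 →
      κ u ∈ OL (κ tt) := fun n hn hL u hu h0 hb => by
    have := oL (k0 _ (mul_mem hn hu) h0 hb)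
    rwa [hom _ (sN hn) _ (sN hu), mul_mem_cancel_left hL] at this
  have cL : ∀ g ∈ OL (κ tt), g * κ tt * g⁻¹ = κ tt := fun g hg => by
    rw [mem_centralizer_singleton_iff.1 (OL_le _ hg), mul_inv_cancel_right]
  have c3 : κ u3 ∉ OL (κ tt) := fun h => by
    have e2 : κ u3 ^ 2 = κ tt := by rw [sq, ← hom _ (sN m3) _ (sN m3), s3]
    have e4 : κ tt ^ 2 = 1 := by rw [sq, ← hom _ tN _ tN, st, hom.one]
    obtain ⟨g, hg, h1⟩ := trf (M := Im (St ⊓ P0) κ) (n := 2) hR ⟨mem_Im_of m3, h⟩ (by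
        rintro _ ⟨hb, -⟩
        obtain ⟨n, hn, rfl⟩ := (hom.mono sN).mem_Im.1 hb
        rcases St_cases hn with e | e
        · exact .inr (mem_Im_of ⟨hn, e⟩)
        · rw [← hom _ (sN hn) _ (sN m3)]
          exact .inl (mem_Im_of ⟨mul_mem hn m3, e.mul p3⟩))
      (by rw [sq 2, pow_mul, e2, e4]) fun g hg k hk => by
        obtain ⟨k, rfl⟩ := Nat.exists_eq_add_of_le hk
        rw [pow_add, pow_one, pow_mul, e2, ← conj_pow, cL g hg]
        exact pow_mem (mem_Im_of (show tt ∈ St ⊓ P0 from ⟨mt, rfl, rfl⟩)) _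
    obtain ⟨n, hn, e⟩ := (hom.mono (inf_le_left.trans sN)).mem_Im.1 h1
    have nn := sN hn.1
    have e5 : κ (n * n * tt) = 1 := by
      rw [hom.mul3 nn nn tN, e, conj_mul, ← sq, e2, cL g hg, ← sq, e4]
    obtain ⟨q1, q2⟩ := K.d.nsq n nn hn.2.1 hn.2.2
    rcases (ker _ (mul_mem (mul_mem nn nn) tN)).1 e5 with e | e
    · exact q1 (by rw [← mul_one (n * n), ← st, ← mul_assoc, e, one_mul])
    · exact q2 (by rw [← mul_one (n * n), ← st, ← mul_assoc, e, ng_comm])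
  have nc : ∀ a ∈ [u1, u1 * tt, u2, u2 * tt], κ a ≠ 1 ∧ ¬ Cj (κ zz) (κ a) := fun a ha => by
    obtain ⟨a1, a2, a3⟩ := facts2 K.a a ha
    rw [← B.crd.hp a a1] at a2 a3
    refine ⟨fun e => a2 (by rw [e, d.p_one]), fun h => ?_⟩
    rcases B.w4 _ (B.eq ▸ mem_Im_of a1) h with e | ⟨y, hy, e⟩
    · exact a2 (by rw [e, d.p_z])
    · exact a3 (e ▸ B.orb y hy)
  have cj : ∀ n ∈ NN, ∀ g ∈ NN, g * n * g⁻¹ ∈ QQ ∧ W4 (vec (g * n * g⁻¹)) → Cj (κ zz) (κ n) :=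
    fun n hn g hg h => by
      have := B.cj _ (B.eq ▸ mem_Im_of h.1) (by rw [B.crd.hp _ h.1]; exact h.2)
      rw [hom.conj hg hn] at this
      exact this.trans (Cj.symm ⟨_, rfl⟩)
  have ci : ∀ u ∈ St, κ u ∈ OL (κ tt) → u * u = 1 → (κ u ≠ 1 ∧ ¬ Cj (κ zz) (κ u)) →
      (κ (u * tt) ≠ 1 ∧ ¬ Cj (κ zz) (κ (u * tt))) → (∀ n ∈ St, κ n ∈ OL (κ tt) →
        (n * u ∈ P0 ∧ β (n * u) = 0) ∨ (n ∈ P0 ∧ β n = 0)) → False := by
    intro u hu hL uu ⟨a1, a2⟩ ⟨a3, a4⟩ h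
    have e2 : κ u ^ 2 = 1 := by rw [sq, ← hom _ (sN hu) _ (sN hu), uu, hom.one]
    obtain ⟨g, hg, h1⟩ := trf (M := Im SO κ) (n := 1) hR ⟨mem_Im_of hu, hL⟩ (by
        rintro _ ⟨hb, hb'⟩
        obtain ⟨n, hn, rfl⟩ := (hom.mono sN).mem_Im.1 hb
        rw [← hom _ (sN hn) _ (sN hu)]
        exact (h n hn hb').imp (fun e => k0 _ (mul_mem hn hu) e.1 e.2) fun e => k0 _ hn e.1 e.2)
      (by rw [pow_one, e2]) fun g hg k hk => by
        obtain ⟨k, rfl⟩ := Nat.exists_eq_add_of_le hk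
        rw [pow_add, pow_one, pow_mul, e2, one_pow, mul_one, mul_inv_cancel]
        exact one_mem _
    obtain ⟨n, hn, e⟩ := (hom.mono oN).mem_Im.1 h1
    have nn := oN hn
    have e' : κ (n * tt) = g * κ (u * tt) * g⁻¹ := by
      rw [hom _ nn _ tN, hom _ (sN hu) _ tN, ← conj_mul, cL g hg, e]
    have e5 : κ (n * n) = 1 := by
      rw [hom _ nn _ nn, e, conj_mul, ← sq, e2, mul_one, mul_inv_cancel]
    obtain ⟨g', hg', h2⟩ := K.c.inv6 n hn.1 (((ker _ (mul_mem nn nn)).1 e5).resolve_right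
      fun e => absurd (e ▸ mul_mem hn hn : ng ∈ SO) (by decide))
      (fun e0 => a1 (by rw [e0, hom.one] at e; exact conj_eq_one_iff.1 e.symm))
      (fun e0 => a3 (by
        rw [e0, ng_comm, mul_assoc, st, mul_one, k1] at e'
        exact conj_eq_one_iff.1 e'.symm))
    rcases h2 with h2 | h2
    · exact a2 ((cj n nn g' hg' h2).trans (Cj.symm ⟨g, e.symm⟩))
    · exact a4 ((cj _ (mul_mem nn tN) g' hg' h2).trans (Cj.symm ⟨g, e'.symm⟩))
  have z2 : ∀ a : ZMod 2, a = 0 ∨ a = 1 := by decide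
  have t0 : ∀ n ∈ St, κ n ∈ OL (κ tt) → T1 n → β n = 0 := fun n hn hL e =>
    (z2 _).resolve_right fun hb => c3 (mv n hn hL u3 m3 (e.mul p3) (by rw [β1 e, hb, b3]; rfl))
  have c1 : κ u1 ∉ OL (κ tt) := fun h => by
    refine ci u1 m1 h s1 (nc _ (by simp)) (nc _ (by simp)) fun n hn hL => ?_
    rcases St_cases hn with e | e
    · exact (z2 (β n)).symm.imp (fun hb => ⟨mul_mem e p1, by rw [β0 e, hb, b1]; rfl⟩)
        fun hb => ⟨e, hb⟩
    · have := t0 (n * u1) (mul_mem hn m1) (by rw [hom _ (sN hn) _ (sN m1)]; exact mul_mem hL h) e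
      rw [β1 e, t0 n hn hL e, b1] at this
      exact absurd this (by decide)
  have t1 : ∀ n ∈ St, κ n ∈ OL (κ tt) → n ∈ P0 → β n = 0 := fun n hn hL e =>
    (z2 _).resolve_right fun hb => c1 (mv n hn hL u1 m1 (mul_mem e p1) (by rw [β0 e, hb, b1]; rfl))
  have c2 : κ u2 ∉ OL (κ tt) := fun h => by
    refine ci u2 m2 h s2 (nc _ (by simp)) (nc _ (by simp)) fun n hn hL => ?_
    rcases St_cases hn with e | e
    · exact .inr ⟨e, t1 n hn hL e⟩
    · exact .inl ⟨e.mul p2, by rw [β1 e, t0 n hn hL e, b2]; rfl⟩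
  refine ⟨n6, ?_⟩
  convert hR using 1
  refine le_antisymm (le_inf (H17.Wo.Im_mono fun n hn => mem_St.2 ⟨⟨oN hn, hn.2⟩,
    (N6_tt hn.1).symm⟩) oL) ?_
  rintro _ ⟨hb, hL⟩
  obtain ⟨n, hn, rfl⟩ := (hom.mono sN).mem_Im.1 hb
  rcases St_cases hn with e | e
  · exact k0 n hn e (t1 n hn hL e)
  · exact absurd (mv n hn hL u2 m2 (e.mul p2) (by rw [β1 e, t0 n hn hL e, b2]; rfl)) c2

section Big

variable {G : Type u} [Group G] [Finite G] {κ : SP → G} {d : VD (O2C (κ zz)) (κ zz) V4}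
  {x : Fin 4 → G}

theorem memQ (h : Bg κ d x) {a : SP} (ha : a ∈ QQ) : κ a ∈ O2C (κ zz) := h.eq ▸ mem_Im_of ha

theorem x_mem (kit : Kit) (h : Bg κ d x) : x 0 ∈ OL (κ tt) ∧ x 1 ∈ OL (κ tt) := by
  have e : d.p (κ tt) = tb := by rw [h.crd.hp _ (tt_mem kit), basic.2.1]
  exact ⟨subset_closure ⟨h.xx.fix 0 _ (memQ h (tt_mem kit)) (by rw [e]; rfl),
      odd3 (h.xx.three 0)⟩,
    subset_closure ⟨h.xx.fix 1 _ (memQ h (tt_mem kit)) (by rw [e]; rfl),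
      odd3 (h.xx.three 1)⟩⟩

end Big

theorem cz : P81.CzStmt.{u} := by
  intro kit G _ _ κ d x h CL hS
  have hom := h.fr.hom
  obtain ⟨m0, m1⟩ := x_mem kit h
  have leN : SO ≤ NN := fun n hn => hn.1.1.1
  have le0 : SO ≤ S0 := fun n hn => ⟨leN hn, hn.2⟩
  have leS : Im SO κ ≤ Im S0 κ := closure_mono (Set.image_mono le0)
  have dec : ∀ y ∈ OL (κ tt), y * κ zz = κ zz * y →
      ∃ a b : ℕ, ∃ n ∈ SO, y = x 0 ^ a * x 1 ^ b * κ n := by
    intro y hy hz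
    obtain ⟨a, b, s, hs, -, e⟩ := CL y hy hz
    have sL : s ∈ OL (κ tt) := by
      have := mul_mem (inv_mem (mul_mem (pow_mem m0 a) (pow_mem m1 b))) hy
      rwa [e, inv_mul_cancel_left] at this
    have e1 := hS.syl.eq_of_le (U := Im S0 κ ⊓ OL (κ tt)) inf_le_right
      (h.pg.to_le inf_le_left) (le_inf leS hS.syl.le)
    obtain ⟨n, hn, rfl⟩ := (hom.mono leN).mem_Im.1 (e1.le ⟨hs, sL⟩)
    exact ⟨a, b, n, hn, e⟩
  have c01 : Commute (x 0) (x 1) := h.xx.com 0 1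
  have cz : ∀ b n, x b ^ n * κ zz = κ zz * x b ^ n := fun b n => (Commute.pow_left (h.xx.cz b) n).eq
  refine ⟨dec, ⟨m0, m1⟩, ?_, ?_⟩
  · let f : Fin 3 × Fin 3 × SO → ↥(OL (κ tt) ⊓ centralizer {κ zz}) := fun a =>
      ⟨x 0 ^ a.1.val * x 1 ^ a.2.1.val * κ a.2.2,
        mul_mem (mul_mem (pow_mem m0 _) (pow_mem m1 _)) (hS.n6 _ a.2.2.2.1),
        mem_centralizer_singleton_iff.2 (VD.cmul (VD.cmul (cz _ _) (cz _ _))
          (h.Sz _ (mem_Im_of (le0 a.2.2.2))))⟩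
    have hf : Function.Bijective f := by
      constructor
      · rintro ⟨a, b, n, hn⟩ ⟨a', b', n', hn'⟩ e
        have e1 : x 0 ^ a.val * x 1 ^ b.val * κ n = x 0 ^ a'.val * x 1 ^ b'.val * κ n' :=
          congrArg Subtype.val e
        have t3 : ∀ a b : ℕ, (x 0 ^ a * x 1 ^ b) ^ 3 = 1 := fun a b => by
          rw [(c01.pow_pow a b).mul_pow, ← pow_mul, ← pow_mul, mul_comm a, mul_comm b, pow_mul,
            pow_mul, h.xx.three, h.xx.three, one_pow, one_pow, one_mul]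
        have cm : Commute (x 0 ^ a'.val * x 1 ^ b'.val)⁻¹ (x 0 ^ a.val * x 1 ^ b.val) :=
          ((((Commute.refl _).pow_pow _ _).mul_right (c01.pow_pow _ _)).mul_left
            ((c01.symm.pow_pow _ _).mul_right ((Commute.refl _).pow_pow _ _))).inv_left
        have e2 : (x 0 ^ a'.val * x 1 ^ b'.val)⁻¹ * (x 0 ^ a.val * x 1 ^ b.val) =
            κ n' * (κ n)⁻¹ := by
          rw [inv_mul_eq_iff_eq_mul, ← mul_assoc, ← e1, mul_inv_cancel_right]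
        have e3 : (κ n' * (κ n)⁻¹) ^ 3 = 1 := by
          rw [← e2, cm.mul_pow, inv_pow, t3, t3, inv_one, one_mul]
        obtain ⟨j, hj⟩ := hS.syl.isPGroup ⟨_, mul_mem (mem_Im_of hn') (inv_mem (mem_Im_of hn))⟩
        have e4 : (κ n' * (κ n)⁻¹) ^ 2 ^ j = 1 := congrArg Subtype.val hj
        have e5 : κ n' * (κ n)⁻¹ = 1 := by
          rw [← orderOf_eq_one_iff]
          exact Nat.eq_one_of_dvd_coprimes ((by decide : Nat.Coprime 3 2).pow_right j)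
            (orderOf_dvd_of_pow_eq_one e3) (orderOf_dvd_of_pow_eq_one e4)
        rw [e5, inv_mul_eq_one] at e2
        have e6 := congrArg (d.ρ · sb) e2
        simp only [d.ρ_mul (cz _ _) (cz _ _), ρ_pow h.xx] at e6
        have key : ∀ a b a' b' : Fin 3, (mv (Pi.single 0 1))^[a'] ((mv (Pi.single 1 1))^[b'] sb) =
            (mv (Pi.single 0 1))^[a] ((mv (Pi.single 1 1))^[b] sb) → a = a' ∧ b = b' := by
          decide +kernel
        obtain ⟨rfl, rfl⟩ := key a b a' b' e6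
        rcases κ_eq h.fr (leN hn') (leN hn) (mul_inv_eq_one.1 e5) with rfl | rfl
        · rfl
        · exfalso
          have := mul_mem (inv_mem hn) hn'
          rw [inv_mul_cancel_left] at this
          exact absurd this (by decide +kernel)
      · rintro ⟨y, hy, hz⟩
        obtain ⟨a, b, n, hn, e⟩ := dec y hy (mem_centralizer_singleton_iff.1 hz)
        refine ⟨(⟨a % 3, Nat.mod_lt _ (by decide)⟩, ⟨b % 3, Nat.mod_lt _ (by decide)⟩, ⟨n, hn⟩),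
          Subtype.ext ?_⟩
        change x 0 ^ (a % 3) * x 1 ^ (b % 3) * κ n = y
        rw [← pow_eq_pow_mod a (h.xx.three 0), ← pow_eq_pow_mod b (h.xx.three 1), e]
    rw [← Nat.card_eq_of_bijective f hf, Nat.card_prod, Nat.card_prod, kit.b.co]
    simp
  · intro hc
    have mt := memQ h (tt_mem kit)
    have e : d.p (κ zz * κ tt) = tb := by
      rw [d.p_mul d.xs.mem mt, d.p_z, zero_add, h.crd.hp _ (tt_mem kit), basic.2.1]
    rcases h.w4 _ (mul_mem d.xs.mem mt) hc with e1 | ⟨y, hy, e1⟩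
    · rw [e1, d.p_z] at e
      exact absurd e (by decide +kernel)
    · have := h.orb y hy
      rw [e1, e] at this
      exact absurd this (by decide +kernel)

theorem fin0 {G : Type u} [Group G] [Finite G] {κ : SP → G} {d : VD (O2C (κ zz)) (κ zz) V4}
    {x : Fin 4 → G} (kit : Kit) (h : Bg κ d x) {M : Subgroup G} (hL : OL (κ tt) ≤ M)
    (hN : ∀ n ∈ NN, κ n ∈ M) {v : V4} (hv : W4 v) :
    ∃ y ∈ M, y * κ zz = κ zz * y ∧ d.ρ y sb = v := by
  have hom := h.fr.hom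
  obtain ⟨m0, m1⟩ := x_mem kit h
  have mw : ww ∈ NN := by decide +kernel
  have mt : tt ∈ NN := by decide +kernel
  have mq : ww * tt * ww⁻¹ ∈ QQ := (kit.a.mem _).2 (by decide +kernel)
  have m2 : ∀ b, vec (ww * tt * ww⁻¹) b = 0 → x b ∈ M := fun b hb => by
    have e := h.xx.fix b _ (memQ h mq) (by rw [h.crd.hp _ mq, hb])
    rw [hom.conj mw mt] at e
    have : (κ ww)⁻¹ * x b * κ ww ∈ OL (κ tt) := subset_closure ⟨by
      calc _ = (κ ww)⁻¹ * (x b * (κ ww * κ tt * (κ ww)⁻¹)) * κ ww := by group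
        _ = _ := by rw [e]; group, odd3 (by
      rw [show (κ ww)⁻¹ * x b * κ ww = (κ ww)⁻¹ * x b * (κ ww)⁻¹⁻¹ by group, conj_pow,
        h.xx.three, mul_one, mul_inv_cancel])⟩
    have := mul_mem (mul_mem (hN _ mw) (hL this)) (inv_mem (hN _ mw))
    rwa [show κ ww * ((κ ww)⁻¹ * x b * κ ww) * (κ ww)⁻¹ = x b by group] at this
  have key : ∀ v : V4, W4 v → ∃ a b c e : Fin 3, (mv (Pi.single 0 1))^[a]
      ((mv (Pi.single 1 1))^[b] ((mv (Pi.single 2 1))^[c] ((mv (Pi.single 3 1))^[e] sb))) = v := by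
    decide +kernel
  obtain ⟨a, b, c, e, he⟩ := key _ hv
  have cz : ∀ b n, x b ^ n * κ zz = κ zz * x b ^ n := fun b n => (Commute.pow_left (h.xx.cz b) n).eq
  refine ⟨x 0 ^ a.val * (x 1 ^ b.val * (x 2 ^ c.val * x 3 ^ e.val)),
    mul_mem (pow_mem (hL m0) _) (mul_mem (pow_mem (hL m1) _)
      (mul_mem (pow_mem (m2 2 (by decide +kernel)) _) (pow_mem (m2 3 (by decide +kernel)) _))),
    VD.cmul (cz _ _) (VD.cmul (cz _ _) (VD.cmul (cz _ _) (cz _ _))), ?_⟩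
  rw [d.ρ_mul (cz _ _) (VD.cmul (cz _ _) (VD.cmul (cz _ _) (cz _ _))),
    d.ρ_mul (cz _ _) (VD.cmul (cz _ _) (cz _ _)), d.ρ_mul (cz _ _) (cz _ _)]
  simp only [ρ_pow h.xx, he]

theorem fin : P81.FinStmt.{u} := by
  intro kit G _ _ κ d x h M hL hN
  have hom := h.fr.hom
  have hQ : O2C (κ zz) ≤ M := by
    rw [h.eq]
    refine (closure_le _).2 ?_
    rintro _ ⟨n, hn, rfl⟩
    exact hN n (kit.a.le hn).1
  have cjQ : ∀ g ∈ M, O2C (g * κ zz * g⁻¹) ≤ M := fun g hg a ha => by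
    have e : a = g * (g⁻¹ * a * g) * g⁻¹ := by group
    rw [e] at ha ⊢
    exact mul_mem (mul_mem hg (hQ (Cfsg.Agent.H69.XV.mem_O2C_conj.1 ha))) (inv_mem hg)
  have ms : ss ∈ QQ := (kit.a.mem _).2 (by decide +kernel)
  have m0 : g0 ∈ NN := basic.2.2.2.2.2.2.2.1
  have es : κ ss = (κ g0)⁻¹ * κ zz * (κ g0)⁻¹⁻¹ := by
    rw [← basic.2.2.1, hom.conj m0 (kit.a.le ms).1]; group
  refine sup_le hQ ((closure_le _).2 ?_)
  rintro a ⟨u, ip, ha⟩
  have hv : W4 (d.p u) := by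
    rcases h.w4 u ip.mem ip.cj with e | ⟨y, hy, e⟩
    · exact absurd e ip.ne
    · exact e ▸ h.orb y hy
  obtain ⟨y, yM, yz, e⟩ := fin0 kit h hL hN hv
  obtain ⟨c, -, c2, c3⟩ := Cfsg.Agent.H92.Lx.exists_conj_to (d := d) yz (memQ h ms) ip.mem
    (ip.pt_ne d) (by rw [h.crd.hp _ ms, basic.1, e])
  have cM : c ∈ M := by
    have := mul_mem (hQ c3) yM
    rwa [inv_mul_cancel_right] at this
  refine cjQ (c * (κ g0)⁻¹) (mul_mem cM (inv_mem (hN _ m0))) ?_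
  have : c * (κ g0)⁻¹ * κ zz * (c * (κ g0)⁻¹)⁻¹ = u := by
    rw [← c2, es]; group
  rw [this]; exact ha

end Cfsg.Agent.H59.P81Sl
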