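import Mathlib
import Cfsg.Agent.H17.KnDef2

/-!
# Elements of order three of a block that fix the sign changes of the other blocks
-/

set_option autoImplicit false
set_option maxRecDepth 100000

namespace Cfsg.Agent.H59.KnTx1

open Equiv Subgroup Cfsg.Agent.H11.A16 Cfsg.Agent.H63 Cfsg.Agent.H8.GD Cfsg.Agent.H17.Kn
open Cfsg.Agent.H89.Rec (Syl)

universe u

theorem th3 : ∀ i, th i * th i * th i = 1 := by decide +kernel

theorem th_dl : ∀ i j, j ≠ i → th i * pm2 (dl (pa j)) * (th i)⁻¹ = pm2 (dl (pa j)) ∧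
    dl (pa j) ∈ JI i := by decide +kernel

theorem th_wb : ∀ i k, th i * pm2 (wb i k) * (th i)⁻¹ = pm2 (wb i (ω k)) ∧ wb i k ∈ FF := by
  decide +kernel

/-- The product of the four components. -/
def w4 (a b c e : Fin 4) : N2 := wb 0 a * wb 1 b * wb 2 c * wb 3 e

theorem blk : ∀ i a b c e, (∀ y, pm2 (w4 a b c e) (th i (pm2 (w4 a b c e)
      (th i (pm2 (w4 a b c e) (th i y))))) = y) →
    ∃ k, w4 a b c e * wb i (ω k) = wb i k := by decide +kernel

/-- The permutation normalises the image of `FF`. -/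
def Nm (m : Perm Ω) : Prop := ∀ u ∈ FF, ∃ v ∈ FF, m * pm2 u * m⁻¹ = pm2 v

theorem Nm.mul {m m' : Perm Ω} (h : Nm m) (h' : Nm m') : Nm (m * m') := fun u hu => by
  obtain ⟨v, hv, e⟩ := h' u hu
  obtain ⟨w, hw, e'⟩ := h v hv
  exact ⟨w, hw, by rw [← e', ← e]; group⟩

theorem Nm.one : Nm 1 := fun u hu => ⟨u, hu, by simp⟩

theorem Nm.pow {m : Perm Ω} (h : Nm m) : ∀ n : ℕ, Nm (m ^ n)
  | 0 => by rw [pow_zero]; exact Nm.one
  | n + 1 => by rw [pow_succ]; exact (Nm.pow h n).mul h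

section
variable {G : Type u} [Group G] {J : N2 → G}

theorem ey_mul {g g' : G} {m m' : Perm Ω} (h : Ey J g m FF FF) (h' : Ey J g' m' FF FF)
    (n : Nm m') : Ey J (g * g') (m * m') FF FF := fun u hu w hw e => by
  obtain ⟨v, hv, e'⟩ := n u hu
  exact (h' u hu v hv e').trans (h v hv w hw (by rw [← e', ← e]; group))

theorem ey_one : Ey J 1 1 FF FF := fun u _ v _ e => by
  have : u = v := pm2_inj (by simpa using e)
  simp [R, this]

theorem ey_pow {g : G} {m : Perm Ω} (h : Ey J g m FF FF) (n : Nm m) :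
    ∀ k : ℕ, Ey J (g ^ k) (m ^ k) FF FF
  | 0 => by rw [pow_zero, pow_zero]; exact ey_one
  | k + 1 => by rw [pow_succ, pow_succ]; exact ey_mul (ey_pow h n k) h n

theorem ey_inv {g : G} {m : Perm Ω} (h : Ey J g m FF FF) : Ey J g⁻¹ m⁻¹ FF FF :=
  fun u hu v hv e => (h v hv u hu (by rw [← e]; group)).symm

theorem ey_cen (hF : Em J FF) {g g' : G} {m : Perm Ω} (h : Ey J g m FF FF) (h' : Ey J g' m FF FF)
    (n : Nm m) : g'⁻¹ * g ∈ C[im J FF] := by
  rw [mem_centralizer_iff]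
  intro a ha
  obtain ⟨u, hu, rfl⟩ := hF.mem.1 ha
  obtain ⟨v, hv, e⟩ := n u hu
  have := (h u hu v hv e).trans (h' u hu v hv e).symm
  unfold R at this
  rw [← mul_inv_eq_iff_eq_mul.1 this]

theorem ey_left {g o : G} {m : Perm Ω} (h : Ey J g m FF FF) (ho : o ∈ C[im J FF]) :
    Ey J (o * g) m FF FF := fun u hu v hv e => by
  refine (h u hu v hv e).trans ?_
  unfold R
  rw [← mem_centralizer_iff.1 ho _ (mem_im hv), mul_inv_cancel_right]

theorem ey_self (hS : Em J S2) (hle : FF ≤ S2) {y : N2} (hy : y ∈ S2) :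
    Ey J (J y) (pm2 y) FF FF := fun u hu v _ e => by
  have : y * u * y⁻¹ = v := pm2_inj (by rw [map_mul, map_mul, map_inv, e])
  exact this ▸ hS.self hy (hle hu)

theorem nrm_cen {F : Subgroup G} {g : G} (h : ∀ a ∈ F, g * a * g⁻¹ ∈ F)
    (h' : ∀ a ∈ F, g⁻¹ * a * g ∈ F) : g ∈ N[C[F]] := by
  rw [mem_normalizer_iff]
  intro c
  simp only [SetLike.mem_coe, mem_centralizer_iff]
  constructor
  · intro hc a ha
    have := hc _ (h' a ha)
    calc a * (g * c * g⁻¹) = g * (g⁻¹ * a * g * c) * g⁻¹ := by group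
      _ = g * c * g⁻¹ * a := by rw [this]; group
  · intro hc a ha
    have := hc _ (h a ha)
    calc a * c = g⁻¹ * (g * a * g⁻¹ * (g * c * g⁻¹)) * g := by group
      _ = c * a := by rw [this]; group

theorem odd_pow [Finite G] (g : G) : ∃ N : ℕ, Odd (orderOf (g ^ 4 ^ N)) := by
  obtain ⟨a, m, hm, e⟩ := Nat.exists_eq_two_pow_mul_odd (orderOf_pos g).ne'
  refine ⟨a, hm.of_dvd_nat (orderOf_dvd_of_pow_eq_one ?_)⟩
  rw [← pow_mul, show 4 ^ a * m = orderOf g * 2 ^ a by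
    rw [e, show (4 : ℕ) = 2 * 2 from rfl, mul_pow]; ring, pow_mul, pow_orderOf_eq_one, one_pow]

end

theorem th_pow (i : Fin 4) : ∀ N : ℕ, th i ^ 4 ^ N = th i
  | 0 => by simp
  | N + 1 => by
    rw [pow_succ, pow_mul, th_pow i N, show th i ^ 4 = th i * th i * th i * th i by
      simp only [pow_succ, pow_zero, one_mul], th3, one_mul]

theorem tx1 (hB : Base.{u}) (ht : ThStmt.{u}) : Tx1Stmt.{u} := by
  intro G _ _ J φ s h i
  have gen : Gen G := hB.gen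
  obtain ⟨-, -, -, -, -, -, -, -, -, -, -, hJS, hFS, -, hU1, -, -, -, -, -, -, -, -, -, hFI⟩ :=
    hB.m2.le
  have hFS2 : FF ≤ S2 := fun u hu => (hFS hu).1
  have hIS : JI i ≤ S2 := fun u hu => hJS hu.1
  have hS := h.em2
  have hF : Em J FF := hS.mono hFS2
  have hI : Em J (JI i) := hS.mono hIS
  have ab := hB.m2.ab.2.1
  have nth : Nm (th i) := (hB.m2.thm i).1
  have nti : Nm (th i)⁻¹ := by
    rw [show (th i)⁻¹ = th i * th i from inv_eq_of_mul_eq_one_left (th3 i)]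
    exact nth.mul nth
  have nS : ∀ y ∈ S2, Nm (pm2 y) := fun y hy u hu =>
    ⟨_, ((hB.m2.nrm y).2.2.1 hy).1 u hu, by rw [map_mul, map_mul, map_inv]⟩
  have hFC : im J FF ≤ C[im J FF] := fun a ha => by
    rw [mem_centralizer_iff]
    intro b hb
    obtain ⟨u, hu, rfl⟩ := hF.mem.1 ha
    obtain ⟨v, hv, rfl⟩ := hF.mem.1 hb
    rw [← hF.mul v hv u hu, ← hF.mul u hu v hv, (ab u hu v hv).eq]
  have syl : Syl (im J FF) C[im J FF] :=
    h.sylF.mono hFC (centralizer_le (im_mono fun u hu => (hU1 hu).2))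
  obtain ⟨O, hOC, hOo, hON, hdec⟩ := gen.dec _ _ syl fun a ha b hb =>
    mem_centralizer_iff.1 hb a ha
  obtain ⟨θ0, h0⟩ := ht J φ s h.toSt i
  have conj : ∀ g, Ey J g (th i) FF FF → ∀ y ∈ S2,
      Ey J (g * J y * g⁻¹) (th i * pm2 y * (th i)⁻¹) FF FF := fun g hg y hy =>
    ey_mul (ey_mul hg (ey_self hS hFS2 hy) (nS y hy)) (ey_inv hg) nti
  have nF : ∀ y ∈ S2, ∀ a ∈ im J FF, J y * a * (J y)⁻¹ ∈ im J FF := fun y hy a ha => by
    obtain ⟨u, hu, rfl⟩ := hF.mem.1 ha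
    rw [hS.self hy (hFS2 hu)]
    exact mem_im (((hB.m2.nrm y).2.2.1 hy).1 u hu)
  obtain ⟨o, ho, h1⟩ := gen.frO (im J (JI i)) O θ0 (hI.two (hB.m1.two.to_le hIS))
    (fun o ho => (hOo o (hOC ho)).1 ho)
    (im_le fun y hy => hON (nrm_cen (nF y (hIS hy)) fun a ha => by
      have := nF y⁻¹ (inv_mem (hIS hy)) a ha
      rwa [hS.inv (hIS hy), inv_inv] at this))
    (fun y hy => by
      obtain ⟨u, hu, rfl⟩ := hI.mem.1 hy
      obtain ⟨v, hv, e⟩ := (hB.m2.thm i).2 u hu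
      have k := conj θ0 h0 u (hIS hu)
      rw [e] at k
      obtain ⟨a, ha, o, ho, e'⟩ := hdec _ (ey_cen hF k (ey_self hS hFS2 (hIS hv)) (nS v (hIS hv)))
      exact ⟨J v * a, mul_mem (mem_im hv) (im_mono (hFI i) ha), o, ho, by
        rw [mul_assoc (J v), ← e', mul_inv_cancel_left]⟩)
  obtain ⟨N, hodd⟩ := odd_pow (o * θ0)
  have hθ := ey_pow (ey_left h0 (hOC ho)) nth (4 ^ N)
  rw [th_pow] at hθ
  have hθN : (o * θ0) ^ 4 ^ N ∈ N[im J (JI i)] := pow_mem h1 _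
  generalize (o * θ0) ^ 4 ^ N = θ at hodd hθ hθN
  have h3 : θ * θ * θ ∈ C[im J FF] := by
    have k := ey_mul (ey_mul hθ hθ nth) hθ nth
    rw [th3] at k
    simpa using ey_cen hF k ey_one Nm.one
  have key : ∀ j, ∃ k, j ≠ i → Commute θ (J (dl (pa j) * wb i k)) := fun j => by
    by_cases hj : j = i
    · exact ⟨0, fun a => absurd hj a⟩
    obtain ⟨e0, hd⟩ := th_dl i j hj
    generalize dl (pa j) = d at e0 hd
    obtain ⟨d', hd', e1⟩ := hI.mem.1 ((mem_normalizer_iff.1 hθN _).1 (mem_im hd))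
    have k := conj θ hθ d (hIS hd)
    rw [e0, ← e1] at k
    have k1 := ey_cen hF k (ey_self hS hFS2 (hIS hd)) (nS d (hIS hd))
    have hcS : d⁻¹ * d' ∈ S2 := mul_mem (inv_mem (hIS hd)) (hIS hd')
    rw [← hI.inv hd, ← hI.mul _ (inv_mem hd) _ hd'] at k1
    have hc : d⁻¹ * d' ∈ FF := hB.m3.cFF _ fun e he =>
      hS.inj _ (mul_mem hcS (hFS2 he)) _ (mul_mem (hFS2 he) hcS) (by
        rw [hS.mul _ hcS _ (hFS2 he), hS.mul _ (hFS2 he) _ hcS,
          mem_centralizer_iff.1 k1 _ (mem_im he)])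
    have e2 : θ * J d * θ⁻¹ = J d * J (d⁻¹ * d') := by
      rw [← hS.mul _ (hIS hd) _ hcS, mul_inv_cancel_left, e1]
    generalize d⁻¹ * d' = c at hc e2
    obtain ⟨c1, hc1, f1⟩ := nth c hc
    obtain ⟨c2, hc2, f2⟩ := nth c1 hc1
    have r1 : θ * J c * θ⁻¹ = J c1 := hθ c hc c1 hc1 f1
    have r2 : θ * J c1 * θ⁻¹ = J c2 := hθ c1 hc1 c2 hc2 f2
    have hC : c * c1 * c2 ∈ FF := mul_mem (mul_mem hc hc1) hc2
    have e3 : θ * θ * θ * J d * (θ * θ * θ)⁻¹ = J d * J (c * c1 * c2) := by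
      have s2 : θ * (θ * J d * θ⁻¹) * θ⁻¹ = J d * J c * J c1 :=
        calc _ = θ * (J d * J c) * θ⁻¹ := by rw [e2]
          _ = (θ * J d * θ⁻¹) * (θ * J c * θ⁻¹) := by group
          _ = _ := by rw [e2, r1]
      rw [hF.mul _ (mul_mem hc hc1) _ hc2, hF.mul _ hc _ hc1]
      calc _ = θ * (θ * (θ * J d * θ⁻¹) * θ⁻¹) * θ⁻¹ := by group
        _ = θ * (J d * J c * J c1) * θ⁻¹ := by rw [s2]
        _ = (θ * J d * θ⁻¹) * (θ * J c * θ⁻¹) * (θ * J c1 * θ⁻¹) := by group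
        _ = _ := by rw [e2, r1, r2]; group
    have z : J (c * c1 * c2) = 1 := gen.odd1 _ _ _ 1
      (hodd.of_dvd_nat (by
        rw [show θ * θ * θ = θ ^ 3 by simp only [pow_succ, pow_zero, one_mul]]
        exact orderOf_pow_dvd 3))
      (mem_centralizer_iff.1 h3 _ (mem_im hC)).symm e3 (by
        rw [pow_one, pow_two, ← hF.mul _ hC _ hC, hB.m2.ab.2.2.2.2.1 _ hC, hF.one])
    have z1 : c * c1 * c2 = 1 := hF.inj _ hC _ (one_mem _) (z.trans hF.one.symm)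
    have z2 : pm2 c * th i * pm2 c * th i * pm2 c * th i = 1 := by
      have := congrArg pm2 z1
      rw [map_mul, map_mul, ← f2, ← f1, map_one] at this
      have t : (th i)⁻¹ * (th i)⁻¹ = th i := by
        rw [← mul_inv_rev]; exact inv_eq_of_mul_eq_one_right (th3 i)
      calc _ = pm2 c * th i * pm2 c * th i * pm2 c * ((th i)⁻¹ * (th i)⁻¹) := by rw [t]
        _ = pm2 c * (th i * pm2 c * (th i)⁻¹) * (th i * (th i * pm2 c * (th i)⁻¹) * (th i)⁻¹) := by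
          group
        _ = 1 := this
    obtain ⟨a, b, c', e, rfl⟩ := hB.m1.nfF c hc
    obtain ⟨k, hk⟩ := blk i a b c' e fun y => congrArg (fun p : Perm Ω => p y) z2
    obtain ⟨t1, t2⟩ := th_wb i k
    have t3 := (th_wb i (ω k)).2
    refine ⟨k, fun _ => ?_⟩
    have r : θ * J (wb i k) * θ⁻¹ = J (wb i (ω k)) := hθ _ t2 _ t3 t1
    rw [hS.mul _ (hIS hd) _ (hFS2 t2)]
    refine mul_inv_eq_iff_eq_mul.1 ?_
    calc _ = (θ * J d * θ⁻¹) * (θ * J (wb i k) * θ⁻¹) := by group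
      _ = _ := by rw [e2, r, mul_assoc, ← hF.mul _ hc _ t3]; exact congrArg _ (congrArg J hk)
  choose k hk using key
  exact ⟨θ, k, hθ, hk⟩

end Cfsg.Agent.H59.KnTx1
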