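import Mathlib
import Cfsg.Agent.H68.HRQ

/-!
# The centraliser of the involution contains `K` with index at most two (part A)
-/

set_option autoImplicit false
set_option maxRecDepth 100000

namespace Cfsg.Agent.H59.Fin4

open Cfsg.Agent.H68.HN Cfsg.Agent.H68.DCE Cfsg.Agent.H63 Cfsg.Agent.H67 Subgroup

/-- `K` embedded with index at most two in the centraliser of the image of `eU`. -/
structure Cx (Γ : Type*) [Group Γ] where
  /-- The embedding. -/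
  F : K →* Γ
  inj : Function.Injective F
  idx : ∀ g h, g * F eU = F eU * g → h * F eU = F eU * h →
    (∃ a, F a = g) ∨ (∃ a, F a = h) ∨ ∃ a, F a = g * h
  dd : ∀ g, g * F eU = F eU * g → IsConj g (F eU) → ∃ a, F a = g
  cz : ∀ g, g * F eU = F eU * g → (∀ a ∈ St 1, g * F a = F a * g) →
    g = 1 ∨ g = F eU ∨ g * g = F eU
  fz : IsConj (F eZ) (F eU)
  nut : ¬ IsConj (F (eU * eT)) (F eU)
  hw : ∃ w, (w * F eU * w⁻¹ = F eZ ∧ w * F eZ * w⁻¹ = F (eU * eZ)) ∧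
    (∀ s ∈ T8, w * F s = F s * w) ∧ w * (w * w) = 1

namespace Cx

variable {Γ : Type*} [Group Γ] (T : Cx Γ)

/-- The embedding as a function. -/
noncomputable def f : K → Γ := T.F

theorem finj : Function.Injective T.f := T.inj

theorem mul (a b : K) : T.f (a * b) = T.f a * T.f b := map_mul T.F a b

theorem f_one : T.f 1 = 1 := map_one T.F

theorem f_inv (a : K) : T.f a⁻¹ = (T.f a)⁻¹ := map_inv T.F a

theorem f_pow (a : K) (n : ℕ) : T.f (a ^ n) = T.f a ^ n := map_pow T.F a n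

theorem eq_one {a : K} (h : T.f a = 1) : a = 1 := T.finj (h.trans T.f_one.symm)

theorem conj (a b : K) : T.f a * T.f b * (T.f a)⁻¹ = T.f (a * b * a⁻¹) := by
  rw [T.mul, T.mul, T.f_inv]

theorem comm_iff {a b : K} : T.f a * T.f b = T.f b * T.f a ↔ a * b = b * a := by
  rw [← T.mul, ← T.mul, T.finj.eq_iff]

/-- The element `v` is fused to `u`. -/
def Fu (v : K) : Prop := IsConj (T.f v) (T.f eU)

/-- Elements that are forced into the image when they centralise `u`. -/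
def Ok (g : Γ) : Prop := IsConj g (T.f eU) ∨ ∃ m : ℕ, g ^ (2 * m + 1) = 1

theorem cent_sq {g : Γ} (hg : g * T.f eU = T.f eU * g) : ∃ a, T.f a = g * g := by
  rcases T.idx g g hg hg with ⟨a, rfl⟩ | ⟨a, rfl⟩ | h
  exacts [⟨a * a, T.mul _ _⟩, ⟨a * a, T.mul _ _⟩, h]

theorem cent {g : Γ} (ho : T.Ok g) (hg : g * T.f eU = T.f eU * g) : ∃ a, T.f a = g := by
  rcases ho with h | ⟨m, h⟩
  · exact T.dd g hg h
  · obtain ⟨a, ha⟩ := T.cent_sq hg
    exact ⟨a ^ (m + 1), by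
      rw [T.f_pow, ha, ← sq, ← pow_mul, show 2 * (m + 1) = 2 * m + 1 + 1 by ring, pow_succ, h,
        one_mul]⟩

variable {T} in
theorem Ok.conj {g : Γ} (h : T.Ok g) (c : Γ) : T.Ok (c * g * c⁻¹) := by
  rcases h with h | ⟨m, h⟩
  · exact Or.inl ((isConj_iff.2 ⟨c, rfl⟩).symm.trans h)
  · exact Or.inr ⟨m, by rw [conj_pow, h]; group⟩

theorem ok3 {g : Γ} (h : g * (g * g) = 1) : T.Ok g :=
  Or.inr ⟨1, by simpa [pow_succ, mul_assoc] using h⟩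

theorem ok3' {a : K} (h : a * (a * a) = 1) : T.Ok (T.f a) :=
  T.ok3 (by rw [← T.mul, ← T.mul, h, T.f_one])

variable {T} in
theorem Fu.ok {a : K} (h : T.Fu a) : T.Ok (T.f a) := Or.inl h

/-- Transport of an element commuting with `v` when `v` is moved to `u`. -/
theorem tr {c : Γ} {v : K} (hc : c * T.f v * c⁻¹ = T.f eU) {a : K} (ho : T.Ok (T.f a))
    (h : a * v = v * a) : ∃ b, c * T.f a * c⁻¹ = T.f b :=
  (T.cent (ho.conj c) (hc ▸ comm_conj c (T.comm_iff.2 h))).imp fun _ => Eq.symm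

theorem tr_comm {c : Γ} {a b a' b' : K} (ha : c * T.f a * c⁻¹ = T.f a')
    (hb : c * T.f b * c⁻¹ = T.f b') (h : a * b = b * a) : a' * b' = b' * a' :=
  T.comm_iff.1 (ha ▸ hb ▸ comm_conj c (T.comm_iff.2 h))

theorem tr_inj {c : Γ} {a b a' : K} (ha : c * T.f a * c⁻¹ = T.f a')
    (hb : c * T.f b * c⁻¹ = T.f a') : a = b := T.finj (conj_injective (ha.trans hb.symm))

theorem tr_one {c : Γ} {a : K} (ha : c * T.f a * c⁻¹ = T.f 1) : a = 1 :=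
  T.tr_inj ha (by rw [T.f_one]; group)

theorem tr_mul {c : Γ} {a a' : K} (ha : c * T.f a * c⁻¹ = T.f a') (m : K) :
    T.f m * c * T.f a * (T.f m * c)⁻¹ = T.f (m * a' * m⁻¹) := by
  rw [conj_conj', ha, T.conj]

theorem tr_pow {c : Γ} {a a' : K} (ha : c * T.f a * c⁻¹ = T.f a') {n : ℕ}
    (h : a ^ n = 1) : a' ^ n = 1 :=
  T.eq_one (by rw [T.f_pow, ← ha, conj_pow, ← T.f_pow, h, T.f_one]; group)

theorem adjust {g : Γ} {v r : K} (hr : r * (r * r) = 1) (h1 : r ≠ 1) (hv : r * v = v * r)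
    (hg : g * T.f v * g⁻¹ = T.f eU) :
    ∃ c, c * T.f v * c⁻¹ = T.f eU ∧ c * T.f r * c⁻¹ = T.f eR := by
  obtain ⟨r', h⟩ := T.tr hg (T.ok3' hr) hv
  obtain ⟨m, hm⟩ := (three_class (a := r') (by
    simpa [pow_succ, mul_assoc] using T.tr_pow h (n := 3) (by
      simpa [pow_succ, mul_assoc] using hr))).resolve_left fun e => h1 (T.tr_one (e ▸ h))
  exact ⟨_, (T.tr_mul hg m).trans (by rw [conj_eU]), hm ▸ T.tr_mul h m⟩

theorem fu_iff {c : Γ} {a b : K} (h : c * T.f a * c⁻¹ = T.f b) : T.Fu a ↔ T.Fu b :=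
  ⟨fun h' => (isConj_iff.2 ⟨c, h⟩).symm.trans h', fun h' => (isConj_iff.2 ⟨c, h⟩).trans h'⟩

theorem fu_conj {m a b : K} (h : m * a * m⁻¹ = b) : T.Fu a ↔ T.Fu b :=
  T.fu_iff (h ▸ T.conj m a)

theorem fu_u : T.Fu eU := IsConj.refl _

theorem fu_z : T.Fu eZ := T.fz

theorem not_fu_ut : ¬ T.Fu (eU * eT) := T.nut

theorem not_fu_one : ¬ T.Fu 1 := fun h => by
  obtain ⟨c, h⟩ := isConj_iff.1 h.symm
  exact f_u1 (T.tr_one h)

theorem tr_mul' {c : Γ} {a b a' b' : K} (ha : c * T.f a * c⁻¹ = T.f a')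
    (hb : c * T.f b * c⁻¹ = T.f b') : c * T.f (a * b) * c⁻¹ = T.f (a' * b') := by
  rw [T.mul, T.mul, ← conj_mul, ha, hb]

theorem tr_eq {c : Γ} {a b a' : K} (ha : c * T.f a * c⁻¹ = T.f a') (hb : c * T.f a * c⁻¹ = T.f b) :
    a' = b := T.finj (ha.symm.trans hb)

theorem tr_sq {c : Γ} {a a' : K} (ha : c * T.f a * c⁻¹ = T.f a') (h : a * a = 1) : a' * a' = 1 :=
  T.eq_one (by rw [← T.tr_mul' ha ha, h, T.f_one]; group)

/-- The element permutes `u`, `z`, `u z` cyclically. -/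
def Cyc (w : Γ) : Prop := w * T.f eU * w⁻¹ = T.f eZ ∧ w * T.f eZ * w⁻¹ = T.f (eU * eZ)

variable {T} in
theorem Cyc.uz {w : Γ} (h : T.Cyc w) : w * T.f (eU * eZ) * w⁻¹ = T.f eU := by
  rw [T.tr_mul' h.1 h.2, ← mul_assoc, uz_comm, mul_assoc, f_zz, mul_one]

variable {T} in
theorem Cyc.fix {w : Γ} (h : T.Cyc w) {v : K} (hv : InV v) (e : w * T.f v = T.f v * w) :
    v = 1 := by
  have e := conj_of_mul e
  rcases hv with rfl | rfl | rfl | rfl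
  · rfl
  · exact absurd (T.tr_eq h.1 e) f_zu
  · exact absurd (mul_eq_right.1 (T.tr_eq h.2 e)) f_u1
  · exact absurd ((mul_eq_left.1 (T.tr_eq e h.uz)) ▸ one_mem _) eZ_K1

theorem cent_V {g : Γ} (hu : ∃ a, T.f a = g) (hz : g * T.f eZ = T.f eZ * g) :
    ∃ v, InV v ∧ ∃ s ∈ T8, g = T.f (v * s) := by
  obtain ⟨a, rfl⟩ := hu
  obtain ⟨v, hv, s, hs, rfl⟩ := cent_z (T.comm_iff.1 hz)
  exact ⟨v, hv, s, hs, rfl⟩

theorem conj_vs {v s x : K} (hv : InV v) (hs : s ∈ T8) (hx : x ∈ T8) :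
    T.f (v * s) * T.f x * (T.f (v * s))⁻¹ = T.f (s * x * s⁻¹) := by
  rw [T.conj, conj_conj',
    conj_of_mul (hv.comm (T8_z' (mul_mem (mul_mem hs hx) (inv_mem hs))))]

variable {T} in
theorem Cyc.div {w w' : Γ} (h : T.Cyc w) (h' : T.Cyc w') :
    w * w'⁻¹ * T.f eU = T.f eU * (w * w'⁻¹) ∧ w * w'⁻¹ * T.f eZ = T.f eZ * (w * w'⁻¹) := by
  constructor <;> rw [← mul_inv_eq_iff_eq_mul, conj_conj']
  · rw [conj_symm h'.uz, h.uz]
  · rw [conj_symm h'.1, h.1]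

theorem exists_w : ∃ w, T.Cyc w ∧ (∀ s ∈ T8, w * T.f s = T.f s * w) ∧ w * (w * w) = 1 := T.hw

variable {T} in
theorem Cyc.inV {w : Γ} (h : T.Cyc w) {v : K} (hv : InV v) :
    ∃ v', InV v' ∧ w * T.f v * w⁻¹ = T.f v' := by
  rcases hv with rfl | rfl | rfl | rfl
  · exact ⟨1, Or.inl rfl, by rw [T.f_one]; group⟩
  · exact ⟨_, Or.inr (Or.inr (Or.inl rfl)), h.1⟩
  · exact ⟨_, Or.inr (Or.inr (Or.inr rfl)), h.2⟩
  · exact ⟨_, Or.inr (Or.inl rfl), h.uz⟩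

variable {T} in
theorem Cyc.comm {w g : Γ} (h : T.Cyc w) (hu : g * T.f eU = T.f eU * g)
    (hz : g * T.f eZ = T.f eZ * g) : w * g * w⁻¹ * T.f eU = T.f eU * (w * g * w⁻¹) ∧
      w * g * w⁻¹ * T.f eZ = T.f eZ * (w * g * w⁻¹) :=
  ⟨h.uz ▸ comm_conj w (by rw [T.mul]; exact Commute.mul_right hu hz), h.1 ▸ comm_conj w hu⟩

variable {T} in
/-- The quotient of two elements of order three cycling the four-group lies in the image. -/
theorem Cyc.div_mem {W w : Γ} (h : T.Cyc W) (h3 : W * (W * W) = 1) (h1 : T.Cyc w)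
    (hw : ∀ s ∈ T8, w * T.f s = T.f s * w) (w3 : w * (w * w) = 1) :
    ∃ v, InV v ∧ ∃ s ∈ T8, W * w⁻¹ = T.f (v * s) := by
  have step : ∀ g, (∃ v, InV v ∧ ∃ s ∈ T8, g = T.f (v * s)) →
      ∃ v, InV v ∧ ∃ s ∈ T8, w * g * w⁻¹ = T.f (v * s) := by
    rintro _ ⟨v, hv, s, hs, rfl⟩
    obtain ⟨v', hv', e⟩ := h1.inV hv
    exact ⟨v', hv', s, hs, T.tr_mul' e (conj_of_mul (hw s hs))⟩
  obtain ⟨a0, b0⟩ := h.div h1
  obtain ⟨a1, b1⟩ := h1.comm a0 b0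
  obtain ⟨a2, b2⟩ := h1.comm a1 b1
  have e3 : w * (w * (w * (W * w⁻¹) * w⁻¹) * w⁻¹) * w⁻¹ = W * w⁻¹ := by
    rw [← conj_conj', ← conj_conj', mul_assoc w w w, w3]; group
  rcases T.idx _ _ a0 a1 with h0 | h0 | ⟨a, ha⟩
  · exact T.cent_V h0 b0
  · exact e3 ▸ step _ (step _ (T.cent_V h0 b1))
  · refine e3 ▸ step _ (T.cent_V ⟨a⁻¹, ?_⟩ b2)
    rw [T.f_inv, inv_eq_iff_mul_eq_one]
    change T.F a * _ = 1
    rw [ha]
    calc _ = W * (W * W) * (w * (w * w))⁻¹ := by group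
      _ = 1 := by rw [h3, w3]; group

theorem fu_t : T.Fu eT := by
  obtain ⟨w, h1, h2, -⟩ := T.exists_w
  exact (T.fu_conj (conj_of_mul f_ms1)).1 ((T.fu_iff (T.tr_mul' h1.1
    (conj_of_mul (h2 _ m8_eS0)))).2 ((T.fu_conj (conj_of_mul f_ms2)).2 T.fu_z))

theorem conj_ut : IsConj (T.f (eU * eT)) (T.f (eZ * eT)) := by
  obtain ⟨w, h1, h2, -⟩ := T.exists_w
  exact isConj_iff.2 ⟨w, T.tr_mul' h1.1 (conj_of_mul (h2 _ eT_T8))⟩

theorem not_fu_zt : ¬ T.Fu (eZ * eT) := fun h => T.not_fu_ut (T.conj_ut.trans h)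

variable {T} in
/-- An element of order three that cycles the four-group and commutes with an element of order
four of its centraliser centralises `A₈`. -/
theorem Cyc.cent {W y : Γ} (h : T.Cyc W) (h3 : W * (W * W) = 1)
    (hu : ∃ a, T.f a = y) (hz : y * T.f eZ = T.f eZ * y) (hW : y * W = W * y)
    (h4 : y * y * (y * y) = 1) (h2 : y * y ≠ 1) {x : K} (hx : x ∈ T8) :
    W * T.f x = T.f x * W := by
  obtain ⟨w, h1, hw, w3⟩ := T.exists_w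
  obtain ⟨v, hv, s, hs, e⟩ := h.div_mem h3 h1 hw w3
  obtain ⟨v', hv', s', hs', rfl⟩ := T.cent_V hu hz
  have hA : ∀ x ∈ T8, W * T.f x * W⁻¹ = T.f (s * x * s⁻¹) := fun x hx => by
    rw [← T.conj_vs hv hs hx, ← e, conj_conj', conj_symm (conj_of_mul (hw x hx))]
  have cm : ∀ {a x : K}, a ∈ T8 → x ∈ T8 → a * x * a⁻¹ ∈ T8 := fun ha hx =>
    mul_mem (mul_mem ha hx) (inv_mem ha)
  have s3 : s * (s * s) = 1 := T8_center (mul_mem hs (mul_mem hs hs)) fun x hx =>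
    mul_inv_eq_iff_eq_mul.1 (T.finj (by
      rw [conj_conj', conj_conj', ← hA _ (cm hs (cm hs hx)), ← hA _ (cm hs hx), ← hA _ hx,
        ← conj_conj', ← conj_conj', mul_assoc W W, h3]; group))
  have ss : (s * s')⁻¹ * (s' * s) = 1 := T8_center
    (mul_mem (inv_mem (mul_mem hs hs')) (mul_mem hs' hs)) fun x hx =>
      mul_inv_eq_iff_eq_mul.1 (by
        rw [conj_conj']
        refine conj_symm (T.finj ?_)
        rw [conj_conj', conj_conj', ← hA _ (cm hs' hx), ← T.conj_vs hv' hs' hx,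
          ← T.conj_vs hv' hs' (cm hs hx), ← hA _ hx, ← conj_conj', ← conj_conj', hW])
  obtain rfl : s = 1 := by
    by_contra h1
    refine h2 ((T.mul _ _).symm.trans ((congrArg T.f (no_twelve s3 h1 (T.eq_one ?_) ?_
      (T8_z' hs).symm (T.comm_iff.1 hz))).trans T.f_one))
    · rw [← mul_assoc, T.mul, T.mul _ (v' * s'), h4]
    · rw [mul_assoc, ← inv_mul_eq_one.1 ss, ← mul_assoc, hv'.comm (T8_z' hs), mul_assoc]
  exact mul_inv_eq_iff_eq_mul.1 ((hA x hx).trans (by simp))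

theorem fu_t2 : T.Fu eT2 := (T.fu_conj (conj_of_mul f_w1t)).1 T.fu_t

theorem fu_k1 : T.Fu eK1 := (T.fu_conj (conj_of_mul f_w2k)).1
  ((T.fu_conj (conj_of_mul (f_w2t.trans (mul_assoc _ _ _).symm))).1 T.fu_t)

theorem fu_k : T.Fu eK := by
  have h1 : T.Fu (eK * eU) :=
    (T.fu_conj (conj_of_mul (f_nz.trans (mul_assoc _ _ _).symm))).1 T.fu_z
  refine (T.fu_conj (m := eZ) (conj_of_mul ?_)).1 h1
  rw [← cU, f_kz]

theorem tr_E {c : Γ} (h1 : c * T.f eT * c⁻¹ = T.f eU) (i : Fin 16) :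
    ∃ b, c * T.f (eE i) * c⁻¹ = T.f b := by
  have hx : ∀ i j, (∃ b, c * T.f (eE i) * c⁻¹ = T.f b) → (∃ b, c * T.f (eE j) * c⁻¹ = T.f b) →
      ∃ b, c * T.f (eE (i ^^^ j)) * c⁻¹ = T.f b := by
    rintro i j ⟨a, ha⟩ ⟨b, hb⟩
    exact ⟨_, eE_mul i j ▸ T.tr_mul' ha hb⟩
  have h0 : ∀ i j, T.Fu (eE j) → i &&& j = 0 ∨ i &&& j = j →
      ∃ b, c * T.f (eE (i &&& j)) * c⁻¹ = T.f b := by
    rintro i j hj (e | e) <;> rw [e]
    · exact ⟨1, by rw [eE0, T.f_one]; group⟩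
    · exact T.tr h1 hj.ok (eE4 ▸ eE_comm j 4)
  rw [(by decide : ∀ i : Fin 16, i = (i &&& 1) ^^^ ((i &&& 2) ^^^ ((i &&& 4) ^^^ (i &&& 8)))) i]
  exact hx _ _ (h0 _ _ (eE1 ▸ T.fu_u) (by revert i; decide)) (hx _ _
    (h0 _ _ (eE2 ▸ T.fu_z) (by revert i; decide)) (hx _ _
      (h0 _ _ (eE4 ▸ T.fu_t) (by revert i; decide)) (h0 _ _ (eE8 ▸ T.fu_t2) (by revert i; decide))))

theorem exists_c : ∃ c, c * T.f eT * c⁻¹ = T.f eU ∧ c * T.f eR1 * c⁻¹ = T.f eR ∧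
    c * T.f eT2 * c⁻¹ = T.f eZ ∧ c * T.f eK1 * c⁻¹ = T.f eK := by
  obtain ⟨w, hw, hw8, hw3⟩ := T.exists_w
  have r8 : eR1 ∈ T8 := T78 m7_eR1
  have three : ∀ {c}, c * T.f eT * c⁻¹ = T.f eU → c * T.f eR1 * c⁻¹ = T.f eR → ∃ q,
      (∀ {x y}, x ∈ T8 → c * T.f x * c⁻¹ = T.f y → q * y = y * q) ∧ q * (q * q) = 1 ∧
        ¬ (q = 1 ∨ q = eR ∨ q = eR * eR) := fun {c} h1 h2 => by
    obtain ⟨q, hq⟩ := T.cent ((T.ok3 hw3).conj c) (h1 ▸ comm_conj c (hw8 _ eT_T8))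
    refine ⟨q, fun hx h => T.comm_iff.1 (hq ▸ h ▸ comm_conj c (hw8 _ hx)),
      T.eq_one (by rw [T.mul, T.mul, hq, conj_mul, conj_mul, hw3]; group), fun h => f_u1 ?_⟩
    obtain ⟨r, hr⟩ : ∃ r, c * T.f r * c⁻¹ = T.f q := by
      rcases h with rfl | rfl | rfl
      exacts [⟨1, by rw [T.f_one]; group⟩, ⟨_, h2⟩, ⟨_, T.tr_mul' h2 h2⟩]
    exact hw.fix (Or.inr (Or.inl rfl))
      (conj_injective (hr.trans hq) ▸ T.comm_iff.2 (cU r).symm)
  obtain ⟨g, hg⟩ := isConj_iff.1 T.fu_t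
  obtain ⟨c, h1, h2⟩ := T.adjust f_r13 f_r11 f_r1t hg
  obtain ⟨b, h3⟩ := T.tr h1 T.fu_t2.ok f_tt2.symm
  have hb := (T.fu_iff h3).1 ((T.fu_conj (conj_of_mul f_w1t)).1 T.fu_t)
  obtain ⟨m, hm, e⟩ := cls_cn (T.tr_comm h3 h2 f_r1t2.symm) (T.tr_sq h3 f_t2t2)
    (fun e => T.not_fu_one (e ▸ hb)) fun e => absurd
      (eE_inj (eE8.trans ((T.tr_inj (e ▸ h3) h1).trans eE4.symm))) (by decide)
  replace h1 := (T.tr_mul h1 m).trans (congrArg T.f (conj_eU m))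
  replace h2 := (T.tr_mul h2 m).trans (congrArg T.f (conj_of_mul hm))
  replace h3 := T.tr_mul h3 m
  replace hb := (T.fu_conj (rfl : m * b * m⁻¹ = _)).1 hb
  generalize T.f m * c = c at h1 h2 h3
  generalize m * b * m⁻¹ = b' at h3 hb e
  obtain rfl : b' = eZ := by
    rcases e with ⟨e, -⟩ | ⟨rfl, -⟩ | ⟨rfl, -⟩ | ⟨rfl, -⟩ | ⟨rfl, -⟩
    · exact e
    · obtain ⟨q, q1, q2, q3⟩ := three h1 h2
      exact absurd (p_t3 (mem_centralizer_singleton_iff.2 (q1 r8 h2)) q2 (q1 eT2_T8 h3)) q3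
    · exact absurd hb T.not_fu_ut
    · exact absurd hb T.not_fu_zt
    · have : cj c (Cs.AE.map T.F) ≤ (C1[eR] ⊓ C1[eK2]).map T.F := by
        rintro _ ⟨_, ⟨_, ⟨i, rfl⟩, rfl⟩, rfl⟩
        obtain ⟨a, ha⟩ := T.tr_E h1 i
        exact ⟨a, ⟨mem_centralizer_singleton_iff.2 (T.tr_comm ha h2 (eE_r1 i)),
          mem_centralizer_singleton_iff.2 (T.tr_comm ha h3 (eE8 ▸ eE_comm i 8))⟩, ha.symm⟩
      have := card_dvd_of_le this
      rw [card_cj, card_map_of_injective T.inj, card_map_of_injective T.inj, cnt_k2,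
        show Nat.card Cs.AE = 16 from (Nat.card_range_of_injective eE_inj).trans (by simp)] at this
      exact absurd this (by decide)
  obtain ⟨k, h4⟩ := T.tr h1 T.fu_k1.ok f_k1t
  have kz : k * eZ = eZ * (eU * k) := T.tr_eq (T.tr_mul' h4 h3) (f_k1t2 ▸ T.tr_mul' h3
    (T.tr_mul' h1 h4))
  have kr : k * eR = eR * (eR * k) := T.tr_eq (T.tr_mul' h4 h2) (f_k1r ▸ T.tr_mul' h2
    (T.tr_mul' h2 h4))
  have ek : k * eK * eK = k := by rw [mul_assoc, f_kk, mul_one]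
  obtain ⟨n, hn⟩ := p_k (a := k * eK) (mem_centralizer_singleton_iff.2 (by
    rw [mul_assoc, f_kr, ← mul_assoc, kr, mul_assoc eR, mul_assoc eR, ← mul_assoc k, kr]
    simp only [← mul_assoc]
    rw [mul_assoc eR eR eR, f_rrr, one_mul]))
  obtain ⟨n1, n2, n3⟩ := hn (by
    rw [mul_assoc, f_kz, ← mul_assoc, kz, mul_assoc eZ, mul_assoc eU, ← mul_assoc k, ← cU k,
      ← mul_assoc eU, ← mul_assoc eU, f_uu, one_mul]) (by
    rw [ek, ← mul_assoc, ek, T.tr_sq h4 f_k1k1])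
  rw [ek] at n3
  replace h1 := (T.tr_mul h1 n).trans (congrArg T.f (conj_eU n))
  replace h2 := (T.tr_mul h2 n).trans (congrArg T.f (conj_of_mul n1))
  replace h3 := (T.tr_mul h3 n).trans (congrArg T.f (conj_of_mul n2))
  replace h4 := T.tr_mul h4 n
  rcases n3 with e | e
  · exact ⟨_, h1, h2, h3, h4.trans (congrArg T.f (conj_of_mul e))⟩
  · obtain ⟨q, q1, q2, q3⟩ := three h1 h2
    rw [conj_of_mul (e.trans (mul_assoc _ _ _).symm)] at h4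
    exact absurd (p_ka (mem_centralizer_singleton_iff.2 (q1 r8 h2)) q2 (q1 eT2_T8 h3)
      ((q1 (T78 (T67 m6_eK1)) h4).trans (mul_assoc _ _ _))) q3

end Cx

end Cfsg.Agent.H59.Fin4
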