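import Mathlib
import Cfsg.Agent.H59.HsFin4A

/-!
# The centraliser of the involution contains `K` with index at most two (part B)
-/

set_option autoImplicit false
set_option maxRecDepth 100000

namespace Cfsg.Agent.H59.Fin4

open Cfsg.Agent.H68.HN Cfsg.Agent.H44 Cfsg.Agent.H68.DCE Cfsg.Agent.H63 Cfsg.Agent.H67 Subgroup

theorem card_le_two {M : Type*} [Group M] [Finite M] {H L : Subgroup M}
    (h : ∀ g ∈ L, ∀ k ∈ L, g ∈ H ∨ k ∈ H ∨ g * k ∈ H) : Nat.card L ≤ 2 * Nat.card H := by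
  by_cases hL : L ≤ H
  · have := card_le_of_le hL
    omega
  obtain ⟨g, hg, hn⟩ := SetLike.not_le_iff_exists.1 hL
  have h1 : (L : Set M) ⊆ (H : Set M) ∪ (fun x => g⁻¹ * x) '' (H : Set M) := fun k hk =>
    ((h g hg k hk).resolve_left hn).imp id fun e => ⟨_, e, inv_mul_cancel_left _ _⟩
  have h2 := (Set.ncard_le_ncard h1).trans (Set.ncard_union_le _ _)
  have h3 := Set.ncard_image_le (f := fun x => g⁻¹ * x) (s := (H : Set M))
  change (L : Set M).ncard ≤ 2 * (H : Set M).ncard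
  omega

namespace Cx

variable {Γ : Type*} [Group Γ] (T : Cx Γ)

/-- The centraliser of the image of a subgroup. -/
def CC (H : Subgroup K) : Subgroup Γ where
  carrier := {g | ∀ s ∈ H, g * T.f s = T.f s * g}
  one_mem' := fun _ _ => by simp
  mul_mem' := fun ha hb s hs => Commute.mul_left (ha s hs) (hb s hs)
  inv_mem' := fun ha s hs => Commute.inv_left (ha s hs)

/-- The elements whose image commutes with `g`. -/
noncomputable def cm (g : Γ) : Subgroup K := C1[g].comap T.F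

theorem mem_cm {g : Γ} {a : K} : a ∈ T.cm g ↔ g * T.f a = T.f a * g :=
  mem_centralizer_singleton_iff.trans eq_comm

theorem CC_cl {g : Γ} {gs : List ℕ} (h : ∀ c ∈ gs, g * T.f (S.val c) = T.f (S.val c) * g) :
    g ∈ T.CC (cl gs) := fun _ hs => T.mem_cm.1 (cl_le (fun c hc => T.mem_cm.2 (h c hc)) hs)

theorem CC_St1 {g : Γ} (h1 : g * T.f eY = T.f eY * g) (h3 : g * T.f eY3 = T.f eY3 * g) :
    g ∈ T.CC (St 1) := fun _ hs => T.mem_cm.1 (St_le (by decide) (fun c hc => by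
  have : c = 1 ∨ c = 3 := by simpa using (show c ∈ [1, 3] from hc)
  rcases this with rfl | rfl
  exacts [eY_eq ▸ T.mem_cm.2 h1, eY3_eq ▸ T.mem_cm.2 h3]) hs)

theorem tr_conj {c : Γ} {m a b a' b' : K} (ha : c * T.f a * c⁻¹ = T.f a')
    (hb : c * T.f b * c⁻¹ = T.f b') (h : m * a = b * m) :
    c * T.f m * c⁻¹ * T.f a' * (c * T.f m * c⁻¹)⁻¹ = T.f b' := by
  rw [← ha, ← hb, ← conj_of_mul h, ← T.conj]; group

/-- The element `c` identifies a copy of `A₅` inside the centraliser of `A₇`. -/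
structure Id (c : Γ) : Prop where
  ht : c * T.f eT * c⁻¹ = T.f eU
  fwd : ∀ g ∈ T.CC T7, (∃ a, T.f a = c * g * c⁻¹) → ∃ b ∈ T5, c * g * c⁻¹ = T.f b
  bwd : ∀ g, ∀ b ∈ T5, c * g * c⁻¹ = T.f b → g ∈ T.CC T7

variable {T} in
theorem Id.ok {c : Γ} (h : T.Id c) : ∀ g ∈ T.CC T7, T.Ok g → ∃ b ∈ T5, c * g * c⁻¹ = T.f b :=
  fun g hg ho => h.fwd g hg (T.cent (ho.conj c) (h.ht ▸ comm_conj c (hg _ (T67 m6_eT))))

variable {T} in
theorem Id.mul {c : Γ} (h : T.Id c) {m : K} (hm : m ∈ T5) : T.Id (T.f m * c) := by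
  refine ⟨(T.tr_mul h.ht m).trans (by rw [conj_eU]), fun g hg ⟨a, ha⟩ => ?_, fun g b hb e => ?_⟩
  · obtain ⟨b, hb, e⟩ := h.fwd g hg ⟨m⁻¹ * a * m⁻¹⁻¹, by rw [← T.conj, ha, T.f_inv]; group⟩
    exact ⟨_, mul_mem (mul_mem hm hb) (inv_mem hm), by rw [conj_conj', e, T.conj]⟩
  · exact h.bwd g (m⁻¹ * b * m⁻¹⁻¹) (mul_mem (mul_mem (inv_mem hm) hb) (inv_mem (inv_mem hm)))
      (by rw [← T.conj, ← e, T.f_inv]; group)

theorem CC_anti {H H' : Subgroup K} (h : H ≤ H') : T.CC H' ≤ T.CC H := fun _ hg s hs => hg s (h hs)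

theorem exists_id [Finite Γ] : (∃ c, T.Id c) ∧ Nat.card (T.CC T6) ≤ 1440 := by
  obtain ⟨c, h1, h2, h3, h4⟩ := T.exists_c
  have hy : ∀ x ∈ T6, c * T.f (eZ * eK) * c⁻¹ * (c * T.f x * c⁻¹) =
      c * T.f x * c⁻¹ * (c * T.f (eZ * eK) * c⁻¹) := fun x hx => comm_conj c (T.comm_iff.2
    (Commute.mul_left (T8_z' (T78 (T67 hx))).symm
      (mem_centralizer_singleton_iff.1 (T6_k hx)).symm))
  have y2 : c * T.f (eZ * eK) * c⁻¹ * (c * T.f (eZ * eK) * c⁻¹) = c * T.f eU * c⁻¹ := by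
    rw [conj_mul, ← T.mul, mul_assoc eZ, f_zk2]
  have ym : ∃ a, T.f a = c * T.f (eZ * eK) * c⁻¹ := by
    obtain ⟨a, ha⟩ := T.tr h1 T.fu_z.ok (T8_z' eT_T8).symm
    obtain ⟨b, hb⟩ := T.tr h1 T.fu_k.ok (mem_centralizer_singleton_iff.1 (T6_k m6_eT)).symm
    exact ⟨_, (T.tr_mul' ha hb).symm⟩
  generalize c * T.f (eZ * eK) * c⁻¹ = y at hy y2 ym
  have y4 : y * y * (y * y) = 1 := by rw [y2, conj_mul, ← T.mul, f_uu, T.f_one]; group
  replace y2 : y * y ≠ 1 := fun h => f_u1 (T.eq_one (conj_eq_one_iff.1 (y2.symm.trans h)))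
  have cube : ∀ {w : K}, w * (w * w) = 1 →
      c * T.f w * c⁻¹ * (c * T.f w * c⁻¹ * (c * T.f w * c⁻¹)) = 1 := fun h => by
    rw [conj_mul, conj_mul, ← T.mul, ← T.mul, h, T.f_one]; group
  have W1 : T.Cyc (c * T.f eW1 * c⁻¹) := ⟨T.tr_conj h1 h3 f_w1t,
    T.tr_conj h3 (T.tr_mul' h1 h3) (f_w1t2.trans (mul_assoc _ _ _).symm)⟩
  have c1 : ∀ x ∈ T8, _ := fun x => W1.cent (x := x) (cube f_w13) ym
    (h3 ▸ hy _ m6_eT2) (hy _ m6_eW1) y4 y2
  have h5 := T.tr_mul' h1 h4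
  have nz : (T.f eN)⁻¹ * T.f (eU * eK) * (T.f eN)⁻¹⁻¹ = T.f eZ := conj_symm (by
    rw [T.conj, conj_of_mul (f_nz.trans (mul_assoc _ _ _).symm), cU])
  have nu : (T.f eN)⁻¹ * T.f eU * (T.f eN)⁻¹⁻¹ = T.f eU := conj_symm (by rw [T.conj, conj_eU])
  have cc : ∀ a b x : Γ, a * b * a⁻¹ * (a * x * a⁻¹) * (a * b * a⁻¹)⁻¹ = a * (b * x * b⁻¹) * a⁻¹ :=
    fun a b x => by group
  have W2 : T.Cyc ((T.f eN)⁻¹ * (c * T.f eW2 * c⁻¹) * (T.f eN)⁻¹⁻¹) := ⟨by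
    rw [← nu, cc, T.tr_conj h1 h5 (f_w2t.trans (mul_assoc _ _ _).symm), nz], by
    rw [← nz, cc, T.tr_conj h5 h4 f_w2k]
    exact conj_symm (by rw [T.conj, ← uz_comm, conj_of_mul f_kn.symm])⟩
  have c2 : c * T.f eW2 * c⁻¹ ∈ T.CC T5 := by
    have : ∀ x ∈ T8, _ := fun x => W2.cent (x := x) (y := (T.f eN)⁻¹ * y * (T.f eN)⁻¹⁻¹)
      (by rw [conj_mul, conj_mul, cube f_w23]; group)
      (ym.elim fun a ha => ⟨eN⁻¹ * a * eN⁻¹⁻¹, by rw [← T.conj, ha, T.f_inv]⟩)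
      (nz ▸ comm_conj _ (h5 ▸ hy _ (mul_mem m6_eT m6_eK1))) (comm_conj _ (hy _ m6_eW2))
      (by rw [conj_mul, conj_mul, y4]; group) (by rwa [conj_mul, Ne, conj_eq_one_iff])
    have key : ∀ {b i : K}, b * eN = eN * i → i ∈ T8 → c * T.f eW2 * c⁻¹ * T.f b =
        T.f b * (c * T.f eW2 * c⁻¹) := fun h hi => by
      have := comm_conj (T.f eN) (this _ hi)
      rwa [T.conj, conj_of_mul h.symm, show ∀ a b : Γ, a * (a⁻¹ * b * a⁻¹⁻¹) * a⁻¹ = b from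
        fun a b => by group] at this
    refine T.CC_cl fun a ha => ?_
    simp only [List.mem_cons, List.not_mem_nil, or_false] at ha
    rcases ha with rfl | rfl | rfl
    exacts [key f_bn0 m8_eI0, key f_bn1 m8_eI1, key f_bn2 m8_eI2]
  refine ⟨⟨c, h1, fun g hg ⟨a, ha⟩ => ?_, fun g b hb e => ?_⟩, ?_⟩
  · have t : ∀ x ∈ T7, c * g * c⁻¹ * (c * T.f x * c⁻¹) = c * T.f x * c⁻¹ * (c * g * c⁻¹) :=
      fun x hx => comm_conj c (hg x hx)
    rw [← ha] at t ⊢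
    obtain ⟨b, hb, h⟩ := p_Y (mem_centralizer_singleton_iff.2 (T.comm_iff.1 (h2 ▸ t _ m7_eR1)))
    rcases h (T.comm_iff.1 (h3 ▸ t _ (T67 m6_eT2))) (T.comm_iff.1 (h4 ▸ t _ (T67 m6_eK1))) with
      rfl | rfl
    · exact ⟨a, hb, rfl⟩
    · refine absurd (W1.fix (Or.inr (Or.inl rfl)) (T.mem_cm.1 ?_)) f_u1
      exact (mul_mem_cancel_left (T.mem_cm.2 (t _ (T67 m6_eW1)).symm)).1
        (T.mem_cm.2 (c1 _ (T78 (T67 (T56 hb)))))
  · have key : ∀ {x : K}, T.f b * (c * T.f x * c⁻¹) = c * T.f x * c⁻¹ * T.f b →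
        g * T.f x = T.f x * g := fun h => by
      rw [← e, conj_mul, conj_mul] at h; exact conj_injective h
    have b8 := T78 (T67 (T56 hb))
    have : g ∈ T.CC (cl [118098183, 184747777, 2056, 319623426, 118033174, 694897205]) := by
      refine T.CC_cl fun a ha => key ?_
      simp only [List.mem_cons, List.not_mem_nil, or_false] at ha
      rcases ha with rfl | rfl | rfl | rfl | rfl | rfl
      exacts [h1.symm ▸ T.comm_iff.2 (cU b).symm, h3.symm ▸ T.comm_iff.2 (T8_z' b8), (c1 _ b8).symm,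
        h4.symm ▸ T.comm_iff.2 (mem_centralizer_singleton_iff.1 (T6_k (T56 hb))),
        h2.symm ▸ T.comm_iff.2 (mem_centralizer_singleton_iff.1 (T5_r hb)), (c2 _ hb).symm]
    refine T.CC_cl fun a ha => this _ ?_
    simp only [List.mem_cons, List.not_mem_nil, or_false] at ha
    rcases ha with rfl | rfl | rfl | rfl | rfl
    exacts [mg_eB0, mg_eB1, mg_eB2, mg_eB3, mg_eB4]
  · let H : Subgroup Γ := T.CC T6 ⊓ T.F.range.comap (MulAut.conj c).toMonoidHom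
    have t0 : ∀ g ∈ T.CC T6, ∀ x ∈ T6, c * g * c⁻¹ * (c * T.f x * c⁻¹) =
        c * T.f x * c⁻¹ * (c * g * c⁻¹) := fun g hg x hx => comm_conj c (hg x hx)
    refine (card_le_two (H := H) fun g hg k hk => ?_).trans
      (Nat.mul_le_mul_left 2 (?_ : _ ≤ 720))
    · refine (T.idx _ _ (h1 ▸ t0 g hg _ m6_eT :) (h1 ▸ t0 k hk _ m6_eT :)).imp (fun e => ⟨hg, e⟩)
        (Or.imp (fun e => ⟨hk, e⟩) fun e => ⟨mul_mem hg hk, ?_⟩)
      rwa [conj_mul] at e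
    have t : ∀ g : H, ∀ x ∈ T6, c * g * c⁻¹ * (c * T.f x * c⁻¹) =
        c * T.f x * c⁻¹ * (c * g * c⁻¹) := fun g => t0 g g.2.1
    choose v hv s hs e using fun g : H => T.cent_V (g := c * g * c⁻¹) g.2.2 (h3 ▸ t g _ m6_eT2)
    refine (Nat.card_le_card_of_injective (fun g => (⟨s g, hs g, mem_centralizer_singleton_iff.2
      (comm_k (hv g) (hs g) (T.comm_iff.1 (e g ▸ h4 ▸ t g _ m6_eK1)))⟩ : ↥(T8 ⊓ C1[eK])))
      fun a b h => ?_).trans card_T8k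
    have h : s a = s b := congrArg Subtype.val h
    have e1 : c * (a * b⁻¹ : H) * c⁻¹ = T.f (v a * v b) := by
      rw [coe_mul, coe_inv, ← conj_mul, ← conj_inv, e, e, h, ← T.f_inv, ← T.mul]
      congr 1
      rw [mul_inv_rev, ← eq_inv_of_mul_eq_one_left (hv b).sq]; group
    have := W1.fix ((hv a).mul (hv b)) (e1 ▸ (t _ _ m6_eW1).symm)
    rw [this, T.f_one, conj_eq_one_iff] at e1
    exact mul_inv_eq_one.1 (Subtype.ext e1)

theorem three_le [Finite Γ] {c : Γ} (hc : T.Id c) : ∃ g ∈ T.CC (St 1),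
    (∃ b ∈ T5, c * g * c⁻¹ = T.f b) ∧ ¬ (g = 1 ∨ g = T.f eU) := by
  have h6 := T.exists_id.2
  let A : Subgroup Γ := cj c⁻¹ (T5.map T.F)
  have mA : ∀ g ∈ A, ∃ b ∈ T5, c * g * c⁻¹ = T.f b := by
    rintro _ ⟨_, ⟨b, hb, rfl⟩, rfl⟩
    exact ⟨b, hb, by change c * (c⁻¹ * T.f b * c⁻¹⁻¹) * c⁻¹ = _; group⟩
  have A7 : A ≤ T.CC T7 := fun g hg => (mA g hg).elim fun b hb => hc.bwd g b hb.1 hb.2
  have h7 : Nat.card A = 60 := by
    rw [card_cj, card_map_of_injective T.inj, card_Y0]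
  have B7 : cj (T.f eN) A ≤ cj (T.f eN) (T.CC T7) := map_mono A7
  have hd : ∀ g ∈ cj (T.f eN) (T.CC T7), ∀ a ∈ [2672296741, 694897205, 218958345, 1716935977,
      2257661957], g * T.f (S.val a) = T.f (S.val a) * g := by
    rintro _ ⟨g, hg, rfl⟩ a ha
    have key : ∀ {b d : K}, b ∈ T7 → eN * b = d * eN → T.f eN * g * (T.f eN)⁻¹ * T.f d =
        T.f d * (T.f eN * g * (T.f eN)⁻¹) := fun hb h =>
      conj_of_mul h ▸ T.conj _ _ ▸ comm_conj _ (hg _ hb)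
    simp only [List.mem_cons, List.not_mem_nil, or_false] at ha
    rcases ha with rfl | rfl | rfl | rfl | rfl
    exacts [key (val_mem_cl (by decide)) f_nb0, key (val_mem_cl (by decide)) f_nb1,
      key (val_mem_cl (by decide)) f_nb2, key (val_mem_cl (by decide)) f_nb3,
      key (val_mem_cl (by decide)) f_nb4]
  have h1 : cj (T.f eN) (T.CC T7) ≤ T.CC T6 := fun g hg => T.CC_cl fun a ha => by
    refine T.CC_cl (hd g hg) _ ?_
    simp only [List.mem_cons, List.not_mem_nil, or_false] at ha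
    rcases ha with rfl | rfl | rfl | rfl
    exacts [md_eB0, md_eB1, md_eB2, md_eB3]
  have h2 : T.CC T7 ⊓ cj (T.f eN) (T.CC T7) ≤ T.CC (St 1) := fun g hg => by
    have := T.CC_cl (g := g) (gs := [8, 151721479, 269029385, 642745424, 268896784] ++
      [2672296741, 694897205, 218958345, 1716935977, 2257661957]) fun a ha =>
        (List.mem_append.1 ha).elim (fun h => hg.1 _ (val_mem_cl h)) (hd g hg.2 a)
    exact T.CC_St1 (this _ mU_eY) (this _ mU_eY3)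
  have h3 := card_mul_relIndex (A7.trans (T.CC_anti T67))
  have h4 := card_inf_mul_relIndex A (cj (T.f eN) A)
  have h5 := relIndex_le_of_le_right (H := A) (B7.trans h1) fun h => by
    rw [h, mul_zero] at h3; exact Nat.card_pos.ne h3
  rw [card_cj, h7] at h4
  rw [h7] at h3
  by_contra h
  push Not at h
  have h8 : Nat.card ↥(A ⊓ cj (T.f eN) A) ≤ 2 := (Nat.card_mono (Set.toFinite {1, T.f eU})
    fun g hg => h g (h2 ⟨A7 hg.1, B7 hg.2⟩) (mA g hg.1)).trans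
      ((Set.ncard_insert_le _ _).trans (by simp : _ ≤ 2))
  nlinarith

theorem exists_five [Finite Γ] : ∃ c s a b, s ∈ T.CC (St 1) ∧
    (∀ g ∈ T.CC T7, T.Ok g → ∃ b ∈ T5, c * g * c⁻¹ = T.f b) ∧ c * T.f eU * c⁻¹ = T.f eT ∧
    c * T.f eZ * c⁻¹ = T.f b ∧ c * s * c⁻¹ = T.f a ∧ a ∈ T5 ∧ b ∈ T5 ∧ (b = eT2 ∨ b = eT * eT2) ∧
    a ≠ 1 ∧ a ^ 5 = 1 ∧ eT * (a * (eT * a)) = 1 ∧ (b * a) ^ 3 = 1 ∧
    (T.f eX * s * (T.f eX)⁻¹ = s ^ 2 ∨ T.f eX * s * (T.f eX)⁻¹ = s ^ 3) := by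
  obtain ⟨⟨c, hc⟩, -⟩ := T.exists_id
  have uC : ∀ H, T.f eU ∈ T.CC H := fun H s _ => T.comm_iff.2 (cU s)
  obtain ⟨b0, b5, h0⟩ := hc.ok _ (uC _) T.fu_u.ok
  obtain ⟨m, hm, e⟩ := y5_inv b5
  have hu := (T.tr_mul h0 m).trans (congrArg T.f (conj_of_mul ((e (T.tr_sq h0 f_uu)).resolve_left
    fun e => f_u1 (T.tr_one (e ▸ h0)))))
  replace hc := hc.mul hm
  generalize T.f m * c = c at hu hc
  have tr := hc.ok
  obtain ⟨b, b5, hz⟩ := tr (T.f eZ) (fun s hs => T.comm_iff.2 (T8_z' (T78 hs)).symm) T.fu_z.ok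
  have hb : b = eT2 ∨ b = eT * eT2 := ((y_cT b5 (T.tr_comm hz hu uz_comm)).resolve_left fun e =>
    eZ_K1 (T.tr_one (e ▸ hz) ▸ one_mem _)).resolve_left fun e => f_zu (T.tr_inj (e ▸ hz) hu)
  let D : Subgroup K := (T.CC (St 1)).comap ((MulAut.conj c⁻¹).toMonoidHom.comp T.F)
  have mD : ∀ {g a}, c * g * c⁻¹ = T.f a → (a ∈ D ↔ g ∈ T.CC (St 1)) := fun h => by
    rw [← conj_symm h]; rfl
  have back : ∀ a, c * (c⁻¹ * T.f a * c⁻¹⁻¹) * c⁻¹ = T.f a := fun a => by group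
  have D5 : D ≤ T5 := fun a ha => by
    obtain ⟨b, hb, e⟩ := hc.fwd _ (T.CC_anti Cs.T7_St1 ha) ⟨a, (back a).symm⟩
    exact T.finj ((back a).symm.trans e) ▸ hb
  have tD : eT ∈ D := (mD hu).2 (uC _)
  have cD : ∀ a ∈ D, a * eT = eT * a → a = 1 ∨ a = eT := fun a ha h => by
    rcases T.cz _ (conj_symm hu ▸ comm_conj _ (T.comm_iff.2 h) :
      c⁻¹ * T.f a * c⁻¹⁻¹ * T.f eU = T.f eU * (c⁻¹ * T.f a * c⁻¹⁻¹)) ha with e | e | e
    · exact Or.inl (T.eq_one (conj_eq_one_iff.1 e))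
    · exact Or.inr (T.finj ((back a).symm.trans (hu ▸ congrArg (c * · * c⁻¹) e)))
    · have e1 : a * a = eT := T.finj ((back _).symm.trans (hu ▸ congrArg (c * · * c⁻¹) (by
        rw [T.mul, ← conj_mul]; exact e)))
      refine absurd (e1.symm.trans ?_) f_t1
      rcases y_cT (D5 ha) h with rfl | rfl | rfl | rfl
      exacts [one_mul _, f_tt, f_t2t2, by
        rw [mul_assoc, ← mul_assoc eT2, ← f_tt2, mul_assoc, f_t2t2, mul_one, f_tt]]
  have t2 : eT2 ∉ D := fun h => (cD _ h f_tt2.symm).elim f_t21 fun e =>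
    absurd (eE_inj (eE8.trans (e.trans eE4.symm))) (by decide)
  have xD : ∀ g ∈ T.CC (St 1), T.f eX * g * (T.f eX)⁻¹ ∈ T.CC (St 1) := fun g hg => by
    have e1 : eX * eY3 * eX⁻¹ = eY := by rw [eX_eq, eY3_eq, eY_eq, L3, L1]; group
    have e2 : eX * eY * eX⁻¹ = eY3 := by
      rw [← e1, ← conj_conj', x_sq, conj_of_mul (cU _)]
    exact T.CC_St1 (e1 ▸ T.conj _ _ ▸ comm_conj _ (hg _ y3_St1))
      (e2 ▸ T.conj _ _ ▸ comm_conj _ (hg _ y_St1))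
  have XX : c * T.f eX * c⁻¹ * (c * T.f eX * c⁻¹) = T.f eT := by rw [conj_mul, ← T.mul, x_sq, hu]
  have hX : ∀ a ∈ D, T.Ok (T.f a) →
      ∃ a' ∈ D, c * T.f eX * c⁻¹ * T.f a * (c * T.f eX * c⁻¹)⁻¹ = T.f a' :=
    fun a ha ho => by
      obtain ⟨a', -, e⟩ := tr _ (T.CC_anti Cs.T7_St1 (xD _ ha)) ((ho.conj _).conj _)
      exact ⟨a', (mD e).2 (xD _ ha), Eq.trans (by
        change _ = c * (_ * (c⁻¹ * T.f a * c⁻¹⁻¹) * _) * c⁻¹; group) e⟩
  have fin : ∀ a ∈ D, ∀ i : ℕ, c * T.f eX * c⁻¹ * T.f a * (c * T.f eX * c⁻¹)⁻¹ = T.f (a ^ i) →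
      T.f eX * (c⁻¹ * T.f a * c⁻¹⁻¹) * (T.f eX)⁻¹ = (c⁻¹ * T.f a * c⁻¹⁻¹) ^ i := fun a _ i h => by
    rw [conj_pow, ← show T.f (a ^ i) = T.f a ^ i from map_pow T.F a i, ← h]; group
  generalize c * T.f eX * c⁻¹ = X at XX hX fin
  have Xt : X * T.f eT * X⁻¹ = T.f eT := by rw [← XX]; group
  have pw : ∀ {a a' : K} (i : ℕ), X * T.f a * X⁻¹ = T.f a' → X * T.f (a ^ i) * X⁻¹ = T.f (a' ^ i) :=
    fun {a a'} i h => by
      rw [show T.f (a ^ i) = T.f a ^ i from map_pow T.F a i, ← conj_pow, h]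
      exact (map_pow T.F a' i).symm
  have key : ∀ {a : K} (i : ℕ), eT * (a * (eT * a)) = 1 → X * T.f a * X⁻¹ = T.f (a ^ i) →
      a ^ (i * i + 1) = 1 := fun {a} i h1 h2 => by
    have := pw i h2
    rw [← h2, ← conj_conj', XX, T.conj, ← pow_mul] at this
    rw [pow_succ, ← T.finj this, ← eq_inv_of_mul_eq_one_left f_tt, mul_assoc, mul_assoc, h1]
  obtain ⟨g, hg, ⟨a0, -, e0⟩, g1⟩ := T.three_le hc
  have n0 : a0 * eT ≠ eT * a0 := fun h => g1 ((cD a0 ((mD e0).2 hg) h).imp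
    (fun e : a0 = 1 => conj_eq_one_iff.1 (e0.trans (by rw [e, T.f_one])))
    fun e : a0 = eT => conj_cancel c (e0.trans (by rw [e, hu])))
  have it := eq_inv_of_mul_eq_one_left f_tt
  obtain ⟨a, aD, a1, ai, a2⟩ : ∃ a ∈ D, a ≠ 1 ∧ eT * (a * (eT * a)) = 1 ∧ a * a ≠ 1 := by
    have a0D := (mD e0).2 hg
    have h1 : a0 * eT * a0⁻¹ * eT ≠ 1 := fun h => n0 (by
      rw [← mul_inv_eq_iff_eq_mul, eq_inv_of_mul_eq_one_left h, ← it])
    have h2 : eT * (a0 * eT * a0⁻¹ * eT * (eT * (a0 * eT * a0⁻¹ * eT))) = 1 := by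
      rw [mul_assoc _ eT, ← mul_assoc eT eT, f_tt, one_mul, ← mul_assoc (a0 * eT * a0⁻¹), conj_mul,
        f_tt, mul_one, mul_inv_cancel, one_mul, f_tt]
    have h3 := mul_mem (mul_mem (mul_mem a0D tD) (inv_mem a0D)) tD
    refine ⟨_, h3, h1, h2, fun h => (cD _ h3 ?_).elim h1 fun e => ?_⟩
    · generalize a0 * eT * a0⁻¹ * eT = a at h h2
      rw [← mul_assoc, eq_inv_of_mul_eq_one_left h2, mul_inv_rev, ← it,
        ← eq_inv_of_mul_eq_one_left h] at *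
    · exact f_t1 (conj_eq_one_iff.1 (mul_eq_right.1 e))
  obtain ⟨a', aD', e⟩ := hX a aD (((y_ord (D5 aD)).resolve_left a2).elim T.ok3' fun h =>
    Or.inr ⟨2, by
      rw [← T.f_pow, show a ^ (2 * 2 + 1) = 1 by simpa [pow_succ, mul_assoc] using h, T.f_one]⟩)
  have ai' : eT * (a' * (eT * a')) = 1 := T.eq_one (by
    rw [← T.tr_mul' Xt (T.tr_mul' e (T.tr_mul' Xt e)), ai, T.f_one]; group)
  have a1' : a' ≠ 1 := fun h => a1 (T.tr_one (h ▸ e))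
  have nin : ∀ {l : List (List ℕ)}, (∀ x ∈ l, ∀ c ∈ x, c = 0 ∨ c = 255 ∨ c = 118098183) →
      ¬ (Fm.inL [184747777] l).Sem a a' := fun hl h => by
    obtain ⟨x, hx, e⟩ := Fm.inL_sem.1 h
    exact t2 ((show eT2 = _ from e) ▸ ew_mem aD aD' tD (hl x hx))
  rcases (y_ord (D5 aD)).resolve_left a2 with h | h
  · have h3 : a ^ 3 = 1 := by simpa [pow_succ, mul_assoc] using h
    have h3' : a' ^ 3 = 1 := T.tr_pow e h3
    rcases y_33 (D5 aD) (D5 aD') (by simpa [pow_succ, mul_assoc] using h3') h ai' ai with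
      h | h | rfl | rfl | h
    exacts [absurd h a1, absurd h a1', absurd (pow_contra (key 1 ai (by rwa [pow_one])) h3 rfl) a1,
      absurd (pow_contra (key 2 ai (by rwa [sq])) h3 rfl) a1, absurd h (nin (by decide))]
  have h5 : a ^ 5 = 1 := by simpa [pow_succ, mul_assoc] using h
  have h5' : a' ^ 5 = 1 := T.tr_pow e h5
  have h23 : X * T.f a * X⁻¹ = T.f (a ^ 2) ∨ X * T.f a * X⁻¹ = T.f (a ^ 3) := by
    rcases y_55 (D5 aD) (D5 aD') (by simpa [pow_succ, mul_assoc] using h5') h ai' ai with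
      h | h | rfl | rfl | rfl | rfl | h
    exacts [absurd h a1, absurd h a1', absurd (pow_contra (key 1 ai (by rwa [pow_one])) h5 rfl) a1,
      Or.inl (by rwa [sq]), Or.inr (by simpa [pow_succ, mul_assoc] using e),
      absurd (pow_contra (key 4 ai (by simpa [pow_succ, mul_assoc] using e)) h5 rfl) a1,
      absurd h (nin (by decide))]
  rcases (y_5 (D5 aD) b5 hb h ai).resolve_left a1 with h6 | h6
  · exact ⟨c, _, a, b, aD, tr, hu, hz, back a, D5 aD, b5, hb, a1, h5, ai,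
      by simpa [pow_succ, mul_assoc] using h6, h23.imp (fin a aD 2) (fin a aD 3)⟩
  · have a2D := pow_mem aD 2
    refine ⟨c, _, a ^ 2, b, a2D, tr, hu, hz, back _, D5 a2D, b5, hb, by rwa [sq],
      by rw [← pow_mul, mul_comm, pow_mul, h5, one_pow], ?_,
      by simpa [pow_succ, mul_assoc] using h6, h23.imp (fun h => fin _ a2D 2 (pw 2 h))
        fun h => fin _ a2D 3 (by rw [pw 2 h, ← pow_mul, ← pow_mul])⟩
    have : eT * a * eT⁻¹ = a⁻¹ := by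
      rw [← it]; exact eq_inv_of_mul_eq_one_left (by rw [← ai]; group)
    rw [← mul_assoc, ← mul_assoc]
    nth_rw 2 [it]
    rw [← conj_pow, this]; group

theorem exists_s [Finite Γ] : ∃ s ∈ T.CC (St 1), s ^ 5 = 1 ∧ s ≠ 1 ∧
    (T.f eX)⁻¹ * s * T.f eX = s ^ 3 ∧ (T.f eZ * s) ^ 3 = 1 := by
  obtain ⟨c, s, a, b, hs, tr, hu, hz, ha, a5, b5, hb, a1, h5, ai, h3, hx⟩ := T.exists_five
  have pw : ∀ (a : K) (i : ℕ), T.f (a ^ i) = T.f a ^ i := map_pow T.F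
  have one : ∀ {g}, c * g * c⁻¹ = T.f 1 → g = 1 := fun h => conj_eq_one_iff.1 (h.trans T.f_one)
  have s5 : s ^ 5 = 1 := one (by rw [← conj_pow, ha, ← pw, h5])
  have s1 : s ≠ 1 := fun h => a1 (T.eq_one (by rw [← ha, h]; group))
  have zs : (T.f eZ * s) ^ 3 = 1 := one (by rw [← conj_pow, ← conj_mul, ha, hz, ← T.mul, ← pw, h3])
  have s6 : s ^ 6 = s := by rw [pow_succ, s5, one_mul]
  refine ⟨s, hs, s5, s1, hx.elim (fun h => ?_) fun h => absurd (pow_contra (n := 2) s5 ?_ rfl) s1, zs⟩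
  · exact conj_cancel (T.f eX) (by rw [← conj_pow, h, ← pow_mul, s6]; group)
  have a4 : a⁻¹ = a * (a * (a * a)) :=
    inv_eq_of_mul_eq_one_right (by simpa [pow_succ, mul_assoc] using h5)
  obtain ⟨y1, y2⟩ := y_w a5 b5 hb (by simpa [pow_succ, mul_assoc] using h5) ai
    (by simpa [pow_succ, mul_assoc] using h3)
  have hw : c * (s * s * T.f eZ * s⁻¹) * c⁻¹ = T.f (a * (a * (b * (a * (a * (a * a)))))) := by
    rw [← conj_mul, ← conj_mul, ← conj_mul, ← conj_inv, ha, hz, ← T.f_inv, ← T.mul, ← T.mul,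
      ← T.mul, a4, mul_assoc, mul_assoc]
  have W : T.Cyc (s * s * T.f eZ * s⁻¹) := by
    constructor <;> refine conj_of_mul (conj_cancel c ?_) <;>
      rw [← conj_mul (a := s * s * T.f eZ * s⁻¹), ← conj_mul (c := s * s * T.f eZ * s⁻¹), hw]
    · rw [hu, hz, ← T.mul, ← T.mul, ← y1]; simp only [mul_assoc]
    · rw [T.tr_mul' hu hz, hz, ← T.mul, ← T.mul, mul_assoc eT, ← y2]; simp only [mul_assoc]
  obtain ⟨w, W', hw8, w3⟩ := T.exists_w
  obtain ⟨q, q5, hq⟩ : ∃ q ∈ T5, c * (s * s * T.f eZ * s⁻¹ * w⁻¹) * c⁻¹ = T.f q := by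
    obtain ⟨q, q5, hq⟩ := tr w (fun x hx => hw8 x (T78 hx)) (T.ok3 w3)
    exact ⟨_, mul_mem (mul_mem a5 (mul_mem a5 (mul_mem b5 (mul_mem a5 (mul_mem a5
      (mul_mem a5 a5)))))) (inv_mem q5), by rw [← conj_mul, hw, ← conj_inv, hq, T.mul _ q⁻¹, T.f_inv]⟩
  obtain ⟨v, hv, e⟩ : ∃ v, InV v ∧ c * T.f v * c⁻¹ = T.f q := by
    have h1 := T.tr_mul' hu hz
    have h2 : ∃ v, InV v ∧ c * T.f v * c⁻¹ = T.f eT2 := by
      rcases hb with rfl | rfl
      exacts [⟨_, Or.inr (Or.inr (Or.inl rfl)), hz⟩, ⟨_, Or.inr (Or.inr (Or.inr rfl)), by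
        rwa [← mul_assoc eT, f_tt, one_mul] at h1⟩]
    obtain ⟨v, hv, h2⟩ := h2
    rcases y_cT q5 (T.comm_iff.1 (hq ▸ hu ▸ comm_conj c (W.div W').1)) with rfl | rfl | rfl | rfl
    exacts [⟨1, Or.inl rfl, by rw [T.f_one]; group⟩, ⟨_, Or.inr (Or.inl rfl), hu⟩, ⟨v, hv, h2⟩,
      ⟨_, InV.mul (Or.inr (Or.inl rfl)) hv, T.tr_mul' hu h2⟩]
  have cw : T.f eC0 * (s * s * T.f eZ * s⁻¹) = s * s * T.f eZ * s⁻¹ * T.f eC0 := by
    rw [mul_inv_eq_iff_eq_mul.1 (conj_cancel c (hq.trans e.symm))]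
    exact Commute.mul_right (T.comm_iff.2 (hv.comm f_c0z).symm) (hw8 _ m8_eC0).symm
  have zk : T.f eZ * T.f (eK * eU) * (T.f eZ * T.f (eK * eU)) = T.f eU := by
    rw [← T.mul, ← T.mul, ← cU, ← mul_assoc eZ eU, uz_comm, mul_assoc eU, mul_assoc eU,
      ← mul_assoc (eZ * eK), ← cU, mul_assoc eU, ← mul_assoc eU, f_uu, one_mul, mul_assoc, f_zk2]
  rw [sq]
  refine wrong_sign (z := T.f eZ) (k := T.f (eK * eU)) (c := T.f eC0) (by rw [← T.mul, f_zz, T.f_one])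
    (by rw [← T.mul, mul_assoc, ← mul_assoc eU, cU, mul_assoc, f_uu, mul_one, f_kk, T.f_one])
    (by rw [← T.mul, f_c0c0, T.f_one]) (by rw [zk, ← T.mul, f_uu, T.f_one]) (T.comm_iff.2 f_c0z)
    (T.comm_iff.2 (Commute.mul_right f_c0k (cU _).symm)) s5 ?_ zs ?_ cw ?_
  · rw [zk]
    exact one (by rw [← conj_mul, ← conj_mul, hu, ha, ← T.mul, ← T.mul, mul_assoc, ai])
  · have e1 : T.f eN * s * (T.f eN)⁻¹ = s :=
      conj_of_mul (hs _ (mem_St1 (fix0 1317039904 (by decide)))).symm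
    rw [← conj_of_mul (f_nz.trans (mul_assoc _ _ _).symm), ← T.conj, ← e1, conj_mul, conj_pow, zs]
    group
  · have e1 : T.f eC0 * T.f (eK * eU) * T.f eZ =
        T.f eX * T.f (eXi * (eC0 * (eK * (eU * eZ)))) := by
      rw [← T.mul, ← T.mul, ← T.mul, eX_eq, eXi_eq]; congr 1; group
    have e2 := hs _ (mem_St1 fix0x)
    have e3 : s * T.f eX = T.f eX * (s * s) := by
      rw [eq_comm, ← mul_inv_eq_iff_eq_mul, ← sq, ← conj_pow, h, ← pow_mul, s6]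
    rw [e1, ← mul_assoc, e3, mul_assoc, mul_assoc s, e2, ← mul_assoc s, e2, mul_assoc, mul_assoc]

/-- The embedding of `K` extends to an embedding of the Harada–Norton group. -/
theorem exists_embed [Finite Γ] : ∃ E : G →* Γ, Function.Injective E ∧ ∀ k, E (φ k) = T.f k := by
  obtain ⟨s, hs, s5, s1, hx, hz⟩ := T.exists_s
  obtain ⟨E, hE⟩ := Cfsg.Agent.H44.HN.exists_hom (satRm_of (g0_sat.map T.F) s5 (eX_eq ▸ hx)
    (hs _ (L1 ▸ eY_eq ▸ y_St1)) (eZ_eq ▸ hz))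
  have := simple_G
  refine ⟨E, E.ker_eq_bot_iff.1 (E.normal_ker.eq_bot_or_eq_top.resolve_right fun h =>
    s1 ((hE 6 (by decide)).symm.trans (h.ge (mem_top t)))), fun k => ?_⟩
  refine (gen_le (K := (E.comp φ).eqLocus T.F)).2 (fun x h1 h2 => ?_) (gen_g0.ge (mem_top k))
  change E (φ (g0 x)) = _
  rw [φ_g0 x h1 h2, hE x ⟨h1, by omega⟩, if_pos h2]

end Cx

/-- Piece P4: an embedding of `K` with index at most two into the centraliser extends to `HN`. -/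
theorem fin4 {Γ : Type*} [Group Γ] [Finite Γ] (f : K →* Γ) (inj : Function.Injective f)
    (idx : ∀ g h, g * f eU = f eU * g → h * f eU = f eU * h →
      (∃ a, f a = g) ∨ (∃ a, f a = h) ∨ ∃ a, f a = g * h)
    (dd : ∀ g, g * f eU = f eU * g → IsConj g (f eU) → ∃ a, f a = g)
    (cz : ∀ g, g * f eU = f eU * g → (∀ a ∈ St 1, g * f a = f a * g) →
      g = 1 ∨ g = f eU ∨ g * g = f eU)
    (fz : IsConj (f eZ) (f eU)) (nut : ¬ IsConj (f (eU * eT)) (f eU))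
    (hw : ∃ w, (w * f eU * w⁻¹ = f eZ ∧ w * f eZ * w⁻¹ = f (eU * eZ)) ∧
      (∀ s ∈ T8, w * f s = f s * w) ∧ w * (w * w) = 1) :
    ∃ E : G →* Γ, Function.Injective E ∧ ∀ k, E (φ k) = f k :=
  Cx.exists_embed ⟨f, inj, idx, dd, cz, fz, nut, hw⟩

end Cfsg.Agent.H59.Fin4
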