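import Mathlib
import Cfsg.Agent.H34.UKit0
import Cfsg.Agent.H15.SLHat2

/-! The doubled transvection groups of a unitary group (project UM, piece H1), first part. -/

set_option autoImplicit false
set_option linter.unusedSectionVars false
set_option linter.style.haveILetI false

namespace Cfsg.Agent.H59.UHat

open Cfsg Cfsg.Agent.H63 Cfsg.Agent.H63.SL Cfsg.Agent.H34 Cfsg.Agent.H34.TW Cfsg.Agent.H34.UM
  Cfsg.Agent.H31 Subgroup Module
open Cfsg.Agent.H27.End (mem_C mem_C1 comm_of_C eq_one_of_is2 is2_of_sq)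
open Cfsg.Agent.H15.SLHat (conj_of_comm comm_conj eq_one_of_odd)
open scoped commutatorElement

universe u v

variable {F E V : Type v} [Field F] [Field E] [AddCommGroup V] [Module E V] [Finite F] [Finite E]
  [Finite V] [FiniteDimensional E V] {i : F →+* E} {σ : E ≃+* E}
  {B : V →ₛₗ[(σ : E →+* E)] V →ₗ[E] E} {G : Type u} [Group G] [Finite G] {φ : sisom B →* G}
  {L : Subgroup G} {t : G}

variable (i φ L) in
/-- `g` centralizes `Y_v`. -/
def CY (v : V) (g : G) : Prop := ∀ y ∈ L, (∀ a, Commute y (TT i φ v a)) → Is2 y → Commute g y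

theorem mem_CY {v : V} {g : G} : g ∈ C[YZ L (ZV i φ v)] ↔ CY i φ L v g := by
  have k : ∀ y, y ∈ C[ZV i φ v] ↔ ∀ a, Commute y (TT i φ v a) := fun y => by
    rw [ZV, centralizer_closure, mem_centralizer_iff]
    exact ⟨fun h a => (h _ ⟨a, rfl⟩).symm, by rintro h _ ⟨a, rfl⟩; exact (h a).symm⟩
  rw [YZ, centralizer_closure, mem_centralizer_iff]
  exact ⟨fun h y h1 h2 h3 => (h y ⟨h1, (k y).2 h2, h3⟩).symm,
    fun h y hy => (h y hy.1 ((k y).1 hy.2.1) hy.2.2).symm⟩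

variable (i φ L t) in
/-- `g` centralizes `Y_v` and moves `t` to `t T_v(a)`. -/
def D (v : V) (g : G) (a : F) : Prop := CY i φ L v g ∧ g * t * g⁻¹ = t * TT i φ v a

variable (i φ t) in
/-- The same for a totally isotropic subspace. -/
def DS (S : Submodule E V) (g α : G) : Prop :=
  g ∈ C[RS φ S] ∧ g ∈ C[AS i φ S] ∧ α ∈ AS i φ S ∧ g * t * g⁻¹ = t * α

variable (i φ L t) in
/-- The `2`-elements. -/
def P (v : V) (g : G) (a : F) : Prop := D i φ L t v g a ∧ ∃ b, g * g = TT i φ v b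

variable (i φ L t) in
/-- Membership in the doubled group. -/
def Ht (c : F) (v : V) (g : G) (a : F) : Prop :=
  D i φ L t v g a ∧ g * g = TT i φ v (c * a) ∧ ∀ b, g ≠ t * TT i φ v b

theorem Ht.p {c : F} {v : V} {g : G} {a : F} (h : Ht i φ L t c v g a) : P i φ L t v g a :=
  ⟨h.1, _, h.2.1⟩

theorem mem_hat {c : F} {v : V} {g : G} : g ∈ HatC i φ L t c v ↔ ∃ a, Ht i φ L t c v g a :=
  ⟨fun ⟨h1, ⟨a, h2, h3⟩, h4⟩ => ⟨a, ⟨mem_CY.1 h1, h2⟩, h3, fun b e => h4 ⟨b, e⟩⟩,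
    fun ⟨a, h1, h2, h3⟩ => ⟨mem_CY.2 h1.1, ⟨a, h1.2, h2⟩, fun ⟨b, e⟩ => h3 b e⟩⟩

variable (L t) in
/-- Elements of odd order of `C(L) ∩ C(t)`. -/
def K0 (k : G) : Prop := k ∈ C[L] ∧ Commute k t ∧ Odd (orderOf k)

variable (i φ L) in
/-- `g` moves the transvection group of `v` to that of `w`. -/
def Mv (g : G) (v w : V) (n : F) : Prop :=
  g ∈ L ∧ n ≠ 0 ∧ ∀ a, g * TT i φ v a * g⁻¹ = TT i φ w (n * a)

theorem Mv.inv {g : G} {v w : V} {n : F} (h : Mv i φ L g v w n) : Mv i φ L g⁻¹ w v n⁻¹ :=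
  ⟨inv_mem h.1, inv_ne_zero h.2.1, fun a => by
    have := h.2.2 (n⁻¹ * a)
    rw [mul_inv_cancel_left₀ h.2.1] at this
    rw [← this]; group⟩

theorem Mv.pow {g : G} {v : V} {n : F} (h : Mv i φ L g v v n) (k : ℕ) :
    Mv i φ L (g ^ k) v v (n ^ k) := by
  refine ⟨pow_mem h.1 k, pow_ne_zero k h.2.1, fun a => ?_⟩
  induction k with
  | zero => simp
  | succ k ih => rw [pow_succ', pow_succ', mul_assoc n, ← h.2.2, ← ih]; group

theorem Mv.cy {g : G} {v w : V} {n : F} (h : Mv i φ L g v w n) {p : G} (hp : CY i φ L v p) :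
    CY i φ L w (g * p * g⁻¹) := fun y hy hc h2 => by
  refine comm_conj (hp _ (mul_mem (mul_mem (inv_mem h.1) hy) h.1) (fun a => ?_)
    (by simpa using H27.End.Is2.conj h2 g⁻¹))
  have := comm_conj (g := g⁻¹) (a := y) (b := TT i φ v a) (by rw [inv_inv, h.2.2]; exact hc _)
  rwa [inv_inv] at this

/-- The standing hypotheses. -/
structure St (i : F →+* E) (φ : sisom B →* G) (L : Subgroup G) (t : G) : Prop where
  c : UCtx i φ L
  ka : KitA i φ L
  tc : Tc L t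
  r2 : R2 L t

namespace St

variable (h : St i φ L t)
include h

theorem tL {l : G} (hl : l ∈ L) : Commute l t := (comm_of_C h.tc.tc hl).symm

theorem tt : t * t = 1 := by rw [← pow_two, ← h.tc.t2, pow_orderOf_eq_one]

theorem t_inv : t⁻¹ = t := inv_eq_of_mul_eq_one_right h.tt

theorem t_not : t ∉ L := fun ht => by
  have := h.c.zodd t ⟨ht, h.tc.tc⟩
  rw [h.tc.t2] at this
  exact absurd this (by decide)

theorem addF (a : F) : a + a = 0 := by rw [← two_mul, h.c.qf.twoF, zero_mul]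

theorem tx {v : V} (hv : B v v = 0) (a : F) : Commute (TT i φ v a) t := h.tL (h.c.TT_mem hv a)

theorem T_inv {v : V} (hv : B v v = 0) (a : F) : (TT i φ v a)⁻¹ = TT i φ v a :=
  inv_eq_of_mul_eq_one_right (h.c.TT_sq hv a)

theorem T_inj {v : V} (hv : Pt B v) {a b : F} (e : TT i φ v a = TT i φ v b) : a = b := by
  have := h.c.TT_eq_one hv (a := a + b) (by rw [h.c.TT_add hv.1, e, h.c.TT_sq hv.1])
  linear_combination this - h.addF b

theorem L_ne {g g' : G} (hg : g ∈ L) (hg' : g' ∈ L) : g ≠ t * g' := fun e =>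
  h.t_not (by simpa [e] using L.mul_mem hg (L.inv_mem hg'))

theorem mv_of {s : sisom B} {v w : V} (hv : B v v = 0) {d : E} {n : F} (hn : i n = d * σ d)
    (n0 : n ≠ 0) (e : s.1 v = d • w) : Mv i φ L (φ s) v w n :=
  ⟨h.c.mem s, n0, fun a => by rw [h.c.TT_conj s hv, e, UCtx.TT_smul w hn]⟩

theorem mv_one {s : sisom B} {v w : V} (hv : B v v = 0) (e : s.1 v = w) : Mv i φ L (φ s) v w 1 :=
  h.mv_of hv (d := 1) (by simp) one_ne_zero (by rw [e, one_smul])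

theorem exists_mv {v w : V} (hv : Pt B v) (hw : Pt B w) {n : F} (hn : n ≠ 0) :
    ∃ g, Mv i φ L g v w n := by
  obtain ⟨d, hd⟩ := h.c.qf.norm_surj n
  have d0 : d ≠ 0 := by rintro rfl; exact hn (i.injective (by simpa using hd.symm))
  obtain ⟨s, hs⟩ := h.c.trans hv (hw.smul d0)
  exact ⟨_, h.mv_of hv.1 hd.symm hn hs⟩

theorem cy_T {v x : V} {g : G} (hg : CY i φ L v g) (hv : B v v = 0) (hx : B x x = 0)
    (e : B v x = 0) (a : F) : Commute g (TT i φ x a) :=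
  hg _ (h.c.TT_mem hx a) (fun b => h.c.TT_comm hx hv (h.c.flip e) a b) (is2_of_sq (h.c.TT_sq hx a))

theorem cy_self {v : V} {g : G} (hg : CY i φ L v g) (hv : B v v = 0) (a : F) :
    Commute g (TT i φ v a) := h.cy_T hg hv hv hv a

omit h in
theorem cy_x (v : V) (a : F) : CY i φ L v (TT i φ v a) := fun _ _ hc _ => (hc a).symm

omit h in
theorem cy_K {k : G} (hk : k ∈ C[L]) (v : V) : CY i φ L v k := fun _ hy _ _ => comm_of_C hk hy

theorem cy_RS {v : V} {g : G} (hg : CY i φ L v g) (hv : B v v = 0) {S : Submodule E V}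
    (hS : v ∈ S) : g ∈ C[RS φ S] := mem_C (by
  rintro _ ⟨s, ⟨h1, h2⟩, rfl⟩
  refine hg _ (h.c.mem s) (fun a => ?_) ⟨2, ?_⟩
  · have := h.c.TT_conj s hv a
    rw [h1 v hS] at this
    exact mul_inv_eq_iff_eq_mul.1 this
  · have k : ∀ x, ∃ z ∈ S, s.1 (s.1 x) = x + z := fun x => by
      have h3 : s.1 x - x ∈ perp B S := fun y hy => by
        rw [map_sub, ← iso_map s y x, h1 y hy, sub_self]
      refine ⟨_, h2 _ h3, ?_⟩
      rw [map_sub]
      linear_combination (norm := module) h.c.add_self (s.1 x - x)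
    rw [← map_pow, show s ^ 2 ^ 2 = 1 from s_ext fun x => ?_, map_one]
    obtain ⟨z, hz, e⟩ := k x
    change s.1 (s.1 (s.1 (s.1 x))) = x
    rw [e, map_add, map_add, e, h1 z hz, h1 z hz, add_assoc, h.c.add_self, add_zero])

theorem cy_AS {v : V} {g : G} (hg : CY i φ L v g) {S : Submodule E V} (hT : TotIso B S)
    (hS : v ∈ S) : g ∈ C[AS i φ S] := by
  rw [AS, centralizer_closure, mem_centralizer_iff]
  rintro _ ⟨x, hx, a, rfl⟩
  exact (h.cy_T hg (hT v hS v hS) (hT x hx x hx) (hT v hS x hx) a).symm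

theorem AS_le {S : Submodule E V} (hT : TotIso B S) : AS i φ S ≤ L := (closure_le _).2 (by
  rintro _ ⟨x, hx, a, rfl⟩
  exact h.c.TT_mem (hT x hx x hx) a)

theorem AS_sq {S : Submodule E V} (hT : TotIso B S) {α : G} (hα : α ∈ AS i φ S) : α * α = 1 := by
  have k : AS i φ S ≤ C[AS i φ S] := (closure_le _).2 (by
    rintro _ ⟨x, hx, a, rfl⟩
    exact h.cy_AS (cy_x x a) hT hx)
  induction hα using closure_induction with
  | mem g hg =>
    obtain ⟨x, hx, a, rfl⟩ := hg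
    exact h.c.TT_sq (hT x hx x hx) a
  | one => exact mul_one 1
  | mul a b ha hb h1 h2 =>
    rw [← pow_two, (comm_of_C (k ha) hb).mul_pow, pow_two, pow_two, h1, h2, mul_one]
  | inv a _ h1 => rw [← mul_inv_rev, h1, inv_one]

theorem ds_of {v : V} {g : G} {a : F} (hg : D i φ L t v g a) {S : Submodule E V} (hT : TotIso B S)
    (hS : v ∈ S) : DS i φ t S g (TT i φ v a) :=
  ⟨h.cy_RS hg.1 (hT v hS v hS) hS, h.cy_AS hg.1 hT hS, TT_mem_AS hS a, hg.2⟩

omit h in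
theorem DS_mul {S : Submodule E V} {g g' α α' : G} (h1 : DS i φ t S g α) (h2 : DS i φ t S g' α') :
    DS i φ t S (g * g') (α * α') := by
  refine ⟨mul_mem h1.1 h2.1, mul_mem h1.2.1 h2.2.1, mul_mem h1.2.2.1 h2.2.2.1, ?_⟩
  calc g * g' * t * (g * g')⁻¹ = g * (g' * t * g'⁻¹) * g⁻¹ := by group
    _ = g * t * g⁻¹ * (g * α' * g⁻¹) := by rw [h2.2.2.2]; group
    _ = _ := by rw [h1.2.2.2, conj_of_comm (comm_of_C h1.2.1 h2.2.2.1), mul_assoc]

theorem DS_inv {S : Submodule E V} (hT : TotIso B S) {g α : G} (h1 : DS i φ t S g α) :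
    DS i φ t S g⁻¹ α := by
  refine ⟨inv_mem h1.1, inv_mem h1.2.1, h1.2.2.1, ?_⟩
  have h2 : g * (t * α) * g⁻¹ = t := by
    calc g * (t * α) * g⁻¹ = g * t * g⁻¹ * (g * α * g⁻¹) := by group
      _ = _ := by
        rw [h1.2.2.2, conj_of_comm (comm_of_C h1.2.1 h1.2.2.1), mul_assoc, h.AS_sq hT h1.2.2.1,
          mul_one]
  conv_lhs => rw [← h2]
  group

theorem DS_ker {S : Submodule E V} (hT : TotIso B S) (h0 : S ≠ ⊥) {g : G} (h1 : DS i φ t S g 1) :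
    ∃ α ∈ AS i φ S, ∃ k ∈ C[L], Commute k t ∧ g = α * k := by
  have hc : Commute g t := by
    have := h1.2.2.2
    rwa [mul_one, mul_inv_eq_iff_eq_mul] at this
  have h2 := h.ka.fs S hT h0 g ⟨h.tc.cN (mem_C1.2 hc), h1.1⟩
  have h3 : AS i φ S ≤ N[C[L]] := fun a ha => centralizer_le_normalizer _ fun z hz =>
    (comm_of_C hz (h.AS_le hT ha)).eq
  obtain ⟨a, ha, z, hz, e⟩ := (coe_mul_of_left_le_normalizer_right _ C[L] h3).subset h2
  obtain rfl : a * z = g := e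
  exact ⟨a, ha, z, hz, by simpa using (h.tL (h.AS_le hT ha)).inv_left.mul_left hc, rfl⟩

theorem D_x {v : V} (hv : B v v = 0) (a : F) : D i φ L t v (TT i φ v a) 0 :=
  ⟨cy_x v a, by rw [conj_of_comm (h.tx hv a), UCtx.TT_zero, mul_one]⟩

omit h in
theorem D_K {k : G} (hk : k ∈ C[L]) (hc : Commute k t) (v : V) : D i φ L t v k 0 :=
  ⟨cy_K hk v, by rw [conj_of_comm hc, UCtx.TT_zero, mul_one]⟩

theorem D_mul {v : V} (hv : B v v = 0) {g g' : G} {a a' : F} (h1 : D i φ L t v g a)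
    (h2 : D i φ L t v g' a') : D i φ L t v (g * g') (a + a') := by
  refine ⟨fun y hy hc h3 => (h1.1 y hy hc h3).mul_left (h2.1 y hy hc h3), ?_⟩
  calc g * g' * t * (g * g')⁻¹ = g * (g' * t * g'⁻¹) * g⁻¹ := by group
    _ = g * t * g⁻¹ * (g * TT i φ v a' * g⁻¹) := by rw [h2.2]; group
    _ = _ := by rw [h1.2, conj_of_comm (h.cy_self h1.1 hv a'), h.c.TT_add hv, mul_assoc]

theorem D_inv {v : V} (hv : B v v = 0) {g : G} {a : F} (h1 : D i φ L t v g a) :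
    D i φ L t v g⁻¹ a := by
  refine ⟨fun y hy hc h3 => (h1.1 y hy hc h3).inv_left, ?_⟩
  have h2 : g * (t * TT i φ v a) * g⁻¹ = t := by
    calc g * (t * TT i φ v a) * g⁻¹ = g * t * g⁻¹ * (g * TT i φ v a * g⁻¹) := by group
      _ = _ := by rw [h1.2, conj_of_comm (h.cy_self h1.1 hv a), mul_assoc, h.c.TT_sq hv, mul_one]
  conv_lhs => rw [← h2]
  group

theorem D_uniq {v : V} (hv : Pt B v) {g : G} {a a' : F} (h1 : D i φ L t v g a)
    (h2 : D i φ L t v g a') : a = a' := h.T_inj hv (mul_left_cancel (h1.2.symm.trans h2.2))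

omit h in
theorem D_comm {v : V} {g : G} (h1 : D i φ L t v g 0) : Commute g t := by
  have := h1.2
  rwa [UCtx.TT_zero, mul_one, mul_inv_eq_iff_eq_mul] at this

theorem D_ker {v : V} (hv : Pt B v) {g : G} (h1 : D i φ L t v g 0) :
    ∃ b, ∃ k ∈ C[L], Commute k t ∧ g = TT i φ v b * k := by
  obtain ⟨b, k, hk, rfl⟩ := h.c.cQ h.ka hv (h.tc.cN (mem_C1.2 (D_comm h1)))
    (h.cy_RS h1.1 hv.1 (Submodule.mem_span_singleton_self v))
  exact ⟨b, k, hk, by simpa using (h.tx hv.1 b).inv_left.mul_left (D_comm h1), rfl⟩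

theorem D_mv {g : G} {v w : V} {n : F} (hg : Mv i φ L g v w n) {p : G} {a : F}
    (hp : D i φ L t v p a) : D i φ L t w (g * p * g⁻¹) (n * a) := by
  refine ⟨hg.cy hp.1, ?_⟩
  calc g * p * g⁻¹ * t * (g * p * g⁻¹)⁻¹ = g * (p * (g⁻¹ * t * g⁻¹⁻¹) * p⁻¹) * g⁻¹ := by group
    _ = g * t * g⁻¹ * (g * TT i φ v a * g⁻¹) := by
      rw [conj_of_comm (h.tL (inv_mem hg.1)), hp.2]; group
    _ = _ := by rw [conj_of_comm (h.tL hg.1), hg.2.2]

theorem P_mv {g : G} {v w : V} {n : F} (hg : Mv i φ L g v w n) {p : G} {a : F}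
    (hp : P i φ L t v p a) : P i φ L t w (g * p * g⁻¹) (n * a) := by
  obtain ⟨h1, b, h2⟩ := hp
  exact ⟨h.D_mv hg h1, n * b, by rw [← hg.2.2, ← h2]; group⟩

theorem Ht_mv {g : G} {v w : V} {n : F} (hg : Mv i φ L g v w n) {c : F} {p : G} {a : F}
    (hp : Ht i φ L t c v p a) : Ht i φ L t c w (g * p * g⁻¹) (n * a) := by
  refine ⟨h.D_mv hg hp.1, by rw [mul_left_comm, ← hg.2.2, ← hp.2.1]; group,
    fun b e => hp.2.2 (n⁻¹ * b) ?_⟩
  rw [← hg.inv.2.2, ← conj_of_comm (h.tL (inv_mem hg.1))]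
  calc p = g⁻¹ * (g * p * g⁻¹) * g := by group
    _ = _ := by rw [e]; group

theorem K_dec {k : G} (hk : k ∈ C[L]) (hkt : Commute k t) :
    ∃ k0, K0 L t k0 ∧ (k = k0 ∨ k = t * k0) := by
  haveI : Fact (Nat.Prime 2) := ⟨Nat.prime_two⟩
  obtain ⟨a, b, ⟨m, rfl⟩, ⟨n, rfl⟩, e, ha, hb⟩ := H83.exists_p_parts (p := 2) k
  refine ⟨_, ⟨zpow_mem hk n, hkt.zpow_left n, Nat.coprime_two_right.1 hb⟩, ?_⟩
  rcases h.r2 _ (zpow_mem hk m) (hkt.zpow_left m) ha with e' | e'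
  · left; simpa [e'] using e
  · right; simpa [e'] using e

theorem conj_odd {v : V} (hv : Pt B v) {p : G} {a : F} (hp : D i φ L t v p a) {k : G}
    (hk : K0 L t k) : p * k * p⁻¹ ∈ C[L] := by
  have h1 := h.D_mul hv.1 (h.D_mul hv.1 hp (D_K hk.1 hk.2.1 v)) (h.D_inv hv.1 hp)
  rw [add_zero, h.addF] at h1
  obtain ⟨c, k', hk', -, e⟩ := h.D_ker hv h1
  have h2 : Commute (TT i φ v c) k' := hk' _ (h.c.TT_mem hv.1 c)
  have h3 : (TT i φ v c * k') ^ orderOf k = 1 := by rw [← e, conj_pow, pow_orderOf_eq_one]; group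
  obtain ⟨m, hm⟩ := hk.2.2
  rw [h2.mul_pow, hm, pow_succ, pow_mul, pow_two, h.c.TT_sq hv.1, one_pow, one_mul,
    mul_eq_one_iff_eq_inv] at h3
  rw [e, h3]
  exact mul_mem (inv_mem (pow_mem hk' _)) hk'

theorem five {e e' : V} (he : B e e = 0) (he' : B e' e' = 0) (h0 : B e e' = 0) {ω : E}
    (hω : σ ω = ω + 1) (a : F) : TT i φ e a = TT i φ (e + ω • e') a * TT i φ (e + σ ω • e') a *
      (TT i φ (e + e') a * TT i φ e' a) := by
  have k : ∀ d : E, B (e + d • e') (e + d • e') = 0 := fun d =>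
    h.c.iso_add he (isotropic_smul he' d) (by rw [sm_right, h0, mul_zero])
  obtain ⟨s1, h1, e1⟩ := h.c.tt (k ω) a
  obtain ⟨s2, h2, e2⟩ := h.c.tt (k (σ ω)) a
  obtain ⟨s3, h3, e3⟩ := h.c.tt (h.c.iso_add he he' h0) a
  obtain ⟨s4, h4, e4⟩ := h.c.tt he' a
  rw [← e1, ← e2, ← e3, ← e4, ← map_mul, ← map_mul, ← map_mul]
  refine el_eq _ fun x => ?_
  rw [mul_app, mul_app, mul_app, h1, h2, h3, h4]
  simp only [map_add, map_smul, LinearMap.add_apply, he, he', h0, h.c.flip h0, smul_eq_mul,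
    mul_zero, add_zero, sm_left, h.c.qf.sq]
  rw [hω]
  linear_combination (norm := module) h.c.add_self ((i a * (B e x + (1 + ω) * B e' x)) • e +
    (i a * ((1 + ω * (ω + 1)) * B e' x + (1 + ω) * B e x)) • e')

omit h in
theorem K0.conj {k k' : G} (hk : k ∈ C[L]) (hkt : Commute k t) (h' : K0 L t k') :
    K0 L t (k * k' * k⁻¹) :=
  ⟨mul_mem (mul_mem hk h'.1) (inv_mem hk), (hkt.mul_left h'.2.1).mul_left hkt.inv_left, by
    rw [← MulAut.conj_apply, MulEquiv.orderOf_eq]; exact h'.2.2⟩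

theorem totIso_pair {e e' : V} (he : B e e = 0) (he' : B e' e' = 0) (h0 : B e e' = 0) :
    TotIso B (Submodule.span E {e, e'}) := fun x hx y hy => by
  obtain ⟨a, b, rfl⟩ := Submodule.mem_span_pair.1 hx
  obtain ⟨a', b', rfl⟩ := Submodule.mem_span_pair.1 hy
  simp [he, he', h0, h.c.flip h0]

/-- The action on the elements of odd order is inner. -/
theorem act_odd {v : V} (hv : Pt B v) {p : G} {a : F} (hp : D i φ L t v p a) :
    ∃ k0, K0 L t k0 ∧ ∀ k, K0 L t k → p * k * p⁻¹ = k0 * k * k0⁻¹ := by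
  obtain ⟨f, hf, hvf⟩ := h.c.hyp hv
  obtain ⟨e', f', fr⟩ := h.c.exists_fr2 hv.1 hf hvf
  obtain ⟨ω, hω⟩ := h.c.qf.tr
  have hT := h.totIso_pair hv.1 fr.ee' fr.o1
  have m1 : v ∈ Submodule.span E {v, e'} := Submodule.subset_span (by simp)
  have m2 : e' ∈ Submodule.span E {v, e'} := Submodule.subset_span (by simp)
  have k1 : ∀ x ∈ Submodule.span E {v, e'}, x ≠ 0 → ∃ q, DS i φ t (Submodule.span E {v, e'}) q
      (TT i φ x a) ∧ ∀ k, K0 L t k → q * k * q⁻¹ = p * k * p⁻¹ := fun x hx x0 => by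
    obtain ⟨g, hg⟩ := h.exists_mv hv ⟨hT x hx x hx, x0⟩ one_ne_zero
    have := h.D_mv hg hp
    rw [one_mul] at this
    refine ⟨_, h.ds_of this hT hx, fun k hk => ?_⟩
    calc _ = g * (p * (g⁻¹ * k * g⁻¹⁻¹) * p⁻¹) * g⁻¹ := by group
      _ = _ := by
        rw [conj_of_comm (comm_of_C hk.1 (inv_mem hg.1)).symm,
          conj_of_comm (comm_of_C (h.conj_odd hv hp hk) hg.1).symm]
  have k2 : ∀ d : E, v + d • e' ≠ 0 := fun d e => by
    have := congrArg (B f) e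
    simp [h.c.flip1 hvf, fr.o3] at this
  obtain ⟨q1, a1, b1⟩ := k1 _ (add_mem m1 (Submodule.smul_mem _ ω m2)) (k2 ω)
  obtain ⟨q2, a2, b2⟩ := k1 _ (add_mem m1 (Submodule.smul_mem _ (σ ω) m2)) (k2 _)
  obtain ⟨q3, a3, b3⟩ := k1 _ (add_mem m1 m2) (by simpa using k2 1)
  obtain ⟨q4, a4, b4⟩ := k1 _ m2 (fun e => by simpa [e] using fr.ef')
  have a5 := DS_mul (DS_mul (h.DS_inv hT a1) a2) (DS_mul (h.DS_inv hT a3) a4)
  rw [← h.five hv.1 fr.ee' fr.o1 hω] at a5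
  have b5 : ∀ k, K0 L t k → Commute (q1⁻¹ * q2 * (q3⁻¹ * q4)) k := fun k hk => by
    have c : ∀ {q q' : G}, q * k * q⁻¹ = q' * k * q'⁻¹ → Commute (q⁻¹ * q') k := fun {q q'} e => by
      refine mul_inv_eq_iff_eq_mul.1 ?_
      calc _ = q⁻¹ * (q' * k * q'⁻¹) * q := by group
        _ = k := by rw [← e]; group
    exact (c ((b1 k hk).trans (b2 k hk).symm)).mul_left (c ((b3 k hk).trans (b4 k hk).symm))
  generalize q1⁻¹ * q2 * (q3⁻¹ * q4) = u at a5 b5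
  have a6 := DS_mul (h.DS_inv hT a5) (h.ds_of hp hT m1)
  rw [h.c.TT_sq hv.1] at a6
  obtain ⟨α, hα, k1, hk1, hk1t, e⟩ := h.DS_ker hT (fun e => hv.2 (by simpa [e] using m1)) a6
  rw [inv_mul_eq_iff_eq_mul] at e
  obtain ⟨k0, hk0, e'⟩ := h.K_dec hk1 hk1t
  refine ⟨k0, hk0, fun k hk => ?_⟩
  have e2 : k1 * k * k1⁻¹ = k0 * k * k0⁻¹ := by
    rcases e' with rfl | rfl
    · rfl
    · calc _ = t * (k0 * k * k0⁻¹) * t⁻¹ := by group
        _ = _ := conj_of_comm (K0.conj hk0.1 hk0.2.1 hk).2.1.symm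
  have hk' := K0.conj hk0.1 hk0.2.1 hk
  calc p * k * p⁻¹ = u * (α * (k1 * k * k1⁻¹) * α⁻¹) * u⁻¹ := by rw [e]; group
    _ = _ := by
      rw [e2, conj_of_comm (comm_of_C hk'.1 (h.AS_le hT hα)).symm, conj_of_comm (b5 _ hk')]

theorem P_odd {v : V} (hv : Pt B v) {p : G} {a : F} (hp : P i φ L t v p a) {k : G}
    (hk : K0 L t k) : Commute p k := by
  obtain ⟨k0, hk0, e⟩ := h.act_odd hv hp.1
  obtain ⟨b, hb⟩ := hp.2
  have h1 : k0 ^ 2 ∈ C1[k] := by
    rw [mem_centralizer_singleton_iff, ← mul_inv_eq_iff_eq_mul]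
    calc _ = k0 * (k0 * k * k0⁻¹) * k0⁻¹ := by rw [pow_two]; group
      _ = p * (p * k * p⁻¹) * p⁻¹ := by rw [← e _ (K0.conj hk0.1 hk0.2.1 hk), e k hk]
      _ = (p * p) * k * (p * p)⁻¹ := by group
      _ = k := by rw [hb, conj_of_comm (comm_of_C hk.1 (h.c.TT_mem hv.1 b)).symm]
  have h2 := mem_C1.1 (H83.mem_of_pow_mem_of_coprime h1 (Nat.coprime_two_right.2 hk0.2.2))
  exact mul_inv_eq_iff_eq_mul.1 ((e k hk).trans (conj_of_comm h2))

end St

end Cfsg.Agent.H59.UHat
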