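import Mathlib
import Cfsg.Agent.H59.UHatB

/-! The doubled transvection groups of a unitary group (project UM, piece H1), last part. -/

set_option autoImplicit false
set_option linter.unusedSectionVars false
set_option linter.style.haveILetI false

namespace Cfsg.Agent.H59.UHat

open Cfsg Cfsg.Agent.H63 Cfsg.Agent.H63.SL Cfsg.Agent.H34 Cfsg.Agent.H34.TW Cfsg.Agent.H34.UM
  Cfsg.Agent.H31 Subgroup Module
open Cfsg.Agent.H27.End (mem_C mem_C1 comm_of_C eq_one_of_is2 is2_of_sq)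
open Cfsg.Agent.H15.SLHat (conj_of_comm comm_conj eq_one_of_odd)
open scoped commutatorElement

universe u v

variable {F E V : Type v} [Field F] [Field E] [AddCommGroup V] [Module E V] [Finite F] [Finite E]
  [Finite V] [FiniteDimensional E V] {i : F →+* E} {σ : E ≃+* E}
  {B : V →ₛₗ[(σ : E →+* E)] V →ₗ[E] E} {G : Type u} [Group G] [Finite G] {φ : sisom B →* G}
  {L : Subgroup G} {t : G}

theorem comm_mul {p p' z z' : G} (h1 : Commute z (p' * z')) (h2 : Commute z' p) :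
    ⁅p * z, p' * z'⁆ = ⁅p, p'⁆ := by
  calc _ = p * (z * (p' * z') * z⁻¹) * p⁻¹ * (p' * z')⁻¹ := by rw [commutatorElement_def]; group
    _ = p * p' * (z' * p⁻¹ * z'⁻¹) * p'⁻¹ := by rw [conj_of_comm h1]; group
    _ = _ := by rw [conj_of_comm h2.inv_right, commutatorElement_def]

theorem fr_pt {e f e' f' : V} (fr : Fr2 B e f e' f') : Pt B e ∧ Pt B e' :=
  ⟨⟨fr.ee, fun k => by simpa [k] using fr.ef⟩, ⟨fr.ee', fun k => by simpa [k] using fr.ef'⟩⟩

variable (i φ L t) in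
/-- The squaring constant is good. -/
structure Good (c : F) : Prop where
  one : ∃ v p, Pt B v ∧ Ht i φ L t c v p 1
  mul : ∀ v, Pt B v → ∀ p p' a a', Ht i φ L t c v p a → Ht i φ L t c v p' a' →
    Ht i φ L t c v (p * p') (a + a')
  com : ∀ e f e' f', Fr2 B e f e' f' → ∀ p p' a a', Ht i φ L t c e p a → Ht i φ L t c e' p' a' →
    Commute p p'

namespace St

variable (h : St i φ L t)
include h

theorem fr_symm {e f e' f' : V} (fr : Fr2 B e f e' f') : Fr2 B e' f' e f :=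
  ⟨fr.ee', fr.ff', fr.ef', fr.ee, fr.ff, fr.ef, h.c.flip fr.o1, h.c.flip fr.o3, h.c.flip fr.o2,
    h.c.flip fr.o4⟩

theorem T_indep {e f e' f' : V} (fr : Fr2 B e f e' f') {a b : F} (e1 : TT i φ e a = TT i φ e' b) :
    a = 0 := by
  obtain ⟨s, h1, k1⟩ := h.c.tt fr.ee a
  obtain ⟨s', h2, k2⟩ := h.c.tt fr.ee' b
  have := h.c.inj2 (is2_of_sq (h.c.tt_sq fr.ee h1)) (is2_of_sq (h.c.tt_sq fr.ee' h2))
    (k1.trans (e1.trans k2.symm))
  have h3 := h1 f
  rw [this, h2, fr.ef, h.c.flip fr.o3] at h3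
  simpa [(fr_pt fr).1.2] using h3

theorem surj {c : F} (h1 : ∃ v p, Pt B v ∧ Ht i φ L t c v p 1) {v : V} (hv : Pt B v) (a : F) :
    ∃ p, Ht i φ L t c v p a := by
  obtain ⟨v0, p, hv0, hp⟩ := h1
  by_cases ha : a = 0
  · exact ⟨_, ha ▸ h.Ht_x hv c 0⟩
  obtain ⟨g, hg⟩ := h.exists_mv hv0 hv ha
  exact ⟨_, mul_one a ▸ h.Ht_mv hg hp⟩

section fr

variable {e f e' f' : V} (fr : Fr2 B e f e' f') {c : F} {p p' : G} {a a' : F}
  (hp : Ht i φ L t c e p a) (hp' : Ht i φ L t c e' p' a')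
include fr hp hp'

theorem comm_TT : ∃ α β, ⁅p, p'⁆ = TT i φ e α * TT i φ e' β := by
  obtain ⟨he, he'⟩ := fr_pt fr
  have hT := h.totIso_pair fr.ee fr.ee' fr.o1
  have m1 : e ∈ Submodule.span E {e, e'} := Submodule.subset_span (by simp)
  have m2 : e' ∈ Submodule.span E {e, e'} := Submodule.subset_span (by simp)
  obtain ⟨s, e0, h1, h2⟩ := (h.ka.as _ hT _).1 (h.comm_AS he he' hT m1 m2 hp.p hp'.p)
  obtain ⟨ε, hε, ε1⟩ := h.c.qf.exists_norm_one
  have ε0 : ε ≠ 0 := by rintro rfl; simp at hε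
  have ε2 : (σ ε)⁻¹ = ε := inv_eq_of_mul_eq_one_left hε
  obtain ⟨τ, t1, t2, t3, -, -⟩ := h.c.diag2 fr ε0 (inv_ne_zero ε0) (by simp [ε0])
  have c1 := h.Ht_cent he hp (h.mv_of he.1 (n := 1) (by rw [map_one, hε]) one_ne_zero t1)
  have c2 := h.Ht_cent he' hp' (h.mv_of he'.1 (n := 1)
    (by rw [map_one, map_inv₀, ← mul_inv, hε, inv_one]) one_ne_zero t3)
  have c3 : Commute (φ τ) ⁅p, p'⁆ := by
    rw [commutatorElement_def]
    exact ((c1.mul_right c2).mul_right c1.inv_right).mul_right c2.inv_right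
  have fx : ∀ x ∈ Submodule.span E {e, e'}, s.1 x = x := fun x hx =>
    h2 x (totIso_iff_le_perp.1 hT hx)
  have s2 : s * s = 1 := s_ext fun x => by
    have := fx _ (h1 x)
    rw [map_sub] at this
    change s.1 (s.1 x) = x
    linear_combination (norm := module) this + h.c.add_self (s.1 x - x)
  have e1 : τ * s * τ⁻¹ = s := h.c.inj2 (H27.End.Is2.conj (is2_of_sq s2) τ) (is2_of_sq s2)
    (by rw [map_mul, map_mul, map_inv, e0, conj_of_comm c3])
  obtain ⟨α, β, hf⟩ := Submodule.mem_span_pair.1 (h1 f)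
  obtain ⟨γ, δ, hf'⟩ := Submodule.mem_span_pair.1 (h1 f')
  replace hf : s.1 f = f + (α • e + β • e') := by rw [hf]; abel
  replace hf' : s.1 f' = f' + (γ • e + δ • e') := by rw [hf']; abel
  have β0 : β = 0 := by
    have := congrArg (fun s : sisom B => B f' (s.1 f)) (mul_inv_eq_iff_eq_mul.1 e1)
    simp only [mul_app, hf, t2, ε2, map_add, map_smul, t1, t3, smul_eq_mul, h.c.flip fr.o4,
      h.c.flip fr.o2, h.c.flip1 fr.ef', mul_zero, zero_add, mul_one] at this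
    have h3 : β * (ε - 1) ^ 2 = 0 := by
      field_simp at this
      linear_combination -this + (β - β * ε) * h.c.qf.two
    exact (mul_eq_zero.1 h3).resolve_right (pow_ne_zero _ (sub_ne_zero.2 ε1))
  subst β0
  have γ0 : γ = 0 := by
    have := iso_map s f f'
    simpa [hf, hf', fr.o4, h.c.flip1 fr.ef, fr.o3, fr.o2, fr.ee, fr.o1] using this
  subst γ0
  have α1 : σ α = α := by
    have := iso_map s f f
    simp only [hf, zero_smul, add_zero, map_add, LinearMap.add_apply, sm_left, sm_right, fr.ff,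
      fr.ef, fr.ee, h.c.flip1 fr.ef] at this
    linear_combination this - α * h.c.qf.two
  have δ1 : σ δ = δ := by
    have := iso_map s f' f'
    simp only [hf', zero_smul, zero_add, map_add, LinearMap.add_apply, sm_left, sm_right, fr.ff',
      fr.ef', fr.ee', h.c.flip1 fr.ef'] at this
    linear_combination this - δ * h.c.qf.two
  obtain ⟨α, rfl⟩ := (h.c.qf.fix α).1 α1
  obtain ⟨δ, rfl⟩ := (h.c.qf.fix δ).1 δ1
  obtain ⟨s1, k1, l1⟩ := h.c.tt fr.ee α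
  obtain ⟨s2, k2, l2⟩ := h.c.tt fr.ee' δ
  refine ⟨α, δ, ?_⟩
  rw [← e0, ← l1, ← l2, ← map_mul]
  refine congrArg φ (s_ext fun x => ?_)
  have := h2 (x - B e x • f - B e' x • f') (UCtx.mem_perp_pair.2
    ⟨by simp [fr.ef, fr.o2], by simp [fr.ef', h.c.flip fr.o3]⟩)
  rw [map_sub, map_sub, map_smul, map_smul, hf, hf'] at this
  rw [mul_app, k1, k2]
  simp only [map_add, map_smul, fr.o1, smul_eq_mul, mul_zero, add_zero]
  linear_combination (norm := module) this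

omit hp hp' in
theorem comm_T {q q' : G} (hq : CY i φ L e q) (hq' : CY i φ L e' q') (b b' : F) :
    ⁅q * TT i φ e b, q' * TT i φ e' b'⁆ = ⁅q, q'⁆ :=
  comm_mul ((h.cy_T hq' fr.ee' fr.ee (h.c.flip fr.o1) b).symm.mul_right
    (h.c.TT_comm fr.ee fr.ee' fr.o1 b b')) (h.cy_T hq fr.ee fr.ee' fr.o1 b').symm

theorem com_aux {x : F} (x0 : x ≠ 0) (x1 : x ≠ 1) (h1 : ∃ v p, Pt B v ∧ Ht i φ L t c v p 1)
    (hM : ∀ p p' a a', Ht i φ L t c e p a → Ht i φ L t c e p' a' →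
      Ht i φ L t c e (p * p') (a + a')) : ∃ α, ⁅p, p'⁆ = TT i φ e α := by
  obtain ⟨he, he'⟩ := fr_pt fr
  obtain ⟨s, k1, -, k3⟩ := h.c.hv fr.ee fr.ff fr.ef x0
  have m1 := h.mv_of he.1 (n := x * x) (by rw [h.c.qf.σ_i, map_mul]) (mul_ne_zero x0 x0) k1
  have m2 := h.mv_one he'.1 (k3 e' fr.o1 fr.o3)
  have n2 : 1 + x * x ≠ 0 := fun e => x1 (eq_of_sub_eq_zero (pow_eq_zero_iff two_ne_zero |>.1
    (by linear_combination e - x * h.c.qf.twoF)))
  obtain ⟨p0, hp0⟩ := h.surj h1 he (a / (1 + x * x))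
  have h2 := hM _ _ _ _ (h.Ht_inv he hp0) (h.Ht_mv m1 hp0)
  rw [show a / (1 + x * x) + x * x * (a / (1 + x * x)) = a by
    rw [← one_add_mul, mul_div_cancel₀ _ n2]] at h2
  obtain ⟨b, rfl⟩ := h.Ht_uniq he h2 hp
  obtain ⟨α, β, e1⟩ := h.comm_TT fr hp0 hp'
  have c := h.Ht_cent he' hp' m2
  have e2 := h.comm_T fr h2.1.1 hp'.1.1 b 0
  rw [UCtx.TT_zero, mul_one] at e2
  refine ⟨x * x * α + α, ?_⟩
  rw [e2]
  calc _ = p0⁻¹ * ((φ s * (p0 * ((φ s)⁻¹ * p' * (φ s)⁻¹⁻¹) * p0⁻¹ * ((φ s)⁻¹ * p' * (φ s)⁻¹⁻¹)⁻¹) *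
        (φ s)⁻¹) * ⁅p0, p'⁆⁻¹) * p0⁻¹⁻¹ := by simp only [commutatorElement_def]; group
    _ = p0⁻¹ * ((φ s * TT i φ e α * (φ s)⁻¹) * (φ s * TT i φ e' β * (φ s)⁻¹) *
        (TT i φ e' β)⁻¹ * (TT i φ e α)⁻¹) * p0⁻¹⁻¹ := by
      rw [conj_of_comm c.inv_left, ← commutatorElement_def, e1]; group
    _ = _ := by
      rw [m1.2.2, m2.2.2, one_mul, mul_inv_cancel_right, h.T_inv he.1, ← h.c.TT_add he.1,
        conj_of_comm (h.cy_self hp0.1.1 he.1 _).inv_left]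

end fr

theorem good_big {x : F} (x0 : x ≠ 0) (x1 : x ≠ 1) {v : V} (hv : Pt B v) {p0 : G}
    (hp0 : P i φ L t v p0 1) : ∃ c, Good i φ L t c := by
  obtain ⟨n, hn⟩ := IsCyclic.exists_monoid_generator (α := Fˣ)
  have h1 : ∀ a : F, a ≠ 0 → ∃ k : ℕ, a = (n : F) ^ k := fun a ha => by
    obtain ⟨k, hk⟩ := hn (Units.mk0 a ha)
    exact ⟨k, by simpa using (congrArg Units.val hk).symm⟩
  obtain ⟨c, ⟨p, hp⟩, hM⟩ := h.mul_big hv n.ne_zero (fun e => by
    obtain ⟨k, hk⟩ := h1 x x0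
    exact x1 (by rw [hk, e, one_pow])) h1 hp0
  have hM' : ∀ w, Pt B w → ∀ p p' a a', Ht i φ L t c w p a → Ht i φ L t c w p' a' →
      Ht i φ L t c w (p * p') (a + a') := fun w hw p p' a a' hp hp' => by
    obtain ⟨g, hg⟩ := h.exists_mv hw hv one_ne_zero
    have := h.Ht_mv hg.inv (hM _ _ _ _ (h.Ht_mv hg hp) (h.Ht_mv hg hp'))
    simpa [mul_assoc] using this
  refine ⟨c, ⟨v, p, hv, hp⟩, hM', fun e f e' f' fr p p' a a' k k' => ?_⟩
  obtain ⟨α, e1⟩ := h.com_aux fr k k' x0 x1 ⟨v, _, hv, hp⟩ (hM' _ (fr_pt fr).1)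
  obtain ⟨β, e2⟩ := h.com_aux (h.fr_symm fr) k' k x0 x1 ⟨v, _, hv, hp⟩ (hM' _ (fr_pt fr).2)
  have e3 : TT i φ e α = TT i φ e' β := by
    rw [← e1, ← commutatorElement_inv, e2, h.T_inv fr.ee']
  rw [← commutatorElement_eq_one_iff_commute, e1, h.T_indep fr e3, UCtx.TT_zero]

theorem trans_fr (h5 : 5 ≤ finrank E V) {e f e' f' x y x' y' : V} (fr : Fr2 B e f e' f')
    (fr' : Fr2 B x y x' y') : ∃ s : sisom B, s.1 e = x ∧ s.1 e' = x' := by
  have li : ∀ {e f e' f' : V}, Fr2 B e f e' f' → LinearIndependent E ![e, e'] := fun {e f e' f'} fr =>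
    LinearIndependent.pair_iff.2 fun a b k =>
      ⟨by simpa [h.c.flip1 fr.ef, fr.o3] using congrArg (B f) k,
        by simpa [h.c.flip1 fr.ef', h.c.flip fr.o2] using congrArg (B f') k⟩
  obtain ⟨d, h1, h2⟩ : ∃ d ∈ perp B (Submodule.span E {e, e'}), B d d ≠ 0 := by
    by_contra! k
    have h1 : perp B (Submodule.span E {e, e'}) ≤ Submodule.span E {e, e'} := by
      conv_rhs => rw [← h.c.herm.perp_perp (Submodule.span E {e, e'})]
      exact fun a ha b hb => h.c.herm.toIsHermSymm.eq_zero_of_norm_zero k hb ha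
    have h2 := Submodule.finrank_mono h1
    have h3 := h.c.herm.finrank_add_finrank_perp (Submodule.span E {e, e'})
    have h4 := finrank_span_eq_card (li fr)
    rw [Matrix.range_cons_cons_empty, Fintype.card_fin] at h4
    omega
  rw [UCtx.mem_perp_pair] at h1
  obtain ⟨s, hs⟩ := h.c.wit (li fr) (li fr') (by
    simp [Fin.forall_fin_two, fr.ee, fr.ee', fr.o1, h.c.flip fr.o1, fr'.ee, fr'.ee', fr'.o1,
      h.c.flip fr'.o1]) h2 (by simp [Fin.forall_fin_two, h.c.flip h1.1, h.c.flip h1.2])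
  exact ⟨s, hs 0, hs 1⟩

theorem good_two (h2 : ∀ a : F, a = 0 ∨ a = 1) {v : V} (hv : Pt B v) {p0 : G}
    (hp0 : P i φ L t v p0 1) : ∃ c, Good i φ L t c := by
  have h5 : 5 ≤ finrank E V := by
    refine h.c.dim.elim (fun k => ?_) fun k => by have := k.2; omega
    have := Nat.card_le_card_of_surjective (fun b : Bool => if b then (1 : F) else 0) fun a => by
      rcases h2 a with rfl | rfl
      exacts [⟨false, rfl⟩, ⟨true, rfl⟩]
    have := k.1
    simp at *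
    omega
  have h0 : ∃ v p, Pt B v ∧ Ht i φ L t 0 v p 1 := by
    obtain ⟨b, e⟩ := hp0.2
    rcases h2 b with rfl | rfl
    · exact ⟨v, _, hv, h.Ht_ne hv hp0.1 (by rwa [zero_mul]) one_ne_zero⟩
    · exact ⟨v, _, hv, h.Ht_ne hv (h.P_t hv hp0).1
        (by rw [h.sq_t hv hp0.1 e, h.addF, zero_mul]) one_ne_zero⟩
  obtain ⟨f, hf, hvf⟩ := h.c.hyp hv
  obtain ⟨v', f', fr⟩ := h.c.exists_fr2 hv.1 hf hvf
  have hv' := (fr_pt fr).2
  obtain ⟨c, p, p', hp, hp', hc⟩ : ∃ c p p', Ht i φ L t c v p 1 ∧ Ht i φ L t c v' p' 1 ∧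
      Commute p p' := by
    obtain ⟨p, hp⟩ := h.surj h0 hv 1
    obtain ⟨p', hp'⟩ := h.surj h0 hv' 1
    obtain ⟨α, β, e1⟩ := h.comm_TT fr hp hp'
    obtain ⟨s, k1, k2, -⟩ := h.c.swap2 fr
    have m1 := h.mv_one hv.1 k1
    have m2 := h.mv_one hv'.1 k2
    obtain ⟨b, e2⟩ := h.Ht_uniq hv' hp' (one_mul (1 : F) ▸ h.Ht_mv m1 hp)
    obtain ⟨b', e3⟩ := h.Ht_uniq hv hp (one_mul (1 : F) ▸ h.Ht_mv m2 hp')
    have e4 := h.comm_T (h.fr_symm fr) hp'.1.1 hp.1.1 b b'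
    have c0 := h.c.TT_comm hv.1 hv'.1 fr.o1
    rw [← e2, ← e3, ← conjugate_commutatorElement, ← commutatorElement_inv p, e1, ← conj_mul,
      m1.2.2, m2.2.2, one_mul, one_mul, mul_inv_rev, h.T_inv hv.1, h.T_inv hv'.1] at e4
    have e5 : TT i φ v (β + α) = TT i φ v' (α + β) := by
      rw [h.c.TT_add hv.1, h.c.TT_add hv'.1]
      calc _ = (TT i φ v' α)⁻¹ * (TT i φ v' α * TT i φ v β) * TT i φ v α := by group
        _ = _ := by rw [e4, h.T_inv hv'.1, mul_assoc, mul_assoc, h.c.TT_sq hv.1, mul_one]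
    obtain rfl : β = α := by linear_combination h.T_indep fr e5 - h.addF α
    rcases h2 β with rfl | rfl
    · rw [UCtx.TT_zero, UCtx.TT_zero, mul_one, commutatorElement_eq_one_iff_commute] at e1
      exact ⟨0, p, p', hp, hp', e1⟩
    · have k : ∀ {w q}, Pt B w → Ht i φ L t 0 w q 1 → Ht i φ L t 1 w (q * t) 1 ∧
          t * q * t = TT i φ w 1 * q := fun {w q} hw hq =>
        ⟨h.Ht_ne hw (h.P_t hw hq.p).1 (by rw [h.sq_t hw hq.1 hq.2.1]; simp) one_ne_zero, by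
          calc _ = t * (q * t * q⁻¹) * q := by group
            _ = _ := by rw [hq.1.2, ← mul_assoc, h.tt, one_mul]⟩
      refine ⟨1, _, _, (k hv hp).1, (k hv' hp').1, ?_⟩
      have c1 := (h.cy_T hp.1.1 hv.1 hv'.1 fr.o1 1).eq
      have c2 := (h.cy_T hp'.1.1 hv'.1 hv.1 (h.c.flip fr.o1) 1).eq
      calc p * t * (p' * t) = p * (t * p' * t) := by group
        _ = TT i φ v' 1 * (⁅p, p'⁆ * (p' * p)) := by
          rw [(k hv' hp').2, ← mul_assoc, c1, commutatorElement_def]; group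
        _ = (TT i φ v' 1 * TT i φ v' 1) * (TT i φ v 1 * p') * p := by rw [e1, (c0 1 1).eq]; group
        _ = p' * (t * p * t) := by rw [h.c.TT_sq hv'.1, ← c2, (k hv hp).2]; group
        _ = _ := by group
  refine ⟨c, ⟨v, p, hv, hp⟩, fun w hw _ _ _ _ => h.mul_two hw h2,
    fun e g e' g' fr' q q' a a' k k' => ?_⟩
  obtain ⟨he, he'⟩ := fr_pt fr'
  rcases h2 a with rfl | rfl
  · obtain ⟨b, rfl⟩ := h.Ht_zero he k
    exact (h.cy_T k'.1.1 he'.1 he.1 (h.c.flip fr'.o1) b).symm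
  rcases h2 a' with rfl | rfl
  · obtain ⟨b, rfl⟩ := h.Ht_zero he' k'
    exact h.cy_T k.1.1 he.1 he'.1 fr'.o1 b
  obtain ⟨s, k1, k2⟩ := h.trans_fr h5 fr fr'
  have m1 := h.Ht_mv (h.mv_one hv.1 k1) hp
  have m2 := h.Ht_mv (h.mv_one hv'.1 k2) hp'
  rw [one_mul] at m1 m2
  obtain ⟨b, rfl⟩ := h.Ht_uniq he m1 k
  obtain ⟨b', rfl⟩ := h.Ht_uniq he' m2 k'
  rw [← commutatorElement_eq_one_iff_commute, h.comm_T fr' m1.1.1 m2.1.1,
    ← conjugate_commutatorElement, commutatorElement_eq_one_iff_commute.2 hc]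
  group

/-- The doubled groups. -/
def Xh {c : F} (hc : Good i φ L t c) (v : V) : Subgroup G where
  carrier := {p | Pt B v → ∃ a, Ht i φ L t c v p a}
  one_mem' := fun hv => ⟨0, UCtx.TT_zero (i := i) (φ := φ) v ▸ h.Ht_x hv c 0⟩
  mul_mem' := fun ha hb hv => by
    obtain ⟨a, ha⟩ := ha hv
    obtain ⟨b, hb⟩ := hb hv
    exact ⟨_, hc.mul v hv _ _ _ _ ha hb⟩
  inv_mem' := fun ha hv => (ha hv).imp fun _ k => h.Ht_inv hv k

theorem uhat {c : F} (hc : Good i φ L t c) : UHat i φ L t c (h.Xh hc) where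
  mem := fun _ hv _ => ⟨fun hp => mem_hat.2 (hp hv), fun hp _ => mem_hat.1 hp⟩
  surj := fun v hv a => by
    obtain ⟨p, hp⟩ := h.surj hc.one hv a
    exact ⟨p, fun _ => ⟨a, hp⟩, hp.1.2⟩
  fix := fun v hv p hp k => by
    obtain ⟨a, ha⟩ := hp hv
    have := ha.1.2
    rw [conj_of_comm k, left_eq_mul] at this
    obtain rfl := h.c.TT_eq_one hv this
    exact (h.c.mem_ZV hv.1).2 (h.Ht_zero hv ha)
  le := fun v hv p hp _ => by
    obtain ⟨b, rfl⟩ := (h.c.mem_ZV hv.1).1 hp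
    exact ⟨0, h.Ht_x hv c b⟩
  odd := fun k hk hkt ho v hv p hp => by
    obtain ⟨a, ha⟩ := hp hv
    exact (h.P_odd hv ha.p ⟨hk, hkt, ho⟩).symm
  cent := fun v hv g hg p hp => by
    obtain ⟨a, ha⟩ := hp hv
    exact h.Ht_cent hv ha ⟨hg.1, one_ne_zero, fun b => by
      rw [conj_of_comm (comm_of_C hg.2 (TT_mem_ZV v b)), one_mul]⟩
  com := fun v w hv hw e p hp p' hp' => by
    obtain ⟨a, ha⟩ := hp hv
    obtain ⟨a', ha'⟩ := hp' hw
    by_cases k : w ∈ E ∙ v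
    · obtain ⟨d, rfl⟩ := Submodule.mem_span_singleton.1 k
      obtain ⟨n, hn⟩ := h.c.qf.exists_norm d
      have d0 : d ≠ 0 := fun e => hw.2 (by rw [e, zero_smul])
      have n0 : n ≠ 0 := fun e => mul_ne_zero d0 (by simpa using d0 : σ d ≠ 0)
        (by rw [← hn, e, map_zero])
      have h1 := h.Ht_mv (h.mv_of (s := 1) hw.1 hn n0 rfl) ha'
      rw [map_one, one_mul, inv_one, mul_one] at h1
      have h2 := (hc.mul v hv _ _ _ _ ha h1).2.1
      rw [mul_add, h.c.TT_add hv.1, ← ha.2.1, ← h1.2.1] at h2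
      calc p * p' = p⁻¹ * (p * p * (p' * p')) * p'⁻¹ := by group
        _ = _ := by rw [← h2]; group
    · obtain ⟨f, f', fr⟩ := h.c.exists_fr2' hv hw.1 e k
      exact hc.com _ _ _ _ fr _ _ _ _ ha ha'

end St

/-- **U-H1** -/
theorem h1 : H1Stmt.{u, v} := by
  intro F E V _ _ _ _ _ _ _ _ i σ B G _ _ φ L c ka _ t tc r2 v hv hs
  have h : St i φ L t := ⟨c, ka, tc, r2⟩
  obtain ⟨p, hp⟩ := h.exists_P hv hs
  obtain ⟨c, hc⟩ : ∃ c, Good i φ L t c := by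
    by_cases h2 : ∀ a : F, a = 0 ∨ a = 1
    · exact h.good_two h2 hv hp
    · push Not at h2
      obtain ⟨x, x0, x1⟩ := h2
      exact h.good_big x0 x1 hv hp
  exact ⟨c, _, h.uhat hc⟩

end Cfsg.Agent.H59.UHat
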