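import Mathlib
import Cfsg.Agent.H37.FkKit
import Cfsg.Agent.H44.KiRu

/-!
# The 2-fusion system of the Rudvalis group
-/

set_option autoImplicit false
set_option maxRecDepth 200000
set_option linter.style.longLine false

namespace Cfsg.Agent.H59.FkRu

open Cfsg Subgroup Cfsg.Agent.H44 Cfsg.Agent.H44.Ki

section Gen

variable {G : Type*} [Group G] {ν : ℕ → G} {q : List ℕ → List ℕ → Bool} {k : ℕ}

/-- The central elements of a coset lie in the last term of the series. -/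
def ZC (ν : ℕ → G) (k j : ℕ) (x : List ℕ) : Prop :=
  ∀ y, (ev ν x)⁻¹ * y ∈ gen ν j → (∀ s ∈ gen ν k, s * y = y * s) → y ∈ gen ν 1

/-- Certificates for `ZC`. -/
inductive ZT
  | leaf
  | dead (s i : ℕ) (w : List ℕ)
  | split (t t' : ZT)

/-- The check of a certificate. -/
noncomputable def ZT.chk (q : List ℕ → List ℕ → Bool) (k : ℕ) (t : ZT) : ℕ → List ℕ → Bool :=
  ZT.rec (motive := fun _ => ℕ → List ℕ → Bool)
    (fun j x => Nat.ble j 1 && lettersIn 1 x)
    (fun s i w j x => Nat.ble j i && Nat.blt i k && lettersIn k [s] && lettersIn k x &&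
      lettersIn i w && q (s :: x) ((i + 1) :: (w ++ (x ++ [s]))))
    (fun _ _ h h' j x => Nat.rec false (fun j _ => Nat.blt j k && h j x && h' j (x ++ [j + 1])) j) t

theorem ZC.of [Finite G] (hq : Orc ν q) (h : Pc ν k) (t : ZT) {j : ℕ} {x : List ℕ}
    (hc : t.chk q k j x = true) : ZC ν k j x := by
  induction t generalizing j x with
  | leaf =>
    simp only [ZT.chk, Bool.and_eq_true, Nat.ble_eq] at hc
    intro y hy _
    simpa using mul_mem (ev_gen ν hc.2) (gen_mono ν hc.1 hy)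
  | dead s i w =>
    simp only [ZT.chk, Bool.and_eq_true, Nat.ble_eq, Nat.blt_eq] at hc
    obtain ⟨⟨⟨⟨⟨h1, h2⟩, h3⟩, h3'⟩, h4⟩, h5⟩ := hc
    intro y hy e
    refine absurd ?_ (h.not_mem h2)
    have h6 := hq _ _ h5
    rw [ev_cons, ev_cons, ev_append, ev_append, ev_single] at h6
    have hs : ν s ∈ gen ν k := ev_single ν s ▸ ev_gen ν h3
    have h7 := (mem_normalizer_iff.1 (h.nrm j (ev_gen ν h3')) _).1
      (mul_mem hy ((mem_normalizer_iff.1 (h.nrm j hs) _).1 (inv_mem hy)))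
    have e1 : ν s * y⁻¹ = y⁻¹ * ν s := by
      rw [eq_inv_mul_iff_mul_eq, ← mul_assoc, ← e _ hs, mul_inv_cancel_right]
    have h8 : ν (i + 1) = ev ν x * ((ev ν x)⁻¹ * y * (ν s * ((ev ν x)⁻¹ * y)⁻¹ * (ν s)⁻¹)) *
        (ev ν x)⁻¹ * (ev ν w)⁻¹ := by
      rw [mul_inv_rev, inv_inv, ← mul_assoc (ν s), e1, mul_assoc y⁻¹, h6]
      group
    exact h8 ▸ mul_mem (gen_mono ν h1 h7) (inv_mem (ev_gen ν h4))
  | split t t' ih ih' =>
    cases j with
    | zero => exact absurd hc Bool.false_ne_true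
    | succ j =>
      simp only [ZT.chk, Bool.and_eq_true, Nat.blt_eq] at hc
      intro y hy
      exact (h.two j hc.1.1 _ hy).elim (ih hc.1.2 y) fun e => ih' hc.2 y (by
        rwa [ev_append, ev_single, mul_inv_rev, mul_assoc])

theorem eq_of_mem_one (h : Pc ν k) (hk : 0 < k) {y : G} (hy : y ∈ gen ν 1) (h1 : y ≠ 1) :
    y = ν 1 := by
  rcases h.two 0 hk y hy with e | e
  · rw [gen_zero, mem_bot] at e
    exact absurd e h1
  · rw [gen_zero, mem_bot, inv_mul_eq_one] at e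
    exact e.symm

theorem exists_central (h : Pc ν k) {T : Subgroup G}
    (hT : ∀ s ∈ gen ν k, ∀ y ∈ T, s * y * s⁻¹ ∈ T) (j : ℕ) (hj : j ≤ k) :
    ∀ y ∈ T, y ∈ gen ν j → y ≠ 1 →
      ∃ z ∈ T, z ∈ gen ν k ∧ z ≠ 1 ∧ ∀ s ∈ gen ν k, s * z = z * s := by
  induction j with
  | zero => intro y _ hy h1; rw [gen_zero, mem_bot] at hy; exact absurd hy h1
  | succ j ih =>
    intro y hy h1 h2
    by_cases hc : ∀ s ∈ gen ν k, s * y = y * s
    · exact ⟨y, hy, gen_mono ν hj h1, h2, hc⟩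
    push Not at hc
    obtain ⟨s, hs, hne⟩ := hc
    by_cases h3 : y ∈ gen ν j
    · exact ih (by omega) y hy h3 h2
    refine ih (by omega) (s * y * s⁻¹ * y⁻¹) (mul_mem (hT s hs y hy) (inv_mem hy)) ?_ fun e => hne ?_
    · have h4 := (h.two j hj y h1).resolve_left h3
      have h5 := (h.two j hj _ ((mem_normalizer_iff.1 (h.nrm _ hs) _).1 h1)).resolve_left
        fun e => h3 ((mem_normalizer_iff.1 (h.nrm _ hs) _).2 e)
      have h6 := (mem_normalizer_iff.1 (h.nrm j (mem_gen ν (x := j + 1) (by omega) hj)) _).1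
        (mul_mem h5 (inv_mem h4))
      simpa [mul_assoc] using h6
    · rwa [mul_inv_eq_one, mul_inv_eq_iff_eq_mul] at e

/-- A word conjugate to an element of a strongly closed subgroup. -/
theorem mem_of_conj (hq : Orc ν q) {T S : Subgroup G} (hT : IsStronglyClosed T S) {r c x : List ℕ}
    (hr : ev ν r ∈ T) (hx : ev ν x ∈ S) (e : q (c ++ r) (x ++ c) = true) : ev ν x ∈ T := by
  have h := hq _ _ e
  rw [ev_append, ev_append, ← mul_inv_eq_iff_eq_mul] at h
  exact h ▸ hT.2 _ hr _ (h ▸ hx)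

theorem good_of_pc [Finite G] (h : Pc ν k) (hk : 0 < k) (hG : ¬ 2 ^ (k + 1) ∣ Nat.card G)
    (hZ : ZC ν k k []) (hz : ∀ s ∈ gen ν k, s * ν 1 = ν 1 * s)
    (hT : ∀ T, IsStronglyClosed T (gen ν k) → ν 1 ∈ T → gen ν k ≤ T)
    (h2 : IsOfCharacteristicTwo (centralizer {ν 1}))
    (hC : centralizer {ν 1} ≤ closure {x | x ∈ centralizer {ν 1} ∧ H37.FK.Two x}) :
    H37.FK.Good G := by
  have := Fact.mk Nat.prime_two
  have hP : IsPGroup 2 (gen ν k) := IsPGroup.of_card (h.card k le_rfl)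
  have hi : ¬ 2 ∣ (gen ν k).index := fun e => hG (by
    rw [← (gen ν k).index_mul_card, h.card k le_rfl, pow_succ']
    exact mul_dvd_mul_right e _)
  have hz1 : ν 1 ∈ gen ν k := mem_gen ν le_rfl hk
  have hne : ν 1 ≠ 1 := fun e => h.not_mem hk (by rw [zero_add, e]; exact one_mem _)
  have hcen : ∀ y ∈ gen ν k, y ≠ 1 → (∀ s ∈ gen ν k, s * y = y * s) → y = ν 1 :=
    fun y hy h1 hc => eq_of_mem_one h hk (hZ y (by simpa [ev_nil] using hy) hc) h1
  refine ⟨H37.FK.nsc_of_one (hP.toSylow hi) fun T hs h0 => hT T hs ?_, ?_⟩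
  · obtain ⟨⟨y, hy⟩, h1⟩ := ne_bot_iff_exists_ne_one.1 h0
    obtain ⟨z, h3, h4, h5, h6⟩ := exists_central h (fun s hs' y hy => H37.FK.sc_normal hs hs' hy)
      k le_rfl y hy (hs.1 hy) fun e => h1 (Subtype.ext e)
    exact hcen z h4 h5 h6 ▸ h3
  · set C := centralizer ({ν 1} : Set G) with hCd
    have hn : C ≤ normalizer (((pCore 2 C).map C.subtype : Subgroup G) : Set G) := fun x hx =>
      mem_normalizer_fintype (by
        rintro _ ⟨y, hy, rfl⟩
        exact ⟨_, (pCore_normal 2 C).conj_mem y hy ⟨x, hx⟩, rfl⟩)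
    have hSC : gen ν k ≤ C := fun s hs => mem_centralizer_singleton_iff.2 (hz s hs)
    have hzC : ν 1 ∈ C := hSC hz1
    have hzR : (⟨ν 1, hzC⟩ : C) ∈ pCore 2 C := h2 fun y _ =>
      Subtype.ext (mem_centralizer_singleton_iff.1 y.2)
    refine H37.FK.ofp_of_cent (hP.toSylow hi) ((pCore 2 C).map C.subtype) ?_ (fun x hx _ => ?_)
      fun g hg _ => Subgroup.closure_mono (fun x hx => And.intro
        (fun y hy => (mem_normalizer_iff.1 (hn hx.1) y).1 hy) hx.2) (hC ?_)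
    · exact le_sup_left.trans ((hP.toSylow hi).is_maximal'
        ((H52.pCore_isPGroup.map _).to_sup_of_normal_left' hP (hSC.trans hn)) le_sup_right).le
    · have hxC : x ∈ C := mem_centralizer_singleton_iff.2
        (mul_inv_eq_iff_eq_mul.1 (hx _ ⟨_, hzR, rfl⟩))
      exact ⟨⟨x, hxC⟩, h2 fun y hy => Subtype.ext (mul_inv_eq_iff_eq_mul.1 (hx _ ⟨_, hy, rfl⟩)).symm,
        rfl⟩
    · have hg' : g ∈ normalizer (gen ν k : Set G) := mem_normalizer_fintype hg
      refine mem_centralizer_singleton_iff.2 (mul_inv_eq_iff_eq_mul.1 (hcen _ (hg _ hz1)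
        (fun e => hne (by simpa using e)) fun s hs => ?_))
      have := congrArg (fun y => g * y * g⁻¹) (hz _ ((mem_normalizer_iff''.1 hg' s).1 hs))
      simpa [mul_assoc] using this

end Gen

open Cfsg.Agent.H44.KiRu Cfsg.Agent.H43

theorem zc : ZC ν 14 14 [] :=
  ZC.of (orc ok) pc (.split (.split (.split (.split (.split (.split (.split (.split (.split (.split (.split (.split (.split .leaf (.split (.dead 11 0 []) (.dead 11 0 []))) (.split (.dead 13 1 []) (.dead 13 1 [1]))) (.split (.dead 14 2 [2, 1]) (.dead 14 2 [2]))) (.split (.dead 13 3 [2, 1]) (.dead 13 3 [2, 1]))) (.split (.split (.dead 11 3 [3]) (.dead 11 3 [3])) (.split (.dead 11 3 [3, 1]) (.dead 11 3 [3, 1])))) (.split (.dead 13 5 [5, 4, 1]) (.dead 13 5 [5]))) (.split (.dead 14 6 []) (.dead 14 6 []))) (.split (.split (.split (.split (.dead 11 4 [3, 2, 1]) (.dead 11 4 [3, 2])) (.split (.dead 11 4 [4, 2, 1]) (.dead 11 4 [4, 2]))) (.split (.dead 13 5 [4, 3])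 (.dead 13 5 [3, 1]))) (.split (.dead 14 6 [4, 3, 1]) (.dead 14 6 [4, 3, 1])))) (.split (.dead 13 8 [6, 5, 4, 3]) (.dead 13 8 [6, 4, 2, 1]))) (.split (.dead 14 9 [2, 1]) (.dead 14 9 [5]))) (.split (.split (.split (.dead 11 8 [7, 4, 2]) (.dead 11 8 [7, 5, 4, 2])) (.split (.dead 11 8 [7, 4, 2, 1]) (.dead 11 8 [7, 5, 4, 2, 1]))) (.split (.dead 14 9 [6, 5]) (.dead 14 9 [6, 3])))) (.split (.dead 14 11 [9, 6, 5, 4, 2]) (.dead 14 11 [9, 4, 1]))) (.split (.split (.dead 13 11 [9, 6, 5, 4, 1]) (.dead 13 11 [9, 7, 6, 4, 3, 2, 1])) (.split (.dead 13 11 [9, 6, 5, 4, 1]) (.dead 13 11 [9, 7, 5, 4]))))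
    (by decide +kernel)

/-- The 2-elements that generate the centraliser. -/
def LT : List ℕ := [1, 2, 3, 4, 5, 6, 7, 8, 9, 10, 11, 12, 13, 14, 17, 18, 19, 20, 21, 22]

theorem lt_chk : H44.allL (fun x => D.eqW ([x] ++ [1]) [1, x] &&
    D.eqW (List.replicate 8 [x]).flatten []) LT = true := by decide +kernel

theorem lt_mem {x : ℕ} (hx : x ∈ LT) : ν x ∈ centralizer {ν 1} ∧ H37.FK.Two (ν x) := by
  obtain ⟨h1, h2⟩ := Bool.and_eq_true_iff.1 (H44.allL_iff.1 lt_chk x hx)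
  refine ⟨ev_single ν x ▸ mem_cent ok h1, 3, ?_⟩
  have := (ev_replicate ..).symm.trans (ok.eq h2)
  rwa [ev_single] at this

theorem gen_le_c : gen ν 14 ≤ centralizer {ν 1} := gen_le.2 fun x h1 h2 =>
  (lt_mem (by interval_cases x <;> decide)).1

/-- Words for the generators of the centraliser. -/
def WC : List (List ℕ) :=
  [[12, 21, 19, 9, 13, 18], [9, 12, 13, 10, 18, 1], [17], [18], [19], [20], [21], [22]]

theorem wc_chk : allP (fun s w => w.all LT.contains && D.eqW s w)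
    (sing [15, 16, 17, 18, 19, 20, 21, 22]) WC = true := by decide +kernel

theorem c_le : centralizer {ν 1} ≤ closure {x | x ∈ centralizer {ν 1} ∧ H37.FK.Two x} :=
  cz_c.trans (wgen_le.2 fun s hs => by
    obtain ⟨w, h⟩ := allP_spec wc_chk s hs
    obtain ⟨h1, h2⟩ := Bool.and_eq_true_iff.1 h
    rw [ok.eq h2]
    exact ev_mem fun x hx =>
      subset_closure (lt_mem (List.contains_iff_mem.1 (List.all_eq_true.1 h1 x hx))))

theorem char_two : IsOfCharacteristicTwo (centralizer {ν 1}) := by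
  have := Fact.mk Nat.prime_two
  refine charTwo_of_primes (Q := gen ν 11) ((gen_mono ν (by decide)).trans gen_le_c) ?_
    (IsPGroup.of_card (pc.card 11 (by decide))) fun p hp h => ?_
  · rw [gen_eq_wgen]
    exact cz_c.trans (le_norm (orc ok) nq)
  · rw [cz_n] at h ⊢
    have : p ∈ (245760 : ℕ).primeFactorsList := (Nat.mem_primeFactorsList (by decide)).2 ⟨hp, h⟩
    simp only [Nat.primeFactorsList_ofNat, List.mem_cons, List.not_mem_nil, or_false,
      or_self_left] at this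
    rcases this with rfl | rfl | rfl
    exacts [Or.inl rfl, Or.inr ⟨by norm_num, odd_spec ok [16, 20] 2 (by decide +kernel)⟩,
      Or.inr ⟨by norm_num, odd_spec ok [19, 21, 15] 2 (by decide +kernel)⟩]

/-- Three involutions generating the Sylow subgroup. -/
def tg (x : ℕ) : List ℕ :=
  if x = 0 then [11] else if x = 1 then [13, 11, 10, 7, 5, 3] else [14, 9, 8, 6]

/-- The letters as words in the three involutions. -/
def WS : List (List ℕ) := [[0, 1, 0, 2, 0, 1, 0, 2, 0, 1, 0, 2, 0, 1, 0, 2],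
  [0, 1, 0, 1, 0, 1, 0, 2, 1, 2, 0, 1, 0, 1, 0, 1, 0, 2, 1, 2],
  [0, 1, 2, 1, 0, 2, 0, 1, 2, 1, 0, 2],
  [0, 1, 0, 1, 0, 1, 0, 1],
  [0, 1, 0, 1, 0, 2, 0, 2, 1, 0, 1, 2, 0, 2],
  [1, 0, 1, 0, 1, 2, 1, 2, 0, 1, 0, 2, 1, 2],
  [1, 0, 1, 0, 1, 0, 2, 0, 1, 2, 1, 0, 2, 1, 0, 2],
  [0, 2, 0, 2, 1, 0, 2, 0, 1, 2, 0, 1, 0, 2, 1, 2],
  [0, 1, 0, 1, 2, 1, 0, 2, 1, 0, 1, 2, 1, 0, 2, 0],
  [0, 2, 0, 1, 0, 2, 0, 1, 2, 1, 0, 2, 0, 1],
  [0],
  [0, 1, 0, 2, 0, 2, 1, 2, 0, 1, 0, 2, 0, 1],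
  [0, 2, 1, 2, 0, 1, 0, 1, 0, 2, 1, 0, 2, 0, 1, 0],
  [1, 2, 1, 2, 0, 2, 1, 0, 2, 1, 0, 2, 0]]

theorem ws_chk : allP (fun s w => D.eqW [s] (w.flatMap tg)) (List.range' 1 14) WS = true := by
  decide +kernel

theorem le_of_sc (T : Subgroup (grp 4060 RuM.E)) (hT : IsStronglyClosed T (gen ν 14))
    (h1 : ν 1 ∈ T) : gen ν 14 ≤ T := by
  rw [← ev_single ν 1] at h1
  have h0 : ∀ x, ev ν (tg x) ∈ T := fun x => by
    unfold tg
    split_ifs
    · exact mem_of_conj (orc ok) hT (c := [40, 43, 48, 37, 49]) h1 (ev_gen ν (by decide))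
        (by decide +kernel)
    · exact mem_of_conj (orc ok) hT (c := [36, 41, 43, 50, 45, 49]) h1 (ev_gen ν (by decide))
        (by decide +kernel)
    · exact mem_of_conj (orc ok) hT (c := [36, 50, 50, 43, 50, 46]) h1 (ev_gen ν (by decide))
        (by decide +kernel)
  refine gen_le.2 fun s h2 h3 => ?_
  obtain ⟨w, h⟩ := allP_spec ws_chk s (List.mem_range'_1.2 ⟨h2, by omega⟩)
  rw [← ev_single ν s, ok.eq h, ev_flatMap]
  exact ev_mem fun x _ => h0 x

theorem ru : H37.FK.RuStmt := fun _ =>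
  haveI := Finite.of_equiv _ RuM.equiv.symm.toEquiv
  (good_of_pc pc (by decide) (by rw [RuM.card_grp]; norm_num) zc
    (fun _ hs => mem_centralizer_singleton_iff.1 (gen_le_c hs)) le_of_sc char_two c_le).congr
    RuM.equiv

end Cfsg.Agent.H59.FkRu
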