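import Mathlib
import Cfsg.Agent.H44.Coset

set_option autoImplicit false
set_option maxRecDepth 1000000
set_option linter.all false
set_option Elab.async false

namespace Cfsg.Agent.H59.SzC.g1
open Cfsg.Agent.H44

noncomputable def rT0 : Tr :=
 (.leaf (nat_lit 0x9020e1650))
noncomputable def gT0 : Tr :=
 (.leaf (nat_lit 0))
/-- The relators. -/
def R : List (List ℕ) := [[1, 2],
  [1, 1, 1]]
/-- The subgroup generators. -/
def S : List (List ℕ) := []
def Wr : List (List ℕ) := [[1, 2],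
  [2, 1],
  [2, 2, 2]]
def Wn : List (List ℕ) := []
def cr : List (ℕ × ℕ × ℕ) := [(0, 0, 0), (0, 0, 0), (2, 1, 0)]
def cn : List (ℕ × ℕ × ℕ) := []
noncomputable def rT : Tr := rT0
noncomputable def gT : Tr := gT0
noncomputable def rC (i : ℕ) : ℕ := rT.get (nat_lit 0) i
noncomputable def gC (i : ℕ) : ℕ := gT.get (nat_lit 0) i
noncomputable def row (p : ℕ) : ℕ := rec2 rC (nat_lit 8) (nat_lit 255) (nat_lit 12) (nat_lit 4095) p
noncomputable def gf (p : ℕ) : ℕ := rec2 gC (nat_lit 9) (nat_lit 511) (nat_lit 8) (nat_lit 255) p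
noncomputable def gw (c : ℕ) : List ℕ := nth [] Wr c
noncomputable def wn (c : ℕ) : ℕ := pack (nat_lit 2) (nth [] Wn c) (nat_lit 0)
noncomputable def C : Cert :=
  { n := (nat_lit 3), na := (nat_lit 0), M := (nat_lit 0), nc := (nat_lit 2), W := (nat_lit 2), EB := (nat_lit 4),
    LB := (nat_lit 2), nreg := (nat_lit 3), ivT := (nat_lit 24), base := (nat_lit 0),
    row := row, gf := gf, gw := gw, wn := wn }
theorem masks : Masks C (nat_lit 3) (nat_lit 15) (nat_lit 3) (nat_lit 6) (nat_lit 63) :=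
  ⟨by decide +kernel, by decide +kernel, by decide +kernel, by decide +kernel, by decide +kernel⟩
noncomputable def rchk : ℕ → ℕ → ℕ → Bool :=
  rowChk row gf gw (nat_lit 3) (nat_lit 0) (nat_lit 2) (nat_lit 2) (nat_lit 3) (nat_lit 4) (nat_lit 15) (nat_lit 2) (nat_lit 3) (nat_lit 6) (nat_lit 63) (nat_lit 3) (nat_lit 24) (nat_lit 1) (nat_lit 1) (nat_lit 6) (nat_lit 63)
noncomputable def fchk : ℕ → ℕ → ℕ → Bool :=
  auxRun row gf wn (nat_lit 3) (nat_lit 0) (nat_lit 0) (nat_lit 2) (nat_lit 2) (nat_lit 3) (nat_lit 4) (nat_lit 15) (nat_lit 2) (nat_lit 3) (nat_lit 6) (nat_lit 24) (nat_lit 0) (nat_lit 2) (nat_lit 3)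
theorem rows_of {lo hi : ℕ} {t : JL} (h : t.run rchk (nat_lit 12) hi lo = true) : C.RowsOK lo hi :=
  rowsOK_of_run masks h
theorem facts_of {lo hi : ℕ} {t : JL} (h : t.run fchk (nat_lit 20) hi lo = true) : C.FactsOK lo hi :=
  factsOK_of_run masks h
theorem words_ok : wordsChk 3 2 2 2 3 24 0 R S Wr Wn cr cn = true := by
  decide +kernel
noncomputable def j0 : JL :=
(.cons (nat_lit 3) (nat_lit 0xc0001081) (nat_lit 0)
.nil)
theorem t0 : C.RowsOK (nat_lit 0) (nat_lit 3) :=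
  rows_of (t := j0) (by decide +kernel)
theorem checked : Checked C R S :=
  ⟨⟨Wr, Wn, cr, cn, fun _ => rfl, fun _ => rfl, words_ok⟩, t0,
    fun _ _ h => absurd h (Nat.not_lt_zero _)⟩

/-- In any group whose elements `g 1, …, g 2` satisfy the relators `R`, a subgroup containing the words
of `S` has index at most 3 in the subgroup generated by these elements. -/
theorem idxLe {G : Type*} [Group G] {g : ℕ → G} (hg : Sat g R) {H : Subgroup G}
    (hS : ∀ s ∈ S, ev g s ∈ H) : IdxLe H (gen g 2) 3 :=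
  checked.idxLe hg hS

end Cfsg.Agent.H59.SzC.g1

namespace Cfsg.Agent.H59.SzC.g2
open Cfsg.Agent.H44

noncomputable def rT0 : Tr :=
 (.leaf (nat_lit 0x8b57a786793150489ba404790ad1e4c092368c09c224400e1a1001a182c18a1260800))
noncomputable def gT0 : Tr :=
 (.leaf (nat_lit 0x1100140))
/-- The relators. -/
def R : List (List ℕ) := [[1, 2],
  [3, 4],
  [1, 1, 1],
  [3, 3, 3],
  [1, 3, 1, 4, 2, 4]]
/-- The subgroup generators. -/
def S : List (List ℕ) := [[1],
  [2]]
def Wr : List (List ℕ) := [[2, 1],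
  [3, 4],
  [4, 3],
  [1, 2],
  [4, 4, 4],
  [4, 2, 4, 1, 3, 1],
  [2, 2, 2],
  [3, 1, 4, 2, 4, 1],
  [4, 1, 3, 1, 4, 2],
  [1, 4, 2, 4, 1, 3],
  [3, 3, 3]]
def Wn : List (List ℕ) := [[1, 5]]
def cr : List (ℕ × ℕ × ℕ) := [(0, 0, 0), (0, 0, 0), (0, 0, 0), (0, 0, 0), (2, 3, 0), (1, 4, 3), (2, 2, 0), (1, 4, 1), (1, 4, 5), (1, 4, 2), (1, 3, 0)]
def cn : List (ℕ × ℕ × ℕ) := [(1, 5, 0)]
noncomputable def rT : Tr := rT0
noncomputable def gT : Tr := gT0
noncomputable def rC (i : ℕ) : ℕ := rT.get (nat_lit 0) i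
noncomputable def gC (i : ℕ) : ℕ := gT.get (nat_lit 0) i
noncomputable def row (p : ℕ) : ℕ := rec2 rC (nat_lit 7) (nat_lit 127) (nat_lit 35) (nat_lit 0x7ffffffff) p
noncomputable def gf (p : ℕ) : ℕ := rec2 gC (nat_lit 8) (nat_lit 255) (nat_lit 14) (nat_lit 16383) p
noncomputable def gw (c : ℕ) : List ℕ := nth [] Wr c
noncomputable def wn (c : ℕ) : ℕ := pack (nat_lit 4) (nth [] Wn c) (nat_lit 0)
noncomputable def C : Cert :=
  { n := (nat_lit 8), na := (nat_lit 0), M := (nat_lit 2), nc := (nat_lit 4), W := (nat_lit 3), EB := (nat_lit 7),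
    LB := (nat_lit 4), nreg := (nat_lit 11), ivT := (nat_lit 0x785634120), base := (nat_lit 160),
    row := row, gf := gf, gw := gw, wn := wn }
theorem masks : Masks C (nat_lit 7) (nat_lit 127) (nat_lit 15) (nat_lit 10) (nat_lit 1023) :=
  ⟨by decide +kernel, by decide +kernel, by decide +kernel, by decide +kernel, by decide +kernel⟩
noncomputable def rchk : ℕ → ℕ → ℕ → Bool :=
  rowChk row gf gw (nat_lit 8) (nat_lit 2) (nat_lit 4) (nat_lit 3) (nat_lit 7) (nat_lit 7) (nat_lit 127) (nat_lit 4) (nat_lit 15) (nat_lit 10) (nat_lit 1023) (nat_lit 11) (nat_lit 0x785634120) (nat_lit 1) (nat_lit 1) (nat_lit 7) (nat_lit 127)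
noncomputable def fchk : ℕ → ℕ → ℕ → Bool :=
  auxRun row gf wn (nat_lit 8) (nat_lit 0) (nat_lit 2) (nat_lit 4) (nat_lit 3) (nat_lit 7) (nat_lit 7) (nat_lit 127) (nat_lit 4) (nat_lit 15) (nat_lit 10) (nat_lit 0x785634120) (nat_lit 160) (nat_lit 4) (nat_lit 15)
theorem rows_of {lo hi : ℕ} {t : JL} (h : t.run rchk (nat_lit 28) hi lo = true) : C.RowsOK lo hi :=
  rowsOK_of_run masks h
theorem facts_of {lo hi : ℕ} {t : JL} (h : t.run fchk (nat_lit 20) hi lo = true) : C.FactsOK lo hi :=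
  factsOK_of_run masks h
theorem words_ok : wordsChk 8 4 3 4 11 32302645536 160 R S Wr Wn cr cn = true := by
  decide +kernel
noncomputable def j0 : JL :=
(.cons (nat_lit 8) (nat_lit 0x2c08a1208380062000406083800c080040a000840008084060808c) (nat_lit 1)
.nil)
theorem t0 : C.RowsOK (nat_lit 0) (nat_lit 8) :=
  rows_of (t := j0) (by decide +kernel)
noncomputable def j1 : JL :=
(.cons (nat_lit 2) (nat_lit 0x1800000) (nat_lit 0x4001001000000)
.nil)
theorem t1 : C.FactsOK (nat_lit 0) (nat_lit 2) :=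
  facts_of (t := j1) (by decide +kernel)
theorem checked : Checked C R S :=
  ⟨⟨Wr, Wn, cr, cn, fun _ => rfl, fun _ => rfl, words_ok⟩, t0,
    t1⟩

/-- In any group whose elements `g 1, …, g 4` satisfy the relators `R`, a subgroup containing the words
of `S` has index at most 8 in the subgroup generated by these elements. -/
theorem idxLe {G : Type*} [Group G] {g : ℕ → G} (hg : Sat g R) {H : Subgroup G}
    (hS : ∀ s ∈ S, ev g s ∈ H) : IdxLe H (gen g 4) 8 :=
  checked.idxLe hg hS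

end Cfsg.Agent.H59.SzC.g2

namespace Cfsg.Agent.H59.SzC.g3
open Cfsg.Agent.H44

noncomputable def rT0 : Tr :=
 (.leaf (nat_lit 0x17aad6eb3416bbd86b013bce6673199b4cef257095e331247bc5c2478cd55a4736ab45423771d450a81078cda6b1583040eaf46a3d229051cd601aee79b4da60a768e06e9125a9412ec1b45496b24a8d4680854bc1a08357b3d5ecf27018c4ae4744d9a063798624ca770cc98052944592ac66014da5102295568b391c48aed192a9944902109d83168220086a20aa190a91811c063253a1d4ec7019a0626643114042f170919684011985a2c11a945643008a8521431a0c02641409c2641000984aa24101800621208cc281028884260201808000))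
noncomputable def gT0 : Tr :=
 (.leaf (nat_lit 0x1300044000b0001c00))
/-- The relators. -/
def R : List (List ℕ) := [[1, 2],
  [3, 4],
  [5, 6],
  [1, 1, 1],
  [3, 3, 3],
  [1, 3, 1, 4, 2, 4],
  [5, 5, 5],
  [3, 5, 3, 6, 4, 6],
  [1, 5, 2, 6]]
/-- The subgroup generators. -/
def S : List (List ℕ) := [[1],
  [2],
  [3],
  [4]]
def Wr : List (List ℕ) := [[2, 1],
  [4, 3],
  [5, 6],
  [6, 5],
  [1, 2],
  [2, 6, 1, 5],
  [3, 4],
  [1, 5, 2, 6],
  [6, 6, 6],
  [6, 4, 6, 3, 5, 3],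
  [4, 4, 4],
  [5, 3, 6, 4, 6, 3],
  [6, 3, 5, 3, 6, 4],
  [4, 2, 4, 1, 3, 1],
  [5, 2, 6, 1],
  [2, 2, 2],
  [6, 1, 5, 2],
  [3, 1, 4, 2, 4, 1],
  [4, 1, 3, 1, 4, 2],
  [3, 6, 4, 6, 3, 5],
  [5, 5, 5],
  [5, 1, 6, 2],
  [1, 4, 2, 4, 1, 3],
  [3, 3, 3],
  [1, 6, 2, 5],
  [4, 6, 3, 5, 3, 6],
  [2, 4, 1, 3, 1, 4],
  [1, 1, 1]]
def Wn : List (List ℕ) := [[1, 7],
  [3, 11]]
def cr : List (ℕ × ℕ × ℕ) := [(0, 0, 0), (0, 0, 0), (0, 0, 0), (0, 0, 0), (0, 0, 0), (1, 8, 2), (0, 0, 0), (1, 8, 0), (2, 6, 0), (1, 7, 3), (2, 4, 0), (1, 7, 1), (1, 7, 5), (1, 5, 3), (1, 8, 1), (2, 3, 0), (1, 8, 3), (1, 5, 1), (1, 5, 5), (1, 7, 2), (1, 6, 0), (2, 8, 0), (1, 5, 2), (1, 4, 0), (2, 8, 1), (1, 7, 4), (1, 5, 4), (1, 3, 0)]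
def cn : List (ℕ × ℕ × ℕ) := [(1, 9, 0), (1, 11, 0)]
noncomputable def rT : Tr := rT0
noncomputable def gT : Tr := gT0
noncomputable def rC (i : ℕ) : ℕ := rT.get (nat_lit 0) i
noncomputable def gC (i : ℕ) : ℕ := gT.get (nat_lit 0) i
noncomputable def row (p : ℕ) : ℕ := rec2 rC (nat_lit 6) (nat_lit 63) (nat_lit 63) (nat_lit 0x7fffffffffffffff) p
noncomputable def gf (p : ℕ) : ℕ := rec2 gC (nat_lit 8) (nat_lit 255) (nat_lit 18) (nat_lit 262143) p
noncomputable def gw (c : ℕ) : List ℕ := nth [] Wr c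
noncomputable def wn (c : ℕ) : ℕ := pack (nat_lit 4) (nth [] Wn c) (nat_lit 0)
noncomputable def C : Cert :=
  { n := (nat_lit 27), na := (nat_lit 0), M := (nat_lit 4), nc := (nat_lit 6), W := (nat_lit 5), EB := (nat_lit 9),
    LB := (nat_lit 4), nreg := (nat_lit 28), ivT := (nat_lit 0xdebc9a785634120), base := (nat_lit 10880),
    row := row, gf := gf, gw := gw, wn := wn }
theorem masks : Masks C (nat_lit 31) (nat_lit 511) (nat_lit 15) (nat_lit 14) (nat_lit 16383) :=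
  ⟨by decide +kernel, by decide +kernel, by decide +kernel, by decide +kernel, by decide +kernel⟩
noncomputable def rchk : ℕ → ℕ → ℕ → Bool :=
  rowChk row gf gw (nat_lit 27) (nat_lit 4) (nat_lit 6) (nat_lit 5) (nat_lit 31) (nat_lit 9) (nat_lit 511) (nat_lit 4) (nat_lit 15) (nat_lit 14) (nat_lit 16383) (nat_lit 28) (nat_lit 0xdebc9a785634120) (nat_lit 2) (nat_lit 3) (nat_lit 7) (nat_lit 127)
noncomputable def fchk : ℕ → ℕ → ℕ → Bool :=
  auxRun row gf wn (nat_lit 27) (nat_lit 0) (nat_lit 4) (nat_lit 6) (nat_lit 5) (nat_lit 31) (nat_lit 9) (nat_lit 511) (nat_lit 4) (nat_lit 15) (nat_lit 14) (nat_lit 0xdebc9a785634120) (nat_lit 10880) (nat_lit 4) (nat_lit 15)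
theorem rows_of {lo hi : ℕ} {t : JL} (h : t.run rchk (nat_lit 42) hi lo = true) : C.RowsOK lo hi :=
  rowsOK_of_run masks h
theorem facts_of {lo hi : ℕ} {t : JL} (h : t.run fchk (nat_lit 20) hi lo = true) : C.FactsOK lo hi :=
  factsOK_of_run masks h
theorem words_ok : wordsChk 27 6 5 4 28 1003117063354663200 10880 R S Wr Wn cr cn = true := by
  decide +kernel
noncomputable def j0 : JL :=
(.cons (nat_lit 16) (nat_lit 0x220c987200020f04480050858107200020f1c1c00500541140214203261c800080c1120014883041c800083c70700146831600085083000702142031600085140c0070214480041c088000c1070c14203047809d) (nat_lit 14)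
(.cons (nat_lit 11) (nat_lit 0x20f044801c1200d0702206831600d85140c007025c68316000851200d0702200030450305080c018025c015041c31900541070c142030060097) (nat_lit 0)
.nil))
theorem t0 : C.RowsOK (nat_lit 0) (nat_lit 27) :=
  rows_of (t := j0) (by decide +kernel)
noncomputable def j1 : JL :=
(.cons (nat_lit 4) (nat_lit 0x4c000300001800000) (nat_lit 0x80010026001001000000000000)
.nil)
theorem t1 : C.FactsOK (nat_lit 0) (nat_lit 4) :=
  facts_of (t := j1) (by decide +kernel)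
theorem checked : Checked C R S :=
  ⟨⟨Wr, Wn, cr, cn, fun _ => rfl, fun _ => rfl, words_ok⟩, t0,
    t1⟩

/-- In any group whose elements `g 1, …, g 6` satisfy the relators `R`, a subgroup containing the words
of `S` has index at most 27 in the subgroup generated by these elements. -/
theorem idxLe {G : Type*} [Group G] {g : ℕ → G} (hg : Sat g R) {H : Subgroup G}
    (hS : ∀ s ∈ S, ev g s ∈ H) : IdxLe H (gen g 6) 27 :=
  checked.idxLe hg hS

end Cfsg.Agent.H59.SzC.g3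

namespace Cfsg.Agent.H59.SzC.g4
open Cfsg.Agent.H44

noncomputable def rT0 : Tr :=
 (.node (.leaf (nat_lit 0x28968333a14c23948e89550eb8c32864746050eb1de33ca0c09a59744c60eea1d12a57d33b970247553025c4390858c24854285a08ad444666806b52342a7d0a1da43476c318990186094ea133b2664eca19018368c080a39ad7431115116d70709476a4f70eba172ae65c4b00a28496c309d632c878ca00a1ae504049cc0c0870459581be37493a5a0bec6cc89d60bc24c049224b217546bce2a664c048d4242171cb808292748c939b61a414e8a113a916ce8a1179c020811d0320740c81d042001e078e129e63ca798f11c019e83c71885388739331a01867b8872230d0c18a39cb4c460055a416c52215312530c600519a1682c8a3008514a590b1b0354a598b10e7342c14a314224020570ac210e6055324420020ca0a814c4194831052429087006145e706428e41ca3987006322078500c63188308500413c271c630c118c59040043182684c28a6142294509620c0084a0925108202618640c008c409011ca198304a2040004608a50881142204020000c208810c6090118240403842082300400c010030040000))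
 (.leaf (nat_lit 0x5cea9db3b27040b8a33c27806b99933a103ef9a133a2240f980f2e38cb0944fa613ca895e3be4848e8c0f3e4848991123c664aa79af3e403476d31a23686f89d10186bac9d503607ccc140b25b6bef9952a1f130f7163a605408700aae20ce599d12a6)))
noncomputable def gT0 : Tr :=
 (.leaf (nat_lit 0x1c240f70473da64ce680fa1a220e685139803a9498d4cc5a5310a944c3a2939a8a02242809400023000084000110000340000900000692002a07))
/-- The relators. -/
def R : List (List ℕ) := [[1, 2],
  [3, 4],
  [5, 6],
  [7, 8],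
  [1, 1, 1],
  [3, 3, 3],
  [1, 3, 1, 4, 2, 4],
  [5, 5, 5],
  [3, 5, 3, 6, 4, 6],
  [1, 5, 2, 6],
  [7, 7, 7],
  [5, 7, 5, 8, 6, 8],
  [1, 7, 2, 8],
  [3, 7, 4, 8],
  [1, 3, 5, 7, 1, 3, 5, 7, 1, 3, 5, 7, 1, 3, 5, 7, 1, 3, 5, 7, 1, 3, 5, 7, 1, 3, 5, 7, 1, 3, 5, 7, 1, 3, 5, 7, 1, 3, 5, 7],
  [5, 1, 4, 5, 8, 1, 4, 5, 4, 1, 5, 1, 4, 5, 8, 1, 4, 5, 4, 1]]
/-- The subgroup generators. -/
def S : List (List ℕ) := [[1],
  [2],
  [3],
  [4],
  [5],
  [6]]
def Wr : List (List ℕ) := [[2, 1],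
  [4, 3],
  [6, 5],
  [7, 8],
  [8, 7],
  [1, 2],
  [2, 8, 1, 7],
  [3, 4],
  [4, 8, 3, 7],
  [5, 6],
  [1, 7, 2, 8],
  [3, 7, 4, 8],
  [8, 8, 8],
  [2, 6, 1, 5],
  [8, 6, 8, 5, 7, 5],
  [1, 5, 2, 6],
  [6, 6, 6],
  [7, 5, 8, 6, 8, 5],
  [8, 5, 7, 5, 8, 6],
  [6, 4, 6, 3, 5, 3],
  [7, 4, 8, 3],
  [4, 4, 4],
  [8, 3, 7, 4],
  [5, 3, 6, 4, 6, 3],
  [6, 3, 5, 3, 6, 4],
  [5, 8, 6, 8, 5, 7],
  [7, 7, 7],
  [2, 5, 1, 6],
  [7, 3, 8, 4],
  [4, 2, 4, 1, 3, 1],
  [5, 2, 6, 1],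
  [7, 2, 8, 1],
  [4, 1, 3, 1, 4, 2],
  [8, 1, 7, 2],
  [3, 6, 4, 6, 3, 5],
  [5, 5, 5],
  [2, 2, 2],
  [5, 1, 6, 2],
  [3, 1, 4, 2, 4, 1],
  [6, 1, 5, 2],
  [3, 8, 4, 7],
  [7, 1, 8, 2],
  [1, 1, 1],
  [6, 2, 5, 1],
  [6, 8, 5, 7, 5, 8],
  [1, 4, 2, 4, 1, 3],
  [3, 3, 3],
  [1, 8, 2, 7],
  [6, 8, 6, 7, 5, 7],
  [4, 6, 3, 5, 3, 6],
  [8, 6, 7, 5, 7, 6]]
def Wn : List (List ℕ) := [[1, 9],
  [3, 13],
  [5, 17],
  [2, 2, 2],
  [6, 1, 5, 2],
  [3, 1, 4, 2, 4, 1],
  [5, 2, 6, 1],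
  [6, 3, 2, 7, 6, 3, 2, 6, 2, 3, 6, 3, 2, 7, 6, 3, 2, 6, 2, 3],
  [5, 5, 5],
  [1, 2],
  [2, 1],
  [4, 3],
  [6, 5]]
def cr : List (ℕ × ℕ × ℕ) := [(0, 0, 0), (0, 0, 0), (0, 0, 0), (0, 0, 0), (0, 0, 0), (0, 0, 0), (1, 12, 2), (0, 0, 0), (1, 13, 2), (0, 0, 0), (1, 12, 0), (1, 13, 0), (2, 10, 0), (1, 9, 2), (1, 11, 3), (1, 9, 0), (2, 7, 0), (1, 11, 1), (1, 11, 5), (1, 8, 3), (1, 13, 1), (2, 5, 0), (1, 13, 3), (1, 8, 1), (1, 8, 5), (1, 11, 2), (1, 10, 0), (2, 9, 3), (2, 13, 0), (1, 6, 3), (1, 9, 1), (1, 12, 1), (1, 6, 5), (1, 12, 3), (1, 8, 2), (1, 7, 0), (2, 4, 0), (2, 9, 0), (1, 6, 1), (1, 9, 3), (2, 13, 1), (2, 12, 0), (1, 4, 0), (2, 9, 2), (1, 11, 4), (1, 6, 2), (1, 5, 0), (2, 12, 1), (2, 11, 3), (1, 8, 4), (2, 11, 4)]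
def cn : List (ℕ × ℕ × ℕ) := [(1, 16, 0), (1, 18, 0), (1, 20, 0), (2, 4, 0), (1, 9, 3), (1, 6, 1), (1, 9, 1), (2, 15, 2), (1, 7, 0), (0, 0, 0), (0, 0, 0), (0, 0, 0), (0, 0, 0)]
noncomputable def rT : Tr := rT0
noncomputable def gT : Tr := gT0
noncomputable def rC (i : ℕ) : ℕ := rT.get (nat_lit 1) i
noncomputable def gC (i : ℕ) : ℕ := gT.get (nat_lit 0) i
noncomputable def row (p : ℕ) : ℕ := rec2 rC (nat_lit 5) (nat_lit 31) (nat_lit 99) (nat_lit 0x7ffffffffffffffffffffffff) p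
noncomputable def gf (p : ℕ) : ℕ := rec2 gC (nat_lit 8) (nat_lit 255) (nat_lit 22) (nat_lit 0x3fffff) p
noncomputable def gw (c : ℕ) : List ℕ := nth [] Wr c
noncomputable def wn (c : ℕ) : ℕ := pack (nat_lit 5) (nth [] Wn c) (nat_lit 0)
noncomputable def C : Cert :=
  { n := (nat_lit 40), na := (nat_lit 2), M := (nat_lit 21), nc := (nat_lit 8), W := (nat_lit 6), EB := (nat_lit 11),
    LB := (nat_lit 5), nreg := (nat_lit 51), ivT := (nat_lit 0x13a464f835cb62547414c320440), base := (nat_lit 698880),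
    row := row, gf := gf, gw := gw, wn := wn }
theorem masks : Masks C (nat_lit 63) (nat_lit 2047) (nat_lit 31) (nat_lit 17) (nat_lit 131071) :=
  ⟨by decide +kernel, by decide +kernel, by decide +kernel, by decide +kernel, by decide +kernel⟩
noncomputable def rchk : ℕ → ℕ → ℕ → Bool :=
  rowChk row gf gw (nat_lit 40) (nat_lit 21) (nat_lit 8) (nat_lit 6) (nat_lit 63) (nat_lit 11) (nat_lit 2047) (nat_lit 5) (nat_lit 31) (nat_lit 17) (nat_lit 131071) (nat_lit 51) (nat_lit 0x13a464f835cb62547414c320440) (nat_lit 5) (nat_lit 31) (nat_lit 8) (nat_lit 255)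
noncomputable def fchk : ℕ → ℕ → ℕ → Bool :=
  auxRun row gf wn (nat_lit 40) (nat_lit 2) (nat_lit 21) (nat_lit 8) (nat_lit 6) (nat_lit 63) (nat_lit 11) (nat_lit 2047) (nat_lit 5) (nat_lit 31) (nat_lit 17) (nat_lit 0x13a464f835cb62547414c320440) (nat_lit 698880) (nat_lit 6) (nat_lit 63)
theorem rows_of {lo hi : ℕ} {t : JL} (h : t.run rchk (nat_lit 64) hi lo = true) : C.RowsOK lo hi :=
  rowsOK_of_run masks h
theorem facts_of {lo hi : ℕ} {t : JL} (h : t.run fchk (nat_lit 20) hi lo = true) : C.FactsOK lo hi :=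
  factsOK_of_run masks h
theorem words_ok : wordsChk 40 8 6 5 51 24899403105646480400627956581440 698880 R S Wr Wn cr cn = true := by
  decide +kernel
noncomputable def j0 : JL :=
(.cons (nat_lit 16) (nat_lit 0x1704190a16003b3a0515391800083837051d030a16001c060515140a00080106001b031a020807060504190a1600010605040318000801061704030a160001060515140a0008010613041100020801100512000a02080e0605041100020801100f04000a02080e060d00030a020c010b0004030a090807060504033602350134) (nat_lit 0xa4e5079cc5)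
(.cons (nat_lit 16) (nat_lit 0x1b030a020807300504030a002f012e001b031a090807060d002d0a020c010b05202c1f0227002b052a280a020825000520031f1e080006001b030a092901062204280a210825000504031f02270006001b030a0908010605040326020825000504340a1e08000605040024022301062204030a210801000520031f1e080006) (nat_lit 13)
(.cons (nat_lit 8) (nat_lit 0x5150318002f012e1304110032081c10001b031a0929070633041100320801100515140a002f012e0512002402230e06001b310a022907301304110002080106) (nat_lit 0)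
.nil)))
theorem t0 : C.RowsOK (nat_lit 0) (nat_lit 40) :=
  rows_of (t := j0) (by decide +kernel)
noncomputable def j1 : JL :=
(.cons (nat_lit 2) (nat_lit 0) (nat_lit 0)
(.cons (nat_lit 16) (nat_lit 0x2700024c00228001fe001740014a00126000f0000c6000a2000840006600048000300001800000) (nat_lit 0x1c94300300c90a00200b91e00200a8041000c024204504214604214261a2021460420130080052c00c01c12c008010a0c10c90050062042400c014804008011000100338004008c001001000000000000000000)
(.cons (nat_lit 3) (nat_lit 0x480002400000) (nat_lit 0xa9900200ba8800200a92000200d)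
.nil)))
theorem t1 : C.FactsOK (nat_lit 0) (nat_lit 21) :=
  facts_of (t := j1) (by decide +kernel)
theorem checked : Checked C R S :=
  ⟨⟨Wr, Wn, cr, cn, fun _ => rfl, fun _ => rfl, words_ok⟩, t0,
    t1⟩

/-- In any group whose elements `g 1, …, g 8` satisfy the relators `R`, a subgroup containing the words
of `S` has index at most 40 in the subgroup generated by these elements. -/
theorem idxLe {G : Type*} [Group G] {g : ℕ → G} (hg : Sat g R) {H : Subgroup G}
    (hS : ∀ s ∈ S, ev g s ∈ H) : IdxLe H (gen g 8) 40 :=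
  checked.idxLe hg hS

end Cfsg.Agent.H59.SzC.g4

namespace Cfsg.Agent.H59.SzC.pgl
open Cfsg.Agent.H44

noncomputable def rT0 : Tr :=
 (.node (.leaf (nat_lit 0x35800b88646c4171a2c805a4307a30b4c0549c2095a70c5489c319627100542a1014b0edc8a32b14a39146740297a38a4804e3284960ca04e8a2c163009d45a272063809818c2c5131809418a33609309500480c42941eb84887ae011a2bc448233011030c2461c211224f80444bf0e0888c1840c1198808844273f01092f8580213010030106812110220d017e02041a880803c0be08faae03c8ab81de26e403c1e100eaeac37a3bb0ea02f443c01d05e074817601c05d087438601b1dc96d47721b405c806817021b0d1806416e11a0db065016cf9915280643220b500c106c56818300b82d03661180ba02cc16401705885c802a0b008b06bc2a80af18b82b802a15100a0c5835a3160a202b455401405605081560130550aa42660120548a7022612405400449482a7089804014e1a6088841014cf25008029420400e052043c3460e40518e8014400e070803473e1a11cf835014220e00682801a409f006027841a0c3005827421819c05a027171621200582c401209b085066812809a14802640120910040c2833030f042026052a00804b820812c00704a8a500e600604a064c20e064049b04800c092031001471e191145015012220900282400a408f0020238510043001823420818c01a023040c08b00180c41140020448814046001044061c408014043860c002086009000010a1820c1001010800004186040060820408400200000))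
 (.leaf (nat_lit 0x1bbf1e282eba1ba410447003775f0dc9b740366dd88dc6c63c001aa8f0e7e35349e00cd18093d19980c527a3c20998c5218c0318e384c8626444017a50c4602f3)))
noncomputable def gT0 : Tr :=
 (.leaf (nat_lit 0x74d299700ccf6c135d691d45681b50689dc56422de609dde611d5e0c685d4d16384c56b8481c56449639401cd55cddbb58d5ab58c592581dd35415d45409485414ce500ed2500e4a4c09cd48065141193e3c1f5a3c9a2f3917343817db385735341a58341ad731183f30175c30623f2c1fd91c6cc418ecdc185adc0897d80856d615295414ddd310675204a6d10865cf0c654d14e64c08644904800004400001c00001400000ef50012ecf012e3400adb4012d32012cb0012c2e006bae012b2c00aaac00ea2b0129ce00e94d0128cc01284b00e7a500e74a0126c900a64900e59901254800e49200e40b))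
/-- The relators. -/
def R : List (List ℕ) := [[1, 1],
  [2, 2],
  [3, 3],
  [4, 4],
  [1, 2, 1, 2, 1, 2, 1, 2, 1, 2],
  [1, 3, 1, 3],
  [1, 4, 1, 4],
  [2, 3, 2, 3, 2, 3],
  [2, 4, 2, 4],
  [3, 4, 3, 4, 3, 4, 3, 4, 3, 4, 3, 4, 3, 4, 3, 4],
  [1, 4, 3, 4, 3, 4, 3, 4, 3],
  [2, 3, 4, 3, 4, 2, 3, 4, 3, 4, 2, 3, 4, 3, 4, 2, 3, 4, 3, 4, 2, 3, 4, 3, 4]]
/-- The subgroup generators. -/
def S : List (List ℕ) := [[1],
  [2]]
def Wr : List (List ℕ) := [[3, 3],
  [4, 4],
  [1, 3, 1, 3],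
  [2, 2],
  [1, 4, 1, 4],
  [2, 4, 2, 4],
  [1, 1],
  [3, 2, 3, 2, 3, 2],
  [3, 1, 3, 1],
  [3, 4, 3, 4, 3, 4, 3, 1, 4],
  [2, 1, 2, 1, 2, 1, 2, 1, 2, 1],
  [2, 3, 2, 3, 2, 3],
  [1, 4, 3, 4, 3, 4, 3, 4, 3],
  [4, 3, 1, 4, 3, 4, 3, 4, 3],
  [4, 3, 4, 3, 4, 3, 1, 4, 3],
  [1, 2, 1, 2, 1, 2, 1, 2, 1, 2],
  [4, 3, 4, 3, 2, 4, 3, 4, 3, 2, 4, 3, 4, 3, 2, 4, 3, 4, 3, 2, 4, 3, 4, 3, 2]]
def Wn : List (List ℕ) := [[1, 5],
  [2, 7],
  [1, 3, 1, 3],
  [3, 2, 3, 2, 3, 2],
  [1, 4, 1, 4],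
  [2, 4, 2, 4],
  [3, 4, 3, 4, 3, 4, 3, 1, 4],
  [4, 3, 4, 3, 4, 3, 1, 4, 3],
  [3, 2, 4, 3, 4, 3, 2, 4, 3, 4, 3, 2, 4, 3, 4, 3, 2, 4, 3, 4, 3, 2, 4, 3, 4],
  [1, 1],
  [3, 3],
  [4, 4],
  [2, 2],
  [3, 4, 2, 3, 4, 3, 4, 2, 3, 4, 3, 4, 2, 3, 4, 3, 4, 2, 3, 4, 3, 4, 2, 3, 4],
  [1, 2, 1, 2, 1, 2, 1, 2, 1, 2],
  [2, 1, 2, 1, 2, 1, 2, 1, 2, 1],
  [4, 2, 3, 4, 3, 4, 2, 3, 4, 3, 4, 2, 3, 4, 3, 4, 2, 3, 4, 3, 4, 2, 3, 4, 3],
  [2, 4, 3, 4, 3, 2, 4, 3, 4, 3, 2, 4, 3, 4, 3, 2, 4, 3, 4, 3, 2, 4, 3, 4, 3],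
  [1, 3, 4, 3, 4, 3, 4, 3, 4]]
def cr : List (ℕ × ℕ × ℕ) := [(0, 0, 0), (0, 0, 0), (1, 5, 0), (0, 0, 0), (1, 6, 0), (1, 8, 0), (0, 0, 0), (1, 7, 1), (1, 5, 1), (1, 10, 2), (1, 4, 1), (1, 7, 0), (1, 10, 0), (1, 10, 7), (1, 10, 3), (1, 4, 0), (2, 11, 0)]
def cn : List (ℕ × ℕ × ℕ) := [(1, 12, 0), (1, 13, 0), (1, 5, 0), (1, 7, 1), (1, 6, 0), (1, 8, 0), (1, 10, 2), (1, 10, 3), (2, 11, 3), (0, 0, 0), (0, 0, 0), (0, 0, 0), (0, 0, 0), (1, 11, 3), (1, 4, 0), (1, 4, 1), (1, 11, 4), (2, 11, 4), (2, 10, 8)]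
noncomputable def rT : Tr := rT0
noncomputable def gT : Tr := gT0
noncomputable def rC (i : ℕ) : ℕ := rT.get (nat_lit 1) i
noncomputable def gC (i : ℕ) : ℕ := gT.get (nat_lit 0) i
noncomputable def row (p : ℕ) : ℕ := rec2 rC (nat_lit 6) (nat_lit 63) (nat_lit 65) (nat_lit 0x1ffffffffffffffff) p
noncomputable def gf (p : ℕ) : ℕ := rec2 gC (nat_lit 7) (nat_lit 127) (nat_lit 24) (nat_lit 0xffffff) p
noncomputable def gw (c : ℕ) : List ℕ := nth [] Wr c
noncomputable def wn (c : ℕ) : ℕ := pack (nat_lit 4) (nth [] Wn c) (nat_lit 0)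
noncomputable def C : Cert :=
  { n := (nat_lit 72), na := (nat_lit 23), M := (nat_lit 78), nc := (nat_lit 4), W := (nat_lit 7), EB := (nat_lit 13),
    LB := (nat_lit 4), nreg := (nat_lit 17), ivT := (nat_lit 0x785643210), base := (nat_lit 160),
    row := row, gf := gf, gw := gw, wn := wn }
theorem masks : Masks C (nat_lit 127) (nat_lit 8191) (nat_lit 15) (nat_lit 18) (nat_lit 262143) :=
  ⟨by decide +kernel, by decide +kernel, by decide +kernel, by decide +kernel, by decide +kernel⟩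
noncomputable def rchk : ℕ → ℕ → ℕ → Bool :=
  rowChk row gf gw (nat_lit 72) (nat_lit 78) (nat_lit 4) (nat_lit 7) (nat_lit 127) (nat_lit 13) (nat_lit 8191) (nat_lit 4) (nat_lit 15) (nat_lit 18) (nat_lit 262143) (nat_lit 17) (nat_lit 0x785643210) (nat_lit 7) (nat_lit 127) (nat_lit 7) (nat_lit 127)
noncomputable def fchk : ℕ → ℕ → ℕ → Bool :=
  auxRun row gf wn (nat_lit 72) (nat_lit 23) (nat_lit 78) (nat_lit 4) (nat_lit 7) (nat_lit 127) (nat_lit 13) (nat_lit 8191) (nat_lit 4) (nat_lit 15) (nat_lit 18) (nat_lit 0x785643210) (nat_lit 160) (nat_lit 8) (nat_lit 255)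
theorem rows_of {lo hi : ℕ} {t : JL} (h : t.run rchk (nat_lit 28) hi lo = true) : C.RowsOK lo hi :=
  rowsOK_of_run masks h
theorem facts_of {lo hi : ℕ} {t : JL} (h : t.run fchk (nat_lit 20) hi lo = true) : C.FactsOK lo hi :=
  factsOK_of_run masks h
theorem words_ok : wordsChk 72 4 7 4 17 32302707216 160 R S Wr Wn cr cn = true := by
  decide +kernel
noncomputable def j0 : JL :=
(.cons (nat_lit 16) (nat_lit 0x28205040400704002070004205040400700042050420007040020300043070424200040020300042050420007000430504002030404992) (nat_lit 3353)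
(.cons (nat_lit 16) (nat_lit 0x2820504040070400207000430504002070004205044c007000430704042000004207042000704002030004307044858000043070424200) (nat_lit 9916)
(.cons (nat_lit 16) (nat_lit 0x4985040400700043070404200004820704200070400203000420704002030004307040458004006070004205040400700043070424200) (nat_lit 6333)
(.cons (nat_lit 16) (nat_lit 0x3400619300060700043070424600005c20504200070028b052a0401404002070004305000431324002030004307040020704045800400207) (nat_lit 0x2b52cdf408709730)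
(.cons (nat_lit 8) (nat_lit 0x28305222001026009031e002071c0060d002830504002030400203) (nat_lit 9544)
.nil)))))
theorem t0 : C.RowsOK (nat_lit 0) (nat_lit 72) :=
  rows_of (t := j0) (by decide +kernel)
noncomputable def j1 : JL :=
(.cons (nat_lit 23) (nat_lit 0) (nat_lit 0)
(.cons (nat_lit 16) (nat_lit 0x2e0002b00028000250001f8001a0001700014000110000e0000a00007000050000300001800000) (nat_lit 0x2c000203020302270080072c00030030052401030030062000030030051c03000203070f190080081a44180e06030203008007183f11003003160c0f00300612000b0030030e3b090030050c0601070d0050040600050030033400100232001001000000000000)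
(.cons (nat_lit 16) (nat_lit 0x408003d8002f8002d000298002700024800218001f0001c0001900016800138001100003000000) (nat_lit 0x3e6f0000300a426d0100300d163c0c0f19481c01030203020103020302010302030201030201900e682800200c28010301004006622a00200d5e2400200c2a5e4d00300d5c2200200a24582c00300c22584f00300a542600200c51550200300b545200200a26020301020302030102030203010203020301020302030102019009024e51003003)
(.cons (nat_lit 16) (nat_lit 0x3b8002e0002b00028800260001f8001d0001680014000118000f0000c000090000600003000000) (nat_lit 0x30140a03010203020301020302030102030203010203020301801230140a0103020302010302030201030203020103020302010180112e4115003005862000200c864b00200a4b01000100010001000100a010821e00200d1e00010001000100010000a00f7a4700200b781c00200b760400200b1a750300300c49730300300c09710300300c10710200300b186f0200300b)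
(.cons (nat_lit 7) (nat_lit 0x14000110000e0000b8000880006000000) (nat_lit 0x9c1200200b2f9b0300300c8d970000300a928f00200c31930200300b929100200d8f028e30140a030200009013)
.nil)))))
theorem t1 : C.FactsOK (nat_lit 0) (nat_lit 78) :=
  facts_of (t := j1) (by decide +kernel)
theorem checked : Checked C R S :=
  ⟨⟨Wr, Wn, cr, cn, fun _ => rfl, fun _ => rfl, words_ok⟩, t0,
    t1⟩

/-- In any group whose elements `g 1, …, g 4` satisfy the relators `R`, a subgroup containing the words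
of `S` has index at most 72 in the subgroup generated by these elements. -/
theorem idxLe {G : Type*} [Group G] {g : ℕ → G} (hg : Sat g R) {H : Subgroup G}
    (hS : ∀ s ∈ S, ev g s ∈ H) : IdxLe H (gen g 4) 72 :=
  checked.idxLe hg hS

end Cfsg.Agent.H59.SzC.pgl

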