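import Mathlib
import Cfsg.Agent.H59.SzM
import Cfsg.Agent.H59.PM

/-!
# The centraliser of a central involution of the Suzuki group: letters and facts
-/

set_option autoImplicit false
set_option maxRecDepth 200000
set_option linter.style.longLine false

namespace Cfsg.Agent.H59.Sz

open Cfsg.Agent.H44 Equiv
open Cfsg.Agent.H43 hiding allL allL_iff anyL anyL_iff

/-- The centraliser of the first generator. -/
noncomputable def Hs : Subgroup (Perm (Fin 1782)) :=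
  grp 1782 SuzM.E ⊓ Subgroup.centralizer {Net.toPerm 1782 SuzM.m_g1}

theorem card_Hs : Nat.card Hs = 3317760 := SzT.st_c1_card

theorem EH_Hs : grp 1782 EH ≤ Hs := fun x hx =>
  ⟨EH_le hx, Subgroup.mem_centralizer_singleton_iff.2 ((EH_sym.2.2.2 x hx).1 0)⟩

/-- The letters. -/
noncomputable def ν (x : ℕ) : Hs := ⟨gp 1782 EH code x, EH_Hs (gp_mem _ _ _ _)⟩

/-- A labelling of the base points. -/
noncomputable def L4 : ℕ := (nat_lit 0x10000000000000000000080000000000000000000000000000000000000000000000000000000000000000000000000000000000000000000000000000000000000000000000000000000000000000000000000000000000000000000000000000000000000000000000000000000000000000000000000000000000000000000000000000000000000000000000000000000000000020000000000000000000000000000000000000000000000000000000000000000000000000000000000000000000000000080000000000000000000001000000000000020000000000000000000000000000000000000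000000000000000000000000000000000000000000000000000000000000000000000000000000000000000000000000000000000000000000000000000000000000000000000000000000000000000000000000000000000000000000000000000000000000000000000000000000000000000000000000000000000000000000000000000000000800000000000000000000000000000000000000000000000000000000000000000000000000000000000000000000000000000000000000000000000040000000000000000000000002000000020000000000000000000000000000000000000000000000000000000000000000000000000000000000000000000000000000000000000000000000000000000000000000000000000000000000000000000000000000000000000000000000000000000000000000000000000000000000000000000000000000000000000000000000000000000000000000000000000000000000000000000000000000000000000000000000000000000000000000000000000000000000000000000000000000080000000000000000000001000000000000000000000000080000000000000000003)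

/-- The test plane. -/
noncomputable def P1 : ℕ := (nat_lit 0x1a887e8c78c95c4c881f18fb8271ac5ad8a4113d31a3cb782163c19963e8dfd1c0ad0aca8aca82ca7871f529eef514118a96798838b7282e7602c68895952609fc68884f8d5cb8d42de13d6ef61487c1e719a3f98fb1f506e61e6d226d059aaf0050f4dd5cd47fd78e352c74f53a7708e7c3de50abc8548928ce1c2c5140d7166d0222934d31fd9a9f145641bcef21811e25ca73c8b6956157036e656cf8e8380b1c6f6a7ba62b464ba3219cd0fc91cc61edfce48b66f8ac0808b6755ef78c83472e1ddf725660d8a5ff6d7b644fd0748ed7f21cd9d96318c0fa44c37b6977)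

theorem det4 : Det 1782 4 L4 (grp 1782 SuzM.E) :=
  det_of_base SuzM.exact.isBase (by decide +kernel)

/-- The model data. -/
noncomputable abbrev D : MD := ⟨1782, 4, L4, P1, EH, code⟩

theorem ok : D.Ok Hs.subtype ν :=
  ⟨h_hn, EH_ok, det4.mono EH_le, Hs.subtype_injective, fun _ => rfl⟩

theorem nu1 : (ν 1 : Perm (Fin 1782)) = Net.toPerm 1782 SuzM.m_g1 := by
  change gp 1782 EH code 1 = _
  unfold gp letterG
  rw [if_pos (by decide +kernel)]
  rfl

theorem cen (ξ : Hs) : ξ * ν 1 = ν 1 * ξ := Subtype.ext (by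
  rw [Subgroup.coe_mul, Subgroup.coe_mul, nu1]
  exact Subgroup.mem_centralizer_singleton_iff.1 ξ.2.2)

/-- Equations for the structure of the centraliser. -/
def LA : List (List ℕ × List ℕ) := [([1, 1], []), ([2, 3], [3, 2]), ([2, 4], [4, 2]), ([2, 5], [5, 2, 1]), ([2, 20], [20, 2]), ([2, 21], [21, 2]), ([3, 2], [2, 3]), ([3, 4], [4, 3, 1]), ([3, 5], [5, 3]), ([3, 20], [20, 3]), ([3, 21], [21, 3]), ([4, 2], [2, 4]), ([4, 3], [3, 4, 1]), ([4, 5], [5, 4]), ([4, 20], [20, 4]), ([4, 21], [21, 4]), ([5, 2], [2, 5, 1]), ([5, 3], [3, 5]), ([5, 4], [4, 5]), ([5, 20], [20, 5]), ([5, 21], [21, 5]), ([20, 2], [2, 20]), ([20, 3], [3, 20]), ([20, 4], [4, 20]), ([20, 5], [5, 20]), ([20, 21], [21, 20, 1]), ([21, 2], [2, 21]), ([21, 3], [3, 21]), ([21, 4], [4, 21]), ([21, 5], [5, 21]), ([21, 20], [20, 21, 1]), ([22, 1], [1, 22]), ([22, 2], [21, 4, 3, 22]), ([22, 3], [5, 1, 22]), ([22, 4], [20, 5, 4, 2, 22]), ([22,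 5], [5, 3, 22]), ([22, 20], [21, 5, 22]), ([22, 21], [20, 21, 3, 22]), ([24, 1], [1, 24]), ([24, 2], [4, 2, 1, 24]), ([24, 3], [21, 2, 5, 3, 24]), ([24, 4], [2, 1, 24]), ([24, 5], [20, 21, 4, 3, 24]), ([24, 20], [21, 4, 2, 24]), ([24, 21], [20, 21, 2, 24]), ([26, 1], [1, 26]), ([26, 2], [4, 2, 1, 26]), ([26, 3], [5, 3, 26]), ([26, 4], [2, 26]), ([26, 5], [3, 26]), ([26, 20], [21, 1, 26]), ([26, 21], [20, 21, 26]), ([28, 1], [1, 28]), ([28, 2], [21, 4, 3, 2, 28]), ([28, 3], [5, 3, 28]), ([28, 4], [20, 21, 5, 2, 28]), ([28, 5], [3, 1, 28]), ([28, 20], [21, 5, 3, 1, 28]), ([28, 21], [21, 20, 3, 28]), ([16, 16, 16, 16, 16], []), ([16, 17], []), ([16, 2], [2, 16]), ([19, 2], [2, 19]), ([19, 16], [17, 19]), ([19, 19], []), ([2, 2], []), ([22, 24, 22, 25, 23, 25], [21, 20, 3]), ([24, 26, 24, 27, 25, 27], [21, 20, 2]), ([26, 28, 26, 29, 27, 29], [21, 20, 5]), ([22, 26, 23, 27], [20, 2]), ([22, 28, 23, 29],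 [21, 20, 4, 3, 2]), ([24, 28, 25, 29], [21, 20, 3, 2]), ([22, 24, 26, 28, 22, 24, 26, 28, 22, 24, 26, 28, 22, 24, 26, 28, 22, 24, 26, 28], [21, 20, 5, 2]), ([19, 26, 22, 25, 26, 29, 22, 25, 26, 25, 22], [20, 4]), ([22, 22, 22], []), ([22, 23], []), ([24, 24, 24], []), ([24, 25], []), ([26, 26, 26], []), ([26, 27], []), ([28, 28, 28], []), ([28, 29], []), ([18, 18], []), ([16, 18, 16, 18, 16, 18], []), ([19], [18, 16, 16, 18, 17, 17, 18, 16, 16]), ([14], [16, 18]), ([34], [17, 18, 16]), ([18, 19], [19, 18]), ([18, 2], [2, 18]), ([3, 1, 2], [2, 3, 1]), ([3, 1, 14], [14, 3, 1]), ([3, 1, 34], [34, 3, 1]), ([3, 1, 16, 3, 1, 17], [1, 16, 3, 1, 17, 3, 1]), ([3, 1, 16, 3, 1, 16, 3, 1, 16, 3, 1, 16, 3, 1, 16], []), ([5, 5], []), ([5, 16], [16, 5]), ([5, 18], [18, 5]), ([5, 2], [1, 2, 5]), ([10, 2, 2], [10]), ([10, 3, 2, 1, 1, 2], [3, 10]), ([3, 1, 1], [3])]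

/-- Equations for the remaining relators. -/
def LB : List (List ℕ × List ℕ) := [([4], [17, 17, 3, 16, 16]), ([17, 17, 10, 16, 16], [11]), ([11], [17, 17, 10, 16, 16]), ([17, 17, 3, 10, 16, 16], [4, 11]), ([3, 3], []), ([4, 4], []), ([6, 7], []), ([8, 9], []), ([1, 2, 1, 2], []), ([1, 3, 1, 3], []), ([1, 4, 1, 4], []), ([1, 5, 1, 5], []), ([2, 3, 2, 3], []), ([2, 4, 2, 4], []), ([2, 5, 2, 5, 1], []), ([3, 4, 3, 4, 1], []), ([3, 5, 3, 5], []), ([4, 5, 4, 5], []), ([6, 6, 6], []), ([6, 1, 7, 1], []), ([6, 3, 7, 2], []), ([6, 4, 7, 5, 4], []), ([6, 2, 7, 3, 2, 1], []), ([6, 5, 7, 4], []), ([8, 8, 8], []), ([8, 1, 9, 1], []), ([8, 3, 9, 5, 1], []), ([8, 4, 9, 4, 2], []), ([8, 2, 9, 4, 1], []), ([8, 5, 9, 5, 3], []), ([6, 8, 7, 9], []), ([10, 10], []), ([11, 11], []), ([1, 10, 1, 10], []), ([1, 11, 1, 11], []), ([2, 10, 2, 10], []), ([2, 11, 2, 11], []), ([3, 10, 3, 10], []), ([3, 11, 3, 11, 2, 1], []),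 ([4, 10, 4, 10, 2, 1], []), ([4, 11, 4, 11], []), ([5, 10, 5, 10, 3], []), ([5, 11, 5, 11, 4], []), ([10, 11, 10, 11, 2], []), ([3, 10, 6, 10, 3, 7], []), ([11, 6, 11, 6], []), ([3, 10, 8, 10, 3, 8], []), ([11, 8, 11, 9], []), ([1, 14], [14, 1]), ([2, 14], [14, 2]), ([3, 14], [14, 3]), ([4, 14], [14, 4]), ([5, 14], [14, 5]), ([6, 14], [14, 6]), ([7, 14], [14, 7]), ([8, 14], [14, 8]), ([9, 14], [14, 9]), ([10, 14], [14, 10]), ([11, 14], [14, 11]), ([14, 14, 14], []), ([14, 15], []), ([7, 16, 18, 17, 3, 10, 17, 18, 17, 3, 10, 17, 1, 2], [32, 7]), ([5, 4, 16, 18, 17, 10, 17, 18, 17, 10, 17, 2], [16, 18, 17, 10, 17, 18, 17, 10, 17, 2, 5, 4]), ([8, 5, 18, 17, 17, 18, 16, 16, 18, 3, 10, 17, 3, 10], [32, 8, 5]), ([5, 3, 18, 17, 17, 18, 16, 16, 18, 10, 17, 10], [18, 17, 17, 18, 16, 16, 18, 10, 17, 10, 5, 3]), ([1, 32], [32, 1]), ([2, 32], [32, 2]), ([3, 32], [32, 3]), ([4, 32], [32, 4]), ([11, 32], [32, 11]),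 ([31], [6, 2, 8, 1, 16, 16, 18, 17, 17, 18, 16, 16]), ([31, 1], [1, 31]), ([31, 2], [5, 4, 1, 31]), ([31, 3], [5, 3, 4, 2, 31]), ([31, 4], [4, 31]), ([31, 5], [4, 2, 1, 31]), ([31, 6], [3, 9, 31]), ([31, 7], [8, 3, 31]), ([31, 8], [4, 2, 7, 31]), ([31, 9], [6, 4, 2, 31]), ([31, 10], [11, 6, 31]), ([31, 11], [10, 8, 3, 31]), ([31, 14], [15, 31]), ([31, 31], []), ([31, 2, 31], [5, 4, 1]), ([32, 32], []), ([4, 1, 4, 1], []), ([3, 2, 3, 2], []), ([1, 31, 1, 31], []), ([1, 32, 1, 32], []), ([1, 4, 1, 1, 4, 1], []), ([1, 3, 2, 1, 3, 2], []), ([2, 31, 2, 31, 2, 31, 2, 31, 2, 31, 2, 31, 2, 31, 2, 31], []), ([2, 32, 2, 32], []), ([2, 4, 1, 2, 4, 1], []), ([2, 3, 2, 2, 3, 2], []), ([31, 32, 31, 32, 31, 32], []), ([31, 4, 1, 31, 4, 1], []), ([31, 3, 2, 31, 3, 2], []), ([32, 4, 1, 32, 4, 1], []), ([32, 3, 2, 32, 3, 2], []), ([4, 1, 3, 2, 4, 1, 3, 2, 4, 1, 3, 2, 4, 1, 3, 2], []), ([1, 31, 2, 31, 2, 31, 2, 31, 2],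 []), ([1, 3, 2, 4, 1, 3, 2, 4, 1], []), ([14, 32, 14, 32, 14, 32], []), ([15, 32, 15, 32, 15, 32], []), ([30, 6, 8], [14, 30]), ([30, 14], [6, 8, 30]), ([3, 10, 11, 6, 8], [9, 7, 3, 10, 11]), ([6, 8, 6, 8, 6, 8], [])]

theorem eqA : Eqs ν LA := ok.eqs (by decide +kernel)

theorem eqB : Eqs ν LB := ok.eqs (by decide +kernel)

theorem nes : ∀ p ∈ [([1], []), ([2], []), ([2], [1]), ([2, 5], [5, 2]), ([16], []), ([14, 32], [32, 14]), ([14], [])], ev ν p.1 ≠ ev ν p.2 := fun p hp =>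
  ok.ne (allL_iff.1 (show allL (fun p : List ℕ × List ℕ => D.neW p.1 p.2) _ = true by decide +kernel) p hp)

/-- Generators of the extraspecial group. -/
def SQ : List (List ℕ) := [[1], [2], [3], [4], [5], [20], [21]]

/-- The action on the extraspecial group. -/
def NQ : List (ℕ × ℕ × List ℕ) := [(22, 1, [1]), (22, 2, [21, 4, 3]), (22, 3, [5, 1]), (22, 4, [20, 5, 4, 2]), (22, 5, [5, 3]), (22, 20, [21, 5]), (22, 21, [20, 21, 3]), (24, 1, [1]), (24, 2, [4, 2, 1]), (24, 3, [21, 2, 5, 3]), (24, 4, [2, 1]), (24, 5, [20, 21, 4, 3]), (24, 20, [21, 4, 2]), (24, 21, [20, 21, 2]), (26, 1, [1]), (26, 2, [4, 2, 1]), (26, 3, [5, 3]), (26, 4, [2]), (26, 5, [3]), (26, 20, [21, 1]), (26, 21, [20, 21]), (28, 1, [1]), (28, 2, [21, 4, 3, 2]), (28, 3, [5, 3]), (28, 4, [20, 21, 5, 2]), (28, 5, [3, 1]), (28, 20, [21, 5, 3, 1]), (28, 21, [21, 20, 3])]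

/-- Relators modulo the extraspecial group. -/
def RC : List (List ℕ × List ℕ) := [([22, 24, 22, 25, 23, 25], [21, 20, 3]), ([24, 26, 24, 27, 25, 27], [21, 20, 2]), ([26, 28, 26, 29, 27, 29], [21, 20, 5]), ([22, 26, 23, 27], [20, 2]), ([22, 28, 23, 29], [21, 20, 4, 3, 2]), ([24, 28, 25, 29], [21, 20, 3, 2]), ([22, 24, 26, 28, 22, 24, 26, 28, 22, 24, 26, 28, 22, 24, 26, 28, 22, 24, 26, 28], [21, 20, 5, 2]), ([19, 26, 22, 25, 26, 29, 22, 25, 26, 25, 22], [20, 4])]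

theorem cq (ξ : Hs) (h : ∀ x ∈ [1, 2, 3, 4, 5, 20, 21], ξ * ν x = ν x * ξ) : ξ ∈ wgen ν [[1]] :=
  ok.cent (fun ξ => ξ.2.1) cq_sym cq_cnt cq_geE cq_le [1, 2, 3, 4, 5, 20, 21] [1] rfl (by decide +kernel) rfl
    (by decide +kernel) h

theorem cf (ξ : Hs) (h : ∀ x ∈ [1, 2, 16], ξ * ν x = ν x * ξ) : ξ ∈ wgen ν [[1], [2], [16]] :=
  ok.cent (fun ξ => ξ.2.1) cf_sym cf_cnt cf_geE cf_le [1, 2, 16] [1, 2, 16] rfl (by decide +kernel) rfl
    (by decide +kernel) h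

theorem cj (ξ : Hs) (h : ∀ x ∈ [1, 2, 19], ξ * ν x = ν x * ξ) : ξ ∈ wgen ν [[1], [2], [18], [19], [35], [36]] :=
  ok.cent (fun ξ => ξ.2.1) cj_sym cj_cnt cj_geE cj_le [1, 2, 19] [1, 2, 18, 19, 35, 36] rfl (by decide +kernel) rfl
    (by decide +kernel) h

theorem ce (ξ : Hs) (h : ∀ x ∈ [1, 2, 14, 34], ξ * ν x = ν x * ξ) : ξ ∈ wgen ν [[1], [2], [3], [10]] :=
  ok.cent (fun ξ => ξ.2.1) ce_sym ce_cnt ce_geE ce_le [1, 2, 14, 34] [1, 2, 3, 10] rfl (by decide +kernel) rfl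
    (by decide +kernel) h

theorem cv (ξ : Hs) (h : ∀ x ∈ [1, 2, 16, 18], ξ * ν x = ν x * ξ) : ξ ∈ wgen ν [[1], [2]] :=
  ok.cent (fun ξ => ξ.2.1) cv_sym cv_cnt cv_geE cv_le [1, 2, 16, 18] [1, 2] rfl (by decide +kernel) rfl
    (by decide +kernel) h

theorem cy (ξ : Hs) (h : ∀ x ∈ [1, 14], ξ * ν x = ν x * ξ) : ξ ∈ wgen ν [[1], [2], [3], [4], [5], [6], [7], [8], [9], [10], [11], [14]] :=
  ok.cent (fun ξ => ξ.2.1) cy_sym cy_cnt cy_geE cy_le [1, 14] [1, 2, 3, 4, 5, 6, 8, 10, 11, 14] rfl (by decide +kernel) rfl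
    (by decide +kernel) h

theorem cy_le_card : 3456 ≤ Nat.card (wgen ν [[1], [2], [3], [4], [5], [6], [7], [8], [9], [10], [11], [14]]) := by
  rw [ok.card_wgen]
  exact cy_ge.trans (Subgroup.card_le_of_le
    (grp_le_wgen' [1, 2, 3, 4, 5, 6, 8, 10, 11, 14] rfl (by decide +kernel)))

theorem top : wgen ν [[22], [24], [26], [28]] = ⊤ := by
  refine Subgroup.eq_top_of_le_card _ ?_
  rw [ok.card_wgen, card_Hs]
  exact hh_ge.trans (Subgroup.card_le_of_le (grp_le_wgen' [22, 24, 26, 28] rfl (by decide +kernel)))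

theorem card_Q : Nat.card (wgen ν SQ) = 128 := by
  have e : wgen (gp 1782 EH code) SQ = grp 1782 qq_O :=
    le_antisymm (wgen_le_grp [1, 2, 3, 4, 5, 20, 21] rfl (by decide +kernel))
      (grp_le_wgen' [1, 2, 3, 4, 5, 20, 21] rfl (by decide +kernel))
  exact (ok.card_wgen SQ).trans (e ▸ qq_card)

/-- The elements of the extraspecial group with conjugating words. -/
def WQ : List (List ℕ × List ℕ) := [([20, 4, 3, 2], [23, 26, 25]), ([20, 3, 4, 2], [23, 25, 22]), ([2, 5, 4], []), ([21, 20, 4, 2], []), ([20, 5, 3, 1], []), ([20, 21], []), ([20, 5, 4, 1], []), ([5], [29, 27, 25]), ([21, 20, 5, 4, 3], [29, 27]), ([4, 2, 1], [25]), ([], []), ([21, 20, 5, 3, 2], [23, 27]), ([2, 5, 3], []), ([5, 1], [22, 27, 25]), ([20, 3, 1], []), ([20, 21, 5, 4, 3], [22, 27]), ([20, 4], []), ([20, 3], []), ([20, 2, 5], [24, 22]), ([5, 3, 4], []), ([20, 5, 3, 4, 2], []), ([5, 4, 2], []), ([20, 21, 5, 3, 2], [28, 27]), ([20,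 2, 1], []), ([20, 5, 4], []), ([21, 4, 3, 2], [29]), ([21, 2], []), ([20, 5, 3], []), ([21, 2, 1], []), ([21, 3, 4, 2], [22]), ([21, 2, 5], [22, 25, 22]), ([21, 5, 3, 4, 2], []), ([21, 20, 3, 2], []), ([20, 21, 3, 2], []), ([1], []), ([21, 5, 4, 1], []), ([21, 5, 4], []), ([21, 4, 1], []), ([20, 5, 4, 3, 2], []), ([4, 2], [24, 26]), ([20, 4, 1], []), ([3, 2, 1], [23, 25, 27, 25]), ([21, 20], []), ([21, 20, 4, 3], [23, 25, 26]), ([21, 20, 5, 4, 2], [24, 28]), ([20, 21, 5, 4, 2], [23, 24]), ([5, 3, 2], []), ([21, 5, 3, 1], []), ([21, 20, 5], []), ([3, 2], [23, 25, 23, 27]), ([21, 3, 1], []), ([4, 3], []), ([20, 21, 4, 3], [22, 24, 23]), ([21, 5, 3], []), ([20, 2], []), ([3, 4], []), ([5, 4, 3], []), ([20, 21, 4, 2], []), ([21, 5, 4, 3, 2], []), ([21, 3], []), ([20, 21, 5], []), ([21, 5, 2], [22, 25, 27]), ([20, 5, 2], [22, 26]), ([21, 4], []), ([20, 5, 1], []), ([21, 3, 2], []), ([2, 5], []), ([21, 4,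 2], []), ([20, 3, 2], []), ([20, 5], []), ([4, 1], [24]), ([20, 5, 3, 4], [29, 25]), ([2], []), ([21, 20, 4, 3, 2], [29, 25, 23]), ([21, 2, 5, 4], [23, 25, 27]), ([21, 1], []), ([20, 3, 2, 1], []), ([21, 3, 2, 1], []), ([21, 4, 2, 1], []), ([21, 5, 1], []), ([20, 1], []), ([5, 4], [23, 25, 23]), ([20, 21, 3], []), ([5, 3, 4, 2], [22, 26, 24]), ([21, 20, 4], []), ([5, 3], [26, 23, 24]), ([20, 4, 3], [22, 26, 25]), ([20, 2, 5, 3], [23, 25]), ([5, 4, 1], [23, 27, 25]), ([5, 3, 1], [23, 26, 24]), ([21, 3, 4], [28]), ([5, 2], []), ([5, 4, 3, 2], [22, 24, 22]), ([20, 21, 5, 4, 3, 2], []), ([20, 4, 2], []), ([3, 1], [23, 26, 24, 26]), ([20, 2, 5, 4], [23, 26]), ([21, 4, 3], [23]), ([20, 21, 5, 3], []), ([20, 21, 2], []), ([4, 3, 2], []), ([20, 5, 4, 2], [26, 23]), ([20, 3, 4], [23, 24, 22]), ([21], []), ([20, 5, 4, 3], [22, 25]), ([21, 20, 5, 3], []), ([21, 20, 2], []), ([21, 2, 5, 3], [23, 24, 23]), ([3,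 4, 2], []), ([20, 21, 4], []), ([21, 5], []), ([2, 1], [23, 29]), ([20, 21, 4, 3, 2], [23, 27, 24]), ([20, 5, 3, 2], [28, 25]), ([3], [23, 24, 23, 24]), ([21, 20, 3], []), ([21, 5, 4, 3], [24, 29, 26]), ([21, 20, 5, 2], [24, 29]), ([4], [26]), ([21, 5, 3, 4], [22, 24, 26]), ([21, 5, 3, 2], [24, 28, 23]), ([20], []), ([20, 4, 2, 1], []), ([21, 20, 5, 4, 3, 2], []), ([20, 21, 5, 2], [22, 24]), ([21, 5, 4, 2], [28, 25, 27]), ([21, 20, 5, 4], []), ([20, 21, 5, 4], [])]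

theorem inv_Q (ξ : Hs) (h : ξ ∈ wgen ν SQ) (e : ξ * ξ = 1) :
    ξ = 1 ∨ ξ = ν 1 ∨ ∃ η, η * ξ = ν 2 * η := by
  obtain ⟨_, hw, rfl⟩ := ok.cover (W := WQ.map Prod.fst) (by decide +kernel) (by decide +kernel)
    (card_Q.le.trans (by decide +kernel)) ξ h
  obtain ⟨p, hp, rfl⟩ := List.mem_map.1 hw
  have := allL_iff.1 (show allL (fun p : List ℕ × List ℕ => bO (D.neW (p.1 ++ p.1) [])
    (bO (p.1 == []) (bO (p.1 == [1]) (D.eqW (p.2 ++ p.1) (2 :: p.2))))) WQ = true by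
      decide +kernel) p hp
  simp only [bO_iff, beq_iff_eq] at this
  rcases this with h1 | h1 | h1 | h1
  · exact absurd (by rw [ev_append, e, ev_nil]) (ok.ne h1)
  · left; rw [h1, ev_nil]
  · right; left; rw [h1, ev_single]
  · right; right; exact ⟨ev ν p.2, by rw [← ev_append, ok.eq h1, ev_cons]⟩

/-- All elements of the centraliser of `z, t, j`. -/
def Wj : List (List ℕ) := [[36, 2, 1], [35, 18, 2, 1], [18, 1], [36, 2], [35, 18, 2], [18], [36], [36, 35, 18, 2], [36, 35, 18, 2, 1], [36, 35, 2, 1], [36, 35, 19, 18], [36, 18, 2, 1], [19, 2], [35, 18], [], [36, 18, 2], [35], [36, 35, 19, 18, 1], [35, 18, 1], [19, 2, 1], [1], [35, 1], [36, 35, 2], [36, 1], [36, 35, 19, 2, 1], [36, 35, 1], [36, 35], [36, 35, 19, 2], [35, 19, 18], [35, 19, 18, 1], [36, 19, 18], [36, 19, 18, 2], [18, 2, 1], [35, 19, 2], [36, 19, 18, 2, 1], [19, 18], [19], [36, 35, 19, 18, 2], [35, 19, 2, 1], [36, 19, 18, 1], [35, 19, 1],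 [19, 18, 1], [19, 1], [36, 19, 2], [18, 2], [36, 35, 19, 18, 2, 1], [36, 19, 2, 1], [35, 19], [19, 18, 2], [19, 18, 2, 1], [36, 19, 1], [36, 19], [2], [36, 35, 19, 1], [36, 35, 18], [36, 35, 18, 1], [35, 19, 18, 2, 1], [2, 1], [35, 2, 1], [35, 2], [35, 19, 18, 2], [36, 18], [36, 18, 1], [36, 35, 19]]

/-- All elements of the centraliser of `z, t, u, k₀`. -/
def We : List (List ℕ) := [[10, 2], [], [10, 1], [10, 3, 1], [10, 3], [10, 3, 2], [10, 2, 1], [10, 3, 2, 1], [10], [1], [3, 2, 1], [3, 2], [2], [3, 1], [2, 1], [3]]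

/-- The four-group. -/
def Wv : List (List ℕ) := [[], [1], [2], [2, 1]]

theorem cj_cov : ∀ ξ ∈ wgen ν [[1], [2], [18], [19], [35], [36]], ∃ w ∈ Wj, ξ = ev ν w :=
  ok.cover (by decide +kernel) (by decide +kernel) (by
    rw [ok.card_wgen]
    exact (Subgroup.card_le_of_le (wgen_le_grp [1, 2, 18, 19, 35, 36] rfl (by decide +kernel))).trans cj_card)

theorem ce_cov : ∀ ξ ∈ wgen ν [[1], [2], [3], [10]], ∃ w ∈ We, ξ = ev ν w :=
  ok.cover (by decide +kernel) (by decide +kernel) (by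
    rw [ok.card_wgen]
    exact (Subgroup.card_le_of_le (wgen_le_grp [1, 2, 3, 10] rfl (by decide +kernel))).trans ce_card)

theorem cv_cov : ∀ ξ ∈ wgen ν [[1], [2]], ∃ w ∈ Wv, ξ = ev ν w :=
  ok.cover (by decide +kernel) (by decide +kernel) (by
    rw [ok.card_wgen]
    exact (Subgroup.card_le_of_le (wgen_le_grp [1, 2] rfl (by decide +kernel))).trans cv_card)

theorem allJ : AllC ν [1, 2, 19] [([0, 0], []), ([16, 0, 16, 0, 16, 0], [])] [[([0], [18])]] := fun ξ h =>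
  ok.allE cj_cov (by decide +kernel) ξ (cj ξ h)

theorem allE1 : AllC ν [1, 2, 14, 34] [([0, 16, 0, 17], [2, 16, 0, 17, 0]), ([0, 16, 0, 16, 0, 16, 0, 16, 0, 16], [])] [[([0], [10, 2])]] := fun ξ h =>
  ok.allE ce_cov (by decide +kernel) ξ (ce ξ h)

theorem allE2 : AllC ν [1, 2, 14, 34] [([0, 16, 0, 17], [1, 2, 16, 0, 17, 0]), ([0, 16, 0, 16, 0, 16, 0, 16, 0, 16], [])] [[([0], [10, 3, 2, 1])]] := fun ξ h =>
  ok.allE ce_cov (by decide +kernel) ξ (ce ξ h)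

theorem allV : AllC ν [1, 2, 16, 18] [] [[([0], [])], [([0], [1])], [([0], [2])], [([0], [1, 2])]] :=
  fun ξ h => ok.allE cv_cov (by decide +kernel) ξ (cv ξ h)

end Cfsg.Agent.H59.Sz
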