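import Mathlib
import Cfsg.Agent.H46.J2M

/-! The action of `J₂` on the 315 conjugates of a 2-central involution. -/

set_option autoImplicit false
set_option maxRecDepth 200000
set_option linter.style.longLine false

namespace Cfsg.Agent.H59.J2Geo

open Subgroup Cfsg.Agent.H43 Cfsg.Agent.H17 Cfsg.Agent.H46.J2M Cfsg.Agent.H46.S94

/-- apply a word -/
noncomputable def ev (w y : ℕ) : ℕ := evalW (FK 100 7) H47.J2P.h_E0 w y

/-- apply the conjugate of `z` by a word -/
noncomputable def cw (w y : ℕ) : ℕ :=
  evalW (FK 100 7) H47.J2P.h_E0 w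
    (EvJ2.p_g18.app (FK 100 7) (evalWI (FK 100 7) H47.J2P.h_E0 w y))

/-- the element given by a word -/
noncomputable def c (w : ℕ) : Spor.J2 := el _ (wordP_mem 100 H47.J2P.h_E0 w)

/-- the conjugate of `z` by a word -/
noncomputable def X (w : ℕ) : Spor.J2 := c w * z * (c w)⁻¹

theorem hF : Rep 100 7 (FK 100 7) := rep_FK (by norm_num) 7

theorem mov_c (w y : ℕ) : Mov 100 7 (ι (c w)) y (ev w y) := by
  rw [c, ι_el]; exact mov_evalW hF H47.J2P.h_E0_ok w y

theorem mov_z (y : ℕ) : Mov 100 7 (ι z) y (EvJ2.p_g18.app (FK 100 7) y) := by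
  rw [ι_z]; exact Net.mov_app hF EvJ2.p_g18_ok y

theorem mov_X (w y : ℕ) : Mov 100 7 (ι (X w)) y (cw w y) := by
  rw [X, map_mul, map_mul, map_inv, c, ι_el, ι_z, mul_assoc]
  exact ((mov_evalWI hF H47.J2P.h_E0_ok w y).trans (Net.mov_app hF EvJ2.p_g18_ok _)).trans
    (mov_evalW hF H47.J2P.h_E0_ok w _)

theorem mov_mul {a b : Spor.J2} {x y w : ℕ} (h1 : Mov 100 7 (ι b) x y) (h2 : Mov 100 7 (ι a) y w) :
    Mov 100 7 (ι (a * b)) x w := by
  rw [map_mul]; exact h1.trans h2

theorem eqP {a b : Equiv.Perm (Fin 100)} {y y' : ℕ} (h1 : Mov 100 7 a (lab 100 7) y)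
    (h2 : Mov 100 7 b (lab 100 7) y') (e : Nat.beq y y' = true) : a = b :=
  (det_lab k_hk ⊤).eq trivial trivial h1 h2 e

theorem eq_of {a b : Spor.J2} {y y' : ℕ} (h1 : Mov 100 7 (ι a) (lab 100 7) y)
    (h2 : Mov 100 7 (ι b) (lab 100 7) y') (e : Nat.beq y y' = true) : a = b :=
  em.inj (eqP h1 h2 e)

theorem ne_of {a b : Spor.J2} {y y' : ℕ} (h1 : Mov 100 7 (ι a) (lab 100 7) y)
    (h2 : Mov 100 7 (ι b) (lab 100 7) y') (e : Nat.beq y y' = false) : a ≠ b := by
  rintro rfl
  rw [h1.unique h2, Nat.beq_refl] at e
  exact Bool.noConfusion e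

theorem X_zero : X 0 = z := by
  have : c 0 = 1 := em.inj (by rw [c, ι_el, wordP_zero, map_one])
  rw [X, this]; group

theorem X_conj (w : ℕ) : IsConj z (X w) := isConj_iff.2 ⟨c w, rfl⟩

/-- apply a power of a product of two roots -/
noncomputable def pw (a b k : ℕ) : ℕ :=
  Nat.rec (motive := fun _ => ℕ) (lab 100 7) (fun _ y => cw a (cw b y)) k

theorem mov_pw (a b k : ℕ) : Mov 100 7 (ι ((X a * X b) ^ k)) (lab 100 7) (pw a b k) := by
  induction k with
  | zero => rw [pow_zero, map_one]; exact Mov.refl _ _ _
  | succ k ih => rw [pow_succ']; exact mov_mul ih (mov_mul (mov_X b _) (mov_X a _))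

theorem pow_eq {a b k : ℕ} (h : Nat.beq (pw a b k) (pw a b 0) = true) : (X a * X b) ^ k = 1 :=
  (eq_of (mov_pw a b k) (mov_pw a b 0) h).trans (pow_zero _)

theorem pow_ne {a b k : ℕ} (h : Nat.beq (pw a b k) (pw a b 0) = false) : (X a * X b) ^ k ≠ 1 :=
  fun e => ne_of (mov_pw a b k) (mov_pw a b 0) h (e.trans (pow_zero _).symm)

theorem l2_of (a b : ℕ) (h : Nat.beq (pw a b 4) (pw a b 0) = true)
    (h' : Nat.beq (pw a b 2) (pw a b 0) = false) : L2 z (X a) (X b) :=
  ⟨X_conj b, Or.inr (orderOf_eq_prime_pow (p := 2) (n := 1) (pow_ne h') (pow_eq h))⟩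

theorem eq3 {a b x : ℕ}
    (h : Nat.beq (cw x (lab 100 7)) (cw b (cw a (cw b (lab 100 7)))) = true) :
    X x = X b * X a * X b :=
  eq_of (mov_X x _) (mov_mul (mov_X b _) (mov_mul (mov_X a _) (mov_X b _))) h

/-- an entry of a table -/
def sl (T b j : ℕ) : ℕ := Nat.mod (Nat.shiftRight T (Nat.mul b j)) (Nat.shiftLeft 1 b)

/-- evaluate the argument first -/
noncomputable def frc (x : ℕ) (f : ℕ → Bool) : Bool :=
  Nat.rec (motive := fun _ => Bool) (f 0) (fun k _ => f (Nat.succ k)) x

theorem frc_eq (x : ℕ) (f : ℕ → Bool) : frc x f = f x := by cases x <;> rfl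

/-- the words of the roots -/
def tT : ℕ := nat_lit 0x10110d0b0308090b0f081505071a0b07180707170205190805150905030d031601031214030f13030c12030c10030b1a030b14030b10030b0f030b0103091203080803071103070d03011103011003010d03010c03010b030108030103030101021a03021401020c10020b0b020b08020b0102071802071502070202050302031402031301180d01180301170c01150701140501140301130501101801100b010f13010f07010d19010d15010d14010d10010d08010c13010b14010b12010b1101091701090c01090b01081a01081801081501080501071801071401071301051a01051801051701051601051501051301051201051101051001050f01050d010508010507010501010305010118010116010108010105010103001a18001a0d001a0c001a05001a0100191700191400191000190b00190300190200180f00180300171900171300171100170f00170700161400161200160f00160700151a00150d00150500141900141200140c00140900140800140700131600130c00130900130300130200121900121600121500121400120d00120700120500120300111500111000110d00110c001108001105001102001018001015001011001009001007001003001002000f19000f18000f17000f16000f15000f14000f0b000f09000f08000f03000f02000f01000d19000d18000d16000d1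5000d14000d10000d0f000d0b000d07000d05000d01000c1a000c14000c13000c12000c11000c10000c0f000c0d000c08000c05000b19000b16000b15000b14000b13000b0f000b09000b08000b07000b05000b03000b02000b0100091800091600091500091300091000090c00090b00090100081a00081900081600081500081100081000080f00080c00080b00080200071a00071900071800071700071500071400071300071200071000070900070500070300070100051a00051900051800051700051500051400051200051100051000050f00050c00050900050800050700050300031a00031800031600031200031100031000030f00030c00030b00030900030800030700030500030100021a00021800021700021500021400021200021100020f00020c00020b00020900020800020700020500020300011800011700011600011500011400011300011200011100011000010f00010d00010c00010b00010900010800010700010500010300010100001a00001900001800001700001600001500001400001300001200001100001000000f00000d00000c00000b000008000002000005000001000003000007000009000000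

/-- the words in the centraliser -/
def tA : ℕ := nat_lit 0x2130b18000d0114150001070101000908180100140d19050008010f1900030b05170005010f160000011a0100020c050f00070f081600000813160012010c13000c01051300030c14030001010c050002050f1600070908120000030d030000011a01000b11030d00050d190200051a0d1300011a0d05000917010700010503180001010c0500030d021700080911080001010c0500000119170007071601010101091800010910080009020c0f00080815010118050b150000191208010317010f00001514070000100b180005030814000f11021101080d021200020310090000100b180005071814000109081600150805070000170c0f00020f070f0002130b1800011205070005130b010001091008000107091800050211160015020508000f0c02140000181a0203051201130010050b010001010c050000181a020002150c080000030d0300011a0d050203070c190001070101000b130515000101101a00000219020108031201020c030f1200010f021a000005161300070c1412011108160100000d120c000f170117000203100900030718030000020d05011005030c0005010f16000107091800020310090002050205000007111a011208051600050b101a00000119170001140d08000702021a00140b0211000107091800000b110d00000b170c000109100800030c14030000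0b180c02030d130d0001070918000002190200000219020007050b0b000f0c021400001014010002050205020202101a0010140d05000b01091900030c14030001140d080005021116000f070110000c07030d010307011800020208020000011a0100020b10110009120513000001191700151002050005020b02000008131600070f0902010f1805130002030c1500000b170c000114180b0002090717000805071601110b08050101171101011005030c000705180f0009020c0f0002150c08001001071a00010f0108000307160300000516130007030912000c031409000d02030c0000021014000703091203050f1501000109100800000b170c010b070210000b1305150001010c0500010c1116000002190200131805090008020b0f0002020918001908020f0001090816000008131600000119170000141505000014150500000b110d000513090b00070c18020000030d03000c10021100080d180100020c140500020b10110000020d050000020d0500020c050f000107091800070d1302000105031800150318190005010f160011030b15020b05021a0208140209001102161400081a0215011805110700020d161300090b011900071a01150001170b08000b03010d000101101a001405020b000101101a00010c111600080c021300160c031200011007150001180707000218080900000c070d00120c021a0000020d0500001014010008140503030b150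2030005020b020103110202000d1a050b000513050f00000b180c0000011a010000141505000c07030d0002050f160000141505010f1a05090003170803000311130300010c1116000c05190d0009051714000001191700020f070f0002020918021701100800070501160003141203010d02130b0001050318000315080300020209180003120307000c020f070003170803010810021400050b020200081a021500000219020003051307001405091201010d020200070217110012010f0b00020c050f000118070701010101010005030814000318051400020502050000151407000901150b00000c070d0103070f13000d1708170103110c0500000b170c02031505180000011a010000021014001618031200100514050003130b030000020d050012010c1301030c0802011a020802000314120300020502050002150808000101101a020905110300140803150007030513020203140300010f010800000210140003071803010f050c0100010c01050000100b180001120507000315080300010503180001140d0800071305090000051613000707160100000b110d00011a0d050002070f0c001a0309190000051613000702021a000802171202050c0316000c190509000101101a00000813160512010b02000f190518000202080200021607070000030d030003111303001016010100001014010000021014000000000000000000000000000000000000000000000000000000000000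

/-- the representatives -/
def tR : ℕ := nat_lit 0x233333332423235533232245442234332323333535233235234423253323331244232333333432324212435533322251254423224335332335535344235332333223333333532312325335432321332325441432533334524223233322333323225333222533333233345232333343312333235253323535333323333543533333313323233332213323323334333433233222333344332232224543210

/-- the first generator -/
def tK1 : ℕ := nat_lit 0x10102f0c009d0db12c05f10a0970ea0130f107d0620e00ff0700c106707208904c0820e10bd1370d20061130930150cf00704d07904a0e411f08402006e11e0bb1230cc01c10406009a0d30a910610d0030f70f40a00f20e603b11c0e70230c412002504809405a1360dd0ae12803e01702205200f0e51070fb03d0d906b0b40b10640951140290c70a308a11001f07805106905e0f810201d0160ad0860b70dc0180af0c608d11a02c0800cb0570ac02b0460740190b509f0c806a06d09b10307e0450580e90420b803008501a0041330b60ee09004111b1051270e812b0960390c200a10902d1240710ab0d80f000b06c0a112506f09907a02401005d10f0a210b01e11711105511d00d0110330400fc0120380d600c0a51190aa0d00d70cd0830d405b09203601b0fe0da0080440bc13908e03a0b00f60ca04e11813a0a71220b202e03c07508b0981210880590f50fd09c1291350ec08f0490870370341120730a803f13412f10e1150090021310431380d500107b0fa02a00e0050470660650310e30f30530b304f0760210c90141320df0a602606107f0911300e20be03210c03502800008c12e0500b90eb0c511608109e05c0680c31000ef0270770de12604b0ed0a412a06307c1080bf0540d10560ba12d0ce0f9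

/-- the second generator -/
def tK2 : ℕ := nat_lit 0x11011e11411603701a02709b07308712c06511207e0a70e31370860ff03d00c06907f0c912109701108a0710c310610f03308f0070fa08c0590450a00c40dc0ab0800b511b02111111f01013a06c0c201d0150c608e0e608905f12d12b0e50f904e12505c10e00011c0d01290b80f312002902c07c13011706f0d10721130850a504b0480be0b607810502e0df12702f0bd0eb01b11d0ae0940530a20ee10006a09c0e803810c0660e706812a06203c04305610402a0510440a90c70060fc1380610bb0920ed0d200d0261320250130bc1390200010470570e20a60180140420b010a06d09102801e02309005809f01909803900402d03105011500f0340ef0f008b05b0030c805205e07904112807403f0bf12406711a04d12f0ac07609304a0ba0e90f40dd0cb05d0f10820a80490a30880c11360630d40e001f0b40b30320830cf07b0aa0b20051310a400906e09d12e02410210805a0160ad0a10020f804003e0d910d03503a1070af0220fe0f70b90300cd08400a08d00b13310b0960f20db1340120700b106003b0d807d1030550e40360170e101c0f50d306b00e12307a0d50640fd1261180fb0ca0770540810da04f0ce1220c00d70ec0de0c509e0750b70990460cc1010ea10904c0d61350080f609511902b09a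

/-- the generator `g` permutes the roots of the table -/
noncomputable def chk1 (g : Net) (K j : ℕ) : Bool :=
  frc (sl K 12 j) fun j' => frc (sl tT 24 j) fun w => frc (sl tT 24 j') fun w' =>
    band (Nat.ble j' 314) (Nat.beq (g.app (FK 100 7) (cw w (lab 100 7)))
      (cw w' (g.app (FK 100 7) (lab 100 7))))

/-- the root is conjugate to a representative in the centraliser -/
noncomputable def chk2 (j : ℕ) : Bool :=
  frc (sl tR 4 j) fun r => frc (sl tT 24 j) fun w => frc (sl tT 24 r) fun w' =>
    frc (sl tA 40 j) fun a => frc (ev a (lab 100 7)) fun y =>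
    band (Nat.ble r 5) (band
      (Nat.beq (ev a (EvJ2.p_g18.app (FK 100 7) (lab 100 7))) (EvJ2.p_g18.app (FK 100 7) y))
      (Nat.beq (cw w y) (ev a (cw w' (lab 100 7)))))

theorem ok1 : allN (chk1 H47.J2P.h_g34 tK1) 315 = true := by decide +kernel

theorem ok2 : allN (chk1 H47.J2P.h_g35 tK2) 315 = true := by decide +kernel

theorem ok3 : allN chk2 315 = true := by decide +kernel

theorem step {g : Net} (hg : g.ok 100 = true) {K : ℕ} (h : allN (chk1 g K) 315 = true) (j : ℕ)
    (hj : j < 315) : ∃ j' < 315,
      g.toPerm 100 * ι (X (sl tT 24 j)) = ι (X (sl tT 24 j')) * g.toPerm 100 := by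
  have := allN_iff.1 h j hj
  simp only [chk1, frc_eq, band_eq_true, Nat.ble_eq] at this
  exact ⟨_, Nat.lt_succ_of_le this.1, eqP ((mov_X _ _).trans (Net.mov_app hF hg _))
    ((Net.mov_app hF hg _).trans (mov_X _ _)) this.2⟩

theorem closed {p : Equiv.Perm (Fin 100)} (hp : p ∈ grp 100 H47.J2P.h_F) :
    ∀ j < 315, ∃ j' < 315, p * ι (X (sl tT 24 j)) = ι (X (sl tT 24 j')) * p := by
  have hp' : p ∈ Submonoid.closure {g | ∃ o ∈ H47.J2P.h_F, Net.toPerm 100 o = g} := by
    rw [← Subgroup.closure_toSubmonoid_of_finite]; exact hp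
  clear hp
  induction hp' using Submonoid.closure_induction with
  | mem x hx =>
    obtain ⟨o, ho, rfl⟩ := hx
    rcases List.mem_cons.1 ho with rfl | ho
    · exact step H47.J2P.h_g34_ok ok1
    · rcases List.mem_cons.1 ho with rfl | ho
      · exact step H47.J2P.h_g35_ok ok2
      · exact absurd ho List.not_mem_nil
  | one => exact fun j hj => ⟨j, hj, by rw [one_mul, mul_one]⟩
  | mul x y _ _ hx hy =>
    intro j hj
    obtain ⟨j1, h1, e1⟩ := hy j hj
    obtain ⟨j2, h2, e2⟩ := hx j1 h1
    exact ⟨j2, h2, by rw [mul_assoc, e1, ← mul_assoc, e2, mul_assoc]⟩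

theorem vals : sl tT 24 0 = 0 ∧ sl tT 24 1 = 9 ∧ sl tT 24 2 = 7 ∧ sl tT 24 3 = 3 ∧
    sl tT 24 4 = 1 ∧ sl tT 24 5 = 5 := by decide +kernel

theorem cls {x : Spor.J2} (hx : IsConj z x) : ∃ a ∈ Cz z, ∃ r, x = a * r * a⁻¹ ∧
    (r = z ∨ r = X 9 ∨ r = X 7 ∨ r = X 3 ∨ r = X 1 ∨ r = X 5) := by
  obtain ⟨g, rfl⟩ := isConj_iff.1 hx
  have hg : ι g ∈ grp 100 H47.J2P.h_F := by
    rw [H47.J2P.h_F_eq, H47.J2P.h_eq]; exact em.mem g
  obtain ⟨j, hj, e⟩ := closed hg 0 (by norm_num)
  rw [vals.1, X_zero, ← map_mul, ← map_mul] at e
  have e' : g * z * g⁻¹ = X (sl tT 24 j) := by rw [em.inj e, mul_inv_cancel_right]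
  have := allN_iff.1 ok3 j hj
  simp only [chk2, frc_eq, band_eq_true, Nat.ble_eq] at this
  obtain ⟨h1, h2, h3⟩ := this
  have a1 := eq_of (mov_mul (mov_z _) (mov_c _ _)) (mov_mul (mov_c _ _) (mov_z _)) h2
  have a2 := eq_of (mov_mul (mov_c _ _) (mov_X _ _)) (mov_mul (mov_X _ _) (mov_c _ _)) h3
  refine ⟨_, mem_centralizer_singleton_iff.2 a1, X (sl tT 24 (sl tR 4 j)),
    by rw [e', ← a2, mul_inv_cancel_right], ?_⟩
  obtain ⟨v0, v1, v2, v3, v4, v5⟩ := vals
  generalize sl tR 4 j = r at h1
  interval_cases r
  · rw [v0, X_zero]; exact Or.inl rfl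
  · rw [v1]; exact Or.inr (Or.inl rfl)
  · rw [v2]; exact Or.inr (Or.inr (Or.inl rfl))
  · rw [v3]; exact Or.inr (Or.inr (Or.inr (Or.inl rfl)))
  · rw [v4]; exact Or.inr (Or.inr (Or.inr (Or.inr (Or.inl rfl))))
  · rw [v5]; exact Or.inr (Or.inr (Or.inr (Or.inr (Or.inr rfl))))

theorem s3 : St z (L2 z z) (X 3) :=
  ⟨X 3098, X 519, X_zero ▸ (l2_of 0 3098 (by decide +kernel) (by decide +kernel)), X_zero ▸ (l2_of 0 519 (by decide +kernel) (by decide +kernel)), (l2_of 3098 519 (by decide +kernel) (by decide +kernel)), eq3 (by decide +kernel)⟩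

theorem s173 : St z (L2 z z) (X 4364) :=
  ⟨X 279, X 519, X_zero ▸ (l2_of 0 279 (by decide +kernel) (by decide +kernel)), X_zero ▸ (l2_of 0 519 (by decide +kernel) (by decide +kernel)), (l2_of 279 519 (by decide +kernel) (by decide +kernel)), eq3 (by decide +kernel)⟩

theorem s177 : St z (L2 z z) (X 4611) :=
  ⟨X 7, X 11, X_zero ▸ (l2_of 0 7 (by decide +kernel) (by decide +kernel)), X_zero ▸ (l2_of 0 11 (by decide +kernel) (by decide +kernel)), (l2_of 7 11 (by decide +kernel) (by decide +kernel)), eq3 (by decide +kernel)⟩

theorem t1 : St z (St z (L2 z z)) (X 1) :=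
  ⟨X 4364, X 4611, s173, s177, (l2_of 4364 4611 (by decide +kernel) (by decide +kernel)), eq3 (by decide +kernel)⟩

theorem s213 : St z (L2 z z) (X 6416) :=
  ⟨X 257, X 25, X_zero ▸ (l2_of 0 257 (by decide +kernel) (by decide +kernel)), X_zero ▸ (l2_of 0 25 (by decide +kernel) (by decide +kernel)), (l2_of 257 25 (by decide +kernel) (by decide +kernel)), eq3 (by decide +kernel)⟩

theorem t4 : St z (St z (L2 z z)) (X 5) :=
  ⟨X 6416, X 4611, s213, s177, (l2_of 6416 4611 (by decide +kernel) (by decide +kernel)), eq3 (by decide +kernel)⟩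

theorem zz : z * z = 1 := by
  have := pow_eq (a := 0) (b := 0) (k := 1) (by decide +kernel)
  rwa [X_zero, pow_one] at this

theorem sq_X (w : ℕ) : X w * X w = 1 := by
  calc X w * X w = c w * (z * z) * (c w)⁻¹ := by rw [X]; group
    _ = 1 := by rw [zz]; group

theorem sq_of_comm {w : ℕ} (h : z * X w = X w * z) : (X 0 * X w) ^ 2 = 1 := by
  rw [X_zero, pow_two]
  calc z * X w * (z * X w) = z * (X w * z) * X w := by group
    _ = z * z * (X w * X w) := by rw [← h]; group
    _ = 1 := by rw [zz, sq_X, one_mul]

theorem comm1 : z * X 9 = X 9 * z := by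
  have := eq_of (mov_mul (mov_X 9 _) (mov_z _)) (mov_mul (mov_z _) (mov_X 9 _))
    (by decide +kernel)
  exact this

theorem not4 {w k : ℕ} (h : Nat.beq (pw 0 w k) (pw 0 w 0) = true) (hk : ¬ 4 ∣ k) :
    orderOf (z * X w) ≠ 4 := fun e => hk (by
  have := pow_eq h
  rw [X_zero] at this
  exact e ▸ orderOf_dvd_of_pow_eq_one this)

theorem conj_mul {a s r : Spor.J2} (ha : a ∈ Cz z) (hs : a * s * a⁻¹ = s ∨ s = z) :
    s * (a * r * a⁻¹) = a * (s * r) * a⁻¹ := by
  have : a * s * a⁻¹ = s := hs.elim id fun e => by
    rw [e, mem_centralizer_singleton_iff.1 ha, mul_inv_cancel_right]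
  conv_lhs => rw [← this]
  group

theorem ord_conj (a x : Spor.J2) : orderOf (a * x * a⁻¹) = orderOf x :=
  orderOf_injective (MulAut.conj a).toMonoidHom (MulAut.conj a).injective x

theorem L2_conj (a : Spor.J2) {s x : Spor.J2} (h : L2 z s x) :
    L2 z (a * s * a⁻¹) (a * x * a⁻¹) := by
  refine ⟨h.1.trans (isConj_iff.2 ⟨a, rfl⟩), ?_⟩
  have e : ∀ u v : Spor.J2, a * u * a⁻¹ * (a * v * a⁻¹) = a * (u * v) * a⁻¹ := fun u v => by group
  rw [e, e, ord_conj]
  exact h.2.imp_left fun h' => by rw [h']

theorem L2z_conj {a : Spor.J2} (ha : a ∈ Cz z) (x : Spor.J2) (h : L2 z z x) :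
    L2 z z (a * x * a⁻¹) := by
  have := L2_conj a h
  rwa [mem_centralizer_singleton_iff.1 ha, mul_inv_cancel_right] at this

theorem St_conj {a : Spor.J2} {P : Spor.J2 → Prop} (hP : ∀ x, P x → P (a * x * a⁻¹)) (x : Spor.J2)
    (h : St z P x) : St z P (a * x * a⁻¹) := by
  obtain ⟨r, r', h1, h2, h3, rfl⟩ := h
  exact ⟨_, _, hP r h1, hP r' h2, L2_conj a h3, by group⟩

theorem line {s : Spor.J2} (hs : IsConj z s) (h : z * s = s * z) (hn : s ≠ z) :
    ∃ a ∈ Cz z, s = a * X 9 * a⁻¹ := by
  obtain ⟨a, ha, r, rfl, hr⟩ := cls hs
  have az := mem_centralizer_singleton_iff.1 ha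
  have h' : z * r = r * z := by
    have e1 : a * r * a⁻¹ * z = a * (r * z) * a⁻¹ := by
      calc a * r * a⁻¹ * z = a * r * a⁻¹ * (z * a) * a⁻¹ := by group
        _ = _ := by rw [← az]; group
    rw [conj_mul ha (Or.inr rfl), e1] at h
    simpa using h
  rcases hr with rfl | rfl | rfl | rfl | rfl | rfl
  · exact absurd (by rw [az, mul_inv_cancel_right]) hn
  · exact ⟨a, ha, rfl⟩
  all_goals exact absurd (sq_of_comm h') (pow_ne (by decide +kernel))

theorem four {s : Spor.J2} (hs : IsConj z s) (h : orderOf (z * s) = 4) :
    ∃ a ∈ Cz z, s = a * X 7 * a⁻¹ := by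
  obtain ⟨a, ha, r, rfl, hr⟩ := cls hs
  rw [conj_mul ha (Or.inr rfl), ord_conj] at h
  rcases hr with rfl | rfl | rfl | rfl | rfl | rfl
  · rw [zz, orderOf_one] at h; omega
  · exact absurd h (not4 (k := 2) (by decide +kernel) (by norm_num))
  · exact ⟨a, ha, rfl⟩
  · exact absurd h (not4 (k := 3) (by decide +kernel) (by norm_num))
  · exact absurd h (not4 (k := 5) (by decide +kernel) (by norm_num))
  · exact absurd h (not4 (k := 5) (by decide +kernel) (by norm_num))

theorem geoS : GeoS := by
  refine ⟨fun s s' h h' c c' n n' => ?_, fun s s' h h' o o' => ?_, fun x hx => ?_⟩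
  · obtain ⟨a, ha, rfl⟩ := line h c n
    obtain ⟨a', ha', rfl⟩ := line h' c' n'
    exact ⟨a' * a⁻¹, mul_mem ha' (inv_mem ha), by group⟩
  · obtain ⟨a, ha, rfl⟩ := four h o
    obtain ⟨a', ha', rfl⟩ := four h' o'
    exact ⟨a' * a⁻¹, mul_mem ha' (inv_mem ha), by group⟩
  · obtain ⟨a, ha, r, rfl, hr⟩ := cls hx
    rcases hr with rfl | rfl | rfl | rfl | rfl | rfl
    · exact Or.inl (L2z_conj ha _ ⟨IsConj.refl _, Or.inl rfl⟩)
    · exact Or.inl (L2z_conj ha _ ⟨X_conj _, Or.inl comm1⟩)
    · exact Or.inl (L2z_conj ha _ (X_zero ▸ l2_of 0 _ (by decide +kernel) (by decide +kernel)))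
    · exact Or.inr (Or.inl (St_conj (L2z_conj ha) _ s3))
    · exact Or.inr (Or.inr (St_conj (St_conj (L2z_conj ha)) _ t1))
    · exact Or.inr (Or.inr (St_conj (St_conj (L2z_conj ha)) _ t4))

end Cfsg.Agent.H59.J2Geo
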