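import Mathlib
import Cfsg.Agent.H44.CkDefs
import Cfsg.Agent.H17.EvM11
import Cfsg.Agent.H78.AltConj
import Cfsg.Agent.H57.SpecPerm

/-! The class numbers of `A₇` and `M₁₁`. -/

set_option autoImplicit false

namespace Cfsg.Agent.H59.CkA

open Equiv Equiv.Perm H44.CK H78

theorem kk_congr {G H : Type*} [Group G] [Group H] (e : G ≃* H) :
    Nat.card (ConjClasses G) = Nat.card (ConjClasses H) := by
  refine Nat.card_congr (Quotient.congr e.toEquiv fun a b => ⟨fun h => e.toMonoidHom.map_isConj h,
    fun h => ?_⟩)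
  have := e.symm.toMonoidHom.map_isConj h
  exact isConj_iff.2 (by simpa using this)

theorem km11 : KM11Stmt := by
  have h : kk ↥Cfsg.Spor.M11 = 10 :=
    (kk_congr H17.EvM11.equiv).trans H17.EvM11.nt.card_conjClasses
  exact ⟨by omega, by omega⟩

/-- The cycle types of the even permutations of seven points. -/
def cts : Finset (Multiset ℕ) := {0, {2, 2}, {3}, {3, 3}, {2, 2, 3}, {2, 4}, {5}, {7}}

theorem ct_mem (g : alternatingGroup (Fin 7)) : (g : Perm (Fin 7)).cycleType ∈ cts := by
  have h1 := H57.cycleType_mem_comps (g : Perm (Fin 7))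
  have h2 := (H57.mem_alternating_iff_cycleType (g : Perm (Fin 7))).1 g.2
  rw [← Multiset.coe_toList (g : Perm (Fin 7)).cycleType] at h2 ⊢
  generalize (g : Perm (Fin 7)).cycleType.toList = l at h1 h2
  revert l
  decide +kernel

theorem conj_of {g h : alternatingGroup (Fin 7)}
    (e : (g : Perm (Fin 7)).cycleType = (h : Perm (Fin 7)).cycleType)
    (h7 : (g : Perm (Fin 7)).cycleType ≠ {7}) : IsConj g h := by
  refine alt_isConj_of_odd_commute e ?_
  have := ct_mem g
  simp only [cts, Finset.mem_insert, Finset.mem_singleton] at this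
  rcases this with h | h | h | h | h | h | h | h
  · exact exists_odd_commute_of_two_fixed (by rw [h]; decide)
  · exact exists_odd_commute_of_two_fixed (by rw [h]; decide)
  · exact exists_odd_commute_of_two_fixed (by rw [h]; decide)
  · exact exists_odd_commute_of_count (a := 3) (by rw [h]; decide)
  · exact exists_odd_commute_of_count (a := 2) (by rw [h]; decide)
  · exact exists_odd_commute_of_even_mem (a := 2) (by rw [h]; decide) (by decide)
  · exact exists_odd_commute_of_two_fixed (by rw [h]; decide)
  · exact absurd h h7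

theorem odd_conj {x g : alternatingGroup (Fin 7)}
    (e : (x : Perm (Fin 7)).cycleType = (g : Perm (Fin 7)).cycleType) (hn : ¬ IsConj x g) :
    ∃ π : Perm (Fin 7), sign π = -1 ∧ π * x * π⁻¹ = g := by
  obtain ⟨π, hπ⟩ := isConj_iff.1 (isConj_iff_cycleType_eq.2 e)
  rcases Int.units_eq_one_or (sign π) with h | h
  · exact absurd (isConj_iff.2 ⟨⟨π, mem_alternatingGroup.2 h⟩, Subtype.ext hπ⟩) hn
  · exact ⟨π, h, hπ⟩

theorem kA7_le : kk ↥(alternatingGroup (Fin 7)) ≤ 9 := by
  classical
  obtain ⟨x, hx⟩ := exists_alt_with_cycleType (α := Fin 7) (s := {7}) (by decide) (by decide)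
    (by decide)
  let φ : alternatingGroup (Fin 7) → Option (Multiset ℕ) := fun g =>
    if IsConj x g then none else some (g : Perm (Fin 7)).cycleType
  have h1 : ∀ g h, φ g = φ h → IsConj g h := by
    intro g h e
    by_cases hg : IsConj x g <;> by_cases hh : IsConj x h <;> simp only [φ, hg, hh, if_true,
      if_false, reduceCtorEq, Option.some.injEq] at e
    · exact hg.symm.trans hh
    · by_cases h7 : (g : Perm (Fin 7)).cycleType = {7}
      · obtain ⟨π, s, hπ⟩ := odd_conj (hx.trans h7.symm) hg
        obtain ⟨ρ, s', hρ⟩ := odd_conj (hx.trans (h7.symm.trans e)) hh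
        refine isConj_iff.2 ⟨⟨ρ * π⁻¹, mem_alternatingGroup.2 (by simp [s, s'])⟩, Subtype.ext ?_⟩
        change ρ * π⁻¹ * (g : Perm (Fin 7)) * (ρ * π⁻¹)⁻¹ = h
        rw [← hπ, ← hρ]; group
      · exact conj_of e h7
  have h2 : ∀ g, φ g ∈ insert none (cts.image some) := by
    intro g
    by_cases hg : IsConj x g
    · simp only [φ, hg, if_true]
      exact Finset.mem_insert_self _ _
    · simp only [φ, hg, if_false]
      exact Finset.mem_insert_of_mem (Finset.mem_image_of_mem _ (ct_mem g))
  have h3 : (insert none (cts.image some)).card ≤ 9 :=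
    (Finset.card_insert_le _ _).trans (Nat.succ_le_succ (Finset.card_image_le.trans (by decide)))
  refine le_trans ?_ h3
  rw [← Nat.card_eq_finsetCard]
  refine Nat.card_le_card_of_injective (fun c => ⟨φ (Quotient.out c), h2 _⟩) fun c d e => ?_
  have e' : φ (Quotient.out c) = φ (Quotient.out d) := Subtype.mk.inj e
  rw [← Quotient.out_eq c, ← Quotient.out_eq d]
  exact ConjClasses.mk_eq_mk_iff_isConj.2 (h1 _ _ e')

theorem kA7 : KA7Stmt := by
  have := kA7_le
  exact ⟨by omega, by omega⟩

end Cfsg.Agent.H59.CkA
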