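import Mathlib
import Cfsg.Agent.H37.FkO

/-!
# Sylow 2-subgroups of orthogonal groups: restriction to nondegenerate subspaces
-/

set_option autoImplicit false

namespace Cfsg.Agent.H59.FkO2

open Cfsg Subgroup QuadraticMap Module Cfsg.Agent.H30 Cfsg.Agent.H37.FK Cfsg.Agent.H98

variable {F V : Type} [Field F] [AddCommGroup V] [Module F V] {Q : QuadraticForm F V}

/-- the isometries supported on `U` -/
def Hs (Q : QuadraticForm F V) (U : Submodule F V) : Subgroup (O Q) where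
  carrier := {g | ∀ w ∈ perp Q U, g.1 w = w}
  mul_mem' {a b} ha hb w hw := by rw [O_mul_apply, hb w hw, ha w hw]
  one_mem' _ _ := rfl
  inv_mem' {a} ha w hw := by rw [O_inv_apply_eq, ha w hw]

theorem refl_mem_Hs {U : Submodule F V} {x : V} (hx : x ∈ U) : refl Q x ∈ Hs Q U :=
  fun _ hw => refl_apply_of_orth (mem_perp'.1 hw x hx)

theorem refl_mem {U : Submodule F V} {x y : V} (hx : x ∈ U) (hy : y ∈ U) : (refl Q x).1 y ∈ U := by
  rw [refl_apply]
  exact sub_mem hy (U.smul_mem _ hx)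

theorem pm_of_smul {s : O Q} {x : V} (hx : Q x ≠ 0) {a : F} (h : s.1 x = a • x) :
    s.1 x = x ∨ s.1 x = -x := by
  have h1 := O_map s x
  rw [h, Q_smul, mul_eq_right₀ hx, mul_self_eq_one_iff] at h1
  rcases h1 with rfl | rfl
  · exact Or.inl (by rw [h, one_smul])
  · exact Or.inr (by rw [h, neg_one_smul])

theorem nondeg_span (h2 : (2 : F) ≠ 0) {ι : Type} [Fintype ι] (u : ι → V) (h1 : ∀ i, Q (u i) ≠ 0)
    (h3 : ∀ i j, i ≠ j → polar Q (u i) (u j) = 0) :
    NondegOn Q (Submodule.span F (Set.range u)) := by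
  intro x hx h
  obtain ⟨a, rfl⟩ := (Submodule.mem_span_range_iff_exists_fun F).1 hx
  refine Finset.sum_eq_zero fun j _ => ?_
  have := h (u j) (Submodule.subset_span ⟨j, rfl⟩)
  rw [polar_sum_left, Finset.sum_eq_single j (fun i _ e => by rw [polar_smul_left', h3 i j e,
    mul_zero]) (by simp), polar_smul_left', polar_self'] at this
  rw [(mul_eq_zero.1 this).resolve_right (mul_ne_zero h2 (h1 j)), zero_smul]

theorem li_of_orth (h2 : (2 : F) ≠ 0) {ι : Type} [Fintype ι] (u : ι → V) (h1 : ∀ i, Q (u i) ≠ 0)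
    (h3 : ∀ i j, i ≠ j → polar Q (u i) (u j) = 0) : LinearIndependent F u := by
  refine Fintype.linearIndependent_iff.2 fun a h j => ?_
  have := congrArg (fun x => polar Q x (u j)) h
  simp only [polar_zero_left] at this
  rw [polar_sum_left, Finset.sum_eq_single j (fun i _ e => by rw [polar_smul_left', h3 i j e,
    mul_zero]) (by simp), polar_smul_left', polar_self'] at this
  exact (mul_eq_zero.1 this).resolve_right (mul_ne_zero h2 (h1 j))

theorem pl_eq (x y : V) : pl (F := F) x y = Submodule.span F (Set.range ![x, y]) := by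
  rw [pl, Matrix.range_cons, Matrix.range_cons, Matrix.range_empty, Set.union_empty]
  rfl

theorem left_mem_pl (x y : V) : x ∈ pl (F := F) x y := Submodule.subset_span (by simp)

theorem right_mem_pl (x y : V) : y ∈ pl (F := F) x y := Submodule.subset_span (by simp)

theorem pl_le {x y : V} {U : Submodule F V} (hx : x ∈ U) (hy : y ∈ U) : pl x y ≤ U :=
  Submodule.span_le.2 (Set.pair_subset hx hy)

theorem eq_on_pl {x y : V} {g h : O Q} (hx : g.1 x = h.1 x) (hy : g.1 y = h.1 y) :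
    ∀ u ∈ pl (F := F) x y, g.1 u = h.1 u := fun u hu => by
  obtain ⟨a, b, rfl⟩ := Submodule.mem_span_pair.1 hu
  simp only [map_add, map_smul, hx, hy]

theorem orth2 {x y : V} (h : polar Q x y = 0) (i j : Fin 2) (e : i ≠ j) :
    polar Q (![x, y] i) (![x, y] j) = 0 := by
  fin_cases i <;> fin_cases j <;> first | exact absurd rfl e | exact h | exact polar_comm Q y x ▸ h

theorem ne2 {x y : V} (hx : Q x ≠ 0) (hy : Q y ≠ 0) (i : Fin 2) : Q (![x, y] i) ≠ 0 := by
  fin_cases i <;> assumption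

theorem finrank_pl (h2 : (2 : F) ≠ 0) {x y : V} (hx : Q x ≠ 0) (hy : Q y ≠ 0)
    (h : polar Q x y = 0) : finrank F (pl (F := F) x y) = 2 := by
  rw [pl_eq, finrank_span_eq_card (li_of_orth h2 _ (ne2 hx hy) (orth2 h)), Fintype.card_fin]

theorem nondeg_pl (h2 : (2 : F) ≠ 0) {x y : V} (hx : Q x ≠ 0) (hy : Q y ≠ 0)
    (h : polar Q x y = 0) : NondegOn Q (pl x y) :=
  pl_eq (F := F) x y ▸ nondeg_span h2 _ (ne2 hx hy) (orth2 h)

theorem omaps_pl (g : O Q) (x y : V) : OMaps Q g (pl x y) (pl (g.1 x) (g.1 y)) := fun v => by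
  simp only [pl, Submodule.mem_span_pair]
  refine exists₂_congr fun a b => ?_
  rw [← map_smul, ← map_smul, ← map_add, g.1.injective.eq_iff]

theorem omaps_mul {g h : O Q} {A B C : Submodule F V} (h1 : OMaps Q h A B) (h2 : OMaps Q g B C) :
    OMaps Q (g * h) A C := fun v => (h1 v).trans (h2 _)

theorem omaps_inv {g : O Q} {A B : Submodule F V} (h1 : OMaps Q g A B) : OMaps Q g⁻¹ B A :=
  fun v => by rw [h1, O_apply_inv]

/-- products of commuting isometries with orthogonal supports -/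
theorem exists_prod {ι : Type} [DecidableEq ι] (A : Finset ι) (W : ι → Submodule F V)
    (t : ι → O Q) (M : Subgroup (O Q)) (h1 : ∀ a ∈ A, ∀ b ∈ A, a ≠ b → W a ≤ perp Q (W b))
    (h2 : ∀ a ∈ A, t a ∈ M) (h3 : ∀ a ∈ A, t a ∈ Hs Q (W a))
    (h4 : ∀ a ∈ A, ∀ u ∈ W a, (t a).1 u ∈ W a) :
    ∃ y ∈ M, (∀ a ∈ A, ∀ u ∈ W a, y.1 u = (t a).1 u) ∧
      ∀ w, (∀ a ∈ A, w ∈ perp Q (W a)) → y.1 w = w := by
  induction A using Finset.induction_on with
  | empty => exact ⟨1, one_mem _, by simp, fun _ _ => rfl⟩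
  | insert a A ha ih =>
    have hm : ∀ b ∈ A, b ∈ insert a A := fun b hb => Finset.mem_insert_of_mem hb
    have ha' := Finset.mem_insert_self a A
    obtain ⟨y, hy, h5, h6⟩ := ih (fun b hb c hc => h1 b (hm b hb) c (hm c hc))
      (fun b hb => h2 b (hm b hb)) (fun b hb => h3 b (hm b hb)) (fun b hb => h4 b (hm b hb))
    refine ⟨t a * y, mul_mem (h2 a ha') hy, fun b hb u hu => ?_, fun w hw => ?_⟩
    · rw [O_mul_apply]
      rcases Finset.mem_insert.1 hb with rfl | hb
      · rw [h6 u fun c hc => h1 b ha' c (hm c hc) (fun e => ha (e ▸ hc)) hu]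
      · rw [h5 b hb u hu]
        exact h3 a ha' _ (h1 b (hm b hb) a ha' (fun e => ha (e ▸ hb)) (h4 b (hm b hb) u hu))
    · rw [O_mul_apply, h6 w fun c hc => hw c (hm c hc), h3 a ha' w (hw a ha')]

/-- no orthonormal pair: reflections of different classes in a 2-group are orthogonal -/
theorem orth_of_two (h2 : (2 : F) ≠ 0) {U : Submodule F V}
    (hU : ∀ x ∈ U, ∀ y ∈ U, Q x = 1 → Q y = 1 → polar Q x y ≠ 0) {x y : V} (hx : x ∈ U)
    (hy : y ∈ U) (qx : Q x = 1) (qy : ¬ IsSquare (Q y)) (ht : Two (refl Q x * refl Q y)) :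
    polar Q x y = 0 := by
  by_contra h0
  have x0 : Q x ≠ 0 := qx ▸ one_ne_zero
  have y0 : Q y ≠ 0 := fun e => qy (e ▸ IsSquare.zero)
  set ρ := refl Q x * refl Q y with hρ
  have h1 : ∀ n : ℕ, (ρ ^ n).1 x ∈ U := fun n => by
    induction n with
    | zero => exact hx
    | succ n ih => rw [pow_succ', O_mul_apply, hρ, O_mul_apply]; exact refl_mem hx (refl_mem hy ih)
  have h3 : ∀ n : ℕ, refl Q x * ρ ^ n * (refl Q x)⁻¹ = (ρ ^ n)⁻¹ := fun n => by
    rw [← conj_pow, ← inv_pow, hρ, mul_inv_rev, refl_inv, refl_inv, ← mul_assoc, refl_mul_self,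
      one_mul]
  have h4 : ∀ j : ℕ, ¬ ((ρ ^ 2 ^ j).1 x = x ∨ (ρ ^ 2 ^ j).1 x = -x) := fun j => by
    induction j with
    | zero =>
      have hc : (Q y)⁻¹ * polar Q x y ≠ 0 := mul_ne_zero (inv_ne_zero y0) h0
      rw [pow_zero, pow_one, hρ, O_mul_apply]
      rintro (e | e) <;> have := congrArg (refl Q x).1 e
      · rw [refl_refl, refl_apply_self x0, refl_apply, sub_eq_iff_eq_add, ← sub_eq_iff_eq_add',
          sub_neg_eq_add, ← two_smul F] at this
        have h5 := congrArg Q this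
        rw [Q_smul, Q_smul, qx] at h5
        refine qy ⟨2 / ((Q y)⁻¹ * polar Q x y), ?_⟩
        rw [div_mul_div_comm, eq_div_iff (mul_ne_zero hc hc)]
        linear_combination -h5
      · rw [refl_refl, map_neg, refl_apply_self x0, neg_neg, refl_apply, sub_eq_self] at this
        exact ne_zero_of_Q_ne_zero y0 ((smul_eq_zero.1 this).resolve_left hc)
    | succ j ih =>
      rw [pow_succ, pow_mul, pow_two, O_mul_apply]
      set σ := ρ ^ 2 ^ j with hσ
      rintro (e | e)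
      · have h5 : (σ⁻¹).1 x = σ.1 x := by rw [O_inv_apply_eq, e]
        rw [hσ, ← h3, ← hσ, refl_inv, O_mul_apply, O_mul_apply, refl_apply_self x0, map_neg,
          map_neg, refl_apply, neg_sub, sub_eq_iff_eq_add, ← two_smul F] at h5
        refine ih (pm_of_smul x0 (a := 2⁻¹ * ((Q x)⁻¹ * polar Q (σ.1 x) x)) ?_)
        rw [mul_smul, h5, smul_smul, inv_mul_cancel₀ h2, one_smul]
      · refine hU x hx _ (h1 _) qx ((O_map σ x).trans qx) ?_
        have h5 := O_polar σ x (σ.1 x)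
        rw [e, polar_neg_right, polar_comm] at h5
        exact (mul_eq_zero.1 (show 2 * polar Q x (σ.1 x) = 0 by linear_combination -h5)).resolve_left h2
  obtain ⟨j, hj⟩ := ht
  exact h4 j (Or.inl (by rw [hj, O_one_apply]))

variable [FiniteDimensional F V]

theorem Hs_mem (hQ : (polarBilin Q).Nondegenerate) {U : Submodule F V} {g : O Q}
    (hg : g ∈ Hs Q U) : ∀ u ∈ U, g.1 u ∈ U := by
  have := perp_mem_of_forall_mem g (perp Q U) fun w hw => by rwa [hg w hw]
  rwa [perp_perp hQ] at this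

theorem omaps_self {U : Submodule F V} {g : O Q} (h : ∀ u ∈ U, g.1 u ∈ U) : OMaps Q g U U :=
  fun v => ⟨h v, fun hv => O_inv_apply g v ▸ inv_mem_of_forall_mem g U h _ hv⟩

theorem conj_mem_Hs {U : Submodule F V} {g x : O Q} (h : ∀ u ∈ U, g.1 u ∈ U) (hx : x ∈ Hs Q U) :
    g * x * g⁻¹ ∈ Hs Q U := fun w hw => by
  rw [O_mul_apply, O_mul_apply, hx _ (perp_mem_of_forall_mem _ U (inv_mem_of_forall_mem g U h) w hw),
    O_apply_inv]

/-- isometries of a plane -/
theorem plane_cases (h2 : (2 : F) ≠ 0) (hQ : (polarBilin Q).Nondegenerate) {x y : V}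
    (hx : Q x ≠ 0) (hy : Q y ≠ 0) (h : polar Q x y = 0) {g : O Q} (hg : g ∈ Hs Q (pl x y)) :
    ∃ z ∈ pl (F := F) x y, g = refl Q z ∨ g = refl Q z * refl Q y := by
  have h1 := Hs_mem hQ hg x (left_mem_pl x y)
  have hz := sub_mem h1 (left_mem_pl x y)
  have h3 : (refl Q (g.1 x - x)).1 (g.1 x) = x := by
    by_cases e : Q (g.1 x - x) = 0
    · rw [refl_of_eq_zero e, O_one_apply]
      obtain ⟨a, b, hab⟩ := Submodule.mem_span_pair.1 h1
      have h4 := O_map g x
      rw [Q_sub, h4, ← hab, polar_add_left, polar_smul_left', polar_smul_left', polar_self',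
        polar_comm Q y, h] at e
      rw [← hab, Q_add, Q_smul, Q_smul, polar_smul_left', polar_smul_right', h] at h4
      have ha : a = 1 := mul_right_cancel₀ (mul_ne_zero h2 hx) (by linear_combination -e)
      have hb : b = 0 := mul_self_eq_zero.1 ((mul_eq_zero.1 (show b * b * Q y = 0 by
        rw [ha] at h4; linear_combination h4)).resolve_right hy)
      rw [← hab, ha, hb, one_smul, zero_smul, add_zero]
    · exact refl_sub_apply (O_map g x) e
  refine ⟨_, hz, ?_⟩
  have h5 := eq_one_or_refl_of_fix hQ (refl Q (g.1 x - x) * g) (ne_zero_of_Q_ne_zero hy)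
    fun w hw => by
      obtain ⟨u, hu, w', hw', rfl⟩ := (nondeg_pl h2 hx hy h).orthDec.exists_add w
      obtain ⟨a, b, rfl⟩ := Submodule.mem_span_pair.1 hu
      rw [polar_add_right, mem_perp.1 hw' y (right_mem_pl x y), polar_add_right, polar_smul_right',
        polar_smul_right', polar_comm Q y x, h, polar_self'] at hw
      have hb : b = 0 := (mul_eq_zero.1 (show b * (2 * Q y) = 0 by
        linear_combination hw)).resolve_right (mul_ne_zero h2 hy)
      rw [map_add, mul_mem (refl_mem_Hs hz) hg w' hw', hb, zero_smul, add_zero, map_smul,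
        O_mul_apply, h3]
  exact h5.imp (fun e => by rw [← refl_inv, eq_inv_iff_mul_eq_one, mul_eq_one_comm, e])
    fun e => by rw [← e.2, ← mul_assoc, refl_mul_self, one_mul]

variable [Finite F]

instance finite_O' : Finite (O Q) := by
  have : Finite V := Module.finite_of_finite F
  exact Finite.of_injective (fun g : O Q => (g.1 : V → V)) fun _ _ h => O_ext (congrFun h)

theorem syl_Hs {S K : Subgroup (O Q)} (hK : SylIn 2 (S ⊓ K) K) {U : Submodule F V}
    (h1 : Hs Q U ≤ K) (h2 : ∀ g ∈ K, ∀ u ∈ U, g.1 u ∈ U) : SylIn 2 (S ⊓ Hs Q U) (Hs Q U) := by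
  have := hK.inf_of_normal h1 fun g hg => mem_normalizer_fintype fun x hx => conj_mem_Hs (h2 g hg) hx
  rwa [inf_assoc, inf_eq_right.2 h1] at this

/-- restriction to an invariant subspace stays in the Sylow subgroup -/
theorem exists_res (hQ : (polarBilin Q).Nondegenerate) {S : Subgroup (O Q)} (hS : IsPGroup 2 S)
    {U : Submodule F V} (hU : NondegOn Q U) (h : SylIn 2 (S ⊓ Hs Q U) (Hs Q U)) {s : O Q}
    (hs : s ∈ S) (h1 : ∀ u ∈ U, s.1 u ∈ U) : ∃ t ∈ S ⊓ Hs Q U, ∀ u ∈ U, t.1 u = s.1 u := by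
  set t := orthSum hU.orthDec (restrictO s U h1, 1)
  have h2 : ∀ u ∈ U, t.1 u = s.1 u := fun u hu => orthSum_apply_left hU.orthDec _ ⟨u, hu⟩
  have h3 : t ∈ Hs Q U := fun w hw => orthSum_apply_right hU.orthDec _ ⟨w, hw⟩
  have h4 : Two t := by
    obtain ⟨n, hn⟩ := Two.of_mem hS hs
    refine ⟨n, O_ext_orthDec hU.orthDec (fun u hu => ?_) (pow_mem h3 _)⟩
    rw [← hn]
    generalize 2 ^ n = m
    induction m generalizing u with
    | zero => rfl
    | succ m ih => rw [pow_succ, pow_succ, O_mul_apply, O_mul_apply, h2 u hu, ih _ (h1 u hu)]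
  have h5 : ∀ x ∈ S ⊓ Hs Q U, t * x * t⁻¹ ∈ S ⊓ Hs Q U := fun x hx => by
    have : t * x * t⁻¹ = s * x * s⁻¹ := by
      refine O_ext_orthDec hU.orthDec (fun u hu => ?_) fun w hw => ?_
      · have h6 := inv_mem_of_forall_mem s U h1 u hu
        have h7 : (t⁻¹).1 u = (s⁻¹).1 u := by rw [O_inv_apply_eq, h2 _ h6, O_apply_inv]
        rw [O_mul_apply, O_mul_apply, O_mul_apply, O_mul_apply, h7, h2 _ (Hs_mem hQ hx.2 _ h6)]
      · rw [conj_mem_Hs (Hs_mem hQ h3) hx.2 w hw, conj_mem_Hs h1 hx.2 w hw]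
    exact ⟨this ▸ S.mul_mem (S.mul_mem hs hx.1) (S.inv_mem hs), conj_mem_Hs (Hs_mem hQ h3) hx.2⟩
  refine ⟨t, ?_, h2⟩
  rw [← h.eq_of_le (U := (S ⊓ Hs Q U) ⊔ zpowers t) (sup_le inf_le_right (zpowers_le.2 h3))
    (h.isPGroup.to_sup_of_normal_left' h4.zpowers (zpowers_le.2 (mem_normalizer_fintype h5)))
    le_sup_left]
  exact mem_sup_right (mem_zpowers t)

/-- a reflection of given norm in the Sylow subgroup -/
theorem exists_refl (hQ : (polarBilin Q).Nondegenerate) {S : Subgroup (O Q)}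
    {U : Submodule F V} (h : SylIn 2 (S ⊓ Hs Q U) (Hs Q U)) {x : V} (hx : x ∈ U) :
    ∃ y ∈ U, Q y = Q x ∧ refl Q y ∈ S := by
  obtain ⟨g, hg, e⟩ := h.exists_conj_le (zpowers_le.2 (refl_mem_Hs hx))
    (Two.of_sq (refl_mul_self Q x)).zpowers
  exact ⟨g.1 x, Hs_mem hQ hg x hx, O_map g x,
    refl_conj g x ▸ (e (mem_map_of_mem _ (mem_zpowers _))).1⟩

end Cfsg.Agent.H59.FkO2
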