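import Mathlib
import Cfsg.Agent.H59.FkO2A

/-!
# Sylow 2-subgroups of orthogonal groups: the decomposition into planes and lines
-/

set_option autoImplicit false

namespace Cfsg.Agent.H59.FkO2

open Cfsg Subgroup QuadraticMap Module Cfsg.Agent.H30 Cfsg.Agent.H37.FK Cfsg.Agent.H98

variable {F V : Type} [Field F] [AddCommGroup V] [Module F V] {Q : QuadraticForm F V}
  {k : ℕ} {e f : Fin k → V}

/-- the span of the planes -/
abbrev Sp (F : Type) [Field F] [Module F V] (e f : Fin k → V) : Submodule F V :=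
  Submodule.span F (Set.range e ∪ Set.range f)

theorem oind_mul {g h : O Q} {π σ : Equiv.Perm (Fin k)} (h1 : OInd Q e f g π)
    (h2 : OInd Q e f h σ) : OInd Q e f (g * h) (π * σ) := fun i => omaps_mul (h2 i) (h1 _)

theorem oind_inv {g : O Q} {π : Equiv.Perm (Fin k)} (h1 : OInd Q e f g π) :
    OInd Q e f g⁻¹ π⁻¹ := fun i => by simpa using omaps_inv (h1 (π⁻¹ i))

theorem oind_one : OInd Q e f 1 1 := fun _ _ => Iff.rfl

/-- the isometries with the permutations they induce -/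
def Gam (Q : QuadraticForm F V) (e f : Fin k → V) : Subgroup (O Q × Equiv.Perm (Fin k)) where
  carrier := {x | OInd Q e f x.1 x.2}
  mul_mem' := oind_mul
  one_mem' := oind_one
  inv_mem' := oind_inv

/-- the isometries fixing all planes -/
def Kr (Q : QuadraticForm F V) (e f : Fin k → V) : Subgroup (O Q) where
  carrier := {x | OInd Q e f x 1}
  mul_mem' := oind_mul
  one_mem' := oind_one
  inv_mem' := oind_inv

theorem pl_le_Sp (i : Fin k) : pl (e i) (f i) ≤ Sp F e f :=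
  pl_le (Submodule.subset_span (Or.inl ⟨i, rfl⟩)) (Submodule.subset_span (Or.inr ⟨i, rfl⟩))

theorem pl_orth (h : ONP Q e f) {i j : Fin k} (hij : i ≠ j) :
    pl (e i) (f i) ≤ perp Q (pl (e j) (f j)) := by
  refine pl_le (mem_perp_span.2 ?_) (mem_perp_span.2 ?_) <;> rintro _ (rfl | rfl)
  exacts [h.ee _ _ hij.symm, polar_comm Q _ _ ▸ h.ef i j, h.ef j i, h.ff _ _ hij.symm]

theorem oind_uniq (h2 : (2 : F) ≠ 0) (h : ONP Q e f) {g : O Q} {π σ : Equiv.Perm (Fin k)}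
    (h1 : OInd Q e f g π) (h3 : OInd Q e f g σ) : π = σ := Equiv.ext fun i => by
  by_contra hne
  have := mem_perp.1 (pl_orth h hne ((h1 i _).1 (left_mem_pl _ _))) _ ((h3 i _).1 (left_mem_pl _ _))
  rw [polar_self', O_map, h.qe, mul_one] at this
  exact h2 this

theorem sum_ne (h : ONP Q e f) (i : Fin k ⊕ Fin k) : Q (Sum.elim e f i) ≠ 0 := by
  rcases i with i | i
  exacts [(h.qe i).trans_ne one_ne_zero, (h.qf i).trans_ne one_ne_zero]

theorem sum_orth (h : ONP Q e f) (i j : Fin k ⊕ Fin k) (hij : i ≠ j) :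
    polar Q (Sum.elim e f i) (Sum.elim e f j) = 0 := by
  rcases i with i | i <;> rcases j with j | j
  exacts [h.ee i j fun e => hij (congrArg _ e), h.ef i j, polar_comm Q _ _ ▸ h.ef j i,
    h.ff i j fun e => hij (congrArg _ e)]

theorem nondeg_Sp (h2 : (2 : F) ≠ 0) (h : ONP Q e f) : NondegOn Q (Sp F e f) := by
  rw [Sp, ← Set.Sum.elim_range]
  exact nondeg_span h2 _ (sum_ne h) (sum_orth h)

theorem finrank_Sp (h2 : (2 : F) ≠ 0) (h : ONP Q e f) : finrank F (Sp F e f) = 2 * k := by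
  rw [Sp, ← Set.Sum.elim_range, finrank_span_eq_card (li_of_orth h2 _ (sum_ne h) (sum_orth h))]
  simp [two_mul]

theorem nondeg_pl' (h2 : (2 : F) ≠ 0) (h : ONP Q e f) (i : Fin k) : NondegOn Q (pl (e i) (f i)) :=
  nondeg_pl h2 (sum_ne h (.inl i)) (sum_ne h (.inr i)) (h.ef i i)

theorem onp_map (h : ONP Q e f) (g : O Q) : ONP Q (fun i => g.1 (e i)) fun i => g.1 (f i) :=
  ⟨fun i => (O_map g _).trans (h.qe i), fun i => (O_map g _).trans (h.qf i),
    fun i j => (O_polar g _ _).trans (h.ef i j), fun i j e => (O_polar g _ _).trans (h.ee i j e),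
    fun i j e => (O_polar g _ _).trans (h.ff i j e)⟩

theorem exists_oind (h2 : (2 : F) ≠ 0) (hQ : (polarBilin Q).Nondegenerate) (h : ONP Q e f)
    (π : Equiv.Perm (Fin k)) : ∃ g, OInd Q e f g π := by
  have h' : ONP Q (fun i => e (π i)) fun i => f (π i) := ⟨fun i => h.qe _, fun i => h.qf _,
    fun i j => h.ef _ _, fun i j e => h.ee _ _ (π.injective.ne e),
    fun i j e => h.ff _ _ (π.injective.ne e)⟩
  obtain ⟨g, hg⟩ := witt_family hQ _ _ (li_of_orth h2 _ (sum_ne h) (sum_orth h))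
    (li_of_orth h2 _ (sum_ne h') (sum_orth h'))
    (by rintro (i | i); exacts [(h.qe _).trans (h.qe _).symm, (h.qf _).trans (h.qf _).symm])
    fun i j e => (sum_orth h i j e).trans (sum_orth h' i j e).symm
  refine ⟨g, fun i => ?_⟩
  have := omaps_pl g (e i) (f i)
  rwa [show g.1 (e i) = e (π i) from hg (.inl i), show g.1 (f i) = f (π i) from hg (.inr i)] at this

/-- a maximal family whose planes are permuted by `S` -/
structure Fam (S : Subgroup (O Q)) (e f : Fin k → V) : Prop where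
  on : ONP Q e f
  mx : ∀ x ∈ perp Q (Sp F e f), ∀ y ∈ perp Q (Sp F e f), Q x = 1 → Q y = 1 → polar Q x y ≠ 0
  ind : ∀ s ∈ S, ∃ π, OInd Q e f s π

theorem Fam.move {S S' : Subgroup (O Q)} (h : Fam S e f) (g : O Q)
    (hS : ∀ s ∈ S', ∃ π, OInd Q e f (g⁻¹ * s * g) π) :
    Fam S' (fun i => g.1 (e i)) fun i => g.1 (f i) := by
  have h1 : ∀ x ∈ perp Q (Sp F (fun i => g.1 (e i)) fun i => g.1 (f i)),
      (g⁻¹).1 x ∈ perp Q (Sp F e f) := fun x hx => mem_perp_span.2 (by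
    rintro _ (⟨i, rfl⟩ | ⟨i, rfl⟩) <;> rw [← O_polar_inv]
    exacts [mem_perp_span.1 hx _ (Or.inl ⟨i, rfl⟩), mem_perp_span.1 hx _ (Or.inr ⟨i, rfl⟩)])
  refine ⟨onp_map h.on g, fun x hx y hy qx qy => O_polar g⁻¹ x y ▸ h.mx _ (h1 x hx) _ (h1 y hy)
    ((O_map _ _).trans qx) ((O_map _ _).trans qy), fun s hs => (hS s hs).imp fun π hπ i => ?_⟩
  simpa [mul_assoc] using omaps_mul (omaps_inv (omaps_pl g (e i) (f i)))
    (omaps_mul (hπ i) (omaps_pl g _ _))

variable [FiniteDimensional F V]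

theorem oind_perp {g : O Q} {π : Equiv.Perm (Fin k)} (h : OInd Q e f g π) :
    ∀ w ∈ perp Q (Sp F e f), g.1 w ∈ perp Q (Sp F e f) :=
  perp_mem_of_forall_mem g _ fun _ hu => Submodule.span_le.2
    (show _ ⊆ ((Sp F e f).comap (g.1 : V →ₗ[F] V) : Set V) by
      rintro _ (⟨i, rfl⟩ | ⟨i, rfl⟩)
      exacts [pl_le_Sp _ ((h i _).1 (left_mem_pl _ _)), pl_le_Sp _ ((h i _).1 (right_mem_pl _ _))])
    hu

theorem ext_fam (h2 : (2 : F) ≠ 0) (h : ONP Q e f) {a b : O Q}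
    (h1 : ∀ i, ∀ u ∈ pl (F := F) (e i) (f i), a.1 u = b.1 u)
    (h3 : ∀ w ∈ perp Q (Sp F e f), a.1 w = b.1 w) : a = b :=
  O_ext_orthDec (nondeg_Sp h2 h).orthDec (fun _ hu => Submodule.span_le.2
    (show _ ⊆ (LinearMap.eqLocus (a.1 : V →ₗ[F] V) (b.1 : V →ₗ[F] V) : Set V) by
      rintro _ (⟨i, rfl⟩ | ⟨i, rfl⟩)
      exacts [h1 i _ (left_mem_pl _ _), h1 i _ (right_mem_pl _ _)]) hu) h3

theorem Hs_pl_le (hQ : (polarBilin Q).Nondegenerate) (h : ONP Q e f) (i : Fin k) :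
    Hs Q (pl (e i) (f i)) ≤ Kr Q e f := fun g hg j => omaps_self fun u hu => by
  by_cases hj : j = i
  · subst hj
    exact Hs_mem hQ hg u hu
  · rwa [hg u (pl_orth h hj hu)]

theorem Hs_perp_le : Hs Q (perp Q (Sp F e f)) ≤ Kr Q e f := fun g hg j => omaps_self fun u hu => by
  rwa [hg u (le_perp_perp _ (pl_le_Sp j hu))]

/-- an isometry is the product of its restrictions -/
theorem mem_of_res (h2 : (2 : F) ≠ 0) (hQ : (polarBilin Q).Nondegenerate) (h : ONP Q e f)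
    {M : Subgroup (O Q)} {x : O Q}
    (h1 : ∀ i, ∃ t ∈ M ⊓ Hs Q (pl (e i) (f i)), ∀ u ∈ pl (F := F) (e i) (f i), t.1 u = x.1 u)
    (h3 : ∃ t ∈ M ⊓ Hs Q (perp Q (Sp F e f)), ∀ u ∈ perp Q (Sp F e f), t.1 u = x.1 u) : x ∈ M := by
  choose t ht ht' using h1
  obtain ⟨t₀, h4, h5⟩ := h3
  obtain ⟨y, hy, h6, h7⟩ := exists_prod Finset.univ (fun i => pl (e i) (f i)) t M
    (fun a _ b _ hab => pl_orth h hab) (fun a _ => (ht a).1) (fun a _ => (ht a).2)
    fun a _ => Hs_mem hQ (ht a).2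
  rw [← ext_fam h2 h (a := y * t₀) (b := x) (fun i u hu => by
    rw [O_mul_apply, h4.2 u (le_perp_perp _ (pl_le_Sp i hu)), h6 i (Finset.mem_univ i) u hu,
      ht' i u hu]) fun w hw => by
    rw [O_mul_apply, h7 _ fun a _ => perp_anti (pl_le_Sp a) (Hs_mem hQ h4.2 w hw), h5 w hw]]
  exact mul_mem hy h4.1

variable [Fintype F]

theorem Fam.sylK {S : Sylow 2 (O Q)} (h : Fam (S : Subgroup (O Q)) e f) :
    SylIn 2 ((S : Subgroup (O Q)) ⊓ Kr Q e f) (Kr Q e f) := by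
  refine (sylIn_of_sylow_le S (H := (Gam Q e f).map (MonoidHom.fst _ _)) fun s hs => ?_).inf_of_normal
    (fun g hg => ⟨(g, 1), hg, rfl⟩) ?_
  · obtain ⟨π, hπ⟩ := h.ind s hs
    exact ⟨(s, π), hπ, rfl⟩
  · rintro _ ⟨⟨g, π⟩, hg, rfl⟩
    refine mem_normalizer_fintype fun x hx => ?_
    have := oind_mul (oind_mul hg hx) (oind_inv hg)
    rwa [mul_one, mul_inv_cancel] at this

theorem Fam.syl (hQ : (polarBilin Q).Nondegenerate) {S : Sylow 2 (O Q)}
    (h : Fam (S : Subgroup (O Q)) e f) (i : Fin k) :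
    SylIn 2 ((S : Subgroup (O Q)) ⊓ Hs Q (pl (e i) (f i))) (Hs Q (pl (e i) (f i))) :=
  syl_Hs h.sylK (Hs_pl_le hQ h.on i) fun _ hg u hu => (hg i u).1 hu

theorem Fam.syl₀ {S : Sylow 2 (O Q)} (h : Fam (S : Subgroup (O Q)) e f) :
    SylIn 2 ((S : Subgroup (O Q)) ⊓ Hs Q (perp Q (Sp F e f))) (Hs Q (perp Q (Sp F e f))) :=
  syl_Hs h.sylK Hs_perp_le fun _ hg => oind_perp hg

theorem Fam.exists_P (h2 : (2 : F) ≠ 0) (hQ : (polarBilin Q).Nondegenerate) {S : Sylow 2 (O Q)}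
    (h : Fam (S : Subgroup (O Q)) e f) : ∃ P : Sylow 2 (Equiv.Perm (Fin k)),
      ∀ π, π ∈ (P : Subgroup (Equiv.Perm (Fin k))) ↔ ∃ s ∈ (S : Subgroup (O Q)), OInd Q e f s π := by
  let a : Gam Q e f →* O Q := (MonoidHom.fst _ _).comp (Gam Q e f).subtype
  let b : Gam Q e f →* Equiv.Perm (Fin k) := (MonoidHom.snd _ _).comp (Gam Q e f).subtype
  have ha : Function.Injective a := fun x y e' => Subtype.ext (Prod.ext e'
    (oind_uniq h2 h.on x.2 (by rw [show x.1.1 = y.1.1 from e']; exact y.2)))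
  have h1 : (S : Subgroup (O Q)) ≤ a.range := fun s hs => by
    obtain ⟨π, hπ⟩ := h.ind s hs
    exact ⟨⟨(s, π), hπ⟩, rfl⟩
  have h3 : SylIn 2 ((S : Subgroup (O Q)).comap a) ⊤ := SylIn.of_map_of_injective a ha (by
    rw [map_comap_eq_self h1, ← MonoidHom.range_eq_map]
    exact sylIn_of_sylow_le S h1)
  have h4 := h3.map b
  rw [map_top_of_surjective b fun π => by
    obtain ⟨g, hg⟩ := exists_oind h2 hQ h.on π
    exact ⟨⟨(g, π), hg⟩, rfl⟩] at h4
  obtain ⟨P, hP⟩ := h4.exists_sylow_top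
  refine ⟨P, fun π => hP ▸ ⟨?_, fun ⟨s, hs, hπ⟩ => ⟨⟨(s, π), hπ⟩, hs, rfl⟩⟩⟩
  rintro ⟨x, hx, rfl⟩
  exact ⟨x.1.1, hx, x.2⟩

theorem Fam.exists_rf (hQ : (polarBilin Q).Nondegenerate) {S : Sylow 2 (O Q)}
    (h : Fam (S : Subgroup (O Q)) e f) : ∃ e' f' : Fin k → V, Fam (S : Subgroup (O Q)) e' f' ∧
      ∀ i, refl Q (e' i) ∈ (S : Subgroup (O Q)) ∧ refl Q (f' i) ∈ (S : Subgroup (O Q)) ∧
        refl Q (e' i - f' i) ∈ (S : Subgroup (O Q)) := by
  have h1 : ∀ i, ∃ g ∈ Hs Q (pl (e i) (f i)), refl Q (g.1 (e i)) ∈ (S : Subgroup (O Q)) ∧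
      refl Q (g.1 (f i)) ∈ (S : Subgroup (O Q)) ∧
      refl Q (g.1 (e i) - g.1 (f i)) ∈ (S : Subgroup (O Q)) := fun i => by
    have hd := sub_mem (left_mem_pl (F := F) (e i) (f i)) (right_mem_pl _ _)
    by_cases h0 : Q (e i - f i) = 0
    · obtain ⟨g, hg, e'⟩ := (h.syl hQ i).exists_conj_le (sup_le (zpowers_le.2 (refl_mem_Hs
        (left_mem_pl _ _))) (zpowers_le.2 (refl_mem_Hs (right_mem_pl _ _))))
        (isPGroup_sup_of_commute (Two.of_sq (refl_mul_self Q _)) (Two.of_sq (refl_mul_self Q _))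
          (by rw [Commute, SemiconjBy, mul_refl, refl_apply_of_orth
            (polar_comm Q _ _ ▸ h.on.ef i i)]))
      refine ⟨g, hg, refl_conj g _ ▸ (e' (mem_map_of_mem _ (mem_sup_left (mem_zpowers _)))).1,
        refl_conj g _ ▸ (e' (mem_map_of_mem _ (mem_sup_right (mem_zpowers _)))).1, ?_⟩
      rw [← map_sub, refl_of_eq_zero ((O_map g _).trans h0)]
      exact one_mem _
    have h3 : refl Q (e i - f i) * refl Q (e i) * (refl Q (e i - f i))⁻¹ = refl Q (f i) := by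
      rw [refl_conj, refl_sub_apply ((h.on.qe i).trans (h.on.qf i).symm) h0]
    have h4 : refl Q (f i) * refl Q (e i) = refl Q (e i) * refl Q (f i) := by
      rw [mul_refl, refl_apply_of_orth (h.on.ef i i)]
    have h5 := isPGroup_dih (refl_mul_self Q (e i - f i)) (refl_mul_self Q (e i)) ⟨2, by
      rw [refl_inv] at h3
      rw [show 2 ^ 2 = 2 * 2 from rfl, pow_mul, pow_two (refl Q _ * _), ← mul_assoc, h3, pow_two]
      nth_rewrite 1 [h4]
      rw [mul_assoc, ← mul_assoc (refl Q (f i)), refl_mul_self, one_mul, refl_mul_self]⟩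
    obtain ⟨g, hg, e'⟩ := (h.syl hQ i).exists_conj_le (sup_le (zpowers_le.2 (mul_mem (refl_mem_Hs hd)
      (refl_mem_Hs (left_mem_pl _ _)))) (zpowers_le.2 (refl_mem_Hs hd))) h5
    have ha := mem_sup_right (S := zpowers (refl Q (e i - f i) * refl Q (e i)))
      (mem_zpowers (refl Q (e i - f i)))
    have hb := mul_mem (inv_mem ha) (mem_sup_left (mem_zpowers _))
    rw [inv_mul_cancel_left] at hb
    exact ⟨g, hg, refl_conj g _ ▸ (e' (mem_map_of_mem _ hb)).1, refl_conj g _ ▸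
      (e' (mem_map_of_mem _ (h3 ▸ mul_mem (mul_mem ha hb) (inv_mem ha)))).1,
      map_sub g.1 _ _ ▸ refl_conj g _ ▸ (e' (mem_map_of_mem _ ha)).1⟩
  choose g hg hg' using h1
  obtain ⟨y, hy, h3, -⟩ := exists_prod Finset.univ (fun i => pl (e i) (f i)) g (Kr Q e f)
    (fun a _ b _ hab => pl_orth h.on hab) (fun a _ => Hs_pl_le hQ h.on a (hg a)) (fun a _ => hg a)
    fun a _ => Hs_mem hQ (hg a)
  refine ⟨_, _, h.move y fun s hs => (h.ind s hs).imp' (fun π => 1⁻¹ * π * 1) fun π hπ =>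
    oind_mul (oind_mul (oind_inv hy) hπ) hy, fun i => ?_⟩
  rw [h3 i (Finset.mem_univ i) _ (left_mem_pl _ _), h3 i (Finset.mem_univ i) _ (right_mem_pl _ _)]
  exact hg' i

theorem Fam.lines (h2 : (2 : F) ≠ 0) (hQ : (polarBilin Q).Nondegenerate) {S : Sylow 2 (O Q)}
    (h : Fam (S : Subgroup (O Q)) e f) {ν : F} (hν : ¬ IsSquare ν) :
    ∃ (m : ℕ) (v : Fin m → V), m ≤ 2 ∧ (∀ j, Q (v j) ≠ 0) ∧
      (∀ j j', j ≠ j' → polar Q (v j) (v j') = 0 ∧ ¬ IsSquare (Q (v j) * Q (v j'))) ∧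
      (∀ j, refl Q (v j) ∈ (S : Subgroup (O Q))) ∧
      Submodule.span F (Set.range v) = perp Q (Sp F e f) ∧
      ∀ s ∈ (S : Subgroup (O Q)), ∀ j, s.1 (v j) = v j ∨ s.1 (v j) = -v j := by
  have hn := (nondeg_Sp h2 h.on).perp hQ
  have hst : ∀ s ∈ (S : Subgroup (O Q)), ∀ w ∈ perp Q (Sp F e f), s.1 w ∈ perp Q (Sp F e f) :=
    fun s hs => (h.ind s hs).elim fun _ hπ => oind_perp hπ
  have hmx := h.mx
  have hsy := h.syl₀
  generalize perp Q (Sp F e f) = U at hn hst hmx hsy ⊢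
  by_cases h0 : U = ⊥
  · exact ⟨0, Fin.elim0, by omega, by simp, by simp, by simp, by simp [h0], by simp⟩
  by_cases h1 : finrank F U ≤ 1
  · obtain ⟨x, hx, qx⟩ := hn.exists_Q_ne_zero h0
    obtain ⟨y, hy, qy, ry⟩ := exists_refl hQ hsy hx
    rw [← qy] at qx
    have h3 : Submodule.span F {y} = U := Submodule.eq_of_le_of_finrank_le
      ((Submodule.span_singleton_le_iff_mem _ _).2 hy)
      (by rwa [finrank_span_singleton (ne_zero_of_Q_ne_zero qx)])
    refine ⟨1, fun _ => y, by omega, fun _ => qx, fun j j' e' => absurd (Subsingleton.elim _ _) e',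
      fun _ => ry, by simpa using h3, fun s hs _ => ?_⟩
    obtain ⟨a, ha⟩ := Submodule.mem_span_singleton.1 (h3 ▸ hst s hs y hy)
    exact pm_of_smul qx ha.symm
  obtain ⟨x₀, hx₀, qx₀⟩ := hn.exists_Q_eq (by omega) 1
  obtain ⟨y₀, hy₀, qy₀⟩ := hn.exists_Q_eq (by omega) ν
  obtain ⟨x, hx, qx, rx⟩ := exists_refl hQ hsy hx₀
  obtain ⟨y, hy, qy, ry⟩ := exists_refl hQ hsy hy₀
  rw [qx₀] at qx
  rw [qy₀] at qy
  have x0 : Q x ≠ 0 := qx.trans_ne one_ne_zero
  have y0 : Q y ≠ 0 := fun e' => hν (qy ▸ e' ▸ IsSquare.zero)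
  have key : ∀ s ∈ (S : Subgroup (O Q)), ∀ t ∈ (S : Subgroup (O Q)),
      polar Q (s.1 x) (t.1 y) = 0 := fun s hs t ht =>
    orth_of_two h2 hmx (hst s hs x hx) (hst t ht y hy) ((O_map s x).trans qx)
      (by rwa [O_map, qy]) (Two.of_mem S.isPGroup' (mul_mem
        (refl_conj s x ▸ mul_mem (mul_mem hs rx) (inv_mem hs))
        (refl_conj t y ▸ mul_mem (mul_mem ht ry) (inv_mem ht))))
  have hxy : polar Q x y = 0 := key 1 (one_mem _) 1 (one_mem _)
  have h3 : finrank F U ≤ 2 := by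
    by_contra h3
    have h4 : NondegOn Q (U ⊓ perp Q (F ∙ x)) := fun w hw hw' => hn w hw.1 fun u hu => by
      have := hw' (u - (2⁻¹ * polar Q x u) • x) ⟨sub_mem hu (U.smul_mem _ hx),
        mem_perp_singleton.2 (by
          rw [polar_sub_right, polar_smul_right', polar_self', qx]; field_simp; ring)⟩
      rwa [polar_sub_right, polar_smul_right', polar_comm Q w x, mem_perp_singleton.1 hw.2,
        mul_zero, sub_zero] at this
    have h5 := Submodule.finrank_sup_add_finrank_inf_eq U (perp Q (F ∙ x))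
    have h6 := finrank_add_finrank_perp hQ (F ∙ x)
    have h7 := Submodule.finrank_le (U ⊔ perp Q (F ∙ x))
    rw [finrank_span_singleton (ne_zero_of_Q_ne_zero x0)] at h6
    obtain ⟨z, hz, qz⟩ := h4.exists_Q_eq (by omega) 1
    exact hmx x hx z hz.1 qx qz (mem_perp_singleton.1 hz.2)
  have h4 : pl x y = U := Submodule.eq_of_le_of_finrank_le (pl_le hx hy)
    (by rwa [finrank_pl h2 x0 y0 hxy])
  refine ⟨2, ![x, y], le_rfl, ne2 x0 y0, fun j j' e' => ⟨orth2 hxy j j' e', ?_⟩, fun j => ?_,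
    pl_eq (F := F) x y ▸ h4, fun s hs j => ?_⟩
  · fin_cases j <;> fin_cases j' <;> first | exact absurd rfl e' | simpa [qx, qy] using hν
  · fin_cases j <;> assumption
  · fin_cases j
    · obtain ⟨a, b, hab⟩ := Submodule.mem_span_pair.1 (show _ ∈ pl x y from h4 ▸ hst s hs x hx)
      have := key s hs 1 (one_mem _)
      rw [← hab, O_one_apply, polar_add_left, polar_smul_left', polar_smul_left', hxy, polar_self',
        mul_zero, zero_add] at this
      rw [(mul_eq_zero.1 this).resolve_right (mul_ne_zero h2 y0), zero_smul, add_zero] at hab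
      exact pm_of_smul x0 hab.symm
    · obtain ⟨a, b, hab⟩ := Submodule.mem_span_pair.1 (show _ ∈ pl x y from h4 ▸ hst s hs y hy)
      have := key 1 (one_mem _) s hs
      rw [← hab, O_one_apply, polar_add_right, polar_smul_right', polar_smul_right', hxy,
        polar_self', mul_zero, add_zero] at this
      rw [(mul_eq_zero.1 this).resolve_right (mul_ne_zero h2 x0), zero_smul, zero_add] at hab
      exact pm_of_smul y0 hab.symm

theorem Fam.res (h2 : (2 : F) ≠ 0) (hQ : (polarBilin Q).Nondegenerate) {S : Sylow 2 (O Q)}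
    (h : Fam (S : Subgroup (O Q)) e f) {s : O Q} (hs : s ∈ (S : Subgroup (O Q))) {i : Fin k}
    (hi : ∀ u ∈ pl (F := F) (e i) (f i), s.1 u ∈ pl (F := F) (e i) (f i)) :
    ∃ t ∈ (S : Subgroup (O Q)) ⊓ Hs Q (pl (e i) (f i)),
      ∀ u ∈ pl (F := F) (e i) (f i), t.1 u = s.1 u :=
  exists_res hQ S.isPGroup' (nondeg_pl' h2 h.on i) (h.syl hQ i) hs hi

theorem Fam.res₀ (h2 : (2 : F) ≠ 0) (hQ : (polarBilin Q).Nondegenerate) {S : Sylow 2 (O Q)}
    (h : Fam (S : Subgroup (O Q)) e f) {s : O Q} (hs : s ∈ (S : Subgroup (O Q))) :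
    ∃ t ∈ (S : Subgroup (O Q)) ⊓ Hs Q (perp Q (Sp F e f)),
      ∀ u ∈ perp Q (Sp F e f), t.1 u = s.1 u :=
  exists_res hQ S.isPGroup' ((nondeg_Sp h2 h.on).perp hQ) h.syl₀ hs
    ((h.ind s hs).elim fun _ hπ => oind_perp hπ)

omit [Fintype F] in
/-- the isometry exchanging two orthogonal planes -/
theorem exists_swap (h2 : (2 : F) ≠ 0) (hQ : (polarBilin Q).Nondegenerate) {x y : V} {s : O Q}
    (qx : Q x = 1) (qy : Q y = 1) (hxy : polar Q x y = 0) {U : Submodule F V}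
    (hs : OMaps Q s (pl x y) U) (ho : pl x y ≤ perp Q U) :
    ∃ t ∈ commutator (O Q), t ∈ Hs Q (pl x y ⊔ U) ∧ (∀ u ∈ pl (F := F) x y, t.1 u = s.1 u) ∧
      ∀ u ∈ U, t.1 u = (s⁻¹).1 u := by
  have hx := (hs x).1 (left_mem_pl x y)
  have hy := (hs y).1 (right_mem_pl x y)
  have ox := mem_perp'.1 (ho (left_mem_pl x y))
  have oy := mem_perp'.1 (ho (right_mem_pl x y))
  have q1 : Q (x - s.1 x) = 2 := by rw [Q_sub, O_map, qx, ox _ hx]; ring
  have q2 : Q (y - s.1 y) = 2 := by rw [Q_sub, O_map, qy, oy _ hy]; ring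
  have a1 : (refl Q (x - s.1 x)).1 x = s.1 x := refl_sub_apply (O_map s x).symm (q1.trans_ne h2)
  have a2 : (refl Q (y - s.1 y)).1 y = s.1 y := refl_sub_apply (O_map s y).symm (q2.trans_ne h2)
  have b1 : (refl Q (y - s.1 y)).1 x = x :=
    refl_apply_of_orth (by rw [polar_sub_right, hxy, ox _ hy, sub_zero])
  have b2 : (refl Q (y - s.1 y)).1 (s.1 x) = s.1 x := refl_apply_of_orth (by
    rw [polar_sub_right, O_polar, hxy, polar_comm, oy _ hx, sub_zero])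
  have b3 : (refl Q (x - s.1 x)).1 y = y := refl_apply_of_orth (by
    rw [polar_sub_right, polar_comm, hxy, oy _ hx, sub_zero])
  have b4 : (refl Q (x - s.1 x)).1 (s.1 y) = s.1 y := refl_apply_of_orth (by
    rw [polar_sub_right, O_polar, polar_comm Q y, hxy, polar_comm, ox _ hy, sub_zero])
  refine ⟨_, refl_mul_refl_mem_commutator hQ (q1.trans_ne h2) (q1.trans q2.symm), mul_mem
    (refl_mem_Hs (sub_mem (Submodule.mem_sup_left (left_mem_pl x y)) (Submodule.mem_sup_right hx)))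
    (refl_mem_Hs (sub_mem (Submodule.mem_sup_left (right_mem_pl x y)) (Submodule.mem_sup_right hy))),
    eq_on_pl (by rw [O_mul_apply, b1, a1]) (by rw [O_mul_apply, a2, b4]), fun u hu => ?_⟩
  have := eq_on_pl (g := refl Q (x - s.1 x) * refl Q (y - s.1 y) * s) (h := 1) (x := x) (y := y)
    (by rw [O_mul_apply, O_mul_apply, b2, O_one_apply]; nth_rewrite 2 [← a1]; rw [refl_refl])
    (by rw [O_mul_apply, O_mul_apply, O_one_apply]; nth_rewrite 2 [← a2]; rw [refl_refl, b3])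
    _ ((omaps_inv hs u).1 hu)
  rwa [O_mul_apply, O_apply_inv, O_one_apply] at this

theorem Fam.lift (h2 : (2 : F) ≠ 0) (hQ : (polarBilin Q).Nondegenerate) {S : Sylow 2 (O Q)}
    (h : Fam (S : Subgroup (O Q)) e f) {s : O Q} (hs : s ∈ (S : Subgroup (O Q)))
    {π : Equiv.Perm (Fin k)} (hπ : OInd Q e f s π) (h1 : π * π = 1) :
    ∃ t ∈ (S : Subgroup (O Q)), t ∈ commutator (O Q) ∧ t * t = 1 ∧ OInd Q e f t π ∧
      (∀ i, π i = i → t.1 (e i) = e i ∧ t.1 (f i) = f i) ∧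
      ∀ w ∈ perp Q (Sp F e f), t.1 w = w := by
  have hp : ∀ i, π (π i) = i := fun i => congrArg (fun σ : Equiv.Perm (Fin k) => σ i) h1
  have h3 : ∀ a, ∃ t : O Q, a < π a → t ∈ commutator (O Q) ∧
      t ∈ Hs Q (pl (e a) (f a) ⊔ pl (e (π a)) (f (π a))) ∧
      (∀ u ∈ pl (F := F) (e a) (f a), t.1 u = s.1 u) ∧
      ∀ u ∈ pl (F := F) (e (π a)) (f (π a)), t.1 u = (s⁻¹).1 u := fun a => by
    by_cases ha : a < π a
    · obtain ⟨t, ht⟩ := exists_swap h2 hQ (h.on.qe a) (h.on.qf a) (h.on.ef a a) (hπ a)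
        (pl_orth h.on ha.ne)
      exact ⟨t, fun _ => ht⟩
    · exact ⟨1, fun e' => absurd e' ha⟩
  choose t ht using h3
  have hA : ∀ {a}, a ∈ Finset.univ.filter (fun a => a < π a) ↔ a < π a := by simp
  obtain ⟨y, hy, h4, h5⟩ := exists_prod (Finset.univ.filter fun a => a < π a)
    (fun a => pl (e a) (f a) ⊔ pl (e (π a)) (f (π a))) t (commutator (O Q))
    (fun a ha b hb hab => by
      have ha' := hA.1 ha
      have hb' := hA.1 hb
      have h6 : a ≠ π b := fun e' => by rw [e', hp] at ha'; exact lt_asymm ha' hb'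
      have h7 : π a ≠ b := fun e' => by rw [← e', hp] at hb'; exact lt_asymm ha' hb'
      rw [perp_sup]
      exact sup_le (le_inf (pl_orth h.on hab) (pl_orth h.on h6))
        (le_inf (pl_orth h.on h7) (pl_orth h.on (π.injective.ne hab))))
    (fun a ha => (ht a (hA.1 ha)).1) (fun a ha => (ht a (hA.1 ha)).2.1)
    fun a ha => Hs_mem hQ (ht a (hA.1 ha)).2.1
  have t1 : ∀ a, a < π a → ∀ u ∈ pl (F := F) (e a) (f a), y.1 u = s.1 u := fun a ha u hu =>
    (h4 a (hA.2 ha) u (Submodule.mem_sup_left hu)).trans ((ht a ha).2.2.1 u hu)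
  have t2 : ∀ a, π a < a → ∀ u ∈ pl (F := F) (e a) (f a), y.1 u = (s⁻¹).1 u := fun a ha u hu => by
    have h6 : π a < π (π a) := by rwa [hp]
    rw [← hp a] at hu
    exact (h4 _ (hA.2 h6) u (Submodule.mem_sup_right hu)).trans ((ht _ h6).2.2.2 u hu)
  have t3 : ∀ a, π a = a → ∀ u ∈ pl (F := F) (e a) (f a), y.1 u = u := fun a ha u hu =>
    h5 u fun b hb => by
      have hb' := hA.1 hb
      rw [perp_sup]
      exact ⟨pl_orth h.on (fun e' => by rw [← e', ha] at hb'; exact lt_irrefl _ hb') hu,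
        pl_orth h.on (fun e' => by rw [← ha, π.injective.eq_iff] at e'; rw [← e', ha] at hb'
                                   exact lt_irrefl _ hb') hu⟩
  have t4 : ∀ w ∈ perp Q (Sp F e f), y.1 w = w := fun w hw =>
    h5 w fun a _ => perp_anti (sup_le (pl_le_Sp _) (pl_le_Sp _)) hw
  have s1 : ∀ a, ∀ u ∈ pl (F := F) (e a) (f a), s.1 u ∈ pl (F := F) (e (π a)) (f (π a)) :=
    fun a u hu => (hπ a u).1 hu
  have s2 : ∀ a, ∀ u ∈ pl (F := F) (e a) (f a), (s⁻¹).1 u ∈ pl (F := F) (e (π a)) (f (π a)) :=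
    fun a u hu => (omaps_inv (hπ (π a)) u).1 (by rwa [hp])
  have t5 : ∀ a, ∀ u ∈ pl (F := F) (e a) (f a), y.1 u ∈ pl (F := F) (e (π a)) (f (π a)) :=
    fun a u hu => by
      rcases lt_trichotomy a (π a) with ha | ha | ha
      · exact t1 a ha u hu ▸ s1 a u hu
      · rwa [t3 a ha.symm u hu, ← ha]
      · exact t2 a ha u hu ▸ s2 a u hu
  have t6 : y * y = 1 := ext_fam h2 h.on (fun a u hu => by
    rw [O_mul_apply, O_one_apply]
    rcases lt_trichotomy a (π a) with ha | ha | ha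
    · rw [t1 a ha u hu, t2 (π a) (by rwa [hp]) _ (s1 a u hu), O_inv_apply]
    · rw [t3 a ha.symm u hu, t3 a ha.symm u hu]
    · rw [t2 a ha u hu, t1 (π a) (by rwa [hp]) _ (s2 a u hu), O_apply_inv])
    fun w hw => by rw [O_mul_apply, t4 w hw, t4 w hw, O_one_apply]
  refine ⟨y, ?_, hy, t6, fun a u => ⟨t5 a u, fun hu => ?_⟩,
    fun i hi => ⟨t3 i hi _ (left_mem_pl _ _), t3 i hi _ (right_mem_pl _ _)⟩, t4⟩
  · refine (mul_mem_cancel_left hs).1 (mem_of_res h2 hQ h.on (fun a => ?_) ?_)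
    · rcases lt_trichotomy a (π a) with ha | ha | ha
      · obtain ⟨r, hr, h6⟩ := h.res h2 hQ (mul_mem hs hs) (i := a) fun u hu => by
          simpa only [hp, O_mul_apply] using s1 _ _ (s1 a u hu)
        exact ⟨r, hr, fun u hu => by rw [h6 u hu, O_mul_apply, O_mul_apply, t1 a ha u hu]⟩
      · obtain ⟨r, hr, h6⟩ := h.res h2 hQ hs (i := a) fun u hu => by
          simpa only [← ha] using s1 a u hu
        exact ⟨r, hr, fun u hu => by rw [h6 u hu, O_mul_apply, t3 a ha.symm u hu]⟩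
      · exact ⟨1, one_mem _, fun u hu => by rw [O_mul_apply, t2 a ha u hu, O_apply_inv, O_one_apply]⟩
    · obtain ⟨r, hr, h6⟩ := h.res₀ h2 hQ hs
      exact ⟨r, hr, fun u hu => by rw [h6 u hu, O_mul_apply, t4 u hu]⟩
  · have := t5 _ _ hu
    rwa [hp, ← O_mul_apply, t6] at this

theorem o2 (h1 : O1Stmt) : O2Stmt := by
  intro F V _ _ _ _ _ Q h2 hQ S
  obtain ⟨k, e₀, f₀, ho, hm, S₁, hS₁⟩ := h1 F V Q h2 hQ
  obtain ⟨g, rfl⟩ := MulAction.exists_smul_eq (O Q) S₁ S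
  obtain ⟨e, f, h, hr⟩ := (Fam.move (S' := (g • S₁ : Sylow 2 (O Q))) ⟨ho, hm, hS₁⟩ g fun s hs =>
    hS₁ _ (by
      rw [Sylow.coe_subgroup_smul, Subgroup.mem_pointwise_smul_iff_inv_smul_mem] at hs
      simpa [MulAut.smul_def] using hs)).exists_rf hQ
  generalize g • S₁ = S at h hr ⊢
  obtain ⟨ν, hν⟩ := FiniteField.exists_nonsquare (F := F) fun e' => h2 (by
    have := ringChar.spec F 2
    rw [e'] at this
    exact_mod_cast this.2 dvd_rfl)
  have hc : ∀ i, ∃ c ∈ pl (F := F) (e i) (f i), Q c = ν ∧ refl Q c ∈ (S : Subgroup (O Q)) :=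
    fun i => by
      obtain ⟨x, hx, qx⟩ := (nondeg_pl' h2 h.on i).exists_Q_eq
        (finrank_pl h2 (sum_ne h.on (.inl i)) (sum_ne h.on (.inr i)) (h.on.ef i i)).ge ν
      exact qx ▸ exists_refl hQ (h.syl hQ i) hx
  choose c hc hc' using hc
  obtain ⟨m, v, m2, vq, vv, rv, hsp, fix⟩ := h.lines h2 hQ hν
  obtain ⟨P, hP⟩ := h.exists_P h2 hQ
  have hv : ∀ j, v j ∈ perp Q (Sp F e f) := fun j => hsp ▸ Submodule.subset_span ⟨j, rfl⟩
  refine ⟨⟨k, e, f, c, h.on, hc, fun i => (hc' i).1 ▸ hν, fun i => (hr i).1, fun i => (hr i).2.1,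
    fun i => (hr i).2.2, fun i => (hc' i).2, m, v, m2, vq,
    fun j i => mem_perp'.1 (hv j) _ (pl_le_Sp i (left_mem_pl _ _)),
    fun j i => mem_perp'.1 (hv j) _ (pl_le_Sp i (right_mem_pl _ _)), vv, rv, ?_, ?_, P,
    fun s hs => (h.ind s hs).imp fun π hπ => ⟨(hP π).2 ⟨s, hs, hπ⟩, hπ⟩, fun π hπ => (hP π).1 hπ,
    fix, fun s hs hs' => mem_of_res h2 hQ h.on (fun i => ?_) ?_, fun π hπ h3 => ?_⟩⟩
  · rw [Submodule.span_union, hsp]
    exact (nondeg_Sp h2 h.on).isCompl.sup_eq_top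
  · rw [← finrank_add_finrank_perp hQ (Sp F e f), finrank_Sp h2 h.on, ← hsp,
      finrank_span_eq_card (li_of_orth h2 v vq fun i j e' => (vv i j e').1), Fintype.card_fin]
  · obtain ⟨t, ht, h3⟩ := h.res h2 hQ hs (i := i) fun u hu => (hs' i u).1 hu
    refine ⟨t, ⟨?_, ht.2⟩, h3⟩
    have key : ∀ z ∈ pl (F := F) (e i) (f i), refl Q z ∈ (S : Subgroup (O Q)) →
        refl Q z ∈ closure {r | r ∈ (S : Subgroup (O Q)) ∧ ∃ x, Q x ≠ 0 ∧ r = refl Q x ∧
          ((∃ i, x ∈ pl (F := F) (e i) (f i)) ∨ ∃ j, x = v j)} := fun z hz hz' => by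
      by_cases h0 : Q z = 0
      · rw [refl_of_eq_zero h0]; exact one_mem _
      · exact subset_closure ⟨hz', z, h0, rfl, Or.inl ⟨i, hz⟩⟩
    obtain ⟨z, hz, rfl | rfl⟩ := plane_cases h2 hQ (sum_ne h.on (.inl i)) (sum_ne h.on (.inr i))
      (h.on.ef i i) ht.2
    · exact key z hz ht.1
    · exact mul_mem (key z hz ((mul_mem_cancel_right (hr i).2.1).1 ht.1))
        (key _ (right_mem_pl _ _) (hr i).2.1)
  · have h3 : ∀ j, ∃ t ∈ closure {r | r ∈ (S : Subgroup (O Q)) ∧ ∃ x, Q x ≠ 0 ∧ r = refl Q x ∧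
          ((∃ i, x ∈ pl (F := F) (e i) (f i)) ∨ ∃ j, x = v j)} ⊓ Hs Q (perp Q (Sp F e f)),
        t ∈ Hs Q (F ∙ v j) ∧ t.1 (v j) = s.1 (v j) := fun j =>
      (fix s hs j).elim (fun e' => ⟨1, one_mem _, one_mem _, e'.symm⟩) fun e' =>
        ⟨refl Q (v j), ⟨subset_closure ⟨rv j, v j, vq j, rfl, Or.inr ⟨j, rfl⟩⟩, refl_mem_Hs (hv j)⟩,
          refl_mem_Hs (Submodule.mem_span_singleton_self _), by rw [e', refl_apply_self (vq j)]⟩
    choose t ht ht' using h3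
    obtain ⟨y, hy, h4, -⟩ := exists_prod Finset.univ (fun j => F ∙ v j) t _
      (fun a _ b _ hab => (Submodule.span_singleton_le_iff_mem _ _).2
        (mem_perp_singleton.2 (vv b a hab.symm).1))
      (fun a _ => ht a) (fun a _ => (ht' a).1) fun a _ => Hs_mem hQ (ht' a).1
    refine ⟨y, hy, fun u hu => Submodule.span_le.2
      (show _ ⊆ (LinearMap.eqLocus (y.1 : V →ₗ[F] V) (s.1 : V →ₗ[F] V) : Set V) from ?_) (hsp ▸ hu)⟩
    rintro _ ⟨j, rfl⟩
    exact (h4 j (Finset.mem_univ j) _ (Submodule.mem_span_singleton_self _)).trans (ht' j).2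
  · obtain ⟨s, hs, h4⟩ := (hP π).1 hπ
    obtain ⟨t, a1, a2, a3, a4, a5, a6⟩ := h.lift h2 hQ hs h4 h3
    exact ⟨t, a1, a2, a3, a4, a5, fun j => a6 _ (hv j)⟩

end Cfsg.Agent.H59.FkO2
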