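import Mathlib
import Cfsg.Agent.H76.K4Defs

/-! The arithmetic of four characters. -/

set_option autoImplicit false

namespace Cfsg.Agent.H59.K4Pl

open Cfsg.Agent.H76.K4

theorem aux {E s n : ℤ} (h0 : 0 ≤ s) (h1 : s ≤ E) (h2 : 4 * E * n = s ^ 2 + 3)
    (h3 : s * (s + 1) ≤ (1 + 2 * E) * (2 * n)) : E ≤ 8 := by
  by_contra c
  have e9 : 9 ≤ E := by omega
  have n1 : 1 ≤ n := by
    by_contra d
    have : n ≤ 0 := by omega
    nlinarith [sq_nonneg s]
  have a1 : s ≤ 2 * n + 3 := by nlinarith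
  have a2 : 4 * n ≤ E := by
    by_contra d
    have : E + 1 ≤ 4 * n := by omega
    nlinarith
  have a3 : s ^ 2 ≤ (2 * n + 3) ^ 2 := by nlinarith
  nlinarith

theorem pl : PlStmt := by
  intro q x y a b hq hab H
  obtain ⟨E, hE⟩ : ∃ E, E = x ^ 2 + x * y + y ^ 2 := ⟨_, rfl⟩
  have E0 : 0 < E := by
    rcases eq_or_ne y 0 with rfl | hy
    · have : x ≠ 0 := by rintro rfl; simp at hab
      have := sq_pos_of_ne_zero this
      nlinarith
    · have := sq_pos_of_ne_zero hy
      nlinarith [sq_nonneg (2 * x + y)]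
  have key : ∀ w1 w2 : ℤ, (x * w2 - y * w1) ^ 2 = 1 → 0 ≤ x * w1 + y * w2 + (x + y) * (w1 + w2) →
      x * w1 + y * w2 + (x + y) * (w1 + w2) ≤ E → E ≤ 8 := by
    intro w1 w2 h1 h2 h3
    refine aux (n := w1 ^ 2 + w1 * w2 + w2 ^ 2) h2 h3 ?_ ?_
    · rw [hE]; linear_combination 3 * h1
    · refine (H w1 w2).trans (le_of_eq ?_)
      rw [hq, hE]; ring
  have E8 : E ≤ 8 := by
    obtain ⟨s0, hs⟩ : ∃ s0, s0 = x * (-b) + y * a + (x + y) * (-b + a) := ⟨_, rfl⟩
    have d1 := Int.emod_add_mul_ediv (s0 + E) (2 * E)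
    have d2 := Int.emod_nonneg (s0 + E) (b := 2 * E) (by omega)
    have d3 := Int.emod_lt_of_pos (s0 + E) (b := 2 * E) (by omega)
    generalize (s0 + E) / (2 * E) = t at d1
    generalize (s0 + E) % (2 * E) = r at d1 d2 d3
    have e : x * (-b - t * x) + y * (a - t * y) + (x + y) * ((-b - t * x) + (a - t * y)) = r - E := by
      rw [hE] at d1 ⊢; linear_combination -hs - d1
    rcases le_total E r with c | c
    · exact key (-b - t * x) (a - t * y) (by linear_combination (x * a + y * b + 1) * hab)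
        (by omega) (by omega)
    · have e' : x * (b + t * x) + y * (-a + t * y) + (x + y) * ((b + t * x) + (-a + t * y)) = E - r := by
        linear_combination -e
      exact key (b + t * x) (-a + t * y) (by linear_combination (x * a + y * b + 1) * hab)
        (by omega) (by omega)
  have x1 : -3 ≤ x := by nlinarith [sq_nonneg (x + 2 * y)]
  have x2 : x ≤ 3 := by nlinarith [sq_nonneg (x + 2 * y)]
  have y1 : -3 ≤ y := by nlinarith [sq_nonneg (2 * x + y)]
  have y2 : y ≤ 3 := by nlinarith [sq_nonneg (2 * x + y)]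
  subst hE hq
  clear key H
  interval_cases x <;> interval_cases y <;> omega

end Cfsg.Agent.H59.K4Pl
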