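import Mathlib
import Cfsg.Agent.H44.K5Defs

set_option autoImplicit false

namespace Cfsg.Agent.H59.K5Uni

open Matrix Cfsg.Agent.H44.K5

theorem pos_conj {n : ℕ} (A W : Matrix (Fin n) (Fin n) ℤ) (hW : IsUnit W.det)
    (hp : ∀ x : Fin n → ℤ, x ≠ 0 → 0 < x ⬝ᵥ A *ᵥ x) (x : Fin n → ℤ) (hx : x ≠ 0) :
    0 < x ⬝ᵥ (Wᵀ * A * W) *ᵥ x := by
  have h1 : W *ᵥ x ≠ 0 := fun h => hx (Matrix.eq_zero_of_mulVec_eq_zero hW.ne_zero h)
  have h2 := hp _ h1
  rw [← Matrix.mulVec_mulVec, ← Matrix.mulVec_mulVec, Matrix.dotProduct_mulVec, Matrix.vecMul_transpose]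
  exact h2

theorem uni (herm : HermStmt) : UniStmt := by
  intro n
  induction n with
  | zero => intro _ A _ _ _; exact ⟨1, Subsingleton.elim _ _⟩
  | succ n ih =>
    intro hn A hs hp hd
    obtain ⟨U, hU, hb⟩ := herm n A hs hp
    set B := Uᵀ * A * U with hB
    have hBs : Bᵀ = B := by simp [hB, Matrix.transpose_mul, hs, Matrix.mul_assoc]
    have hBs' : ∀ i j, B i j = B j i := fun i j => by
      have := congrFun (congrFun hBs j) i
      simpa using this
    have hBp := pos_conj A U hU hp
    have ha : 0 < B 0 0 := by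
      have := hBp (Pi.single 0 1) (by simp)
      simpa [← hB] using this
    have ha1 : B 0 0 = 1 := by
      by_contra h
      have h2 : (2 : ℤ) ≤ B 0 0 := by omega
      have h3 : (2 : ℤ) ^ (n + 1) ≤ B 0 0 ^ (n + 1) := pow_le_pow_left₀ (by norm_num) h2 _
      rw [hd] at hb
      generalize B 0 0 ^ (n + 1) = c at hb h3
      have hn' : n ≤ 4 := by omega
      interval_cases n <;> norm_num at hb h3 <;> omega
    let T : Matrix (Fin (n + 1)) (Fin (n + 1)) ℤ := Matrix.of fun i j =>
      if i = j then 1 else if i = 0 then - B 0 j else 0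
    have hT : T.det = 1 := by
      rw [Matrix.det_of_upperTriangular]
      · simp [T]
      · intro i j hij
        have h1 : i ≠ j := ne_of_gt hij
        have h2 : i ≠ 0 := by
          rintro rfl
          exact absurd hij (by simp)
        simp [T, h1, h2]
    set C := Tᵀ * B * T with hC
    have hCs : Cᵀ = C := by simp [hC, Matrix.transpose_mul, hBs, Matrix.mul_assoc]
    have hCp := pos_conj B T (by simp [hT]) hBp
    have hT0 : ∀ i, T i 0 = if i = 0 then 1 else 0 := fun i => by
      by_cases h : i = 0 <;> simp [T, h]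
    have hrow : ∀ j, C 0 j = if j = 0 then 1 else 0 := fun j => by
      have e1 : ∀ k, (Tᵀ * B) 0 k = B 0 k := fun k => by
        simp [Matrix.mul_apply, hT0]
      rw [hC, Matrix.mul_apply]
      simp only [e1]
      refine Fin.cases ?_ (fun j => ?_) j
      · simp [hT0, ha1]
      · rw [Fin.sum_univ_succ]
        have : ∀ k : Fin n, T k.succ j.succ = if k = j then 1 else 0 := fun k => by
          simp [T]
        simp only [this]
        simp [T, ha1, (Fin.succ_ne_zero j).symm]
    have hcol : ∀ i, C i 0 = if i = 0 then 1 else 0 := fun i => by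
      rw [← hrow i]
      have := congrFun (congrFun hCs 0) i
      simpa using this
    have hCd : C.det = 1 := by
      rw [hC, hB]
      simp only [Matrix.det_mul, Matrix.det_transpose, hT, hd]
      have := Int.isUnit_mul_self hU
      linarith
    let S : Matrix (Fin n) (Fin n) ℤ := C.submatrix Fin.succ Fin.succ
    have hSd : S.det = 1 := by
      rw [Matrix.det_succ_row_zero, Fin.sum_univ_succ] at hCd
      simpa [hrow, S] using hCd
    have hSs : Sᵀ = S := by
      simp only [S, Matrix.transpose_submatrix, hCs]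
    have hSp : ∀ x : Fin n → ℤ, x ≠ 0 → 0 < x ⬝ᵥ S *ᵥ x := fun x hx => by
      have := hCp (Fin.cons 0 x) (fun h => hx (by
        funext i
        simpa using congrFun h i.succ))
      simpa [← hC, S, dotProduct, Matrix.mulVec, Fin.sum_univ_succ] using this
    obtain ⟨V, hV⟩ := ih (by omega) S hSs hSp hSd
    let V' : Matrix (Fin (n + 1)) (Fin (n + 1)) ℤ := Matrix.of fun i j =>
      Fin.cases (Fin.cases 1 (fun _ => 0) j) (fun i => Fin.cases 0 (fun j => V i j) j) i
    refine ⟨U * T * V', ?_⟩
    have e : (U * T * V')ᵀ * A * (U * T * V') = V'ᵀ * C * V' := by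
      simp [hC, hB, Matrix.transpose_mul, Matrix.mul_assoc]
    rw [e]
    ext i j
    refine Fin.cases ?_ (fun i => ?_) i <;> refine Fin.cases ?_ (fun j => ?_) j
    · simp [V', Matrix.mul_apply, Fin.sum_univ_succ, hrow, hcol]
    · simp [V', Matrix.mul_apply, Fin.sum_univ_succ, hrow, hcol, Matrix.one_apply, (Fin.succ_ne_zero j).symm]
    · simp [V', Matrix.mul_apply, Fin.sum_univ_succ, hrow, hcol, Matrix.one_apply]
    · have := congrFun (congrFun hV i) j
      simpa [V', S, Matrix.mul_apply, Fin.sum_univ_succ, hrow, hcol, Matrix.one_apply] using this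

end Cfsg.Agent.H59.K5Uni
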