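import Mathlib
import Cfsg.Agent.H48.M2Defs

/-! Membership in `Q_u A` for an ark `A`. -/

set_option autoImplicit false

namespace Cfsg.Agent.H48.M2

open Cfsg Subgroup Cfsg.Agent.H48 Cfsg.Agent.H48.Rec Cfsg.Agent.H49 Cfsg.Agent.H95.Par
open Cfsg.Agent.H97.Gr (DD ZZ)
open Cfsg.Agent.H97.Yt (M)

theorem qa_of (pf : PfStmt) : QaStmt := by
  intro A hA u hu uz p hp
  have f := pf A hA
  have nA : A ≤ NN (Qz u) := fun a ha => n_Qz uz (f.el.cm ha hu)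
  have nP : ∀ x ∈ CP A, ∀ q ∈ Qz u, x * q * x⁻¹ * q⁻¹ ∈ Qz u := fun x hx q hq =>
    mul_mem ((mem_normalizer_iff.1 (n_Qz uz (mem_centralizer_iff.1 hx u hu).symm) q).1 hq) (inv_mem hq)
  refine ⟨fun h p' hp' => ?_, fun h => ?_⟩
  · rw [sup_comm] at h
    obtain ⟨a, ha, q, hq, rfl⟩ := (mem_sup_of_le_normalizer' nA).1 h
    have := (mem_normalizer_iff.1 (nA ha) _).1 (nP p' hp' q hq)
    convert this using 1
    rw [← mul_assoc p', ← mem_centralizer_iff.1 hp' a ha]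
    group
  obtain ⟨w, hw, wz, nw⟩ := f.ex' u hu uz
  obtain ⟨p1, h1, p2, h2, a, ha, rfl⟩ := f.pd u hu uz w hw wz nw p hp
  have h3 : p2 ∈ Qz w ⊓ CP (Qz w ⊓ CP A) := ⟨h2.1, mem_centralizer_iff.2 fun j hj => by
    refine ((lx wz).comm j hj.1 p2 h2.1).resolve_right fun e => nw ?_
    have q1 : p1 ∈ Qz u := h1.1
    have q2 : j ∈ CP A := hj.2
    have k1 := mul_mem (mul_mem (inv_mem q1)
      (mul_mem (inv_mem (nP j q2 p1 q1)) (h j q2))) q1
    have k2 : a * j⁻¹ = j⁻¹ * a := mem_centralizer_iff.1 (inv_mem q2) a ha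
    convert k1 using 1
    calc w = p2 * j * w * (p2 * j)⁻¹ := by
          rw [(lx wz).cen _ (mul_mem h2.1 hj.1), mul_inv_cancel_right]
      _ = j * p2 * (j⁻¹ * a) * a⁻¹ * p2⁻¹ := by rw [← e]; group
      _ = _ := by rw [← k2]; group⟩
  rw [f.d2 w hw wz] at h3
  rw [mul_assoc]
  exact mul_mem (mem_sup_left h1.1) (mem_sup_right (mul_mem h3.1 ha))

end Cfsg.Agent.H48.M2
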