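import Mathlib
import Cfsg.Agent.H42.PcDefs

/-! Project PC, piece ORB. -/

set_option autoImplicit false

namespace Cfsg.Agent.H59.PcOrb

open Subgroup MulAction Cfsg.Agent.H42.Pc

universe u

theorem cnt (H X : Type u) [Group H] [Finite H] [MulAction H X] [Finite X] [Fintype X] :
    ∑ x : X, Nat.card (stabilizer H x) = Nat.card (orbitRel.Quotient H X) * Nat.card H := by
  let e : (Σ x : X, stabilizer H x) ≃ (Σ a : H, fixedBy X a) :=
    ⟨fun v => ⟨v.2.1, v.1, v.2.2⟩, fun v => ⟨v.2.1, v.1, v.2.2⟩, fun _ => rfl, fun _ => rfl⟩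
  rw [← Nat.card_sigma, Nat.card_congr (e.trans (sigmaFixedByEquivOrbitsProdGroup H X)),
    Nat.card_prod]

theorem orb : OrbStmt.{u} := by
  intro S Ω _ _ _ _ T A c l hT hl h1 h2 h3 h4 h5 x hx s hs
  haveI := Fintype.ofFinite Ω
  haveI : Nonempty Ω := ⟨x⟩
  have e1 := cnt S Ω
  simp only [h2, Finset.sum_const, Finset.card_univ, smul_eq_mul, ← Nat.card_eq_fintype_card] at e1
  set ν := Nat.card (orbitRel.Quotient S Ω) with hν
  have νp : 0 < ν := by
    haveI : Nonempty (orbitRel.Quotient S Ω) := ⟨Quotient.mk _ x⟩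
    exact Nat.card_pos
  have e2 : c = ν * l := by
    refine Nat.eq_of_mul_eq_mul_left (Nat.card_pos (α := Ω)) ?_
    rw [e1, ← h1]; ring
  let X : SubMulAction T Ω := ⟨A, fun t w hw => h4 w hw t t.2⟩
  haveI := Fintype.ofFinite X
  have e3 := cnt T X
  have e4 : ∀ y : X, Nat.card (stabilizer T y) ≤ ν := by
    intro y
    obtain ⟨k, hk⟩ := IsPGroup.iff_card.1 (hT.to_subgroup (stabilizer T y))
    let f : stabilizer T y →* stabilizer S (y : Ω) :=
      { toFun := fun t => ⟨t.1.1, congrArg Subtype.val t.2⟩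
        map_one' := rfl
        map_mul' := fun _ _ => rfl }
    have hf : Function.Injective f := fun a b e =>
      Subtype.ext (Subtype.ext (congrArg (fun v : stabilizer S (y : Ω) => (v : S)) e))
    have d := card_dvd_of_injective f hf
    rw [h2, e2, hk] at d
    rw [hk]
    exact Nat.le_of_dvd νp (Nat.Coprime.dvd_of_dvd_mul_right
      (Nat.Coprime.pow_left k (Nat.coprime_two_left.2 hl)) d)
  have e5 : Nat.card (orbitRel.Quotient T X) ≤ ν := by
    refine Nat.le_of_mul_le_mul_right ?_ (Nat.card_pos (α := T))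
    rw [← e3]
    refine (Finset.sum_le_sum fun y _ => e4 y).trans ?_
    rw [Finset.sum_const, Finset.card_univ, smul_eq_mul, ← Nat.card_eq_fintype_card, ← h3, mul_comm]
    exact le_rfl
  let φ : orbitRel.Quotient T X → orbitRel.Quotient S Ω :=
    Quotient.map' Subtype.val (by
      rintro a b ⟨t, ht⟩
      exact ⟨t.1, congrArg Subtype.val ht⟩)
  have hφ : Function.Surjective φ := by
    intro q
    induction q using Quotient.inductionOn' with
    | h w =>
      obtain ⟨g, hg⟩ := h5 w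
      exact ⟨Quotient.mk'' ⟨g • w, hg⟩, Quotient.sound' ⟨g, rfl⟩⟩
  have hi := (hφ.bijective_of_nat_card_le e5).1
  have e6 : (Quotient.mk'' ⟨s • x, hs⟩ : orbitRel.Quotient T X) = Quotient.mk'' ⟨x, hx⟩ :=
    hi (Quotient.sound' ⟨s, rfl⟩)
  obtain ⟨t, ht⟩ := Quotient.exact' e6
  exact ⟨t.1, t.2, congrArg Subtype.val ht⟩

end Cfsg.Agent.H59.PcOrb
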