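import Mathlib
import Cfsg.Agent.H56.SpDefs

/-! Project CY, chapter SP, piece A1: the maximal configuration. -/

set_option autoImplicit false

namespace Cfsg.Agent.H59.SpA1

open Subgroup MulAction Cfsg.Agent.H11.Cy Cfsg.Agent.H56.Sp
open Cfsg.Agent.H45.Iv (Fx Sub Ms)

section gen
variable {G : Type} [Group G] [Finite G]

theorem par {Ω : Type} [Finite Ω] [MulAction G Ω] {P : Subgroup G} (hP : IsPGroup 2 P)
    {O : Set Ω} (hO : ∀ s ∈ P, ∀ w ∈ O, s • w ∈ O) :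
    O.ncard ≡ {w | w ∈ O ∧ ∀ s ∈ P, s • w = w}.ncard [MOD 2] := by
  let X : SubMulAction P Ω := ⟨O, fun s w hw => hO s s.2 w hw⟩
  have := hP.card_modEq_card_fixedPoints X
  have e : Subtype.val '' (fixedPoints P X) = {w | w ∈ O ∧ ∀ s ∈ P, s • w = w} := by
    ext w
    constructor
    · rintro ⟨v, hv, rfl⟩
      exact ⟨v.2, fun s hs => congrArg Subtype.val (hv ⟨s, hs⟩)⟩
    · rintro ⟨h1, h2⟩
      exact ⟨⟨w, h1⟩, fun s => Subtype.ext (h2 s s.2), rfl⟩
  rw [← e, Set.ncard_image_of_injective _ Subtype.val_injective]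
  exact this

theorem syl {S Q K : Subgroup G} (hS : IsPGroup 2 S) (hQ : IsPGroup 2 Q) (h1 : S ≤ K) (h2 : Q ≤ K)
    (hm : ∀ R : Subgroup G, IsPGroup 2 R → S ≤ R → R ≤ K → R = S) :
    ∃ k ∈ K, ∀ q ∈ Q, k * q * k⁻¹ ∈ S := by
  let P : Sylow 2 K := ⟨S.subgroupOf K, hS.comap_subtype, fun {R} hR hle => by
    have := hm (R.map K.subtype) (hR.map _) (fun s hs => ⟨⟨s, h1 hs⟩, hle hs, rfl⟩)
      (map_subtype_le _)
    refine le_antisymm (fun r hr => ?_) hle
    have h3 : (r : G) ∈ R.map K.subtype := ⟨r, hr, rfl⟩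
    rw [this] at h3
    exact h3⟩
  obtain ⟨P', hP'⟩ := (hQ.comap_subtype (K := K)).exists_le_sylow
  obtain ⟨k, hk⟩ := exists_smul_eq K P' P
  refine ⟨k, k.2, fun q hq => ?_⟩
  have h3 : (⟨q, h2 hq⟩ : K) ∈ P' := hP' hq
  have h4 : k * ⟨q, h2 hq⟩ * k⁻¹ ∈ ((k • P' : Sylow 2 K) : Subgroup K) :=
    Subgroup.smul_mem_pointwise_smul _ (MulAut.conj k) _ h3
  rw [hk] at h4
  exact h4

theorem grow {S R : Subgroup G} (hR : IsPGroup 2 R) (h1 : S ≤ R) (h2 : R ≠ S) :
    ∃ r ∈ R, r ∈ normalizer (S : Set G) ∧ r ∉ S := by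
  haveI := hR.isNilpotent
  have h3 : S.subgroupOf R < ⊤ := lt_top_iff_ne_top.2 fun e => h2
    (le_antisymm (subgroupOf_eq_top.1 e) h1)
  obtain ⟨r, hr, hr'⟩ := SetLike.exists_of_lt (Group.normalizerCondition_of_isNilpotent _ h3)
  refine ⟨r, r.2, ?_, hr'⟩
  refine Subgroup.mem_normalizer_fintype fun s hs => ?_
  exact (mem_normalizer_iff.1 hr ⟨s, h1 hs⟩).1 hs

end gen

variable {G : Type} [Group G] {Ω : Type} [MulAction G Ω] {p : ℕ} {A : Ω → Subgroup G}

theorem cF (h : St p A) (g : G) (x y : Ω) {f : G} (hf : f ∈ Fl A x y) :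
    g * f * g⁻¹ ∈ Fl A (g • x) (g • y) := by
  have : Fl A x y ≤ (Fl A (g • x) (g • y)).comap (MulAut.conj g).toMonoidHom :=
    sup_le (fun a ha => mem_sup_left (h.eqv g x a ha)) (fun a ha => mem_sup_right (h.eqv g y a ha))
  exact this hf

theorem cK (h : St p A) (g : G) (x y : Ω) {k : G} (hk : k ∈ Kl A x y) :
    g * k * g⁻¹ ∈ Kl A (g • x) (g • y) := by
  intro f hf
  have h1 := cF h g⁻¹ _ _ hf
  rw [inv_smul_smul, inv_smul_smul] at h1
  have h2 := hk _ h1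
  calc f * (g * k * g⁻¹) = g * (g⁻¹ * f * g⁻¹⁻¹ * k) * g⁻¹ := by group
    _ = _ := by rw [h2]; group

/-- the property maximised -/
def PP (A : Ω → Subgroup G) (S : Subgroup G) : Prop := IsPGroup 2 S ∧ ∃ x y, x ≠ y ∧ ∃ z,
  IsZ A x y z ∧ z ∈ S ∧ S ≤ Kl A x y ∧ {w | ∀ s ∈ S, s • w = w} ≠ Ln A x y

theorem a1 : A1Stmt := by
  intro G _ _ Ω _ _ p A h p2 ep lf hz
  have ex : ∃ S, PP A S := by
    by_contra c
    apply hz
    intro x y hxy z iz
    by_contra d
    refine c ⟨zpowers z, ?_, x, y, hxy, z, iz, mem_zpowers z,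
      (zpowers_le).2 ((lf x y hxy).cen z iz), fun e => d ?_⟩
    · refine IsPGroup.of_card (n := 1) ?_
      rw [Nat.card_zpowers, pow_one]
      exact orderOf_eq_prime (by rw [sq, iz.2.2]) iz.2.1
    · rw [← e]
      ext w
      exact ⟨fun hw s hs => (zpowers_le.2 (show z ∈ stabilizer G w from hw)) hs,
        fun hw => hw z (mem_zpowers z)⟩
  obtain ⟨S0, hS0⟩ := ex
  obtain ⟨S, -, hmax⟩ := Finite.exists_le_maximal (p := PP A) hS0
  obtain ⟨two, x, y, hxy, z, iz, zS, SK, hne⟩ := hmax.prop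
  set Φ : Set Ω := {w | ∀ s ∈ S, s • w = w} with hΦ
  have lx := lf x y hxy
  have lΦ : Ln A x y ⊆ Φ := fun w hw s hs => (ep.kfix x y hxy s).1 (SK hs) w hw
  have cen : ∀ w ∈ Φ, ∀ s ∈ S, s ∈ centralizer (A w : Set G) := by
    intro w hw s hs
    have c1 : s ∈ centralizer (A x : Set G) := fun a ha => SK hs a (mem_sup_left ha)
    by_cases e : x = w
    · rw [← e]; exact c1
    · exact fun a ha => ep.eps x w e s ⟨lΦ lx.mem.1 s hs, hw s hs⟩ c1 a (mem_sup_right ha)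
  have kk : ∀ a ∈ Φ, ∀ b ∈ Φ, a ≠ b → S ≤ Kl A a b := fun a ha b hb hab s hs =>
    ep.eps a b hab s ⟨ha s hs, hb s hs⟩ (cen a ha s hs)
  have sub : Sub A Φ := fun a ha b hb hab w hw s hs =>
    (ep.kfix a b hab s).1 (kk a ha b hb hab hs) w hw
  have FN : ∀ a ∈ Φ, ∀ b ∈ Φ, a ≠ b → Fl A a b ≤ normalizer (S : Set G) := by
    intro a ha b hb hab f hf
    refine Subgroup.mem_normalizer_fintype fun s hs => ?_
    rw [kk a ha b hb hab hs f hf, mul_inv_cancel_right]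
    exact hs
  have NΦ : ∀ g ∈ normalizer (S : Set G), ∀ w ∈ Φ, g • w ∈ Φ := by
    intro g hg w hw s hs
    have h1 := hw _ ((mem_normalizer_iff.1 (inv_mem hg) s).1 hs)
    rw [inv_inv, mul_smul, mul_smul, inv_smul_eq_iff] at h1
    exact h1
  -- the Sylow case
  have sy : ∀ a ∈ Φ, ∀ b ∈ Φ, ∀ c ∈ Φ, a ≠ b → a ≠ c →
      (∀ R : Subgroup G, IsPGroup 2 R → S ≤ R → R ≤ Kl A a b → R = S) →
      ∃ g ∈ normalizer (S : Set G), g • a = a ∧ g • c = b := by
    intro a ha b hb c hc hab hac hm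
    obtain ⟨g, -, g1, g2⟩ := h.two a trivial c trivial a trivial b trivial hac hab
    obtain ⟨k, hk, e⟩ := syl two (two.map (MulAut.conj g).toMonoidHom) (kk a ha b hb hab) (by
      rintro _ ⟨s, hs, rfl⟩
      have := cK h g a c (kk a ha c hc hac hs)
      rw [g1, g2] at this
      exact this) hm
    have kf := (ep.kfix a b hab k).1 hk
    refine ⟨k * g, Subgroup.mem_normalizer_fintype fun s hs => ?_, ?_, ?_⟩
    · have := e _ ⟨s, hs, rfl⟩
      simpa [mul_assoc] using this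
    · rw [mul_smul, g1, kf a (lf a b hab).mem.1]
    · rw [mul_smul, g2, kf b (lf a b hab).mem.2]
  -- the other case
  have ot : ∀ a ∈ Φ, ∀ b ∈ Φ, a ≠ b →
      ¬ (∀ R : Subgroup G, IsPGroup 2 R → S ≤ R → R ≤ Kl A a b → R = S) →
      ∃ R : Subgroup G, IsPGroup 2 R ∧ R ≤ normalizer (S : Set G) ∧
        {w | ∀ s ∈ R, s • w = w} = Ln A a b := by
    intro a ha b hb hab hm
    push Not at hm
    obtain ⟨R, r2, SR, RK, hR⟩ := hm
    obtain ⟨r, rR, rN, rS⟩ := grow r2 SR hR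
    obtain ⟨u, iu⟩ := (lf a b hab).ex
    have u2 : IsPGroup 2 (zpowers u) := by
      refine IsPGroup.of_card (n := 1) ?_
      rw [Nat.card_zpowers, pow_one]
      exact orderOf_eq_prime (by rw [sq, iu.2.2]) iu.2.1
    have q2 : IsPGroup 2 (R ⊓ normalizer (S : Set G) ⊔ zpowers u : Subgroup G) := by
      refine IsPGroup.to_sup_of_normal_right' r2.to_inf_left u2 fun g hg => ?_
      refine Subgroup.mem_normalizer_fintype fun s hs => ?_
      have : s * g = g * s := RK hg.1 s (zpowers_le.2 iu.1 hs)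
      rw [← this, mul_inv_cancel_right]
      exact hs
    have SQ : S ≤ R ⊓ normalizer (S : Set G) ⊔ zpowers u :=
      le_sup_of_le_left (le_inf SR le_normalizer)
    refine ⟨_, q2, sup_le inf_le_right (zpowers_le.2 (FN a ha b hb hab iu.1)), ?_⟩
    by_contra c
    have := hmax.le_of_ge ⟨q2, a, b, hab, u, iu, mem_sup_right (mem_zpowers u),
      sup_le (inf_le_left.trans RK) (zpowers_le.2 ((lf a b hab).cen u iu)), c⟩ SQ
    exact rS (this (mem_sup_left ⟨rR, rN⟩))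
  have st : ∀ a ∈ Φ, ∀ b ∈ Φ, ∀ c ∈ Φ, a ≠ b → a ≠ c →
      ∃ g ∈ normalizer (S : Set G), g • a = a ∧ g • c = b := by
    intro a ha b hb c hc hab hac
    by_cases m1 : ∀ R : Subgroup G, IsPGroup 2 R → S ≤ R → R ≤ Kl A a b → R = S
    · exact sy a ha b hb c hc hab hac m1
    by_cases m2 : ∀ R : Subgroup G, IsPGroup 2 R → S ≤ R → R ≤ Kl A a c → R = S
    · obtain ⟨g, hg, g1, g2⟩ := sy a ha c hc b hb hac hab m2
      exact ⟨g⁻¹, inv_mem hg, inv_smul_eq_iff.2 g1.symm, inv_smul_eq_iff.2 g2.symm⟩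
    obtain ⟨R1, r1, n1, e1⟩ := ot a ha b hb hab m1
    obtain ⟨R2, r2, n2, e2⟩ := ot a ha c hc hac m2
    by_contra cc
    let O : Set Ω := {w | ∃ g ∈ normalizer (S : Set G), g • a = a ∧ g • c = w}
    have hO : ∀ g ∈ normalizer (S : Set G), g • a = a → ∀ w ∈ O, g • w ∈ O := by
      rintro g hg ga _ ⟨g', hg', g1, rfl⟩
      exact ⟨g * g', mul_mem hg hg', by rw [mul_smul, g1, ga], mul_smul _ _ _⟩
    have aO : a ∉ O := by
      rintro ⟨g, -, g1, g2⟩
      exact hac (smul_left_cancel g (g1.trans g2.symm))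
    have a1 : ∀ s ∈ R1, s • a = a := by
      have := (lf a b hab).mem.1
      rw [← e1] at this; exact this
    have a2 : ∀ s ∈ R2, s • a = a := by
      have := (lf a c hac).mem.1
      rw [← e2] at this; exact this
    have p1 := par r1 (O := O) fun s hs => hO s (n1 hs) (a1 s hs)
    have p2' := par r2 (O := O) fun s hs => hO s (n2 hs) (a2 s hs)
    have f1 : {w | w ∈ O ∧ ∀ s ∈ R1, s • w = w} = ∅ := by
      refine Set.eq_empty_of_forall_notMem fun w hw => ?_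
      have wl : w ∈ Ln A a b := by rw [← e1]; exact hw.2
      have aw : a ≠ w := fun e => aO (e ▸ hw.1)
      obtain ⟨f, hf, f1, f2⟩ := (lf a b hab).tr a (lf a b hab).mem.1 w wl a (lf a b hab).mem.1 b
        (lf a b hab).mem.2 aw hab
      have := hO f (FN a ha b hb hab hf) f1 w hw.1
      rw [f2] at this
      exact cc this
    have f2 : {w | w ∈ O ∧ ∀ s ∈ R2, s • w = w} = Ln A a c \ {a} := by
      ext w
      constructor
      · intro hw
        exact ⟨by rw [← e2]; exact hw.2, fun e => aO ((Set.mem_singleton_iff.1 e) ▸ hw.1)⟩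
      · rintro ⟨wl, wa⟩
        obtain ⟨f, hf, f1, f2⟩ := (lf a c hac).tr a (lf a c hac).mem.1 c (lf a c hac).mem.2 a
          (lf a c hac).mem.1 w wl hac (fun e => wa e.symm)
        refine ⟨⟨f, FN a ha c hc hac hf, f1, f2⟩, ?_⟩
        rw [← e2] at wl; exact wl
    rw [f1, Set.ncard_empty] at p1
    rw [f2, Set.ncard_sdiff_singleton_of_mem (lf a c hac).mem.1, (lf a c hac).ln] at p2'
    have := h.pp.eq_two_or_odd
    unfold Nat.ModEq at p1 p2'
    omega
  have tr : Tr2 (normalizer (S : Set G)) Φ := by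
    intro a ha b hb a' ha' b' hb' hab hab'
    have : ∃ f ∈ normalizer (S : Set G), f • a = a' := by
      by_cases e : a = a'
      · exact ⟨1, one_mem _, by rw [one_smul, e]⟩
      · obtain ⟨f, hf, f1, -⟩ := (lf a a' e).tr a (lf a a' e).mem.1 a' (lf a a' e).mem.2 a'
          (lf a a' e).mem.2 a (lf a a' e).mem.1 e (Ne.symm e)
        exact ⟨f, FN a ha a' ha' e hf, f1⟩
    obtain ⟨f, hf, f1⟩ := this
    obtain ⟨g, hg, g1, g2⟩ := st a' ha' b' hb' (f • b) (NΦ f hf b hb) hab'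
      (fun e => hab (smul_left_cancel f (f1.trans e)))
    exact ⟨g * f, mul_mem hg hf, by rw [mul_smul, f1, g1], by rw [mul_smul, g2]⟩
  refine ⟨S, Φ, two, fun e => iz.2.1 (by rw [e] at zS; exact zS), fun w => Iff.rfl, sub,
    ⟨x, lΦ lx.mem.1, y, lΦ lx.mem.2, hxy⟩, fun a ha b hb hab e => hne ?_,
    fun w hw a ha s hs => (cen w hw s hs a ha).symm, tr, fun a ha b hb hab u iu => ?_⟩
  · refine (Set.eq_of_subset_of_ncard_le lΦ ?_ (Set.toFinite _)).symm
    rw [← e, (lf a b hab).ln, lx.ln]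
  · obtain ⟨g, hg, g1, g2⟩ := tr x (lΦ lx.mem.1) y (lΦ lx.mem.2) a ha b hb hxy hab
    have iz' : IsZ A a b (g * z * g⁻¹) := by
      refine ⟨by rw [← g1, ← g2]; exact cF h g x y iz.1, fun e => iz.2.1 (by simpa using e), ?_⟩
      calc g * z * g⁻¹ * (g * z * g⁻¹) = g * (z * z) * g⁻¹ := by group
        _ = 1 := by rw [iz.2.2]; group
    rw [(lf a b hab).uq u _ iu iz']
    exact (mem_normalizer_iff.1 hg z).1 zS

end Cfsg.Agent.H59.SpA1
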