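import Mathlib
import Cfsg.Agent.H59.StB
import Cfsg.Agent.H10.Std1

/-!
# A standard subgroup `4·L₃(4)`: the element swapping `t` and `b`
-/

set_option autoImplicit false
set_option linter.unusedSectionVars false

namespace Cfsg.Agent.H59.St

open Cfsg.Agent.H44 Cfsg.Agent.H66 Cfsg.Agent.H66.ON Subgroup MulAut

variable {X G : Type*} [Group X] [Group G]

/-- The centraliser of the image. -/
abbrev K (ι : X →* G) : Subgroup G := centralizer (ι.range : Set G)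

theorem memK {ι : X →* G} {k : G} : k ∈ K ι ↔ ∀ p, Commute (ι p) k :=
  ⟨fun h p => h _ ⟨p, rfl⟩, fun h _ ⟨p, e⟩ => e ▸ h p⟩

/-- The elements acting as inner automorphisms. -/
def I (ι : X →* G) : Subgroup G where
  carrier := {e | ∃ p, ∃ k ∈ K ι, e = ι p * k}
  one_mem' := ⟨1, 1, one_mem _, by simp⟩
  mul_mem' := by
    rintro _ _ ⟨p, k, hk, rfl⟩ ⟨q, l, hl, rfl⟩
    exact ⟨p * q, k * l, mul_mem hk hl, by
      rw [map_mul, mul_assoc, ← mul_assoc k, ← (memK.1 hk q).eq]; group⟩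
  inv_mem' := by
    rintro _ ⟨p, k, hk, rfl⟩
    exact ⟨p⁻¹, k⁻¹, inv_mem hk, by rw [mul_inv_rev, ← map_inv, (memK.1 (inv_mem hk) _).eq]⟩

theorem AI (ι : X →* G) (p : X) : ι p ∈ I ι := ⟨p, 1, one_mem _, (mul_one _).symm⟩

theorem KI {ι : X →* G} {k : G} (h : k ∈ K ι) : k ∈ I ι := ⟨1, k, h, by simp⟩

/-- The element acts as the automorphism. -/
def Ac (ι : X →* G) (e : G) (φ : X ≃* X) : Prop := ∀ p, ι (φ p) = conj e (ι p)

/-- The standard subgroup in letters. -/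
structure SG (ι : X →* G) (g : ℕ → X) (N : List ℕ) : Prop extends XS g N where
  inj : Function.Injective ι
  ctr : H10.Std.Ctr ι.range (ι (c g 9 * c g 9))

/-- An element swapping `t` and `b`. -/
structure Sw (ι : X →* G) (g : ℕ → X) (μ : G) : Prop where
  tb : conj μ (ι (c g 9 * c g 9)) = ι (c g 14)
  bt : conj μ (ι (c g 14)) = ι (c g 9 * c g 9)

theorem cj_cj (μ e : G) : conj μ⁻¹ (conj μ e) = e := by simp [mul_assoc]

theorem cj_cj' (μ e : G) : conj μ (conj μ⁻¹ e) = e := by simp [mul_assoc]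

theorem cj_mul (μ ν e : G) : conj (μ * ν) e = conj μ (conj ν e) := by simp [mul_assoc]

theorem cj_cjj (μ e p : G) : conj μ (conj e p) = conj (conj μ e) (conj μ p) := by simp [mul_assoc]

theorem cj_eq {e p : G} : conj e p = p ↔ Commute e p := mul_inv_eq_iff_eq_mul

theorem cj_map (ι : X →* G) (l p : X) : conj (ι l) (ι p) = ι (l * p * l⁻¹) := by simp

theorem Sw.inv {ι : X →* G} {g : ℕ → X} {μ : G} (h : Sw ι g μ) : Sw ι g μ⁻¹ :=
  ⟨by rw [← h.bt, cj_cj], by rw [← h.tb, cj_cj]⟩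

namespace SG

variable {ι : X →* G} {g : ℕ → X} {N : List ℕ} (h : SG ι g N) [Finite G]
include h

local notation "y" => c g 9
local notation "x" => c g 14
local notation "t" => ι (c g 9 * c g 9)
local notation "Y" => ι (c g 9)
local notation "b" => ι (c g 14)

theorem ιK {p : X} : ι p ∈ K ι ↔ p ∈ center X := by
  rw [memK, mem_center_iff]
  exact forall_congr' fun q => by rw [commute_iff_eq, ← map_mul, ← map_mul, h.inj.eq_iff]

theorem com {p q : X} : Commute (ι p) (ι q) ↔ p * q = q * p := by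
  rw [commute_iff_eq, ← map_mul, ← map_mul, h.inj.eq_iff]

theorem com' {p q : X} {k : G} (hk : k ∈ K ι) : Commute (ι p * k) (ι q) ↔ p * q = q * p := by
  rw [← h.com]
  exact ⟨fun e => by simpa using e.mul_left (memK.1 (inv_mem hk) q).symm,
    fun e => e.mul_left (memK.1 hk q).symm⟩

theorem tK : t ∈ K ι := h.ctr.memK

theorem YK : Y ∈ K ι := h.ιK.2 h.yZ

theorem bK : b ∉ K ι := fun e => h.f1.2.1 (h.ιK.1 e)

theorem tt : t * t = 1 := by rw [← map_mul, h.y4, map_one]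

theorem t1 : t ≠ 1 := by rw [map_ne_one_iff _ h.inj]; exact h.yy

theorem IZ {e : G} (he : e ∈ I ι) {z : X} (hz : z ∈ center X) : Commute e (ι z) := by
  obtain ⟨p, k, hk, rfl⟩ := he
  exact (h.com' hk).2 (mem_center_iff.1 hz p)

theorem It {e : G} (he : e ∈ I ι) : Commute e t := h.IZ he (mul_mem h.yZ h.yZ)

theorem aut {e : G} (he : Commute e t) : ∃ θ, Ac ι e θ := by
  have h1 : e ∈ normalizer (ι.range : Set G) := h.ctr.norm_eq ▸ H10.Std.mem_cent1.2 he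
  exact ⟨(MonoidHom.ofInjective h.inj).trans ((ι.range.normalizerMonoidHom ⟨e, h1⟩).trans
    (MonoidHom.ofInjective h.inj).symm), fun p => MonoidHom.apply_ofInjective_symm h.inj _⟩

theorem nK {e k : G} (he : Commute e t) (hk : k ∈ K ι) : conj e k ∈ K ι := by
  obtain ⟨θ, hθ⟩ := h.aut he
  refine memK.2 fun p => ?_
  rw [← θ.apply_symm_apply p, hθ]
  exact (memK.1 hk _).map _

theorem nI {e k : G} (he : Commute e t) (hk : k ∈ I ι) : conj e k ∈ I ι := by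
  obtain ⟨θ, hθ⟩ := h.aut he
  obtain ⟨p, k, hk, rfl⟩ := hk
  exact ⟨θ p, _, h.nK he hk, by rw [map_mul, hθ]⟩

theorem nI' {e k : G} (he : Commute e t) : conj e k ∈ I ι ↔ k ∈ I ι :=
  ⟨fun hk => cj_cj e k ▸ h.nI he.inv_left hk, h.nI he⟩

theorem tight {s f : G} (hs : s ∈ K ι) (h2 : s * s = 1) (h1 : s ≠ 1) (hf : conj f s ∈ K ι) :
    Commute f t := H10.Std.mem_cent1.1 (h.ctr.norm_eq ▸
      H10.Std.norm_of_conj_mem h.ctr.std (H10.orderOf_eq_two_of h2 h1) hs hf)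

theorem ty {e : G} (he : Commute e t) : ∃ m f φ, ∃ α ∈ [W12, A1, A2, A3], Ex g φ α ∧ Ac ι f φ ∧
    e = ι m * f := by
  obtain ⟨θ, hθ⟩ := h.aut he
  obtain ⟨k, α, hα, e1⟩ := h.toXS.ty θ
  exact ⟨k⁻¹, ι k * e, _, α, hα, e1, fun p => by
    rw [MulEquiv.trans_apply, conj_apply, ← cj_map, hθ, map_mul, mul_apply], by simp⟩

variable {f : G} {φ : X ≃* X} {α : List (List ℕ)}

theorem ac0 (h1 : Ex g φ W12) (h2 : Ac ι f φ) : f ∈ K ι :=
  memK.2 fun p => (cj_eq.1 (by rw [← h2, h.ex0 h1])).symm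

theorem ac2 (hα : α ∈ [W12, A1, A2, A3]) (h1 : Ex g φ α) (h2 : Ac ι f φ) : f * f ∈ K ι :=
  memK.2 fun p => (cj_eq.1 (by rw [map_mul, mul_apply, ← h2, ← h2, h.ex2 hα h1])).symm

omit h in
theorem ac_sq (h2 : Ac ι f φ) (m : X) : ι m * f * (ι m * f) = ι (m * φ m) * (f * f) := by
  rw [map_mul, h2, conj_apply]; group

omit h in
theorem ac_cj (h2 : Ac ι f φ) (m p : X) : conj (ι m * f) (ι p) = ι (m * φ p * m⁻¹) := by
  rw [map_mul, mul_apply, ← h2, cj_map]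

theorem sqI {e : G} (he : Commute e t) : e * e ∈ I ι := by
  obtain ⟨m, f, φ, α, hα, h1, h2, rfl⟩ := h.ty he
  exact ⟨_, _, h.ac2 hα h1 h2, ac_sq h2 m⟩

theorem nz {e : G} (he : Commute e t) : conj e Y = Y ∨ conj e Y = Y⁻¹ := by
  obtain ⟨θ, hθ⟩ := h.aut he
  rw [← hθ, ← map_inv]
  exact (h.exy θ).imp (congrArg ι) (congrArg ι)

theorem outer {u : G} (he : Commute u t) (hu : u * u = 1) (hI : u ∉ I ι) :
    ∃ l φ, ∃ α ∈ [A1, A2, A3], Ex g φ α ∧ Ac ι (conj (ι l) u) φ := by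
  obtain ⟨m, f, φ, α, hα, h1, h2, rfl⟩ := h.ty he
  rcases List.mem_cons.1 hα with rfl | hα'
  · exact absurd ⟨m, f, h.ac0 h1 h2, rfl⟩ hI
  rw [ac_sq h2, mul_eq_one_iff_eq_inv] at hu
  obtain ⟨k, hk⟩ := h.hg.outer h.hX hα' φ h1 (h.ιK.1 (hu ▸ inv_mem (h.ac2 hα h1 h2)))
  refine ⟨k⁻¹, φ, α, hα', h1, fun p => ?_⟩
  have e : conj (ι k⁻¹) (ι m * f) = ι (k⁻¹ * m * φ k) * f := by
    rw [map_mul ι, map_mul ι, h2]; simp [mul_assoc]
  rw [e, ac_cj h2, ← mem_center_iff.1 hk, mul_inv_cancel_right]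

theorem cjx {p : X} {k : G} (hk : k ∈ K ι) (h2 : ι p * k * (ι p * k) ∈ K ι) (h1 : ι p * k ∉ K ι) :
    ∃ l, ∃ z ∈ center X, l * p * l⁻¹ = x * z := by
  rw [(memK.1 hk p).symm.mul_mul_mul_comm, mul_mem_cancel_right (mul_mem hk hk), ← map_mul] at h2
  obtain ⟨l, hl⟩ := h.conjx (h.ιK.1 h2) fun e => h1 (mul_mem (h.ιK.2 e) hk)
  exact ⟨l, _, inv_mem hl, by group⟩

/-- If `s` carries `b` modulo `K` to `t`, it carries `Y` into `I`. -/
theorem yI {s k : G} (hk : k ∈ K ι) (e : conj s (b * k) = t) : conj s Y ∈ I ι := by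
  obtain ⟨p, q, e1, c1, c2⟩ := h.ysq
  have k1 : ∀ p, p * x = x * p → conj s (ι p) * conj s (ι p) ∈ I ι := fun p hp =>
    h.sqI (e ▸ ((h.com.2 hp).mul_right (memK.1 hk p)).map (conj s))
  rw [e1]
  simpa only [map_mul] using mul_mem (k1 p c1) (k1 q c2)

theorem ML {s : G} (hI : conj s t ∈ I ι) (hne : conj s t ≠ t) : ∃ p, conj s⁻¹ t = ι p := by
  have nk : ∀ s, conj s t ≠ t → conj s t ∉ K ι := fun s a e =>
    a (cj_eq.2 (h.tight h.tK h.tt h.t1 e))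
  have hne' : conj s⁻¹ t ≠ t := fun e => hne (by nth_rw 1 [← e]; rw [cj_cj'])
  obtain ⟨p, k, hk, e⟩ := hI
  obtain ⟨l, z, hz, hl⟩ := h.cjx hk (by rw [← e, ← map_mul, h.tt, map_one]; exact one_mem _)
    (e ▸ nk s hne)
  obtain ⟨w, κ, hκ, e1⟩ := h.yI (s := s⁻¹ * (ι l)⁻¹) (mul_mem (h.ιK.2 hz) hk) (by
    rw [← mul_assoc, ← map_mul, ← hl, ← cj_map, ← cj_eq.2 (memK.1 hk l), ← map_mul, cj_mul, cj_cj,
      ← e, cj_cj])
  rw [cj_mul, cj_eq.2 (memK.1 h.YK l).inv_left] at e1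
  have e2 : conj s⁻¹ t = ι (w * w) * (κ * κ) := by
    rw [map_mul, map_mul, e1, (memK.1 hκ w).symm.mul_mul_mul_comm, map_mul]
  obtain ⟨l, z, hz, hl⟩ := h.cjx (mul_mem hκ hκ) (by
    rw [← e2, ← map_mul, h.tt, map_one]; exact one_mem _) (e2 ▸ nk _ hne')
  rw [← conj_mul] at hl
  obtain ⟨d, d1, d2⟩ := h.F1 (w := l * w * l⁻¹) (by
    rw [hl, mul_inv_rev, inv_mul_cancel_right]; exact inv_mem hz)
  have d3 : l⁻¹ * d * l * (w * w) = w * w * (l⁻¹ * d * l) := by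
    have := (show Commute d x from d1).mul_right (show Commute d _ from mem_center_iff.1 hz d)
    rw [← hl] at this
    simpa [mul_assoc] using (this.map (conj l⁻¹)).eq
  have d4 : l⁻¹ * d * l * w ≠ w * (l⁻¹ * d * l) := fun e => d2 (by
    simpa [mul_assoc] using ((show Commute _ _ from e).map (conj l)).eq)
  generalize l⁻¹ * d * l = d at d3 d4
  have d5 : Commute (conj s (ι d)) t := by
    rw [← cj_cj' s t, e2]
    exact ((h.com' (mul_mem hκ hκ)).2 d3.symm).symm.map _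
  rcases h.nz d5 with e3 | e3
  · have := (cj_eq.1 e3).map (conj s⁻¹)
    rw [cj_cj, e1] at this
    exact absurd ((h.com' hκ).1 this.symm).symm d4
  · have := congrArg (conj s⁻¹) e3
    rw [cj_cjj, map_inv (conj s⁻¹), cj_cj, e1, map_mul, cj_map,
      cj_eq.2 (memK.1 hκ d), mul_inv_rev, ← (memK.1 hκ w).inv_inv.eq] at this
    refine ⟨w * w * ((d * w * d⁻¹)⁻¹ * w⁻¹), ?_⟩
    rw [e2, map_mul ι (w * w), map_mul ι _ w⁻¹, map_inv, map_inv,
      ← inv_mul_cancel_right (ι w)⁻¹ κ, ← mul_assoc, ← this]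
    group

theorem ML2 {s : G} (hI : conj s t ∈ I ι) (hne : conj s t ≠ t) : ∃ p, conj s t = ι p := by
  obtain ⟨p, e⟩ := h.ML hI hne
  exact inv_inv s ▸ h.ML (e ▸ AI ι p) fun e => hne (by nth_rw 1 [← e]; rw [cj_cj'])

theorem f0' {s : G} {p : X} (e : conj s t = ι p) (hne : conj s t ≠ t) : ∃ l, l * p * l⁻¹ = x :=
  h.f0 (h.inj (by rw [map_mul, ← e, ← map_mul, h.tt, map_one, map_one]))
    (fun e' => h.t1 ((conj s).injective (by rw [e, e', map_one, map_one])))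
    fun e' => hne (by rw [e, e'])

theorem sw_of {s : G} (hI : conj s t ∈ I ι) (hne : conj s t ≠ t) : ∃ μ, Sw ι g μ := by
  obtain ⟨p, e⟩ := h.ML2 hI hne
  obtain ⟨q, e'⟩ := h.ML hI hne
  obtain ⟨l, hl⟩ := h.f0' e hne
  obtain ⟨k, hk⟩ := h.f0' e' fun e => hne (by nth_rw 1 [← e]; rw [cj_cj'])
  refine ⟨ι k * (s⁻¹ * (ι l)⁻¹), ?_, ?_⟩ <;> rw [cj_mul, cj_mul]
  · rw [cj_eq.2 (memK.1 h.tK l).inv_left, e', cj_map, hk]
  · rw [← hl, ← cj_map, cj_cj, ← e, cj_cj, cj_eq.2 (memK.1 h.tK _)]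

theorem sqY {s : G} (e : Commute (conj s t) Y) : conj s⁻¹ t ∈ I ι := by
  have := e.symm.map (conj s⁻¹)
  rw [cj_cj] at this
  simpa only [map_mul] using h.sqI this

theorem exists_sw {s : G} (hc : Commute (conj s t) t) (hne : conj s t ≠ t) : ∃ μ, Sw ι g μ := by
  by_cases hy : Commute (conj s t) Y
  · exact h.sw_of (h.sqY hy) fun e => hne (by nth_rw 1 [← e]; rw [cj_cj'])
  obtain ⟨l, φ, α, hα, h1, h2⟩ := h.outer hc (by rw [← map_mul, h.tt, map_one])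
    fun e => hy (h.IZ e h.yZ)
  obtain ⟨p, q, r, a1, a2, a3, a4⟩ := h.k1 hα h1 fun e => hy (by
    have := (cj_eq.1 ((h2 y).symm.trans (congrArg ι e))).map (conj (ι l)⁻¹)
    rwa [cj_cj, cj_eq.2 (memK.1 h.YK l).inv_left] at this)
  rw [← cj_mul] at h2
  generalize ι l * s = s at h2
  have k : ∀ p, φ p = p → conj s⁻¹ (ι p) * conj s⁻¹ (ι p) ∈ I ι := fun p e => h.sqI (by
    have := (cj_eq.1 ((h2 p).symm.trans (congrArg ι e))).symm.map (conj s⁻¹)
    rwa [cj_cj] at this)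
  have e : conj (s⁻¹ * ((ι r)⁻¹ * s)) t = conj s⁻¹ b * t := by
    have := h2 r
    rw [a4, map_mul, conj_apply, eq_mul_inv_iff_mul_eq] at this
    rw [cj_mul, cj_mul, conj_apply (ι r)⁻¹, inv_inv, mul_assoc, ← this,
      mul_assoc, inv_mul_cancel_left, map_mul, cj_cj]
  refine h.sw_of (s := s⁻¹ * ((ι r)⁻¹ * s)) (e ▸ mul_mem ?_ (AI ι _)) ?_
  · rw [← a3]
    simpa only [map_mul] using mul_mem (k p a1) (k q a2)
  · rw [e, Ne, mul_eq_right, map_eq_one_iff _ (conj s⁻¹).injective, map_eq_one_iff _ h.inj]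
    exact h.x1

theorem NB {μ : G} (hμ : Sw ι g μ) : ∃ w, ∃ κ ∈ K ι, conj μ Y = ι w * κ ∧ N = [9, 12] ∧
    ((c g 16)⁻¹ * w ∈ center X ∨ (c g 16 * x)⁻¹ * w ∈ center X) ∧ κ * κ = ι ((w * w)⁻¹ * x) := by
  obtain ⟨w, κ, hκ, e⟩ := h.yI (one_mem _) ((congrArg _ (mul_one _)).trans hμ.bt)
  have e1 : ι w * κ * (ι w * κ) = b := by rw [← e, ← map_mul, ← map_mul, hμ.tb]
  have e2 : κ * κ = ι ((w * w)⁻¹ * x) := by
    rw [map_mul, ← e1, (memK.1 hκ w).symm.mul_mul_mul_comm, map_inv, map_mul]; group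
  obtain ⟨a1, a2⟩ := h.F1' (h.ιK.1 (e2 ▸ mul_mem hκ hκ)) fun d hd => by
    have d1 := (h.com.2 hd).map (conj μ⁻¹)
    rw [hμ.inv.bt] at d1
    refine (h.nz d1).imp (fun e3 => ?_) fun e3 => ?_
    · have := (cj_eq.1 e3).map (conj μ)
      rw [cj_cj', e] at this
      exact ((h.com' hκ).1 this.symm).symm
    · have := congrArg (conj μ) e3
      rw [cj_cjj, map_inv (conj μ), cj_cj', e, map_mul,
        cj_map, cj_eq.2 (memK.1 hκ d), inv_eq_of_mul_eq_one_right (show _ * (ι (w * x) * κ) = 1 by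
          rw [map_mul, mul_assoc (ι w) b, (memK.1 hκ x).eq, ← mul_assoc (ι w), ← mul_assoc, e1,
            ← map_mul, h.f1.1, map_one]), mul_left_inj, h.inj.eq_iff] at this
      exact mul_inv_eq_iff_eq_mul.1 this
  exact ⟨w, κ, hκ, e, a1, a2, e2⟩

end SG

end Cfsg.Agent.H59.St
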