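import Mathlib
import Cfsg.Agent.H59.StC
import Cfsg.Agent.H38.StdG
import Cfsg.Agent.H87.Transfer

/-!
# A standard subgroup `4·L₃(4)`: the centraliser of the central involution
-/

set_option autoImplicit false
set_option linter.unusedSectionVars false

namespace Cfsg.Agent.H59.St

open Cfsg.Agent.H44 Cfsg.Agent.H66 Cfsg.Agent.H66.ON Subgroup MulAut

variable {X G : Type*} [Group X] [Group G]

/-- The element centralises `W = ⟨t, b, x₂⟩`. -/
structure CW (ι : X →* G) (g : ℕ → X) (e : G) : Prop where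
  ct : Commute e (ι (c g 9 * c g 9))
  cb : Commute e (ι (c g 14))
  c2 : Commute e (ι (c g 15))

namespace SG

variable {ι : X →* G} {g : ℕ → X} (h : SG ι g [9, 12]) [Finite G] {μ : G}
include h

local notation "y" => c g 9
local notation "x" => c g 14
local notation "x₂" => c g 15
local notation "U" => c g 16
local notation "t" => ι (c g 9 * c g 9)
local notation "Y" => ι (c g 9)
local notation "b" => ι (c g 14)
local notation "b₂" => ι (c g 15)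

theorem bt (hμ : Sw ι g μ) : ¬ Commute μ t := fun e =>
  h.xa (h.inj (hμ.tb.symm.trans (cj_eq.2 e)))

omit h in
theorem cb (hμ : Sw ι g μ) {e : G} (he : Commute e b) : Commute (conj μ e) t := hμ.bt ▸ he.map _

omit h in
theorem ct (hμ : Sw ι g μ) {e : G} (he : Commute e t) : Commute (conj μ e) b := hμ.tb ▸ he.map _

theorem uniq (hμ : Sw ι g μ) {s : G} (hs : s ∈ K ι) (h2 : s * s = 1) : s = 1 ∨ s = t := by
  by_contra hc
  push Not at hc
  have s2 : conj μ s * conj μ s = 1 := by rw [← map_mul, h2, map_one]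
  have k : ∀ p, Commute (ι p) (conj μ s) → p * x = x * p := fun p e => by
    have := e.map (conj μ⁻¹)
    rw [cj_cj] at this
    have := ct hμ (h.tight hs h2 hc.1 ((cj_eq.2 this).symm ▸ hs))
    rwa [cj_cj', h.com] at this
  by_cases hI : conj μ s ∈ I ι
  · obtain ⟨p, κ, hκ, e⟩ := hI
    rcases h.F2 ((h.com' hκ).1 (e ▸ ct hμ (memK.1 hs _).symm)) (h.ιK.1 (by
      rw [e, (memK.1 hκ p).symm.mul_mul_mul_comm, mul_eq_one_iff_eq_inv] at s2
      rw [map_mul, s2]; exact inv_mem (mul_mem hκ hκ))) with e1 | e1 | ⟨d, d1, d2⟩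
    · exact h.bt hμ (h.tight hs h2 hc.1 (e ▸ mul_mem (h.ιK.2 e1) hκ))
    · refine h.bt hμ (h.tight (s := t⁻¹ * s) (mul_mem (inv_mem h.tK) hs) ?_
        (fun e => hc.2 (inv_mul_eq_one.1 e).symm) ?_)
      · rw [(memK.1 hs _).inv_left.symm.mul_mul_mul_comm, h2, ← mul_inv_rev, h.tt]; simp
      · rw [map_mul, map_inv, hμ.tb, e, ← mul_assoc, ← map_inv, ← map_mul]
        exact mul_mem (h.ιK.2 e1) hκ
    · exact d2 (k d (e ▸ ((h.com' hκ).2 d1.symm).symm))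
  · obtain ⟨l, φ, α, hα, h1, h3⟩ := h.outer (cb hμ (memK.1 hs _).symm) s2 hI
    have e := (cj_eq.1 ((h3 (g 3)).symm.trans
      (congrArg ι (h.ex3 (List.mem_cons_of_mem _ hα) h1)))).map (conj (ι l)⁻¹)
    rw [cj_cj, ← map_inv, cj_map] at e
    have := h.F4 (k _ e.symm)
    rw [conj_pow] at this
    exact h.f1.2.2.2.2.2 (by
      simpa [pow_succ, mul_assoc] using (inferInstance : (center X).Normal).conj_mem _ this l)

theorem invI (hμ : Sw ι g μ) {e : G} (he : e ∈ I ι) (h2 : e * e = 1) : ∃ p, e = ι p := by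
  have k : ∀ s ∈ K ι, s * s = 1 → ∃ p, s = ι p := fun s a1 a2 =>
    (h.uniq hμ a1 a2).elim (fun e => ⟨1, by simp [e]⟩) fun e => ⟨_, e⟩
  by_cases hK : e ∈ K ι
  · exact k e hK h2
  obtain ⟨p, κ, hκ, rfl⟩ := he
  obtain ⟨l, z, hz, hl⟩ := h.cjx hκ (h2 ▸ one_mem _) hK
  have hk := mul_mem (h.ιK.2 hz) hκ
  have e : conj (ι l) (ι p * κ) = b * (ι z * κ) := by
    rw [map_mul, cj_map, hl, cj_eq.2 (memK.1 hκ l), map_mul, mul_assoc]
  obtain ⟨q, hq⟩ := k _ hk (by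
    have := congrArg (conj (ι l)) h2
    rwa [map_mul, e, (memK.1 hk x).symm.mul_mul_mul_comm, ← map_mul, h.f1.1, map_one, map_one,
      one_mul] at this)
  exact ⟨l⁻¹ * (x * q) * l⁻¹⁻¹, by rw [← cj_map, map_mul ι x, ← hq, ← e, map_inv, cj_cj]⟩

theorem K4 (hμ : Sw ι g μ) {k : G} (hk : k ∈ K ι) (h2 : k * k = 1 ∨ k * k = t) :
    ∃ z ∈ center X, k = ι z := by
  suffices ∃ z, k = ι z from let ⟨z, e⟩ := this; ⟨z, h.ιK.1 (e ▸ hk), e⟩
  rcases h2 with e | e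
  · exact h.invI hμ (KI hk) e
  · obtain ⟨p, e⟩ := h.invI hμ (mul_mem (KI hk) (AI ι y)) (by
      rw [(memK.1 hk y).mul_mul_mul_comm, e, ← map_mul ι y, h.tt])
    exact ⟨p * y⁻¹, by rw [map_mul, ← e]; simp⟩

theorem yA (hμ : Sw ι g μ) : ∃ w, conj μ Y = ι w ∧
    ∀ p, p * x = x * p → (p * w = w * p ↔ p * U = U * p) := by
  obtain ⟨w, κ, hκ, e, -, e1, e2⟩ := h.NB hμ
  obtain ⟨v, z, hz, rfl, v1, v2⟩ : ∃ v, ∃ z ∈ center X, w = v * z ∧ v * v = x ∧
      ∀ p, p * x = x * p → (p * v = v * p ↔ p * U = U * p) := by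
    rcases e1 with e1 | e1
    · exact ⟨U, _, e1, by group, h.f2.2.2.1, fun _ _ => Iff.rfl⟩
    · refine ⟨U * x, _, e1, by group, ?_, fun p hp => ?_⟩
      · have := h.f1.1
        rw [← h.f2.2.2.1] at this ⊢
        calc _ = U * U * (U * U) * (U * U) := by group
          _ = _ := by rw [this, one_mul]
      · rw [mul_assoc, ← hp, ← mul_assoc, ← mul_assoc, mul_left_inj]
  obtain ⟨z', hz', rfl⟩ := h.K4 hμ hκ (by
    rw [e2, (show Commute v z from mem_center_iff.1 hz v).symm.mul_mul_mul_comm, v1, mul_inv_rev,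
      inv_mul_cancel_right]
    refine (h.sqZ hz).imp (fun e => by simp [e]) fun e => ?_
    rw [e, inv_eq_of_mul_eq_one_right h.y4])
  refine ⟨v * (z * z'), by rw [e, ← map_mul, mul_assoc], fun p hp => ?_⟩
  rw [← v2 p hp, mul_assoc, ← mem_center_iff.1 (mul_mem hz hz') p, ← mul_assoc p, ← mul_assoc v,
    mul_left_inj]

theorem Wst (hμ : Sw ι g μ) : ∃ z, conj μ b₂ = b₂ * z ∧
    ∀ e, Commute e t → Commute e b → Commute e z := by
  obtain ⟨a1, a2, -, -, -, a6, a7, ⟨v, v1, v2⟩, -⟩ := h.f2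
  obtain ⟨p, e⟩ := h.invI hμ (e := conj μ b₂) (by
    simpa only [← v1, map_mul] using h.sqI (cb hμ (h.com.2 v2)))
    (by rw [← map_mul, ← map_mul, a1, map_one, map_one])
  obtain ⟨w, e1, e2⟩ := h.yA hμ
  have p1 : p * x = x * p := h.com.1 (e ▸ ct hμ (memK.1 h.tK _))
  have p2 : p * p = 1 := h.inj (by rw [map_mul, ← e, ← map_mul, ← map_mul, a1]; simp)
  have k : ∀ q, q * q = 1 → q⁻¹ * p ∈ center X → p = q ∨ p = q * (y * y) := fun q q2 hq => by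
    refine (h.invZ hq ?_).imp (fun e => (inv_mul_eq_one.1 e).symm) fun e => by rw [← e]; group
    have := (show Commute q _ from mem_center_iff.1 hq q).symm.mul_mul_mul_comm q (q⁻¹ * p)
    rwa [mul_inv_cancel_left, p2, q2, one_mul, eq_comm] at this
  have k2 : ∀ q, p = q → b₂ = conj μ⁻¹ (ι q) := fun q e' => by rw [← e', ← e, cj_cj]
  rcases h.F5 p1 p2 ((e2 p p1).1 (h.com.1 (e ▸ e1 ▸ (memK.1 h.YK _).map _))) with
    e3 | e3 | e3 | e3
  · rcases k 1 (one_mul 1) (by simpa using e3) with e4 | e4 <;> have := k2 _ e4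
    · rw [map_one, map_one, map_eq_one_iff _ h.inj] at this
      exact absurd (this ▸ one_mem _) a6
    · rw [one_mul, hμ.inv.tb, h.inj.eq_iff] at this
      exact absurd (by simp [this]) a7
  · rcases k x h.f1.1 e3 with e4 | e4 <;> have := k2 _ e4
    · rw [hμ.inv.bt, h.inj.eq_iff] at this
      exact absurd (this ▸ mul_mem h.yZ h.yZ) a6
    · rw [map_mul ι x, map_mul, hμ.inv.bt, hμ.inv.tb, ← map_mul, h.inj.eq_iff] at this
      refine absurd ?_ a7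
      rw [this, ← mem_center_iff.1 (mul_mem h.yZ h.yZ), inv_mul_cancel_left]
      exact mul_mem h.yZ h.yZ
  · rcases k x₂ a1 e3 with e4 | e4
    · exact ⟨1, by rw [e, e4, mul_one], fun _ _ _ => Commute.one_right _⟩
    · exact ⟨t, by rw [e, e4, map_mul], fun _ a _ => a⟩
  · rcases k (x₂ * x) (by rw [(show Commute x x₂ from a2).mul_mul_mul_comm, a1, h.f1.1, one_mul])
      e3 with e4 | e4
    · exact ⟨b, by rw [e, e4, map_mul], fun _ _ a => a⟩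
    · exact ⟨b * t, by rw [e, e4, map_mul, map_mul, mul_assoc], fun _ a a' => a'.mul_right a⟩

theorem cw (hμ : Sw ι g μ) {e : G} (he : CW ι g e) : CW ι g (conj μ e) := by
  obtain ⟨z, e1, e2⟩ := h.Wst hμ.inv
  refine ⟨cb hμ he.cb, ct hμ he.ct, ?_⟩
  rw [← cj_cj' μ b₂, e1]
  exact (he.c2.mul_right (e2 e he.ct he.cb)).map _

theorem LT {e : G} (h1 : Commute e t) (h2 : Commute e b) (hI : e ∉ I ι)
    (h3 : conj e b₂ = b₂ ∨ conj e b₂ = b₂ * t) :
    ¬ Commute e Y ∧ (Commute e b₂ ↔ e * e ∈ K ι) := by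
  obtain ⟨m, f, φ, α, hα, a1, a2, rfl⟩ := h.ty h1
  rw [← cj_eq, ac_cj a2, h.exx hα a1, h.inj.eq_iff, mul_inv_eq_iff_eq_mul] at h2
  rw [ac_cj a2, ← map_mul, h.inj.eq_iff, h.inj.eq_iff] at h3
  rcases List.mem_cons.1 hα with rfl | hα'
  · exact absurd ⟨m, f, h.ac0 a1 a2, rfl⟩ hI
  by_cases h4 : α ∈ [A1, A2]
  · exfalso
    rw [h.ex12 h4 a1, ← mul_assoc, mul_assoc _ x, ← (show Commute m x from h2).inv_left.eq,
      ← mul_assoc] at h3
    rcases h.F8 h2 with e | e <;> rw [e, mul_inv_cancel_right] at h3 <;> rcases h3 with h3 | h3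
    · exact h.x1 (by simpa using h3)
    · exact h.xa (by simpa using h3)
    · rw [mul_assoc, mul_eq_left, mul_eq_one_iff_inv_eq, inv_eq_of_mul_eq_one_right h.y4] at h3
      exact h.xa h3.symm
    · exact h.x1 (by simpa using h3)
  obtain rfl : α = A3 := by simpa [not_or.1 (by simpa using h4)] using hα'
  refine ⟨fun e => (h.ex33 a1).2 ?_, ?_⟩
  · rwa [← cj_eq, ac_cj a2, h.inj.eq_iff, mem_center_iff.1 (map_cen φ h.yZ),
      mul_inv_cancel_right] at e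
  · rw [← cj_eq, ac_cj a2, h.inj.eq_iff, (h.ex33 a1).1, mul_inv_eq_iff_eq_mul, h.F6 a1 h2, ac_sq a2,
      mul_mem_cancel_right (h.ac2 hα a1 a2), h.ιK]

theorem LT1 {e : G} (he : CW ι g e) (hI : e ∉ I ι) : ¬ Commute e Y ∧ e * e ∈ K ι :=
  (h.LT he.ct he.cb hI (.inl (cj_eq.2 he.c2))).imp_right fun e => e.1 he.c2

theorem T2 (hμ : Sw ι g μ) {e : G} (he : CW ι g e) (hI : e ∉ I ι) : conj μ e ∉ I ι := by
  rintro ⟨p, k, hk, e1⟩
  obtain ⟨w, e2, e3⟩ := h.yA hμ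
  have h1 := h.cw hμ he
  have h2 := (h.com' hk).1 (e1 ▸ h1.cb)
  have h3 := ((h.com' hk).2 ((e3 p h2).2 (h.F7 h2 ((h.com' hk).1 (e1 ▸ h1.c2))))).map (conj μ⁻¹)
  rw [← e1, ← e2, cj_cj, cj_cj] at h3
  exact (h.LT1 he hI).1 h3

theorem K44 (hμ : Sw ι g μ) {k : G} (hk : k ∈ K ι) : conj μ (k ^ 4) ∈ K ι := by
  have h1 := h.cw hμ ⟨(memK.1 hk _).symm, (memK.1 hk _).symm, (memK.1 hk _).symm⟩
  rw [map_pow]
  by_cases hI : conj μ k ∈ I ι
  · obtain ⟨p, κ, hκ, e⟩ := hI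
    rw [e, (memK.1 hκ p).mul_pow, ← map_pow]
    exact mul_mem (h.ιK.2 (h.F4 ((h.com' hκ).1 (e ▸ h1.cb)))) (pow_mem hκ 4)
  · simpa only [pow_succ, pow_zero, one_mul, mul_assoc] using
      mul_mem (h.LT1 h1 hI).2 (h.LT1 h1 hI).2

theorem memO (hμ : Sw ι g μ) {k : G} :
    k ∈ K ι ⊓ (K ι).map (conj μ).toMonoidHom ↔ k ∈ K ι ∧ Odd (orderOf k) := by
  refine ⟨fun hk => ⟨hk.1, (h.ctr.std.2.1.2 μ fun e => h.bt hμ ?_).of_dvd_nat
    (orderOf_dvd_natCard _ hk)⟩, fun ⟨hk, ho⟩ => ⟨hk, ?_⟩⟩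
  · rwa [← h.ctr.std.2.2.2, h.ctr.norm_eq, H10.Std.mem_cent1] at e
  · obtain ⟨j, hj⟩ := exists_pow_eq_self_of_coprime
      (show (2 ^ 2).Coprime (orderOf k) from (Nat.coprime_two_left.2 ho).pow_left 2)
    exact ⟨conj μ⁻¹ k, by rw [← hj, map_pow]; exact pow_mem (h.K44 hμ.inv hk) j, cj_cj' _ _⟩

theorem fusA (hμ : Sw ι g μ) {M : Subgroup G} (h1 : ∀ e, Commute e t → e ∈ M) (h2 : μ ∈ M) {v : G}
    (hv : v ∈ I ι) (v2 : v * v = 1) (v1 : v ≠ 1) : ∃ m ∈ M, conj m t = v := by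
  obtain ⟨p, rfl⟩ := h.invI hμ hv v2
  by_cases e : p = y * y
  · exact ⟨1, one_mem _, by simp [e]⟩
  obtain ⟨l, hl⟩ := h.f0 (h.inj (by rw [map_mul, v2, map_one])) (fun e => v1 (by simp [e])) e
  exact ⟨(ι l)⁻¹ * μ, mul_mem (inv_mem (h1 _ (memK.1 h.tK l))) h2, by
    rw [cj_mul, hμ.tb, ← hl, ← cj_map, cj_cj]⟩

theorem fus (hμ : Sw ι g μ) {M : Subgroup G} (h1 : ∀ e, Commute e t → e ∈ M) (h2 : μ ∈ M) {v : G}
    (hv : Commute v t) (v2 : v * v = 1) (v1 : v ≠ 1) :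
    (∃ m ∈ M, conj m t = v) ∨ ∃ l, CW ι g (conj (ι l) v) ∧ conj (ι l) v ∉ I ι := by
  by_cases hI : v ∈ I ι
  · exact .inl (h.fusA hμ h1 h2 hI v2 v1)
  obtain ⟨l, φ, α, hα, a1, a2⟩ := h.outer hv v2 hI
  have c1 : Commute (conj (ι l) v) t := cj_eq.2 (memK.1 h.tK l) ▸ hv.map (conj (ι l))
  have c2 : Commute (conj (ι l) v) b :=
    cj_eq.1 (by rw [← a2, h.exx (List.mem_cons_of_mem _ hα) a1])
  by_cases h4 : α ∈ [A1, A2]
  · obtain ⟨z, e1, e2⟩ := h.Wst hμ.inv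
    have e3 : conj (conj μ (conj (ι l) v)) b₂ = b₂ * t := by
      rw [← cj_cj' μ b₂, ← cj_cjj, e1, map_mul (conj (conj _ v)), cj_eq.2 (e2 _ c1 c2), ← a2,
        h.ex12 h4 a1, map_mul ι x₂, mul_assoc, (e2 b (memK.1 h.tK _) (Commute.refl _)).eq,
        ← mul_assoc, map_mul, hμ.bt]
    have w2 : conj μ (conj (ι l) v) * conj μ (conj (ι l) v) = 1 := by
      rw [← map_mul, ← map_mul, v2, map_one, map_one]
    obtain ⟨m, hm, e⟩ := h.fusA hμ h1 h2 (by_contra fun hI => h.t1 (by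
      rw [cj_eq.2 ((h.LT (cb hμ c2) (ct hμ c1) hI (.inr e3)).2.2 (w2 ▸ one_mem _))] at e3
      simpa only [left_eq_mul] using e3)) w2 (by simpa using v1)
    exact .inl ⟨(ι l)⁻¹ * (μ⁻¹ * m), mul_mem (inv_mem (h1 _ (memK.1 h.tK l)))
      (mul_mem (inv_mem h2) hm), by rw [cj_mul, cj_mul, e, cj_cj, cj_cj]⟩
  · obtain rfl : α = A3 := by simpa [not_or.1 (by simpa using h4)] using hα
    exact .inr ⟨l, ⟨c1, c2, cj_eq.1 (by rw [← a2, (h.ex33 a1).1])⟩,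
      mt (h.nI' (memK.1 h.tK l)).1 hI⟩

theorem odd_idx : Odd (centralizer {t}).index := by
  refine H38.SG.odd_index_cent h.tt fun v hv hc hne => ?_
  obtain ⟨s, rfl⟩ := isConj_iff.1 hv
  change conj s t ≠ t at hne
  change Commute t (conj s t) at hc
  change IsConj _ (conj s t * t)
  rcases h.nz hc.symm with e | e
  · obtain ⟨p, e1⟩ := h.ML (h.sqY (cj_eq.1 e)) fun e => hne (by nth_rw 1 [← e]; rw [cj_cj'])
    rw [inv_inv] at e1
    obtain ⟨l, hl⟩ := h.f0' e1 hne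
    refine hv.trans (isConj_iff.2 ⟨ι (l⁻¹ * c g 17 * l), ?_⟩)
    change conj _ (conj s t) = _
    rw [e1, cj_map, ← map_mul, show p = l⁻¹ * x * l by rw [← hl]; group, mul_assoc _ l (y * y),
      mem_center_iff.1 (mul_mem h.yZ h.yZ) l]
    congr 1
    calc _ = l⁻¹ * (c g 17 * x * (c g 17)⁻¹) * l := by group
      _ = _ := by rw [h.f1.2.2.2.1]; group
  · refine hv.trans (isConj_iff.2 ⟨Y⁻¹, ?_⟩)
    change _ * conj s t * _ = _
    generalize conj s t = u at e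
    rw [conj_apply, mul_inv_eq_iff_eq_mul] at e
    rw [map_mul, ← mul_assoc, e, inv_inv]

theorem cwI (hμ : Sw ι g μ) (h2 : ∀ L : Subgroup G, L.Normal → L.index ≠ 2) {e : G}
    (he : CW ι g e) : e ∈ I ι := by
  by_contra hI
  obtain ⟨r, hr⟩ := ((h.memO hμ.inv).1 ⟨(h.LT1 he hI).2, conj μ (e * e),
    map_mul (conj μ) e e ▸ (h.LT1 (h.cw hμ he) (h.T2 hμ he hI)).2, cj_cj _ _⟩).2
  have u1 : CW ι g ((e * e) ^ r * e) := ⟨((he.ct.mul_left he.ct).pow_left r).mul_left he.ct,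
    ((he.cb.mul_left he.cb).pow_left r).mul_left he.cb,
    ((he.c2.mul_left he.c2).pow_left r).mul_left he.c2⟩
  have u2 : (e * e) ^ r * e ∉ I ι := by
    rwa [mul_mem_cancel_left (pow_mem (KI (h.LT1 he hI).2) r)]
  have u3 : (e * e) ^ r * e * ((e * e) ^ r * e) = 1 := by
    rw [← pow_orderOf_eq_one (e * e), hr, ← pow_two e]; group
  generalize (e * e) ^ r * e = u at u1 u2 u3
  obtain ⟨s, hs⟩ : ∃ s, conj s u ∈ centralizer {Y} := by
    by_contra hc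
    push Not at hc
    obtain ⟨L, a1, a2, -⟩ := H87.thompson_transfer_involution h.odd_idx (M := centralizer {Y})
      (relIndex_eq_two_iff_exists_notMem_and.2 ⟨u, H10.Std.mem_cent1.2 u1.ct,
        mt H10.Std.mem_cent1.1 (h.LT1 u1 u2).1, fun a ha => by
          simp only [H10.Std.mem_cent1, ← cj_eq] at ha ⊢
          refine (h.nz (cj_eq.1 ha)).symm.imp_left fun e => ?_
          rw [cj_mul, (h.nz u1.ct).resolve_left (mt cj_eq.1 (h.LT1 u1 u2).1), map_inv, e,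
            inv_inv]⟩) (show u ^ 2 = 1 by rw [pow_two, u3]) hc
    exact h2 L a1 a2
  rw [H10.Std.mem_cent1] at hs
  obtain ⟨m, -, e⟩ := (h.fus hμ (M := ⊤) (fun _ _ => mem_top _) (mem_top _) (v := conj s u)
    (map_mul ι y y ▸ hs.mul_right hs) (by rw [← map_mul, u3, map_one])
    (by rw [map_ne_one_iff _ (conj s).injective]; exact fun e => u2 (e ▸ one_mem _))).resolve_right
    fun ⟨l, a1, a2⟩ => (h.LT1 a1 a2).1 (cj_eq.2 (memK.1 h.YK l) ▸ hs.map (conj (ι l)))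
  obtain ⟨a, rfl⟩ : ∃ a, conj a⁻¹ t = u := ⟨m⁻¹ * s, by rw [mul_inv_rev, inv_inv, cj_mul, e, cj_cj]⟩
  have k : ∀ v, Commute (conj a⁻¹ t) v → Commute (conj a v) t := fun v hv =>
    (cj_cj' a t ▸ hv.map (conj a)).symm
  have k2 : ∀ a, CW ι g (conj a⁻¹ t) → conj a⁻¹ t ∉ I ι → conj (conj a b) Y ≠ Y :=
    fun a a1 a2 e => h.T2 hμ a1 a2 (by
      have := h.sqY (s := a * μ⁻¹) (by rw [cj_mul, hμ.inv.tb]; exact cj_eq.1 e)
      rwa [mul_inv_rev, inv_inv, cj_mul] at this)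
  have n1 := (h.nz (k _ u1.ct)).resolve_left fun e => u2 (h.sqY (cj_eq.1 e))
  have n2 := (h.nz (k _ u1.cb)).resolve_left (k2 a u1 u2)
  have nt := memK.1 h.tK (c g 17)
  have nb : conj (ι (c g 17)) b = b * t := by
    rw [cj_map, h.f1.2.2.2.1, mul_inv_cancel_right, map_mul]
  refine k2 (a * ι (c g 17)) ?_ ?_ ?_
  · rw [mul_inv_rev, cj_mul]
    generalize conj a⁻¹ t = u at u1
    refine ⟨cj_eq.2 nt.inv_left ▸ u1.ct.map _, ?_,
      cj_eq.2 (h.com.2 h.f2.2.2.2.2.1).inv_left ▸ u1.c2.map _⟩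
    rw [← cj_cj (ι (c g 17)) b, nb]
    exact (u1.cb.mul_right u1.ct).map _
  · rwa [mul_inv_rev, cj_mul, h.nI' nt.inv_left]
  · rw [cj_mul, nb, map_mul, cj_mul, n1, map_inv, n2, inv_inv]

theorem two (hμ : Sw ι g μ) (h2 : ∀ L : Subgroup G, L.Normal → L.index ≠ 2) :
    ∃ s, Commute s t ∧ s ∉ I ι ∧ ∀ e, Commute e t → e * s⁻¹ ∈ I ι ∨ e ∈ I ι := by
  obtain ⟨s, s1, s2⟩ := h.f2.2.2.2.2.2.2.2.2
  obtain ⟨z, e1, e2⟩ := h.Wst hμ
  have c1 := cb hμ (h.com.2 s1)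
  have c2 := ct hμ (memK.1 h.tK s)
  have c3 : conj (conj μ (ι s)) b₂ = b₂ * b := by
    have : conj (ι s) b₂ = b₂ * t := by rw [cj_map, s2, mul_inv_cancel_right, map_mul]
    have := congrArg (conj μ) this
    rw [cj_cjj, map_mul (conj μ), e1, hμ.tb, map_mul, cj_eq.2 (e2 _ c1 c2), mul_assoc,
      ← (e2 b (memK.1 h.tK _) (Commute.refl _)).eq, ← mul_assoc] at this
    exact mul_right_cancel this
  generalize conj μ (ι s) = s at c1 c2 c3
  refine ⟨s, c1, ?_, fun e he => ?_⟩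
  · rintro ⟨p, k, hk, rfl⟩
    rw [cj_mul, cj_eq.2 (memK.1 hk _).symm, cj_map, ← map_mul, h.inj.eq_iff] at c3
    rcases h.F8 ((h.com' hk).1 c2) with e | e <;> rw [e, mul_inv_cancel_right] at c3
    · exact h.x1 (by simpa using c3)
    · exact h.xa (by simpa using c3.symm)
  obtain ⟨m, f, φ, α, hα, a1, a2, rfl⟩ := h.ty he
  have f1 : Commute f t := inv_mul_cancel_left (ι m) f ▸ (memK.1 h.tK m).inv_left.mul_left he
  have f2 : Commute f b := cj_eq.1 (by rw [← a2, h.exx hα a1])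
  rw [mul_assoc, mul_mem_cancel_left (AI ι m), mul_mem_cancel_left (AI ι m)]
  rcases List.mem_cons.1 hα with rfl | hα'
  · exact .inr (KI (h.ac0 a1 a2))
  by_cases h4 : α ∈ [A1, A2]
  · exact .inl (by simpa [mul_assoc] using h.nI c1 (h.cwI hμ h2 (e := s⁻¹ * f)
      ⟨c1.inv_left.mul_left f1, c2.inv_left.mul_left f2, cj_eq.1 (by
        rw [cj_mul, ← a2, h.ex12 h4 a1, map_mul, ← c3, cj_cj])⟩))
  · obtain rfl : α = A3 := by simpa [not_or.1 (by simpa using h4)] using hα'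
    exact .inr (h.cwI hμ h2 ⟨f1, f2, cj_eq.1 (by rw [← a2, (h.ex33 a1).1])⟩)

theorem IA (hμ : Sw ι g μ) (h2 : ∀ L : Subgroup G, L.Normal → L.index ≠ 2) (hO : oddCore G = ⊥)
    {e : G} (he : e ∈ I ι) : e ∈ ι.range := by
  have n : ∀ e, (∀ k ∈ K ι, Odd (orderOf k) → conj e k ∈ K ι) →
      e ∈ normalizer ((K ι ⊓ (K ι).map (conj μ).toMonoidHom : Subgroup G) : Set G) := fun e he =>
    mem_normalizer_fintype fun k hk => (h.memO hμ).2 ⟨he k hk.1 ((h.memO hμ).1 hk).2,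
      H10.orderOf_conj e k ▸ ((h.memO hμ).1 hk).2⟩
  have n1 := fun e (he : Commute e t) => n e fun k hk _ => h.nK he hk
  have h3 := H38.SG.le_oddCore_of_fusion h.ctr.ord h.odd_idx
    (h.ctr.std.2.1.2 μ fun e => h.bt hμ (by
      rwa [← h.ctr.std.2.2.2, h.ctr.norm_eq, H10.Std.mem_cent1] at e))
    (fun e he => n1 e (H10.Std.mem_cent1.1 he)) fun v v2 hv =>
      (h.fus hμ n1 (n μ fun k hk ho => by
        obtain ⟨k', a, rfl⟩ := ((h.memO hμ.inv).2 ⟨hk, ho⟩).2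
        exact (cj_cj' μ k').symm ▸ a) hv (H10.mul_self_of_orderOf_two v2)
        (H10.ne_one_of_orderOf_two v2)).resolve_right fun ⟨l, a1, a2⟩ => a2 (h.cwI hμ h2 a1)
  obtain ⟨p, k, hk, rfl⟩ := he
  have h4 : k ^ 4 = 1 := mem_bot.1 (hO ▸ h3 ⟨pow_mem hk 4, _, h.K44 hμ.inv hk, cj_cj' _ _⟩)
  obtain ⟨z, -, rfl⟩ := h.K4 hμ hk (h.uniq hμ (mul_mem hk hk) (by rw [← h4]; simp [pow_succ, mul_assoc]))
  exact ⟨p * z, map_mul _ _ _⟩

end SG

end Cfsg.Agent.H59.St
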