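import Mathlib
import Cfsg.Agent.H44.Coset

set_option autoImplicit false
set_option maxRecDepth 1000000
set_option linter.all false
set_option Elab.async false

namespace Cfsg.Agent.H59.SzH.za
open Cfsg.Agent.H44

noncomputable def rT0 : Tr :=
 (.node (.leaf (nat_lit 0x39833c1422c78e50c671cd04e8ade313b27809866a2a78a4d4131bd1988a5e21340426e11d3cb64a430dc820576f29921052408e80fbc96463ed1d92103cf21910f339032c0eac74423ac651c9038b19100e326806c64ac543e3740d9b5190b110f0dc26406863a2823a3540d1b318c89c8e0d418a3100d22623634c0c9ad45ec95e18cc35c061583247843148c22f02ec8de08bb4604640b3227802cce00c302a8655f8ab1847040a21857c28c9481318285d5e89d0266a8602165782709381217e455598950246a05f1145642505e8bc02444d58893022689123bb760230d181054aee9d788522089007bb975c1ed1291101cee1d68733702ec06ab74221ac5d1b9018ad90806323c02c5cab541e1740599f170ad10705c2380285b9b321a1540519d16c6c88605416a2d0051b121614c598b21624480505235a2c004a1155812c579ae0108415584322c01c5720f5540f40399715a8395483c228018561093500d403195156420d38341542a40310734c0cc540a714c018cd03134429402aa15320ac521a3008a814c02321c00c51a9f52e0740198f144a794b01c2180085099d20a0540118d1406708201413e2780119b20604c4e89c136268010122100044c90532a03400989130410ca00c12e2580090332602c4a894126004490092080004898d31201400185120630c400411e2380018b30e00c4688c116228000021122204380010c0044288410620840800))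
 (.leaf (nat_lit 0x8e7412944f6968f0e88465a7139a523528c94822c4d6928ad29947089131a422307e731273439a67f0e683e59ed0a691f527c9381eb419a27ad2793f078d02681e306e721253d36766f0e4836596f499d1b526c9281abd16726ad25937068f419c1a33a034c19b3f46e66c691d1064cf91b1932880c468b3d46a634189c51a0cf11a18c0587012133079e590e082b586cbde715d2569081532e79a54d2192c052cb5e614b)))
noncomputable def gT0 : Tr :=
 (.leaf (nat_lit 0))
/-- The relators. -/
def R : List (List ℕ) := [[1, 2],
  [3, 3],
  [4, 5],
  [1, 1, 1, 1, 1, 1, 1],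
  [4, 4, 4],
  [3, 4, 3, 4, 3, 4],
  [1, 3, 2, 3],
  [1, 4, 2, 5]]
/-- The subgroup generators. -/
def S : List (List ℕ) := []
def Wr : List (List ℕ) := [[1, 2],
  [2, 1],
  [3, 3],
  [4, 5],
  [5, 4],
  [5, 5, 5],
  [2, 3, 1, 3],
  [2, 5, 1, 4],
  [2, 4, 1, 5],
  [1, 3, 2, 3],
  [1, 5, 2, 4],
  [1, 4, 2, 5],
  [2, 2, 2, 2, 2, 2, 2],
  [4, 3, 4, 3, 4, 3],
  [5, 3, 5, 3, 5, 3],
  [3, 4, 3, 4, 3, 4],
  [4, 4, 4]]
def Wn : List (List ℕ) := []
def cr : List (ℕ × ℕ × ℕ) := [(0, 0, 0), (0, 0, 0), (0, 0, 0), (0, 0, 0), (0, 0, 0), (2, 4, 0), (1, 6, 2), (1, 7, 2), (2, 7, 3), (1, 6, 0), (2, 7, 1), (1, 7, 0), (2, 3, 0), (1, 5, 1), (2, 5, 0), (1, 5, 0), (1, 4, 0)]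
def cn : List (ℕ × ℕ × ℕ) := []
noncomputable def rT : Tr := rT0
noncomputable def gT : Tr := gT0
noncomputable def rC (i : ℕ) : ℕ := rT.get (nat_lit 1) i
noncomputable def gC (i : ℕ) : ℕ := gT.get (nat_lit 0) i
noncomputable def row (p : ℕ) : ℕ := rec2 rC (nat_lit 6) (nat_lit 63) (nat_lit 66) (nat_lit 0x3ffffffffffffffff) p
noncomputable def gf (p : ℕ) : ℕ := rec2 gC (nat_lit 8) (nat_lit 255) (nat_lit 21) (nat_lit 0x1fffff) p
noncomputable def gw (c : ℕ) : List ℕ := nth [] Wr c
noncomputable def wn (c : ℕ) : ℕ := pack (nat_lit 3) (nth [] Wn c) (nat_lit 0)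
noncomputable def C : Cert :=
  { n := (nat_lit 84), na := (nat_lit 0), M := (nat_lit 0), nc := (nat_lit 5), W := (nat_lit 7), EB := (nat_lit 11),
    LB := (nat_lit 3), nreg := (nat_lit 17), ivT := (nat_lit 153168), base := (nat_lit 0),
    row := row, gf := gf, gw := gw, wn := wn }
theorem masks : Masks C (nat_lit 127) (nat_lit 2047) (nat_lit 7) (nat_lit 17) (nat_lit 131071) :=
  ⟨by decide +kernel, by decide +kernel, by decide +kernel, by decide +kernel, by decide +kernel⟩
noncomputable def rchk : ℕ → ℕ → ℕ → Bool :=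
  rowChk row gf gw (nat_lit 84) (nat_lit 0) (nat_lit 5) (nat_lit 7) (nat_lit 127) (nat_lit 11) (nat_lit 2047) (nat_lit 3) (nat_lit 7) (nat_lit 17) (nat_lit 131071) (nat_lit 17) (nat_lit 153168) (nat_lit 1) (nat_lit 1) (nat_lit 7) (nat_lit 127)
noncomputable def fchk : ℕ → ℕ → ℕ → Bool :=
  auxRun row gf wn (nat_lit 84) (nat_lit 0) (nat_lit 0) (nat_lit 5) (nat_lit 7) (nat_lit 127) (nat_lit 11) (nat_lit 2047) (nat_lit 3) (nat_lit 7) (nat_lit 17) (nat_lit 153168) (nat_lit 0) (nat_lit 3) (nat_lit 7)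
theorem rows_of {lo hi : ℕ} {t : JL} (h : t.run rchk (nat_lit 35) hi lo = true) : C.RowsOK lo hi :=
  rowsOK_of_run masks h
theorem facts_of {lo hi : ℕ} {t : JL} (h : t.run fchk (nat_lit 20) hi lo = true) : C.FactsOK lo hi :=
  factsOK_of_run masks h
theorem words_ok : wordsChk 84 5 7 3 17 153168 0 R S Wr Wn cr cn = true := by
  decide +kernel
noncomputable def j0 : JL :=
(.cons (nat_lit 16) (nat_lit 0xc00182020020304043000608600080c10b0a10002141420304003000624080080c4010a10007021420300043000608080080c1010a10002021420304002840600085080c101) (nat_lit 0)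
(.cons (nat_lit 16) (nat_lit 0xc001821800203042c3000608600080c10b0a1000214142031a00284001c08508003810c00189020020310043000624080080c4010a100070214203000428400080850800101) (nat_lit 0)
(.cons (nat_lit 16) (nat_lit 0xc00189023c2000e0428e001c08508003810a10007021800312040040620086000c481001018802142000e040112008086000c1011e10002021470004042840008505080010a) (nat_lit 0)
(.cons (nat_lit 16) (nat_lit 0xa1000702142000e043000624080080c40100448021618003043078400085051c0010a0a10002141420004283000608600080c10b0c001891800203102c284001c5002240401) (nat_lit 0)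
(.cons (nat_lit 16) (nat_lit 0x4480802180031204784001c0851c0038100448021618003043078400085051c0010a0a1000714142000e283000624600080c40b004480802180031204784001c0851c00381) (nat_lit 0)
(.cons (nat_lit 4) (nat_lit 0x4480816180031230784001c5051c0038a) (nat_lit 0)
.nil))))))
theorem t0 : C.RowsOK (nat_lit 0) (nat_lit 84) :=
  rows_of (t := j0) (by decide +kernel)
theorem checked : Checked C R S :=
  ⟨⟨Wr, Wn, cr, cn, fun _ => rfl, fun _ => rfl, words_ok⟩, t0,
    fun _ _ h => absurd h (Nat.not_lt_zero _)⟩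

/-- In any group whose elements `g 1, …, g 5` satisfy the relators `R`, a subgroup containing the words
of `S` has index at most 84 in the subgroup generated by these elements. -/
theorem idxLe {G : Type*} [Group G] {g : ℕ → G} (hg : Sat g R) {H : Subgroup G}
    (hS : ∀ s ∈ S, ev g s ∈ H) : IdxLe H (gen g 5) 84 :=
  checked.idxLe hg hS

end Cfsg.Agent.H59.SzH.za

namespace Cfsg.Agent.H59.SzH.zs
open Cfsg.Agent.H44

noncomputable def rT0 : Tr :=
 (.leaf (nat_lit 0x10519693d5850fb75192d47d0b4c94f78e5d0ab54cf68d550849928eb74507b3498db63d067677498c35374f06488b34360670478a3304458db5b32503ae45b4b21d027475b14515354a02b0441434026baf431301727345710d33470144700c320168436f0b31302f014209006d6e6c69052e43006b68042d00646a67032c2b2a660002292827002601252423222100))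
noncomputable def gT0 : Tr :=
 (.leaf (nat_lit 0))
/-- The relators. -/
def R : List (List ℕ) := [[1, 2],
  [3, 4],
  [5, 5],
  [1, 1, 1, 1],
  [3, 3, 3],
  [5, 3, 5, 3],
  [1, 3, 2, 4],
  [1, 5, 2, 5]]
/-- The subgroup generators. -/
def S : List (List ℕ) := []
def Wr : List (List ℕ) := [[1, 2],
  [2, 1],
  [3, 4],
  [4, 3],
  [5, 5],
  [4, 4, 4],
  [1, 1, 1, 1],
  [2, 4, 1, 3],
  [2, 3, 1, 4],
  [2, 5, 1, 5],
  [1, 4, 2, 3],
  [1, 3, 2, 4],
  [1, 5, 2, 5],
  [3, 5, 3, 5],
  [4, 5, 4, 5]]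
def Wn : List (List ℕ) := []
def cr : List (ℕ × ℕ × ℕ) := [(0, 0, 0), (0, 0, 0), (0, 0, 0), (0, 0, 0), (0, 0, 0), (2, 4, 0), (1, 3, 0), (1, 6, 2), (2, 6, 3), (1, 7, 2), (2, 6, 1), (1, 6, 0), (1, 7, 0), (1, 5, 1), (2, 5, 0)]
def cn : List (ℕ × ℕ × ℕ) := []
noncomputable def rT : Tr := rT0
noncomputable def gT : Tr := gT0
noncomputable def rC (i : ℕ) : ℕ := rT.get (nat_lit 0) i
noncomputable def gC (i : ℕ) : ℕ := gT.get (nat_lit 0) i
noncomputable def row (p : ℕ) : ℕ := rec2 rC (nat_lit 6) (nat_lit 63) (nat_lit 48) (nat_lit 0xffffffffffff) p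
noncomputable def gf (p : ℕ) : ℕ := rec2 gC (nat_lit 8) (nat_lit 255) (nat_lit 16) (nat_lit 65535) p
noncomputable def gw (c : ℕ) : List ℕ := nth [] Wr c
noncomputable def wn (c : ℕ) : ℕ := pack (nat_lit 3) (nth [] Wn c) (nat_lit 0)
noncomputable def C : Cert :=
  { n := (nat_lit 24), na := (nat_lit 0), M := (nat_lit 0), nc := (nat_lit 5), W := (nat_lit 5), EB := (nat_lit 8),
    LB := (nat_lit 3), nreg := (nat_lit 15), ivT := (nat_lit 178256), base := (nat_lit 0),
    row := row, gf := gf, gw := gw, wn := wn }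
theorem masks : Masks C (nat_lit 31) (nat_lit 255) (nat_lit 7) (nat_lit 13) (nat_lit 8191) :=
  ⟨by decide +kernel, by decide +kernel, by decide +kernel, by decide +kernel, by decide +kernel⟩
noncomputable def rchk : ℕ → ℕ → ℕ → Bool :=
  rowChk row gf gw (nat_lit 24) (nat_lit 0) (nat_lit 5) (nat_lit 5) (nat_lit 31) (nat_lit 8) (nat_lit 255) (nat_lit 3) (nat_lit 7) (nat_lit 13) (nat_lit 8191) (nat_lit 15) (nat_lit 178256) (nat_lit 1) (nat_lit 1) (nat_lit 7) (nat_lit 127)
noncomputable def fchk : ℕ → ℕ → ℕ → Bool :=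
  auxRun row gf wn (nat_lit 24) (nat_lit 0) (nat_lit 0) (nat_lit 5) (nat_lit 5) (nat_lit 31) (nat_lit 8) (nat_lit 255) (nat_lit 3) (nat_lit 7) (nat_lit 13) (nat_lit 178256) (nat_lit 0) (nat_lit 3) (nat_lit 7)
theorem rows_of {lo hi : ℕ} {t : JL} (h : t.run rchk (nat_lit 35) hi lo = true) : C.RowsOK lo hi :=
  rowsOK_of_run masks h
theorem facts_of {lo hi : ℕ} {t : JL} (h : t.run fchk (nat_lit 20) hi lo = true) : C.FactsOK lo hi :=
  factsOK_of_run masks h
theorem words_ok : wordsChk 24 5 5 3 15 178256 0 R S Wr Wn cr cn = true := by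
  decide +kernel
noncomputable def j0 : JL :=
(.cons (nat_lit 16) (nat_lit 0xa00188160078e04040041c08080080c10d0a180021814003042c00406280850c004810a001880214203001c00406080850c001010a00182021420304002840600085080c101) (nat_lit 0)
(.cons (nat_lit 8) (nat_lit 0x3c70a1a0020e143400f1c08680083810d003c70a020020e140400406286850c0048c) (nat_lit 0)
.nil))
theorem t0 : C.RowsOK (nat_lit 0) (nat_lit 24) :=
  rows_of (t := j0) (by decide +kernel)
theorem checked : Checked C R S :=
  ⟨⟨Wr, Wn, cr, cn, fun _ => rfl, fun _ => rfl, words_ok⟩, t0,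
    fun _ _ h => absurd h (Nat.not_lt_zero _)⟩

/-- In any group whose elements `g 1, …, g 5` satisfy the relators `R`, a subgroup containing the words
of `S` has index at most 24 in the subgroup generated by these elements. -/
theorem idxLe {G : Type*} [Group G] {g : ℕ → G} (hg : Sat g R) {H : Subgroup G}
    (hS : ∀ s ∈ S, ev g s ∈ H) : IdxLe H (gen g 5) 24 :=
  checked.idxLe hg hS

end Cfsg.Agent.H59.SzH.zs

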