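import Mathlib
import Cfsg.Agent.H46.SKit

/-!
# Automorphisms centralising the centre of a special group `2^(4+6)`
-/

set_option autoImplicit false
open scoped commutatorElement
open Subgroup

namespace Cfsg.Agent.H59.Tc

open Cfsg.Agent.H46.S95

local notation "C[" A "]" => Subgroup.centralizer (SetLike.coe A)
local notation "N[" A "]" => Subgroup.normalizer (SetLike.coe A)

variable {G : Type} [Group G]

theorem mem_N_comap (θ : MulAut G) {H : Subgroup G} {n : G} :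
    n ∈ N[H.comap θ.toMonoidHom] ↔ θ n ∈ N[H] := by
  simp only [mem_normalizer_iff, mem_comap, MulEquiv.coe_toMonoidHom, map_mul, map_inv]
  exact ⟨fun h x => by simpa using h (θ.symm x), fun h x => h _⟩

theorem ts_comap {Z V S : Subgroup G} {ρ : G} (θ : MulAut G) (h : TS Z V S (θ ρ)) :
    TS (Z.comap θ.toMonoidHom) (V.comap θ.toMonoidHom) (S.comap θ.toMonoidHom) ρ := by
  have su : Function.Surjective θ.toMonoidHom := θ.surjective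
  have m : ∀ {H : Subgroup G} {x : G}, x ∈ H → θ.symm x ∈ H.comap θ.toMonoidHom := fun hx => by
    simpa using hx
  refine ⟨comap_mono h.ZS, comap_mono h.VS, fun s hs => mem_centralizer_iff.2 fun v hv => ?_,
    (mem_N_comap θ).2 h.rN, fun s hs => ?_, fun α hα => ?_, ?_, fun e he e1 s hs c => ?_,
    fun e he s hs => ?_, fun e he e1 v hv => ?_,
    fun n hn => (mem_N_comap θ).2 (h.NN ((mem_N_comap θ).1 hn)), ?_⟩
  · exact θ.injective (by rw [map_mul, map_mul]; exact mem_centralizer_iff.1 (h.SC hs) _ hv)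
  · simpa using h.sq _ hs
  · obtain ⟨s, hs, i, e⟩ := h.cen (θ * α * θ⁻¹) fun v hv => by
      have := hα _ (m hv)
      simp only [MulAut.mul_apply, MulAut.inv_apply, this, MulEquiv.apply_symm_apply]
    refine ⟨_, m hs, i, MulEquiv.ext fun x => θ.injective ?_⟩
    simpa [-map_pow, map_pow θ] using DFunLike.congr_fun e (θ x)
  · refine map_injective (f := θ.toMonoidHom) θ.injective ?_
    rw [map_commutator, map_comap_eq_self_of_surjective su, MonoidHom.map_zpowers]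
    exact h.com
  · rw [comap_sup_eq _ _ _ su]
    exact h.ce (θ e) he (by simpa using e1) (θ s) hs (by rw [← map_mul, c, map_mul])
  · simpa using h.br _ he _ hs
  · obtain ⟨s, hs, k⟩ := h.onto (θ e) he (by simpa using e1) _ hv
    exact ⟨_, m hs, θ.injective (by simpa using k)⟩
  · obtain ⟨v, hv, v1, k⟩ := h.fix
    refine ⟨_, m hv, by simpa using v1, fun w hw hn => ?_⟩
    refine (k (θ w) hw fun n h1 h2 => ?_).imp (by simp) fun e => by simp [← e]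
    have := hn (θ.symm n) ((mem_N_comap θ).2 (by simpa using h1))
      (by simpa only [map_mul] using congrArg θ.symm h2)
    simpa using congrArg θ this

theorem ts_inv {Z V S : Subgroup G} {ρ : G} (r3 : ρ ^ 3 = 1) (h : TS Z V S ρ) : TS Z V S ρ⁻¹ := by
  refine ⟨h.ZS, h.VS, h.SC, inv_mem h.rN, h.sq, fun α hα => ?_, by rw [zpowers_inv, h.com], h.ce,
    h.br, h.onto, h.NN, h.fix⟩
  obtain ⟨s, hs, i, e⟩ := h.cen α hα
  refine ⟨s, hs, 2 * i, ?_⟩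
  have : ρ⁻¹ ^ 2 = ρ := by
    rw [inv_pow, inv_eq_iff_mul_eq_one, ← pow_succ, r3]
  rw [pow_mul, this, e]

/-- The structure of the centraliser of `V`. -/
structure K (V S : Subgroup G) (ρ u₁ u₂ u₃ : G) : Prop where
  VS : V ≤ S
  el : ∀ v ∈ V, v * v = 1
  SC : S ≤ C[V]
  rC : ρ ∈ C[V]
  r3 : ρ ^ 3 = 1
  rN : ρ ∈ N[S]
  sq : ∀ s ∈ S, s * s ∈ V
  br : ∀ s ∈ S, ∀ t ∈ S, s * t * s⁻¹ * t⁻¹ ∈ V
  gen : ∀ M : Subgroup G, (∀ c ∈ S, c * ρ * c⁻¹ * ρ⁻¹ ∈ M) → S ≤ M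
  CV : ∀ x ∈ C[V], ∃ s ∈ S, ∃ i : ℕ, x = s * ρ ^ i
  m1 : u₁ ∈ S
  m2 : u₂ ∈ S
  m3 : u₃ ∈ S
  f1 : ∀ ξ ∈ S, ξ * ξ = u₁ * u₁ → ∃ i : ℕ, (ρ ^ i * u₁ * (ρ ^ i)⁻¹)⁻¹ * ξ ∈ V
  f2 : ∀ u, u = u₂ ∨ u = u₃ → ∀ ξ ∈ S, ξ * ξ = u * u → ξ * u₁ * ξ⁻¹ = u * u₁ * u⁻¹ → u⁻¹ * ξ ∈ V
  f3 : ∀ ξ ∈ S, ξ * u₁ = u₁ * ξ → ξ * u₂ = u₂ * ξ → ξ * u₃ = u₃ * ξ → ξ ∈ V
  f4 : ∀ i : ℕ, u₁⁻¹ * (ρ ^ i * u₁ * (ρ ^ i)⁻¹) ∈ V → ρ ^ i = 1

theorem cm {V : Subgroup G} {x v : G} (hx : x ∈ C[V]) (hv : v ∈ V) : v * x = x * v :=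
  mem_centralizer_iff.1 hx v hv

theorem cj {S : Subgroup G} {r s : G} (hr : r ∈ N[S]) (hs : s ∈ S) : r * s * r⁻¹ ∈ S :=
  (mem_normalizer_iff.1 hr s).1 hs

theorem pow_mem_of {S : Subgroup G} {r s : G} (hr : r ∈ N[S]) (hs : s ∈ S) (n : ℕ) :
    (s * r) ^ n * (r ^ n)⁻¹ ∈ S := by
  induction n with
  | zero => simp
  | succ n ih =>
    have := mul_mem hs (cj hr ih)
    rwa [show s * (r * ((s * r) ^ n * (r ^ n)⁻¹) * r⁻¹) = (s * r) ^ (n + 1) * (r ^ (n + 1))⁻¹ by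
      rw [pow_succ' (s * r), pow_succ' r]; group] at this

theorem aut_C {V : Subgroup G} {α : MulAut G} (hα : ∀ v ∈ V, α⁻¹ v ∈ V) {x : G} (hx : x ∈ C[V]) :
    α x ∈ C[V] := mem_centralizer_iff.2 fun v hv => by
  simpa using congrArg α (cm hx (hα v hv))

theorem fix_inv {V : Subgroup G} {α : MulAut G} (hα : ∀ v ∈ V, α v = v) : ∀ v ∈ V, α⁻¹ v ∈ V :=
  fun v hv => by rwa [← hα v hv, MulAut.inv_apply, MulEquiv.symm_apply_apply]

/-- `α` agrees on `C(V)` with an inner automorphism. -/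
def Gd (V : Subgroup G) (α : MulAut G) : Prop := ∃ g ∈ C[V], ∀ x ∈ C[V], α x = g * x * g⁻¹

theorem adj_apply (g : G) (α : MulAut G) (x : G) :
    ((MulAut.conj g)⁻¹ * α) x = g⁻¹ * α x * g := by simp

theorem Gd.adj {V : Subgroup G} {α : MulAut G} {g : G} (hg : g ∈ C[V])
    (h : Gd V ((MulAut.conj g)⁻¹ * α)) : Gd V α := by
  obtain ⟨k, hk, e⟩ := h
  refine ⟨g * k, mul_mem hg hk, fun x hx => ?_⟩
  have := e x hx
  rw [adj_apply] at this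
  calc α x = g * (g⁻¹ * α x * g) * g⁻¹ := by group
    _ = _ := by rw [this]; group

theorem fix_adj {V : Subgroup G} {α : MulAut G} {g : G} (hg : g ∈ C[V]) (hα : ∀ v ∈ V, α v = v) :
    ∀ v ∈ V, ((MulAut.conj g)⁻¹ * α) v = v := fun v hv => by
  rw [adj_apply, hα v hv, mul_assoc, cm hg hv, inv_mul_cancel_left]

namespace K

variable {V S : Subgroup G} {ρ u₁ u₂ u₃ : G} (h : K V S ρ u₁ u₂ u₃)
include h

theorem four {s : G} (hs : s ∈ S) : s ^ 4 = 1 := by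
  rw [← h.el _ (h.sq s hs), ← pow_two, ← pow_two, ← pow_mul]

theorem mem_S {x : G} (hx : x ∈ C[V]) (e : x ^ 4 = 1) : x ∈ S := by
  obtain ⟨s, hs, i, rfl⟩ := h.CV x hx
  have := pow_mem_of (pow_mem h.rN i) hs 4
  rw [e, one_mul, inv_mem_iff, pow_succ, ← pow_mul, mul_comm i, pow_mul, h.r3, one_pow,
    one_mul] at this
  exact mul_mem hs this

theorem aut_S {α : MulAut G} (hα : ∀ v ∈ V, α⁻¹ v ∈ V) {s : G} (hs : s ∈ S) : α s ∈ S :=
  h.mem_S (aut_C hα (h.SC hs)) (by rw [← map_pow, h.four hs, map_one])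

theorem NN : N[V] ≤ N[S] := fun n hn => by
  have k : ∀ n ∈ N[V], ∀ s ∈ S, n * s * n⁻¹ ∈ S := fun n hn s hs =>
    h.aut_S (α := MulAut.conj n) (fun v hv => by simpa using cj (inv_mem hn) hv) hs
  exact mem_normalizer_iff.2 fun s => ⟨k n hn s, fun hs => by
    simpa [mul_assoc] using k _ (inv_mem hn) _ hs⟩

theorem three {v : G} (hv : v ∈ V) (e : v ^ 3 = 1) : v = 1 := by
  rwa [pow_succ, pow_two, h.el v hv, one_mul] at e

theorem cong {a b c : G} (hc : c ∈ S) (hb : b ∈ S) (e : a⁻¹ * b ∈ V) : a⁻¹ * (c * b * c⁻¹) ∈ V := by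
  have := mul_mem e (h.br _ (inv_mem hb) c hc)
  simpa [mul_assoc] using this

variable {α : MulAut G} (hα : ∀ v ∈ V, α v = v)
include hα

theorem key {u s : G} (hu : u ∈ S) (e : u⁻¹ * α u ∈ V) (hs : s ∈ S) :
    α s * u * (α s)⁻¹ = s * u * s⁻¹ := by
  have k := hα _ (h.br s hs u hu)
  have c := cm (h.SC (h.aut_S (fix_inv hα) hs)) e
  simp only [map_mul, map_inv] at k
  calc α s * u * (α s)⁻¹ = α s * α u * ((u⁻¹ * α u)⁻¹ * (α s)⁻¹) := by group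
    _ = α s * α u * (α s)⁻¹ * (α u)⁻¹ * (α u * (u⁻¹ * α u)⁻¹) := by
      rw [← mul_inv_rev, ← c]; group
    _ = _ := by rw [k]; group

theorem st3 (e : ∀ s ∈ S, s⁻¹ * α s ∈ V) (r : α ρ = ρ) : ∀ x ∈ C[V], α x = x := by
  have k := h.gen (α.toMonoidHom.eqLocus (MonoidHom.id G)) fun c hc => by
    show α _ = _
    have := cm h.rC (e c hc)
    rw [map_mul, map_mul, map_mul, map_inv, map_inv, r, MonoidHom.id_apply]
    calc α c * ρ * (α c)⁻¹ * ρ⁻¹ = c * (c⁻¹ * α c * ρ) * (α c)⁻¹ * ρ⁻¹ := by group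
      _ = _ := by rw [this]; group
  intro x hx
  obtain ⟨s, hs, i, rfl⟩ := h.CV x hx
  rw [map_mul, map_pow, r, show α s = s from k hs]

theorem st2 (e : ∀ s ∈ S, s⁻¹ * α s ∈ V) : Gd V α := by
  obtain ⟨s, hs, i, r⟩ := h.CV _ (aut_C (fix_inv hα) h.rC)
  have ri : ρ ^ i = ρ := by
    have a := cj h.rN h.m1
    have b := cj (pow_mem h.rN i) h.m1
    have c := cm (pow_mem h.rC i) (e _ h.m1)
    have e1 := e _ a
    rw [map_mul, map_mul, map_inv, r] at e1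
    have e2 : (ρ * u₁ * ρ⁻¹)⁻¹ * (ρ ^ i * u₁ * (ρ ^ i)⁻¹) ∈ V := by
      have := h.cong (inv_mem hs) ((S.mul_mem_cancel_left (inv_mem a)).1 (h.VS e1)) e1
      have := mul_mem this (inv_mem (e _ h.m1))
      convert this using 1
      have c' : (ρ ^ i)⁻¹ * (u₁⁻¹ * α u₁)⁻¹ = (u₁⁻¹ * α u₁)⁻¹ * (ρ ^ i)⁻¹ := by
        rw [← mul_inv_rev, c, mul_inv_rev]
      calc _ = (ρ * u₁ * ρ⁻¹)⁻¹ * (ρ ^ i * α u₁ * ((u₁⁻¹ * α u₁)⁻¹ * (ρ ^ i)⁻¹)) := by group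
        _ = _ := by rw [← c']; group
    have e3 := h.f4 (2 + i) (by
      have c2 := cm h.rC e2
      have r2 : ρ ^ 2 = ρ⁻¹ := eq_inv_of_mul_eq_one_left (by rw [← pow_succ, h.r3])
      rw [pow_add, r2]
      convert e2 using 1
      calc _ = ρ⁻¹ * ((ρ * u₁ * ρ⁻¹)⁻¹ * (ρ ^ i * u₁ * (ρ ^ i)⁻¹) * ρ) := by group
        _ = _ := by rw [c2]; group)
    calc ρ ^ i = ρ ^ 3 * ρ ^ i := by rw [h.r3, one_mul]
      _ = ρ * ρ ^ (2 + i) := by group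
      _ = ρ := by rw [e3, mul_one]
  rw [ri] at r
  have a := cj h.rN hs
  have b := cj h.rN a
  have e3 : (s * ρ) ^ 3 = 1 := by rw [← r, ← map_pow, h.r3, map_one]
  have w : s⁻¹ * (ρ * s * ρ⁻¹) * (ρ * (ρ * s * ρ⁻¹) * ρ⁻¹)⁻¹ ∈ V := by
    have := mul_mem (inv_mem (h.sq s hs)) (inv_mem (h.sq _ b))
    convert this using 1
    have r2 : ρ = ρ⁻¹ * ρ⁻¹ := by
      rw [← mul_inv_rev, eq_inv_iff_mul_eq_one, ← h.r3, pow_three]
    have : s * (ρ * s * ρ⁻¹) * (ρ * (ρ * s * ρ⁻¹) * ρ⁻¹) = 1 := by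
      rw [← e3, pow_three]
      calc _ = s * ρ * (s * ρ * (s * (ρ⁻¹ * ρ⁻¹))) := by group
        _ = _ := by rw [← r2]
    calc _ = (s * s)⁻¹ * (s * (ρ * s * ρ⁻¹) * (ρ * (ρ * s * ρ⁻¹) * ρ⁻¹)) *
        (ρ * (ρ * s * ρ⁻¹) * ρ⁻¹ * (ρ * (ρ * s * ρ⁻¹) * ρ⁻¹))⁻¹ := by group
      _ = _ := by rw [this, mul_one]
  set c := ρ * s * ρ⁻¹ with hc
  have c1 := cm (mul_mem (h.SC hs) h.rC) w
  have e4 : c * ρ * c⁻¹ = s * ρ * (s⁻¹ * c * (ρ * c * ρ⁻¹)⁻¹) := by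
    rw [mul_assoc s, ← cm h.rC w]; group
  have e5 := h.three w (by
    have : (c * ρ * c⁻¹) ^ 3 = 1 := by rw [conj_pow, h.r3]; group
    rwa [e4, Commute.mul_pow c1.symm, e3, one_mul] at this)
  rw [e5, mul_one] at e4
  refine Gd.adj (h.SC a) ⟨1, one_mem _, fun x hx => ?_⟩
  rw [h.st3 (fix_adj (h.SC a) hα) (fun t ht => ?_) (by rw [adj_apply, r, ← e4]; group) x hx]
  · group
  · simpa using h.cong (inv_mem a) (h.aut_S (fix_inv hα) ht) (e t ht)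

theorem st1 (e : u₁⁻¹ * α u₁ ∈ V) : ∀ s ∈ S, s⁻¹ * α s ∈ V := by
  have k : ∀ u, u = u₂ ∨ u = u₃ → u ∈ S → u⁻¹ * α u ∈ V := fun u hu m =>
    h.f2 u hu _ (h.aut_S (fix_inv hα) m) (by rw [← map_mul, hα _ (h.sq u m)]) (h.key hα h.m1 e m)
  intro s hs
  have l : ∀ u ∈ S, u⁻¹ * α u ∈ V → s⁻¹ * α s * u = u * (s⁻¹ * α s) := fun u m e => by
    calc _ = s⁻¹ * (α s * u * (α s)⁻¹) * α s := by group
      _ = _ := by rw [h.key hα m e hs]; group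
  exact h.f3 _ (mul_mem (inv_mem hs) (h.aut_S (fix_inv hα) hs)) (l _ h.m1 e)
    (l _ h.m2 (k _ (Or.inl rfl) h.m2)) (l _ h.m3 (k _ (Or.inr rfl) h.m3))

theorem gd : Gd V α := by
  obtain ⟨i, e⟩ := h.f1 _ (h.aut_S (fix_inv hα) h.m1) (by rw [← map_mul, hα _ (h.sq _ h.m1)])
  have m := pow_mem h.rC i
  refine Gd.adj m (h.st2 (fix_adj m hα) (h.st1 (fix_adj m hα) ?_))
  rw [adj_apply]
  convert e using 1
  calc _ = (ρ ^ i)⁻¹ * ((ρ ^ i * u₁ * (ρ ^ i)⁻¹)⁻¹ * α u₁ * ρ ^ i) := by group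
    _ = _ := by rw [cm m e]; group

omit hα in
theorem cc {x : G} (hx : ∀ y ∈ C[V], x * y = y * x) : x ∈ V := by
  obtain ⟨s, hs, i, rfl⟩ := h.CV x (mem_centralizer_iff.2 fun v hv => (hx v (h.SC (h.VS hv))).symm)
  have := h.f4 i (by
    have e := hx _ (h.SC h.m1)
    have := h.cong (inv_mem hs) h.m1 (a := u₁) (by simp)
    convert this using 2
    calc _ = s⁻¹ * (s * ρ ^ i * u₁) * (ρ ^ i)⁻¹ := by group
      _ = _ := by rw [e]; group)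
  rw [this, mul_one] at hx ⊢
  exact h.f3 s hs (hx _ (h.SC h.m1)) (hx _ (h.SC h.m2)) (hx _ (h.SC h.m3))

omit hα in
theorem nrm (e : ∀ x ∈ C[V], α x = x) {q : G} (hq : q ∈ N[V]) : q⁻¹ * α q ∈ V :=
  h.cc fun y hy => by
    have := e _ (aut_C (α := MulAut.conj q) (fun v hv => by simpa using cj (inv_mem hq) hv) hy)
    simp only [MulAut.conj_apply, map_mul, map_inv, e y hy] at this
    calc _ = q⁻¹ * (α q * y * (α q)⁻¹) * α q := by group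
      _ = _ := by rw [this]; group

/-- An automorphism fixing `V` pointwise can be adjusted to fix `C(V)` and two more involutions. -/
theorem two {p q : G} (hp : p ∈ N[V]) (hq : q ∈ N[V]) (pp : p * p = 1) (qq : q * q = 1)
    (pq : p * q = q * p) (k1 : ∀ v ∈ V, v * p = p * v → ∃ u ∈ V, u * p * u⁻¹ = p * v)
    (k2 : ∀ v ∈ V, v * p = p * v → v * q = q * v → ∃ u ∈ V, u * p = p * u ∧ u * q * u⁻¹ = q * v) :
    ∃ g ∈ C[V], (∀ x ∈ C[V], α x = g * x * g⁻¹) ∧ α p = g * p * g⁻¹ ∧ α q = g * q * g⁻¹ := by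
  have inv : ∀ {β : MulAut G} {r : G}, r * r = 1 → r⁻¹ * β r ∈ V →
      r⁻¹ * β r * r = r * (r⁻¹ * β r) := fun {β r} rr m => by
    have a := h.el _ m
    have b : β r * β r = 1 := by rw [← map_mul, rr, map_one]
    rw [inv_eq_of_mul_eq_one_right rr] at a ⊢
    rw [← mul_assoc, rr, one_mul, ← mul_left_inj (β r), b, ← a]
    group
  have triv : ∀ {β : MulAut G} {u : G}, u ∈ V → (∀ x ∈ C[V], β x = x) →
      ∀ x ∈ C[V], ((MulAut.conj u)⁻¹ * β) x = x := fun hu e x hx => by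
    rw [adj_apply, e x hx, mul_assoc, ← cm hx hu, inv_mul_cancel_left]
  obtain ⟨g, hg, e⟩ := h.gd hα
  have e1 : ∀ x ∈ C[V], ((MulAut.conj g)⁻¹ * α) x = x := fun x hx => by
    rw [adj_apply, e x hx]; group
  obtain ⟨u, hu, a1⟩ := k1 _ (h.nrm e1 hp) (inv pp (h.nrm e1 hp))
  have e2 := triv hu e1
  have a2 : ((MulAut.conj u)⁻¹ * ((MulAut.conj g)⁻¹ * α)) p = p := by
    rw [mul_inv_cancel_left] at a1
    rw [adj_apply, ← a1]; group
  obtain ⟨w, hw, a3, a4⟩ := k2 _ (h.nrm e2 hq) (by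
    have := congrArg ((MulAut.conj u)⁻¹ * ((MulAut.conj g)⁻¹ * α)) pq
    rw [map_mul, map_mul, a2] at this
    rw [mul_assoc q⁻¹, ← this, ← mul_assoc q⁻¹, ← mul_assoc p,
      (show Commute p q from pq).inv_right.eq])
    (inv qq (h.nrm e2 hq))
  rw [mul_inv_cancel_left, adj_apply, adj_apply] at a4
  rw [adj_apply, adj_apply] at a2
  refine ⟨g * u * w, mul_mem (mul_mem hg (h.SC (h.VS hu))) (h.SC (h.VS hw)), fun x hx => ?_, ?_, ?_⟩
  · calc α x = g * (u * w * x * (u * w)⁻¹) * g⁻¹ := by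
          rw [e x hx, cm hx (mul_mem hu hw), mul_inv_cancel_right]
      _ = _ := by group
  · calc α p = g * u * (u⁻¹ * (g⁻¹ * α p * g) * u) * (g * u)⁻¹ := by group
      _ = g * u * (w * p * w⁻¹) * (g * u)⁻¹ := by rw [a2, a3, mul_inv_cancel_right]
      _ = _ := by group
  · calc α q = g * u * (u⁻¹ * (g⁻¹ * α q * g) * u) * (g * u)⁻¹ := by group
      _ = _ := by rw [← a4]; group

end K

end Cfsg.Agent.H59.Tc
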