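import Mathlib
import Cfsg.Agent.H59.TcA
import Cfsg.Agent.H59.TcD
import Cfsg.Agent.H46.SSz

/-!
# The subgroups `2^(4+6):3` and `A₄ × L₃(4)` of the Suzuki group
-/

set_option autoImplicit false
set_option maxRecDepth 200000
set_option linter.style.longLine false
open scoped commutatorElement Pointwise

namespace Cfsg.Agent.H59.Tc

open Cfsg.Agent.H44 Cfsg.Agent.H44.Ki Subgroup Cfsg.Agent.H46.S95 Cfsg.Agent.H46.S95.Sz
open Cfsg.Agent.H43 hiding allL allL_iff anyL anyL_iff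
open Cfsg.Agent.H59.Sz (β Hs)

local notation "C[" A "]" => Subgroup.centralizer (SetLike.coe A)
local notation "N[" A "]" => Subgroup.normalizer (SetLike.coe A)

theorem e1 : μ 1 = β 1 := Subtype.ext ((val ok 1 (by decide +kernel)).trans (Sz.val 1).symm)
theorem e5 : μ 5 = β 5 := Subtype.ext ((val ok 5 (by decide +kernel)).trans (Sz.val 5).symm)
theorem e11 : μ 11 = β 8 := Subtype.ext ((val ok 11 (by decide +kernel)).trans (Sz.val 8).symm)

theorem es (x y : ℕ) (hx : nth 0 code x % 2 = 0 := by decide +kernel)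
    (hy : nth 0 Sz.code y % 2 = 0 := by decide +kernel)
    (e : getN EG (nth 0 code x / 2) = getN Sz.EH (nth 0 Sz.code y / 2) := by rfl) : μ x = sz y :=
  Subtype.ext ((val ok x hx).trans ((congrArg (Net.toPerm 1782) e).trans (val Sz.ok y hy).symm))

/-- The elementary abelian group of order 16. -/
noncomputable abbrev V0 : Subgroup Γ := gen μ 4

/-- The group `2^(4+6)`. -/
noncomputable abbrev S0 : Subgroup Γ := gen μ 10

theorem sqE (x : ℕ) (h : LE.contains ([x, x], []) = true := by decide +kernel) : μ x * μ x = 1 :=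
  eqE.one x x h

theorem mC {A : List ℕ} {b : ℕ} {B : List ℕ} (h : comB D A B = true) (hb : b ∈ B := by decide) :
    ∀ a ∈ A, μ a ∈ Cz (μ b) := fun a ha => mem_Cz.2 (com ok h a ha b hb)

theorem memC {x : Γ} (h : ∀ j ∈ [1, 2, 3, 4], x * μ j = μ j * x) : x ∈ C[V0] :=
  mem_centralizer_iff.2 fun _ hv => mem_Cz.1 (gen_le.2 (fun j h1 h2 =>
    mem_Cz.2 (h j (by simp only [List.mem_cons]; omega)).symm) hv)

theorem SC : S0 ≤ C[V0] := gen_le.2 fun x h1 h2 =>
  memC (com ok m3 x (by simp only [List.mem_cons]; omega))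

theorem rC : μ 11 ∈ C[V0] := memC (com ok m3 11 (by decide))

theorem VS : V0 ≤ S0 := gen_mono μ (by norm_num)

theorem mS (x : ℕ) (h1 : 1 ≤ x := by decide) (h2 : x ≤ 10 := by decide) : μ x ∈ S0 := mem_gen μ h1 h2

theorem mV (x : ℕ) (h1 : 1 ≤ x := by decide) (h2 : x ≤ 4 := by decide) : μ x ∈ V0 := mem_gen μ h1 h2

theorem elV {v : Γ} (hv : v ∈ V0) : v * v = 1 := by
  induction hv using closure_induction with
  | mem x hx =>
    obtain ⟨x, h1, h2, rfl⟩ := hx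
    interval_cases x
    exacts [sqE 1, sqE 2, sqE 3, sqE 4]
  | one => simp
  | mul x y hx hy a b =>
    rw [mul_assoc, ← mul_assoc y, ← cm (SC (VS hy)) hx, mul_assoc, b, mul_one, a]
  | inv x _ a => rw [← mul_inv_rev, a, inv_one]

theorem r3 : μ 11 ^ 3 = 1 := by simpa [ev, pow_three] using gE [11, 11, 11] []

theorem r12 : μ 12 = (μ 11)⁻¹ := eq_inv_of_mul_eq_one_right (eqE.one 11 12)

theorem pc : Pc μ 10 := by
  refine Pc.of (orc ok) (allL_iff.1 pcs) ?_
  have h1 := cls_len ok c16 (N := S0) fun a ha => mem_gen μ (by revert a; decide) (by revert a; decide)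
  have h2 := length_le_card (K := S0 ⊓ Cz (ev μ [5])) (ok.nodup iZ) fun x hx => by
    obtain ⟨w, hw, rfl⟩ := List.mem_map.1 hx
    have k : ∀ w ∈ WZ, lettersIn 6 w = true := by decide +kernel
    refine (gen_le (K := S0 ⊓ Cz (ev μ [5]))).2
      (fun a h1 h2 => ⟨mem_gen μ h1 (by omega), ?_⟩) (ev_gen μ (k w hw))
    rw [ev_single]
    by_cases h : a ≤ 4
    · exact mem_Cz.2 (com ok m3 5 (by decide) a (by simp only [List.mem_cons]; omega)).symm
    · exact mC m6 (by decide) a (by simp only [List.mem_cons]; omega)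
  rw [← card_class S0 (ev μ [5])]
  exact Nat.mul_le_mul (n₁ := 16) (m₁ := 64) h1 h2

theorem cardV : Nat.card V0 = 16 := pc.card 4 (by norm_num)

theorem cosV {v : Γ} (hv : v ∈ V0) : ∃ w ∈ cw 0 4, v = ev μ w := by
  obtain ⟨w, hw, e⟩ := pc_cos pc 0 4 (by norm_num) v hv
  rw [gen_zero, mem_bot, inv_mul_eq_one] at e
  exact ⟨w, hw, e.symm⟩

theorem cosS {s : Γ} (hs : s ∈ S0) : ∃ w ∈ cw 4 6, ∃ v ∈ V0, s = ev μ w * v := by
  obtain ⟨w, hw, e⟩ := pc_cos pc 4 6 (by norm_num) s hs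
  exact ⟨w, hw, _, e, by group⟩

theorem sq_cos {a v : Γ} (hs : a * v ∈ S0) (hv : v ∈ V0) : a * v * (a * v) = a * a := by
  have := cm (SC ((S0.mul_mem_cancel_right (VS hv)).1 hs)) hv
  rw [mul_assoc, ← mul_assoc v, this, mul_assoc, elV hv, mul_one]

theorem com_cos {a v u r : Γ} (hv : v ∈ V0) (hu : u ∈ S0) (e : a * v * u = r * (a * v)) :
    a * u = r * a := by
  rwa [mul_assoc, cm (SC hu) hv, ← mul_assoc, ← mul_assoc, mul_left_inj] at e

theorem sqS {s : Γ} (hs : s ∈ S0) : s * s ∈ V0 := by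
  obtain ⟨w, hw, v, hv, rfl⟩ := cosS hs
  obtain ⟨u, e⟩ := allP_spec sqs w hw
  obtain ⟨h1, h2⟩ := Bool.and_eq_true_iff.1 e
  rw [sq_cos hs hv, ← ev_append, ok.eq h2]
  exact ev_gen μ h1

theorem brS {s t : Γ} (hs : s ∈ S0) (ht : t ∈ S0) : s * t * s⁻¹ * t⁻¹ ∈ V0 := by
  have := mul_mem (mul_mem (sqS (mul_mem hs ht)) (inv_mem (sqS hs))) (inv_mem (sqS ht))
  convert this using 1
  calc _ = s * t * (s * t) * (t⁻¹ * ((s * s)⁻¹ * t)) * (t * t)⁻¹ := by group
    _ = _ := by rw [cm (SC ht) (inv_mem (sqS hs)), inv_mul_cancel_left]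

theorem rN : μ 11 ∈ N[S0] := by
  rw [S0, gen_eq_wgen]
  exact le_norm (orc ok) ns (ev_single μ 11 ▸ mem_wgen μ [11] (by decide))

theorem nV (x : ℕ) (h : [x] ∈ [[13], [14]] := by decide) : μ x ∈ N[V0] := by
  rw [V0, gen_eq_wgen]
  exact le_norm (orc ok) nv (ev_single μ x ▸ mem_wgen μ [x] h)

theorem genS (M : Subgroup Γ) (h : ∀ c ∈ S0, c * μ 11 * c⁻¹ * (μ 11)⁻¹ ∈ M) : S0 ≤ M := by
  have k : ∀ x ∈ [5, 6, 7, 8, 9, 10], μ x ∈ M := fun x hx => by
    obtain ⟨c, e⟩ := allP_spec gc x hx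
    obtain ⟨h1, h2⟩ := Bool.and_eq_true_iff.1 e
    have := h _ (ev_gen μ h1)
    have e := ok.eq h2
    rw [ev_append, ev_append, ev_single, ev_cons, ev_single] at e
    rwa [e, mul_inv_cancel_right, mul_inv_cancel_right] at this
  refine gen_le.2 fun x h1 h2 => ?_
  by_cases h4 : x ≤ 4
  · obtain ⟨w, e⟩ := allP_spec gv x (by simp only [List.mem_cons]; omega)
    obtain ⟨h3, h5⟩ := Bool.and_eq_true_iff.1 e
    rw [← ev_single μ x, ok.eq h5]
    exact ev_mem fun a ha => k a (List.contains_iff_mem.1 (List.all_eq_true.1 h3 a ha))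
  · exact k x (by simp only [List.mem_cons]; omega)

theorem card3 : Nat.card ↥(Cz (μ 1) ⊓ Cz (μ 2) ⊓ Cz (μ 3)) ≤ 3072 := by
  have h1 := cls_le ok c54 (N := Cz (μ 1)) fun a ha => mC m1 (by decide) a (by revert a; decide)
  have h2 := cls_le ok c20 (N := Cz (μ 1) ⊓ Cz (μ 2)) fun a ha =>
    ⟨mC m1 (by decide) a (by revert a; decide), mC m2 (by decide) a ha⟩
  have h3 : Nat.card (Cz (μ 1)) = 3317760 := e1 ▸ Sz.cent_a
  rw [ev_single, show W54.length = 54 from rfl, h3] at h1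
  rw [ev_single, show W20.length = 20 from rfl] at h2
  change 54 * Nat.card ↥(Cz (μ 1) ⊓ Cz (μ 2)) ≤ _ at h1
  change 20 * Nat.card ↥(Cz (μ 1) ⊓ Cz (μ 2) ⊓ Cz (μ 3)) ≤ _ at h2
  omega

theorem CV {x : Γ} (hx : x ∈ C[V0]) : ∃ s ∈ S0, ∃ i : ℕ, x = s * μ 11 ^ i := by
  have l1 : C[V0] ≤ Cz (μ 1) ⊓ Cz (μ 2) ⊓ Cz (μ 3) := fun y hy =>
    ⟨⟨mem_Cz.2 (cm hy (mV 1)).symm, mem_Cz.2 (cm hy (mV 2)).symm⟩, mem_Cz.2 (cm hy (mV 3)).symm⟩
  have l2 : S0 ⊔ zpowers (μ 11) ≤ C[V0] := sup_le SC (zpowers_le.2 rC)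
  have h1 := card_dvd_of_le (le_sup_left : S0 ≤ S0 ⊔ zpowers (μ 11))
  have h2 := card_dvd_of_le (le_sup_right : zpowers (μ 11) ≤ S0 ⊔ zpowers (μ 11))
  have := Fact.mk Nat.prime_three
  rw [Nat.card_zpowers, orderOf_eq_prime r3 (by simpa [ev] using nE [11] [])] at h2
  rw [pc.card 10 le_rfl] at h1
  have h3 := Nat.le_of_dvd Nat.card_pos ((show Nat.Coprime (2 ^ 10) 3 by norm_num).mul_dvd_of_dvd_of_dvd h1 h2)
  have h4 : x ∈ (↑(S0 ⊔ zpowers (μ 11)) : Set Γ) :=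
    (eq_of_le_of_card_ge l2 (((card_le_of_le l1).trans card3).trans h3)).ge hx
  rw [coe_mul_of_right_le_normalizer_left _ _ (zpowers_le.2 rN)] at h4
  obtain ⟨s, hs, r, hr, rfl⟩ := h4
  obtain ⟨i, rfl⟩ := mem_powers_iff_mem_zpowers.2 hr
  exact ⟨s, hs, i, rfl⟩

theorem kk : K V0 S0 (μ 11) (μ 7) (μ 9) (μ 10) := by
  have a1 : μ 11 ^ 1 * μ 7 * (μ 11 ^ 1)⁻¹ = μ 8 := by
    rw [pow_one, eqE.two 11 7 8 11, mul_inv_cancel_right]
  have a2 : μ 11 ^ 2 * μ 7 * (μ 11 ^ 2)⁻¹ = μ 8 * μ 7 := by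
    rw [mul_inv_eq_iff_eq_mul, pow_two]
    simpa [ev, mul_assoc] using gE [11, 11, 7] [8, 7, 11, 11]
  refine ⟨VS, fun _ => elV, SC, rC, r3, rN, fun _ => sqS, fun _ hs _ ht => brS hs ht, genS,
    fun _ => CV, mS 7, mS 9, mS 10, fun ξ hξ e => ?_, fun u hu ξ hξ e e' => ?_,
    fun ξ hξ a b c => ?_, fun i e => ?_⟩
  · obtain ⟨w, hw, v, hv, rfl⟩ := cosS hξ
    rw [sq_cos hξ hv] at e
    have := pick ok p1 w hw (by simpa [eqs_cons, eqs_nil, ev_append, ev_cons, ev_nil] using e)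
    simp only [List.contains_iff_mem, List.mem_cons, List.not_mem_nil, or_false] at this
    rcases this with rfl | rfl | rfl
    · exact ⟨0, by simpa [ev] using hv⟩
    · exact ⟨1, by rw [a1]; simpa [ev] using hv⟩
    · exact ⟨2, by rw [a2]; simpa [ev, mul_assoc] using hv⟩
  · obtain ⟨w, hw, v, hv, rfl⟩ := cosS hξ
    rw [sq_cos hξ hv] at e
    have e2 := com_cos hv (mS 7) (eq_mul_of_mul_inv_eq e')
    rcases hu with rfl | rfl
    · have b : μ 9 * μ 7 * (μ 9)⁻¹ = ev μ [1, 3, 7] := by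
        rw [mul_inv_eq_iff_eq_mul]
        simpa [ev, mul_assoc] using gE [9, 7] [1, 3, 7, 9]
      rw [b] at e2
      have := pick ok p2 w hw (by
        simp only [eqs_cons, eqs_nil, ev_append, ev_single, and_true]
        exact ⟨by simpa [ev] using e, e2⟩)
      rw [beq_iff_eq.1 this]
      simpa [ev] using hv
    · have b : μ 10 * μ 7 * (μ 10)⁻¹ = ev μ [2, 7] := by
        rw [mul_inv_eq_iff_eq_mul]
        simpa [ev, mul_assoc] using gE [10, 7] [2, 7, 10]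
      rw [b] at e2
      have := pick ok p3 w hw (by
        simp only [eqs_cons, eqs_nil, ev_append, ev_single, and_true]
        exact ⟨by simpa [ev] using e, e2⟩)
      rw [beq_iff_eq.1 this]
      simpa [ev] using hv
  · obtain ⟨w, hw, v, hv, rfl⟩ := cosS hξ
    have := pick ok p4 w hw (by
      simp only [eqs_cons, eqs_nil, ev_append, ev_single, and_true]
      exact ⟨com_cos hv (mS 7) a, com_cos hv (mS 9) b, com_cos hv (mS 10) c⟩)
    rw [beq_iff_eq.1 this]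
    simpa [ev] using hv
  · have ne : μ 8 * μ 7 ≠ μ 7 * μ 8 := by simpa [ev] using nE [8, 7] [7, 8]
    have c := cm (SC (mS 7)) e
    rw [pow_eq_pow_mod i r3] at c ⊢
    have : i % 3 < 3 := Nat.mod_lt _ (by norm_num)
    interval_cases i % 3
    · rfl
    · rw [a1, mul_inv_cancel_left, mul_assoc, inv_mul_eq_iff_eq_mul] at c
      exact absurd c ne
    · rw [a2, mul_inv_cancel_left, mul_assoc, inv_mul_eq_iff_eq_mul, ← mul_assoc, mul_left_inj] at c
      exact absurd c ne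

/-- The inclusion of the centraliser of `β 1`. -/
noncomputable def ιH : Hs →* Γ := inclusion inf_le_left

theorem ιH_inj : Function.Injective ιH := inclusion_injective _

theorem ιH_range {x : Γ} (hx : x ∈ Cz (β 1)) : ∃ y, ιH y = x :=
  ⟨⟨x.1, x.2, mem_centralizer_singleton_iff.2 (by
    have := congrArg Subtype.val (mem_Cz.1 hx)
    rwa [coe_mul, coe_mul, Sz.val 1] at this)⟩, rfl⟩

theorem sz1 : sz 1 = β 1 := (es 1 1).symm.trans e1

/-- An automorphism trivial on the extraspecial group is trivial on its normaliser. -/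
theorem triv_L {α : MulAut Γ} (h : ∀ x ∈ [1, 2, 3, 4, 5, 20, 21], α (sz x) = sz x) :
    ∀ l ∈ Cz (β 1), α l = l := by
  let F : Subgroup Hs := (α.toMonoidHom.comp ιH).eqLocus ιH
  have hQ : wgen Sz.ν Sz.SQ ≤ F := wgen_le.2 fun s hs => by
    have k : ∀ s ∈ Sz.SQ, ∃ x ∈ [1, 2, 3, 4, 5, 20, 21], s = [x] := by decide
    obtain ⟨x, hx, rfl⟩ := k s hs
    rw [ev_single]
    exact h x hx
  have hz : α (β 1) = β 1 := sz1 ▸ h 1 (by decide)
  have hL : wgen Sz.ν [[22], [24], [26], [28]] ≤ F := wgen_le.2 fun s hs => by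
    have o3 : ev Sz.ν s ^ 3 = 1 := by
      have k : ∀ s ∈ [[22], [24], [26], [28]], Sz.LA.contains (s ++ (s ++ s), []) = true := by
        decide +kernel
      simpa only [ev_append, ← pow_three, ev_nil] using Sz.eqA.get _ _ (k s hs)
    generalize ev Sz.ν s = l at o3
    have c : ιH l * β 1 = β 1 * ιH l := sz1 ▸ congrArg ιH (Sz.cen l)
    obtain ⟨η, e⟩ := ιH_range (x := α (ιH l)) (mem_Cz.2 (by rw [← hz, ← map_mul, c, map_mul]))
    have η3 : η ^ 3 = 1 := ιH_inj (by rw [map_pow, e, ← map_pow, ← map_pow, o3]; simp)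
    rcases Sz.cent_Q (x := l⁻¹ * η) (fun y hy => by
      have h1 : α (ιH _) = ιH _ := hQ (cj (Sz.sh.nz (mem_centralizer_singleton_iff.2 (Sz.cen l))) hy)
      have h2 : α (ιH y) = ιH y := hQ hy
      rw [map_mul ιH, map_mul ιH, map_inv, map_mul, map_mul, map_inv, h2, ← e, ← map_mul, ← map_inv,
        ← map_mul, ← map_mul, ← map_inv, ← map_mul] at h1
      calc _ = l⁻¹ * (η * y * η⁻¹) * η := by group
        _ = _ := by rw [ιH_inj h1]; group) with k | k
    · exact e.symm.trans (congrArg ιH (inv_mul_eq_one.1 k).symm)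
    · rw [eq_mul_of_inv_mul_eq k, Commute.mul_pow (Sz.cen l), o3, one_mul, pow_three, Sz.zz,
        mul_one] at η3
      exact absurd η3 Sz.z_ne
  intro l hl
  obtain ⟨y, rfl⟩ := ιH_range hl
  exact hL (Sz.top ▸ mem_top y)

theorem cenV (hL : CL) {α : MulAut Γ} (hα : ∀ v ∈ V0, α v = v) :
    ∃ s ∈ S0, ∃ i : ℕ, α = MulAut.conj (s * μ 11 ^ i) := by
  obtain ⟨g, hg, e, a, b⟩ := kk.two hα (nV 13) (nV 14) (sqE 13) (sqE 14) (eqE.two 13 14 14 13)
    (fun v hv c => by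
      obtain ⟨w, hw, rfl⟩ := cosV hv
      obtain ⟨u, -, k⟩ := anyL_iff.1 (pick ok p6 w hw (by
        simpa only [eqs_cons, eqs_nil, ev_append, ev_single, and_true] using c))
      obtain ⟨h1, h2⟩ := Bool.and_eq_true_iff.1 k
      refine ⟨_, ev_gen μ h1, ?_⟩
      rw [mul_inv_eq_iff_eq_mul]
      simpa only [ev_append, ev_single, mul_assoc] using ok.eq h2)
    (fun v hv c d => by
      obtain ⟨w, hw, rfl⟩ := cosV hv
      have := pick ok p7 w hw (by
        simpa only [eqs_cons, eqs_nil, ev_append, ev_single, and_true] using ⟨c, d⟩)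
      simp only [List.contains_iff_mem, List.mem_cons, List.not_mem_nil, or_false] at this
      rcases this with rfl | rfl
      · exact ⟨1, one_mem _, by simp, by simp [ev]⟩
      · refine ⟨μ 2, mV 2, (mem_Cz.1 (mC m2 (by decide) 13 (by decide))).symm, ?_⟩
        rw [mul_inv_eq_iff_eq_mul]
        simpa [ev, mul_assoc] using gE [2, 14] [14, 1, 2])
  have k : ∀ x, α x = g * x * g⁻¹ → ((MulAut.conj g)⁻¹ * α) x = x := fun x h => by
    rw [adj_apply, h]; group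
  obtain ⟨c, hc, e'⟩ := hL _ (triv_L (α := (MulAut.conj g)⁻¹ * α) (by
    simp only [List.forall_mem_cons, ← es 1 1, ← es 2 2, ← es 3 3, ← es 13 4, ← es 14 5, ← es 7 20,
      ← es 8 21]
    exact ⟨k _ (e _ (SC (mS 1))), k _ (e _ (SC (mS 2))), k _ (e _ (SC (mS 3))), k _ a, k _ b,
      k _ (e _ (SC (mS 7))), k _ (e _ (SC (mS 8))), by simp⟩))
  obtain ⟨s, hs, i, r⟩ := CV (mul_mem hg (zpowers_le.2 (e1 ▸ SC (mS 1)) hc))
  exact ⟨s, hs, i, by rw [← r, map_mul, ← e', mul_inv_cancel_left]⟩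

/-- The four-group. -/
noncomputable abbrev Z0 : Subgroup Γ := wgen μ (sing [5, 6])

/-- The subgroup `L₃(4)`. -/
noncomputable abbrev L0 : Subgroup Γ := Cz (μ 5) ⊓ Cz (μ 11)

theorem mZ {w : List ℕ} (h : w.all [5, 6].contains = true := by decide) : ev μ w ∈ Z0 := ev_sing μ h

theorem mL : ∀ x ∈ [1, 2, 3, 4, 13, 15, 17, 18, 19], μ x ∈ L0 := fun x hx =>
  ⟨mC m5 (by decide) x hx, mC m5 (by decide) x hx⟩

theorem cardL : Nat.card L0 = 20160 := by
  rw [← Sz.card_L, ← card_map_of_injective (K := Sz.L) (subtype_injective _), Sz.L,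
    subgroupOf_map_subtype, inf_comm, L0, e5, e11]

theorem decB {c : Γ} (hc : c ∈ Cz (μ 5)) : ∃ w ∈ W8, (ev μ w)⁻¹ * c ∈ L0 := by
  have := cls_cov ok c8 (N := Cz (μ 5)) (mC m6) (by
    rw [ev_single, cardL, e5, Sz.cent_e]; decide) c hc
  rwa [ev_single] at this

theorem w8z : ∀ w ∈ W8, ev μ w ∈ Cz (μ 5) ⊓ Cz (μ 1) :=
  (cls_spec ok c8 (N := Cz (μ 5) ⊓ Cz (μ 1)) fun a ha =>
    ⟨mC m6 (by decide) a ha, mC m1 (by decide) a (by revert a; decide)⟩).2

theorem covT {x : Γ} (hx : x ∈ L0) (hz : x ∈ Cz (μ 1)) : ∃ w ∈ WT, x = ev μ w := by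
  have h1 := cls_le ok c8 (N := Cz (μ 5) ⊓ Cz (μ 1))
    fun a ha => ⟨mC m6 (by decide) a ha, mC m1 (by decide) a (by revert a; decide)⟩
  have h2 : Nat.card ↥(Cz (μ 5) ⊓ Cz (μ 1)) = 512 := by
    rw [e5, e1, ← (Sz.fus_ce ⟨β 1, Sz.ae⟩ (IsConj.refl _)).2, card_centralizer_coe]
  rw [ev_single, show W8.length = 8 from rfl, h2] at h1
  obtain ⟨w, hw, e⟩ := List.mem_map.1 (cover_of_nodup (K := Cz (μ 5) ⊓ Cz (μ 1) ⊓ Cz (μ 11))
    (ok.nodup iT) (fun x hx => by
      obtain ⟨w, hw, rfl⟩ := List.mem_map.1 hx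
      have k : ∀ w ∈ WT, ∀ a ∈ w, a ∈ [1, 2, 3, 4, 13, 15, 17, 18, 19] ∧ (a ∈ [1, 2, 3, 4] ∨
        a ∈ [5, 6, 11, 13, 14, 15, 16, 20, 21, 22, 23, 24, 25, 26, 27, 28, 29]) := by decide +kernel
      refine ev_mem fun a ha => ⟨⟨(mL a (k w hw a ha).1).1, ?_⟩, (mL a (k w hw a ha).1).2⟩
      exact (k w hw a ha).2.elim (fun h => mem_Cz.2 (com ok m3 1 (by decide) a h).symm)
        (mC m1 (by decide) a)) (by
      rw [List.length_map, show WT.length = 64 from rfl]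
      change 8 * Nat.card ↥(Cz (μ 5) ⊓ Cz (μ 1) ⊓ Cz (μ 11)) ≤ _ at h1
      omega) x ⟨⟨hx.1, hz⟩, hx.2⟩)
  exact ⟨w, hw, e.symm⟩

theorem b6 : μ 6 = μ 11 * μ 5 * (μ 11)⁻¹ := by rw [eqE.two 11 5 6 11, mul_inv_cancel_right]

theorem L6 {l : Γ} (hl : l ∈ L0) : l * μ 6 = μ 6 * l := by
  have a : Commute l (μ 5) := mem_Cz.1 hl.1
  have b : Commute l (μ 11) := mem_Cz.1 hl.2
  rw [b6]
  exact (b.mul_right a).mul_right b.inv_right

theorem ZC : Z0 ≤ C[L0] := wgen_le.2 fun s hs => mem_centralizer_iff.2 fun l hl => by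
  simp only [sing, List.map_cons, List.map_nil, List.mem_cons, List.not_mem_nil, or_false] at hs
  rcases hs with rfl | rfl <;> rw [ev_single]
  exacts [mem_Cz.1 hl.1, L6 hl]

theorem Zb : Z0 ≤ Cz (μ 5) := wgen_le.2 fun s hs => by
  simp only [sing, List.map_cons, List.map_nil, List.mem_cons, List.not_mem_nil, or_false] at hs
  rcases hs with rfl | rfl <;> rw [ev_single]
  exacts [mC m6 (by decide) 5 (by decide), mC m6 (by decide) 6 (by decide)]

theorem covZ {e : Γ} (h1 : e ∈ C[L0]) (h2 : e ∈ Cz (μ 5)) : ∃ w ∈ [[], [5], [6], [6, 5]], e = ev μ w := by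
  obtain ⟨u, hu, m⟩ := decB h2
  obtain ⟨w, hw, k⟩ := covT m (mul_mem (inv_mem (w8z u hu).2)
    (mem_Cz.2 (cm h1 (mL 1 (by decide))).symm))
  have k' : e = ev μ (u ++ w) := by rw [ev_append, ← k, mul_inv_cancel_left]
  have := pick ok (allL_iff.1 p9 u hu) w hw fun p hp => by
    obtain ⟨x, hx, rfl⟩ := List.mem_map.1 hp
    rw [ev_append μ (u ++ w), ev_append μ [x], ev_single, ← k']
    exact (cm h1 (mL x (by clear hp; revert x; decide))).symm
  obtain ⟨h3, h4⟩ := Bool.and_eq_true_iff.1 this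
  exact ⟨u, List.contains_iff_mem.1 h4, by rw [k', beq_iff_eq.1 h3, List.append_nil]⟩

theorem dec6 {c : Γ} (h1 : c ∈ Cz (μ 5)) (h2 : c * μ 6 = μ 6 * c) : ∃ e ∈ Z0, ∃ l ∈ L0, c = e * l := by
  obtain ⟨w, hw, m⟩ := decB h1
  refine ⟨_, mZ (pick ok p10 w hw ?_), _, m, by group⟩
  have a : Commute c (μ 6) := h2
  have b : Commute ((ev μ w)⁻¹ * c) (μ 6) := L6 m
  simpa only [eqs_cons, eqs_nil, ev_append, ev_single, and_true, mul_inv_rev, inv_inv,
    mul_inv_cancel_left] using (a.mul_left b.inv_left).eq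

theorem Lgen : L0 = wgen μ [[1], [17], [2], [18], [19]] := by
  refine (eq_of_le_of_card_ge (wgen_le.2 fun s hs => ?_) ?_).symm
  · have k : ∀ s ∈ [[1], [17], [2], [18], [19]], ∀ a ∈ s, a ∈ [1, 2, 3, 4, 13, 15, 17, 18, 19] := by
      decide
    exact ev_mem fun a ha => mL a (k s hs a ha)
  · rw [cardL, ok.card_wgen]
    exact SzN.cl_ge.trans (card_le_of_le (grp_le_wgen' [1, 17, 2, 18, 19] rfl (by decide +kernel)))

theorem Lperf : L0 ≤ ⁅L0, L0⁆ := by
  refine Lgen.le.trans (wgen_le.2 fun s hs => ?_)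
  have k : ∀ s ∈ [[1], [17], [2], [18], [19]], ∃ x ∈ [1, 17, 2, 18, 19], s = [x] := by decide
  obtain ⟨x, hx, rfl⟩ := k s hs
  obtain ⟨w, e⟩ := allP_spec cz x hx
  obtain ⟨h1, h2⟩ := Bool.and_eq_true_iff.1 e
  have m : ev μ w ∈ L0 := ev_mem fun a ha => mL a (by
    have := List.contains_iff_mem.1 (List.all_eq_true.1 h1 a ha)
    revert this; generalize a = a; revert a; decide)
  have e1 : ev μ [x] = ev μ w * ⁅μ 3, μ 13⁆ * (ev μ w)⁻¹ := by
    have : ⁅μ 3, μ 13⁆ = μ 1 := by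
      rw [commutatorElement_def, mul_inv_eq_iff_eq_mul, mul_inv_eq_iff_eq_mul]
      simpa [ev, mul_assoc] using gE [3, 13] [1, 13, 3]
    rw [this, ← ev_single μ 1, ← ev_append, ok.eq h2, ev_append, mul_inv_cancel_right]
  rw [e1, conjugate_commutatorElement]
  exact commutator_mem_commutator (mul_mem (mul_mem m (mL 3 (by decide))) (inv_mem m))
    (mul_mem (mul_mem m (mL 13 (by decide))) (inv_mem m))

theorem act6 {c : Γ} (hc : c ∈ Cz (μ 5)) : c * μ 6 = μ 6 * c ∨ c * μ 6 = μ 6 * μ 5 * c := by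
  obtain ⟨w, hw, m⟩ := decB hc
  have a := L6 m
  rw [show c = ev μ w * ((ev μ w)⁻¹ * c) by group, mul_assoc, a, ← mul_assoc, ← mul_assoc,
    ← mul_assoc (μ 6), ← mul_assoc (μ 6 * μ 5)]
  refine (bO_iff.1 (allL_iff.1 p11 w hw)).imp (fun e => ?_) fun e => ?_
  · have := ok.eq e
    rw [ev_append, ev_append, ev_single] at this
    rw [this]; group
  · have := ok.eq e
    rw [ev_append, ev_append, ev_single, ev_cons, ev_single] at this
    rw [this]; group

theorem der_le {G : Type*} [Group G] {H K : Subgroup G}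
    (h : ∀ x ∈ K, ∀ y ∈ K, x ∉ H → y ∉ H → x * y ∈ H) : ⁅K, K⁆ ≤ H := by
  have k : ∀ x ∈ K, ∀ y ∈ K, x * y ∈ H ↔ (x ∈ H ↔ y ∈ H) := fun x hx y hy => by
    by_cases a : x ∈ H
    · simp [a, H.mul_mem_cancel_left a]
    · by_cases b : y ∈ H
      · simp [a, b, H.mul_mem_cancel_right b]
      · simp [a, b, h x hx y hy a b]
  refine commutator_le.2 fun c hc d hd => ?_
  rw [commutatorElement_def, k _ (mul_mem (mul_mem hc hd) (inv_mem hc)) _ (inv_mem hd),
    k _ (mul_mem hc hd) _ (inv_mem hc), k _ hc _ hd, inv_mem_iff, inv_mem_iff]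
  tauto

theorem Λ_eq : Λ = L0 := by
  have h1 : ⁅Cz (μ 5), Cz (μ 5)⁆ ≤ Cz (μ 5) ⊓ Cz (μ 6) := der_le fun c hc d hd a b => by
    refine ⟨(Cz (μ 5)).mul_mem hc hd, mem_Cz.2 ?_⟩
    have a := (act6 hc).resolve_left fun e => a ⟨hc, mem_Cz.2 e⟩
    have b := (act6 hd).resolve_left fun e => b ⟨hd, mem_Cz.2 e⟩
    rw [mul_assoc, b, ← mul_assoc, ← mul_assoc, a, mul_assoc _ c, mem_Cz.1 hc, ← mul_assoc,
      mul_assoc (μ 6), sqE 5, mul_one, mul_assoc]
  rw [Λ, ← e5]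
  refine le_antisymm ((commutator_mono h1 h1).trans (commutator_le.2 fun c hc d hd => ?_)) ?_
  · obtain ⟨e, he, l, hl, rfl⟩ := dec6 hc.1 (mem_Cz.1 hc.2)
    obtain ⟨f, hf, m, hm, rfl⟩ := dec6 hd.1 (mem_Cz.1 hd.2)
    have a : Commute e (f * m) := by
      have : Z0 ≤ Cz (f * m) := wgen_le.2 fun s hs => by
        simp only [sing, List.map_cons, List.map_nil, List.mem_cons, List.not_mem_nil, or_false] at hs
        rcases hs with rfl | rfl <;> rw [ev_single]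
        exacts [mem_Cz.2 (mem_Cz.1 hd.1).symm, mem_Cz.2 (mem_Cz.1 hd.2).symm]
      exact mem_Cz.1 (this he)
    have b : ∀ x ∈ L0, ∀ y ∈ Z0, x * y = y * x := fun x hx y hy => cm (ZC hy) hx
    have : ⁅e * l, f * m⁆ = ⁅l, m⁆ := by
      calc _ = e * l * (f * m) * (e * l)⁻¹ * (f * m)⁻¹ := rfl
        _ = l * (e * (f * m) * e⁻¹) * l⁻¹ * (f * m)⁻¹ := by rw [← b l hl e he]; group
        _ = l * f * (m * l⁻¹ * m⁻¹ * f⁻¹) := by rw [a.eq]; group
        _ = _ := by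
          rw [b _ (mul_mem (mul_mem hm (inv_mem hl)) (inv_mem hm)) _ (inv_mem hf),
            commutatorElement_def]
          group
    rw [this, commutatorElement_def]
    exact mul_mem (mul_mem (mul_mem hl hm) (inv_mem hl)) (inv_mem hm)
  · have := Lperf.trans (commutator_mono (inf_le_left (b := Cz (μ 11))) inf_le_left)
    exact Lperf.trans (commutator_mono this this)

theorem Z_eq : Z = Z0 := by
  rw [Z, Λ_eq, ← e5]
  refine le_antisymm (fun e he => ?_) (le_inf ZC Zb)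
  obtain ⟨w, hw, rfl⟩ := covZ he.1 he.2
  exact mZ (by clear he; revert w; decide)

theorem covZ0 {e : Γ} (h : e ∈ Z0) : ∃ w ∈ [[], [5], [6], [6, 5]], e = ev μ w := covZ (ZC h) (Zb h)

theorem covZ1 {e : Γ} (h : e ∈ Z0) (e1 : e ≠ 1) : ∃ w ∈ [[5], [6], [6, 5]], e = ev μ w := by
  obtain ⟨w, hw, rfl⟩ := covZ0 h
  exact ⟨w, (List.mem_cons.1 hw).resolve_left (by rintro rfl; exact e1 rfl), rfl⟩

theorem ZS : Z0 ≤ S0 := fun e he => by
  obtain ⟨w, hw, rfl⟩ := covZ0 he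
  exact ev_gen μ (by clear he; revert w; decide)

theorem nZ (x : ℕ) (h : [x] ∈ [[11], [16]] := by decide) : μ x ∈ N[Z0] :=
  le_norm (orc ok) nz (ev_single μ x ▸ mem_wgen μ [x] h)

theorem ts0 (hL : CL) : TS Z0 V0 S0 (μ 11) := by
  refine ⟨ZS, VS, SC, rN, fun _ => sqS, fun _ => cenV hL, le_antisymm ?_ (genS _ fun c hc =>
    commutator_mem_commutator hc (mem_zpowers _)), fun e he e1 s hs c => ?_,
    fun e he s hs => brS hs (ZS he), fun e he e1 v hv => ?_, kk.NN,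
    μ 1, mV 1, by simpa [ev] using nE [1] [], fun w hw h => ?_⟩
  · refine commutator_le.2 fun s hs r hr => ?_
    have := mul_mem hs (cj (zpowers_le.2 rN hr) (inv_mem hs))
    rwa [← mul_assoc, ← mul_assoc] at this
  · obtain ⟨u, hu, rfl⟩ := covZ1 he e1
    obtain ⟨w, hw, v, hv, rfl⟩ := cosS hs
    exact mul_mem (mem_sup_left (mZ (pick ok (allL_iff.1 p5 u hu) w hw (by
      simpa only [eqs_cons, eqs_nil, ev_append, and_true] using com_cos hv (ZS he) c))))
      (mem_sup_right hv)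
  · obtain ⟨u, hu, rfl⟩ := covZ1 he e1
    obtain ⟨w, hw, rfl⟩ := cosV hv
    obtain ⟨L, k⟩ := allP_spec ons u hu
    obtain ⟨s, k⟩ := allP_spec k w hw
    obtain ⟨h1, h2⟩ := Bool.and_eq_true_iff.1 k
    refine ⟨_, ev_gen μ h1, ?_⟩
    rw [← ev_append, ok.eq h2, ev_append, ev_append]
    group
  · have a := h _ (nV 13) (mem_Cz.1 (mC m1 (by decide) 13 (by decide)))
    have b := h _ (nV 14) (mem_Cz.1 (mC m1 (by decide) 14 (by decide)))
    obtain ⟨u, hu, rfl⟩ := cosV hw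
    have := pick ok p7 u hu (by
      simpa only [eqs_cons, eqs_nil, ev_append, ev_single, and_true] using ⟨a.symm, b.symm⟩)
    simp only [List.contains_iff_mem, List.mem_cons, List.not_mem_nil, or_false] at this
    exact this.imp (by rintro rfl; rfl) (by rintro rfl; exact ev_single μ 1)

theorem card_comap (θ : MulAut Γ) (H : Subgroup Γ) :
    Nat.card (H.comap θ.toMonoidHom) = Nat.card H := by
  rw [← card_map_of_injective (K := H.comap θ.toMonoidHom) (f := θ.toMonoidHom) θ.injective,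
    map_comap_eq_self_of_surjective θ.surjective]

/-- The elementary subgroups of order 16 of `L₃(4)`. -/
theorem conjV {U : Subgroup Γ} (hU : U ≤ L0) (el : El U) (c : Nat.card U = 16) :
    ∃ g ∈ N[Z0], (g * μ 11 * g⁻¹ = μ 11 ∨ g * μ 11 * g⁻¹ = (μ 11)⁻¹) ∧
      U = V0.comap (MulAut.conj g).toMonoidHom := by
  obtain ⟨u, hu, u1⟩ := (U.bot_or_exists_ne_one).resolve_left fun e => by
    rw [e, card_bot] at c; omega
  have u5 : u ∈ Cz (β 5) := e5 ▸ (hU hu).1
  have u8 : u ∈ Cz (β 8) := e11 ▸ (hU hu).2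
  obtain ⟨d, e⟩ := isConj_iff.1 (Sz.inv_L ⟨u, u5⟩ (mem_subgroupOf.2 u8)
    (by rw [← orderOf_coe]; exact orderOf_eq_prime (by rw [pow_two, el u hu]) u1)).symm
  replace e : (d : Γ) * u * (d : Γ)⁻¹ = μ 1 := (congrArg Subtype.val e).trans e1.symm
  obtain ⟨w, hw, m⟩ := decB (c := d) (by rw [e5]; exact d.2)
  set l := (ev μ w)⁻¹ * d with hl
  have e2 : l * u * l⁻¹ = μ 1 := by
    calc _ = (ev μ w)⁻¹ * ((d : Γ) * u * (d : Γ)⁻¹ * ev μ w) := by rw [hl]; group
      _ = _ := by rw [e, ← mem_Cz.1 (w8z w hw).2, inv_mul_cancel_left]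
  have ab : ∀ x ∈ U, x * u = u * x := fun x hx => by
    rw [← inv_eq_of_mul_eq_one_right (el _ (mul_mem hx hu)), mul_inv_rev,
      inv_eq_of_mul_eq_one_right (el _ hx), inv_eq_of_mul_eq_one_right (el _ hu)]
  have lZ : l ∈ N[Z0] := centralizer_le_normalizer _
    (mem_centralizer_iff.2 fun y hy => (cm (ZC hy) m).symm)
  have lr : l * μ 11 * l⁻¹ = μ 11 := by rw [mem_Cz.1 m.2, mul_inv_cancel_right]
  have k : (U : Set Γ) ⊆ V0.comap (MulAut.conj l).toMonoidHom ∪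
      V0.comap (MulAut.conj (μ 16 * l)).toMonoidHom := fun x hx => by
    obtain ⟨y, hy, e3⟩ := covT (x := l * x * l⁻¹) (mul_mem (mul_mem m (hU hx)) (inv_mem m))
      (mem_Cz.2 (by rw [← e2, conj_mul, conj_mul, ab x hx]))
    have := pick ok p8 y hy (by
      simp only [eqs_cons, eqs_nil, ev_append, ev_nil, and_true, ← e3, conj_mul, el x hx]; simp)
    rcases Bool.or_eq_true_iff.1 this with h | h
    · exact Or.inl (show l * x * l⁻¹ ∈ V0 from e3 ▸ ev_gen μ h)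
    · have : ev μ y ∈ V0.comap (MulAut.conj (μ 16)).toMonoidHom := ev_mem fun a ha => by
        have := List.contains_iff_mem.1 (List.all_eq_true.1 h a ha)
        have k : ∀ a ∈ [1, 2, 13, 15], ∃ r ∈ [[1], [1, 2], [3], [3, 4]], lettersIn 4 r = true ∧
          LE.contains ([16, a], r ++ [16]) = true := by decide +kernel
        obtain ⟨r, -, h1, h2⟩ := k a this
        have h3 := eqE.get _ _ h2
        rw [ev_cons, ev_append, ev_single, ev_single] at h3
        show μ 16 * μ a * (μ 16)⁻¹ ∈ V0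
        rw [h3, mul_inv_cancel_right]
        exact ev_gen μ h1
      rw [← e3] at this
      refine Or.inr (show μ 16 * l * x * (μ 16 * l)⁻¹ ∈ V0 from ?_)
      convert (show μ 16 * (l * x * l⁻¹) * (μ 16)⁻¹ ∈ V0 from this) using 1
      group
  rcases SubgroupClass.subset_union.1 k with h | h
  · exact ⟨l, lZ, Or.inl lr, eq_of_le_of_card_ge h (by rw [card_comap, cardV, c])⟩
  · refine ⟨_, mul_mem (nZ 16) lZ, Or.inr ?_, eq_of_le_of_card_ge h (by rw [card_comap, cardV, c])⟩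
    calc _ = μ 16 * (l * μ 11 * l⁻¹) * (μ 16)⁻¹ := by group
      _ = _ := by rw [lr, eqE.two 16 11 12 16, mul_inv_cancel_right, r12]

theorem tc0 (hL : CL) : TC L0 Z0 (μ 11) := by
  have fpf : ∀ e ∈ Z0, μ 11 * e = e * μ 11 → e = 1 := fun e he c => by
    obtain ⟨w, hw, rfl⟩ := covZ0 he
    rw [beq_iff_eq.1 (pick ok p12 w hw (by
      simpa only [eqs_cons, eqs_nil, ev_append, ev_single, and_true] using c)), ev_nil]
  refine ⟨fun e he => ?_, fun e he => ?_, fun c hc => ?_, eq_bot_iff.2 fun e he =>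
    fpf e he.1 (mem_Cz.1 he.2.2).symm, r3, mem_centralizer_iff.2 fun l hl => mem_Cz.1 hl.2, nZ 11, fpf,
    ⟨V0, gen_le.2 fun x h1 h2 => mL x (by simp only [List.mem_cons]; omega), fun _ => elV, cardV⟩,
    fun U hU el c => ?_⟩
  · obtain ⟨w, hw, rfl⟩ := covZ0 he
    have k : ∀ w ∈ [[], [5], [6], [6, 5]], w = [] ∨ LE.contains (w ++ w, []) = true := by
      decide +kernel
    rcases k w hw with rfl | h
    · simp [ev]
    · simpa only [ev_append, ev_nil] using eqE.get _ _ h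
  · obtain ⟨w, hw, rfl⟩ := covZ0 he
    obtain ⟨p, k⟩ := allP_spec brs w hw
    simp only [Bool.and_eq_true] at k
    refine ⟨_, mZ k.1.1, ev μ p.2, by simpa only [ev_append] using ok.eq k.1.2, ?_⟩
    rw [← ev_append, ok.eq k.2, ev_append, ev_append]
    group
  · obtain ⟨e, he, l, hl, rfl⟩ := dec6 (mem_Cz.2 (cm hc (ev_single μ 5 ▸ mZ)).symm)
      (cm hc (ev_single μ 6 ▸ mZ)).symm
    exact mul_mem (mem_sup_left he) (mem_sup_right hl)
  · obtain ⟨g, hg, r, rfl⟩ := conjV hU el c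
    have e : Z0.comap (MulAut.conj g).toMonoidHom = Z0 :=
      Subgroup.ext fun x => (mem_normalizer_iff.1 hg x).symm
    have := ts_comap (Z := Z0) (V := V0) (S := S0) (ρ := μ 11) (MulAut.conj g) (by
      rw [MulAut.conj_apply]
      rcases r with r | r <;> rw [r]
      exacts [ts0 hL, ts_inv r3 (ts0 hL)])
    rw [e] at this
    exact ⟨_, this⟩

/-- The facts about the centraliser of an involution of the second class. -/
theorem tc (hL : CL) : TCS := ⟨μ 11, by rw [Λ_eq, Z_eq]; exact tc0 hL⟩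

end Cfsg.Agent.H59.Tc
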