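import Mathlib
import Cfsg.Agent.H59.YaFCk
import Cfsg.Agent.H8.SylowIn

/-!
# Elementary abelian subgroups of the numbered group: the finite check
-/

set_option autoImplicit false
set_option maxRecDepth 100000

namespace Cfsg.Agent.H59.YaFC

open Cfsg.Agent.H89.TG Cfsg.Agent.H11.Ya Subgroup Cfsg.Agent.H8
open scoped Pointwise

/-- The admissible involutions. -/
def I0 : List ℕ := [nat_lit 0, nat_lit 1, nat_lit 2, nat_lit 3, nat_lit 4, nat_lit 5, nat_lit 6, nat_lit 7, nat_lit 8, nat_lit 9, nat_lit 10, nat_lit 11,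
  nat_lit 12, nat_lit 13, nat_lit 14, nat_lit 15, nat_lit 16, nat_lit 17, nat_lit 18, nat_lit 19, nat_lit 20, nat_lit 21, nat_lit 22, nat_lit 23,
  nat_lit 24, nat_lit 25, nat_lit 26, nat_lit 27, nat_lit 28, nat_lit 29, nat_lit 30, nat_lit 31, nat_lit 32, nat_lit 33, nat_lit 34, nat_lit 35,
  nat_lit 36, nat_lit 37, nat_lit 38, nat_lit 39, nat_lit 40, nat_lit 41, nat_lit 42, nat_lit 43, nat_lit 44, nat_lit 45, nat_lit 46, nat_lit 47,
  nat_lit 48, nat_lit 49, nat_lit 50, nat_lit 51, nat_lit 52, nat_lit 53, nat_lit 54, nat_lit 55, nat_lit 56, nat_lit 57, nat_lit 58, nat_lit 59,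
  nat_lit 60, nat_lit 61, nat_lit 62, nat_lit 63, nat_lit 64, nat_lit 65, nat_lit 66, nat_lit 67, nat_lit 68, nat_lit 69, nat_lit 70, nat_lit 71,
  nat_lit 72, nat_lit 73, nat_lit 74, nat_lit 75, nat_lit 76, nat_lit 77, nat_lit 78, nat_lit 79, nat_lit 80, nat_lit 81, nat_lit 82, nat_lit 83,
  nat_lit 84, nat_lit 85, nat_lit 86, nat_lit 87, nat_lit 88, nat_lit 89, nat_lit 90, nat_lit 91, nat_lit 92, nat_lit 93, nat_lit 94, nat_lit 95,
  nat_lit 96, nat_lit 97, nat_lit 98, nat_lit 99, nat_lit 100, nat_lit 101, nat_lit 102, nat_lit 103, nat_lit 104, nat_lit 105, nat_lit 106, nat_lit 107,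
  nat_lit 108, nat_lit 109, nat_lit 110, nat_lit 111, nat_lit 112, nat_lit 113, nat_lit 114, nat_lit 115, nat_lit 116, nat_lit 117, nat_lit 118, nat_lit 119,
  nat_lit 120, nat_lit 121, nat_lit 122, nat_lit 123, nat_lit 124, nat_lit 125, nat_lit 126, nat_lit 127, nat_lit 128, nat_lit 129, nat_lit 130, nat_lit 131,
  nat_lit 132, nat_lit 133, nat_lit 134, nat_lit 135, nat_lit 136, nat_lit 137, nat_lit 138, nat_lit 139, nat_lit 140, nat_lit 141, nat_lit 142, nat_lit 143,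
  nat_lit 144, nat_lit 145, nat_lit 146, nat_lit 147, nat_lit 148, nat_lit 149, nat_lit 150, nat_lit 151, nat_lit 152, nat_lit 153, nat_lit 154, nat_lit 155,
  nat_lit 156, nat_lit 157, nat_lit 158, nat_lit 159, nat_lit 160, nat_lit 161, nat_lit 162, nat_lit 163, nat_lit 164, nat_lit 165, nat_lit 166, nat_lit 167,
  nat_lit 168, nat_lit 169, nat_lit 170, nat_lit 171, nat_lit 172, nat_lit 173, nat_lit 174, nat_lit 175, nat_lit 176, nat_lit 177, nat_lit 178, nat_lit 179,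
  nat_lit 180, nat_lit 181, nat_lit 182, nat_lit 183, nat_lit 184, nat_lit 185, nat_lit 186, nat_lit 187, nat_lit 188, nat_lit 189, nat_lit 190, nat_lit 191,
  nat_lit 192, nat_lit 193, nat_lit 194, nat_lit 195, nat_lit 196, nat_lit 197, nat_lit 198, nat_lit 199, nat_lit 200, nat_lit 201, nat_lit 202, nat_lit 203,
  nat_lit 204, nat_lit 205, nat_lit 206, nat_lit 207, nat_lit 208, nat_lit 209, nat_lit 210, nat_lit 211, nat_lit 212, nat_lit 213, nat_lit 214, nat_lit 215,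
  nat_lit 216, nat_lit 217, nat_lit 218, nat_lit 219, nat_lit 220, nat_lit 221, nat_lit 222, nat_lit 223, nat_lit 224, nat_lit 225, nat_lit 226, nat_lit 227,
  nat_lit 228, nat_lit 229, nat_lit 230, nat_lit 231, nat_lit 232, nat_lit 233, nat_lit 234, nat_lit 235, nat_lit 236, nat_lit 237, nat_lit 238, nat_lit 239,
  nat_lit 240, nat_lit 241, nat_lit 242, nat_lit 243, nat_lit 244, nat_lit 245, nat_lit 246, nat_lit 247, nat_lit 248, nat_lit 249, nat_lit 250, nat_lit 251,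
  nat_lit 252, nat_lit 253, nat_lit 254, nat_lit 255, nat_lit 272, nat_lit 275, nat_lit 284, nat_lit 287, nat_lit 288, nat_lit 291, nat_lit 300, nat_lit 303,
  nat_lit 320, nat_lit 323, nat_lit 332, nat_lit 335, nat_lit 336, nat_lit 339, nat_lit 348, nat_lit 351, nat_lit 352, nat_lit 355, nat_lit 364, nat_lit 367,
  nat_lit 368, nat_lit 371, nat_lit 380, nat_lit 383, nat_lit 384, nat_lit 387, nat_lit 396, nat_lit 399, nat_lit 400, nat_lit 403, nat_lit 412, nat_lit 415,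
  nat_lit 416, nat_lit 419, nat_lit 428, nat_lit 431, nat_lit 432, nat_lit 435, nat_lit 444, nat_lit 447, nat_lit 464, nat_lit 467, nat_lit 476, nat_lit 479,
  nat_lit 480, nat_lit 483, nat_lit 492, nat_lit 495, nat_lit 513, nat_lit 514, nat_lit 525, nat_lit 526, nat_lit 561, nat_lit 562, nat_lit 573, nat_lit 574,
  nat_lit 576, nat_lit 577, nat_lit 578, nat_lit 579, nat_lit 588, nat_lit 589, nat_lit 590, nat_lit 591, nat_lit 624, nat_lit 625, nat_lit 626, nat_lit 627,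
  nat_lit 636, nat_lit 637, nat_lit 638, nat_lit 639, nat_lit 640, nat_lit 641, nat_lit 642, nat_lit 643, nat_lit 652, nat_lit 653, nat_lit 654, nat_lit 655,
  nat_lit 688, nat_lit 689, nat_lit 690, nat_lit 691, nat_lit 700, nat_lit 701, nat_lit 702, nat_lit 703, nat_lit 705, nat_lit 706, nat_lit 717, nat_lit 718,
  nat_lit 753, nat_lit 754, nat_lit 765, nat_lit 766, nat_lit 772, nat_lit 775, nat_lit 776, nat_lit 779, nat_lit 820, nat_lit 823, nat_lit 824, nat_lit 827,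
  nat_lit 832, nat_lit 835, nat_lit 836, nat_lit 839, nat_lit 840, nat_lit 843, nat_lit 844, nat_lit 847, nat_lit 880, nat_lit 883, nat_lit 884, nat_lit 887,
  nat_lit 888, nat_lit 891, nat_lit 892, nat_lit 895, nat_lit 896, nat_lit 899, nat_lit 900, nat_lit 903, nat_lit 904, nat_lit 907, nat_lit 908, nat_lit 911,
  nat_lit 944, nat_lit 947, nat_lit 948, nat_lit 951, nat_lit 952, nat_lit 955, nat_lit 956, nat_lit 959, nat_lit 964, nat_lit 967, nat_lit 968, nat_lit 971,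
  nat_lit 1012, nat_lit 1015, nat_lit 1016, nat_lit 1019, nat_lit 1025, nat_lit 1026, nat_lit 1037, nat_lit 1038, nat_lit 1040, nat_lit 1041, nat_lit 1042, nat_lit 1043,
  nat_lit 1052, nat_lit 1053, nat_lit 1054, nat_lit 1055, nat_lit 1056, nat_lit 1057, nat_lit 1058, nat_lit 1059, nat_lit 1068, nat_lit 1069, nat_lit 1070, nat_lit 1071,
  nat_lit 1073, nat_lit 1074, nat_lit 1085, nat_lit 1086, nat_lit 1217, nat_lit 1218, nat_lit 1229, nat_lit 1230, nat_lit 1232, nat_lit 1233, nat_lit 1234, nat_lit 1235,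
  nat_lit 1244, nat_lit 1245, nat_lit 1246, nat_lit 1247, nat_lit 1248, nat_lit 1249, nat_lit 1250, nat_lit 1251, nat_lit 1260, nat_lit 1261, nat_lit 1262, nat_lit 1263,
  nat_lit 1265, nat_lit 1266, nat_lit 1277, nat_lit 1278, nat_lit 1284, nat_lit 1287, nat_lit 1288, nat_lit 1291, nat_lit 1296, nat_lit 1299, nat_lit 1300, nat_lit 1303,
  nat_lit 1304, nat_lit 1307, nat_lit 1308, nat_lit 1311, nat_lit 1312, nat_lit 1315, nat_lit 1316, nat_lit 1319, nat_lit 1320, nat_lit 1323, nat_lit 1324, nat_lit 1327,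
  nat_lit 1332, nat_lit 1335, nat_lit 1336, nat_lit 1339, nat_lit 1476, nat_lit 1479, nat_lit 1480, nat_lit 1483, nat_lit 1488, nat_lit 1491, nat_lit 1492, nat_lit 1495,
  nat_lit 1496, nat_lit 1499, nat_lit 1500, nat_lit 1503, nat_lit 1504, nat_lit 1507, nat_lit 1508, nat_lit 1511, nat_lit 1512, nat_lit 1515, nat_lit 1516, nat_lit 1519,
  nat_lit 1524, nat_lit 1527, nat_lit 1528, nat_lit 1531, nat_lit 1537, nat_lit 1538, nat_lit 1540, nat_lit 1541, nat_lit 1542, nat_lit 1543, nat_lit 1544, nat_lit 1545,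
  nat_lit 1546, nat_lit 1547, nat_lit 1549, nat_lit 1550, nat_lit 1585, nat_lit 1586, nat_lit 1588, nat_lit 1589, nat_lit 1590, nat_lit 1591, nat_lit 1592, nat_lit 1593,
  nat_lit 1594, nat_lit 1595, nat_lit 1597, nat_lit 1598, nat_lit 1729, nat_lit 1730, nat_lit 1732, nat_lit 1733, nat_lit 1734, nat_lit 1735, nat_lit 1736, nat_lit 1737,
  nat_lit 1738, nat_lit 1739, nat_lit 1741, nat_lit 1742, nat_lit 1777, nat_lit 1778, nat_lit 1780, nat_lit 1781, nat_lit 1782, nat_lit 1783, nat_lit 1784, nat_lit 1785,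
  nat_lit 1786, nat_lit 1787, nat_lit 1789, nat_lit 1790, nat_lit 2048, nat_lit 2049, nat_lit 2050, nat_lit 2051, nat_lit 2052, nat_lit 2053, nat_lit 2054, nat_lit 2055,
  nat_lit 2056, nat_lit 2057, nat_lit 2058, nat_lit 2059, nat_lit 2060, nat_lit 2061, nat_lit 2062, nat_lit 2063, nat_lit 2128, nat_lit 2129, nat_lit 2130, nat_lit 2131,
  nat_lit 2132, nat_lit 2133, nat_lit 2134, nat_lit 2135, nat_lit 2136, nat_lit 2137, nat_lit 2138, nat_lit 2139, nat_lit 2140, nat_lit 2141, nat_lit 2142, nat_lit 2143,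
  nat_lit 2208, nat_lit 2209, nat_lit 2210, nat_lit 2211, nat_lit 2212, nat_lit 2213, nat_lit 2214, nat_lit 2215, nat_lit 2216, nat_lit 2217, nat_lit 2218, nat_lit 2219,
  nat_lit 2220, nat_lit 2221, nat_lit 2222, nat_lit 2223, nat_lit 2288, nat_lit 2289, nat_lit 2290, nat_lit 2291, nat_lit 2292, nat_lit 2293, nat_lit 2294, nat_lit 2295,
  nat_lit 2296, nat_lit 2297, nat_lit 2298, nat_lit 2299, nat_lit 2300, nat_lit 2301, nat_lit 2302, nat_lit 2303, nat_lit 2304, nat_lit 2307, nat_lit 2316, nat_lit 2319,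
  nat_lit 2384, nat_lit 2387, nat_lit 2396, nat_lit 2399, nat_lit 2464, nat_lit 2467, nat_lit 2476, nat_lit 2479, nat_lit 2544, nat_lit 2547, nat_lit 2556, nat_lit 2559,
  nat_lit 3584, nat_lit 3585, nat_lit 3586, nat_lit 3587, nat_lit 3588, nat_lit 3589, nat_lit 3590, nat_lit 3591, nat_lit 3592, nat_lit 3593, nat_lit 3594, nat_lit 3595,
  nat_lit 3596, nat_lit 3597, nat_lit 3598, nat_lit 3599, nat_lit 3680, nat_lit 3681, nat_lit 3682, nat_lit 3683, nat_lit 3684, nat_lit 3685, nat_lit 3686, nat_lit 3687,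
  nat_lit 3688, nat_lit 3689, nat_lit 3690, nat_lit 3691, nat_lit 3692, nat_lit 3693, nat_lit 3694, nat_lit 3695, nat_lit 3728, nat_lit 3729, nat_lit 3730, nat_lit 3731,
  nat_lit 3732, nat_lit 3733, nat_lit 3734, nat_lit 3735, nat_lit 3736, nat_lit 3737, nat_lit 3738, nat_lit 3739, nat_lit 3740, nat_lit 3741, nat_lit 3742, nat_lit 3743,
  nat_lit 3824, nat_lit 3825, nat_lit 3826, nat_lit 3827, nat_lit 3828, nat_lit 3829, nat_lit 3830, nat_lit 3831, nat_lit 3832, nat_lit 3833, nat_lit 3834, nat_lit 3835,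
  nat_lit 3836, nat_lit 3837, nat_lit 3838, nat_lit 3839, nat_lit 3840, nat_lit 3843, nat_lit 3852, nat_lit 3855, nat_lit 3936, nat_lit 3939, nat_lit 3948, nat_lit 3951,
  nat_lit 3984, nat_lit 3987, nat_lit 3996, nat_lit 3999, nat_lit 4080, nat_lit 4083, nat_lit 4092, nat_lit 4095, nat_lit 4096, nat_lit 4101, nat_lit 4106, nat_lit 4111,
  nat_lit 4112, nat_lit 4117, nat_lit 4122, nat_lit 4127, nat_lit 4128, nat_lit 4133, nat_lit 4138, nat_lit 4143, nat_lit 4144, nat_lit 4149, nat_lit 4154, nat_lit 4159,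
  nat_lit 4160, nat_lit 4165, nat_lit 4170, nat_lit 4175, nat_lit 4176, nat_lit 4181, nat_lit 4186, nat_lit 4191, nat_lit 4192, nat_lit 4197, nat_lit 4202, nat_lit 4207,
  nat_lit 4208, nat_lit 4213, nat_lit 4218, nat_lit 4223, nat_lit 4224, nat_lit 4229, nat_lit 4234, nat_lit 4239, nat_lit 4240, nat_lit 4245, nat_lit 4250, nat_lit 4255,
  nat_lit 4256, nat_lit 4261, nat_lit 4266, nat_lit 4271, nat_lit 4272, nat_lit 4277, nat_lit 4282, nat_lit 4287, nat_lit 4288, nat_lit 4293, nat_lit 4298, nat_lit 4303,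
  nat_lit 4304, nat_lit 4309, nat_lit 4314, nat_lit 4319, nat_lit 4320, nat_lit 4325, nat_lit 4330, nat_lit 4335, nat_lit 4336, nat_lit 4341, nat_lit 4346, nat_lit 4351,
  nat_lit 4352, nat_lit 4358, nat_lit 4361, nat_lit 4367, nat_lit 4368, nat_lit 4374, nat_lit 4377, nat_lit 4383, nat_lit 4384, nat_lit 4390, nat_lit 4393, nat_lit 4399,
  nat_lit 4400, nat_lit 4406, nat_lit 4409, nat_lit 4415, nat_lit 4416, nat_lit 4422, nat_lit 4425, nat_lit 4431, nat_lit 4432, nat_lit 4438, nat_lit 4441, nat_lit 4447,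
  nat_lit 4448, nat_lit 4454, nat_lit 4457, nat_lit 4463, nat_lit 4464, nat_lit 4470, nat_lit 4473, nat_lit 4479, nat_lit 4480, nat_lit 4486, nat_lit 4489, nat_lit 4495,
  nat_lit 4496, nat_lit 4502, nat_lit 4505, nat_lit 4511, nat_lit 4512, nat_lit 4518, nat_lit 4521, nat_lit 4527, nat_lit 4528, nat_lit 4534, nat_lit 4537, nat_lit 4543,
  nat_lit 4544, nat_lit 4550, nat_lit 4553, nat_lit 4559, nat_lit 4560, nat_lit 4566, nat_lit 4569, nat_lit 4575, nat_lit 4576, nat_lit 4582, nat_lit 4585, nat_lit 4591,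
  nat_lit 4592, nat_lit 4598, nat_lit 4601, nat_lit 4607, nat_lit 5632, nat_lit 5637, nat_lit 5642, nat_lit 5647, nat_lit 5680, nat_lit 5685, nat_lit 5690, nat_lit 5695,
  nat_lit 5824, nat_lit 5829, nat_lit 5834, nat_lit 5839, nat_lit 5872, nat_lit 5877, nat_lit 5882, nat_lit 5887, nat_lit 5888, nat_lit 5894, nat_lit 5897, nat_lit 5903,
  nat_lit 5936, nat_lit 5942, nat_lit 5945, nat_lit 5951, nat_lit 6080, nat_lit 6086, nat_lit 6089, nat_lit 6095, nat_lit 6128, nat_lit 6134, nat_lit 6137, nat_lit 6143,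
  nat_lit 6144, nat_lit 6149, nat_lit 6154, nat_lit 6159, nat_lit 6224, nat_lit 6229, nat_lit 6234, nat_lit 6239, nat_lit 6304, nat_lit 6309, nat_lit 6314, nat_lit 6319,
  nat_lit 6384, nat_lit 6389, nat_lit 6394, nat_lit 6399, nat_lit 6400, nat_lit 6406, nat_lit 6409, nat_lit 6415, nat_lit 6480, nat_lit 6486, nat_lit 6489, nat_lit 6495,
  nat_lit 6560, nat_lit 6566, nat_lit 6569, nat_lit 6575, nat_lit 6640, nat_lit 6646, nat_lit 6649, nat_lit 6655, nat_lit 7680, nat_lit 7685, nat_lit 7690, nat_lit 7695,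
  nat_lit 7776, nat_lit 7781, nat_lit 7786, nat_lit 7791, nat_lit 7824, nat_lit 7829, nat_lit 7834, nat_lit 7839, nat_lit 7920, nat_lit 7925, nat_lit 7930, nat_lit 7935,
  nat_lit 7936, nat_lit 7942, nat_lit 7945, nat_lit 7951, nat_lit 8032, nat_lit 8038, nat_lit 8041, nat_lit 8047, nat_lit 8080, nat_lit 8086, nat_lit 8089, nat_lit 8095,
  nat_lit 8176, nat_lit 8182, nat_lit 8185, nat_lit 8191, nat_lit 8192, nat_lit 8209, nat_lit 8226, nat_lit 8243, nat_lit 8260, nat_lit 8277, nat_lit 8294, nat_lit 8311,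
  nat_lit 8328, nat_lit 8345, nat_lit 8362, nat_lit 8379, nat_lit 8396, nat_lit 8413, nat_lit 8430, nat_lit 8447, nat_lit 8960, nat_lit 8978, nat_lit 8993, nat_lit 9011,
  nat_lit 9028, nat_lit 9046, nat_lit 9061, nat_lit 9079, nat_lit 9096, nat_lit 9114, nat_lit 9129, nat_lit 9147, nat_lit 9164, nat_lit 9182, nat_lit 9197, nat_lit 9215,
  nat_lit 9216, nat_lit 9233, nat_lit 9250, nat_lit 9267, nat_lit 9288, nat_lit 9305, nat_lit 9322, nat_lit 9339, nat_lit 9348, nat_lit 9365, nat_lit 9382, nat_lit 9399,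
  nat_lit 9420, nat_lit 9437, nat_lit 9454, nat_lit 9471, nat_lit 9984, nat_lit 10002, nat_lit 10017, nat_lit 10035, nat_lit 10056, nat_lit 10074, nat_lit 10089, nat_lit 10107,
  nat_lit 10116, nat_lit 10134, nat_lit 10149, nat_lit 10167, nat_lit 10188, nat_lit 10206, nat_lit 10221, nat_lit 10239, nat_lit 14336, nat_lit 14356, nat_lit 14376, nat_lit 14396,
  nat_lit 14401, nat_lit 14421, nat_lit 14441, nat_lit 14461, nat_lit 14466, nat_lit 14486, nat_lit 14506, nat_lit 14526, nat_lit 14531, nat_lit 14551, nat_lit 14571, nat_lit 14591,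
  nat_lit 14848, nat_lit 14872, nat_lit 14884, nat_lit 14908, nat_lit 14913, nat_lit 14937, nat_lit 14949, nat_lit 14973, nat_lit 14978, nat_lit 15002, nat_lit 15014, nat_lit 15038,
  nat_lit 15043, nat_lit 15067, nat_lit 15079, nat_lit 15103, nat_lit 15616, nat_lit 15636, nat_lit 15656, nat_lit 15676, nat_lit 15682, nat_lit 15702, nat_lit 15722, nat_lit 15742,
  nat_lit 15745, nat_lit 15765, nat_lit 15785, nat_lit 15805, nat_lit 15811, nat_lit 15831, nat_lit 15851, nat_lit 15871, nat_lit 16128, nat_lit 16152, nat_lit 16164, nat_lit 16188,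
  nat_lit 16194, nat_lit 16218, nat_lit 16230, nat_lit 16254, nat_lit 16257, nat_lit 16281, nat_lit 16293, nat_lit 16317, nat_lit 16323, nat_lit 16347, nat_lit 16359, nat_lit 16383]

/-- The conjugating elements. -/
def J0 : List ℕ := [nat_lit 272, nat_lit 16659, nat_lit 67125532, nat_lit 67191071, nat_lit 8388896, nat_lit 8405283, nat_lit 79708460, nat_lit 79839535,
  nat_lit 33554752, nat_lit 33571139, nat_lit 100680012, nat_lit 100745551, nat_lit 336, nat_lit 16723, nat_lit 67125596, nat_lit 67191135,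
  nat_lit 8388960, nat_lit 8405347, nat_lit 79708524, nat_lit 79839599, nat_lit 368, nat_lit 16755, nat_lit 67125628, nat_lit 67191167,
  nat_lit 50332032, nat_lit 50348419, nat_lit 121651596, nat_lit 121782671, nat_lit 50332048, nat_lit 50348435, nat_lit 121651612, nat_lit 121782687,
  nat_lit 58720672, nat_lit 58737059, nat_lit 125845932, nat_lit 125911471, nat_lit 16777648, nat_lit 16794035, nat_lit 88097212, nat_lit 88228287,
  nat_lit 33554896, nat_lit 33571283, nat_lit 100680156, nat_lit 100745695, nat_lit 41943520, nat_lit 41959907, nat_lit 113263084, nat_lit 113394159,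
  nat_lit 513, nat_lit 4194818, nat_lit 66061, nat_lit 4325902, nat_lit 262705, nat_lit 4457010, nat_lit 328253, nat_lit 4588094,
  nat_lit 234881600, nat_lit 577, nat_lit 4194882, nat_lit 579, nat_lit 235143756, nat_lit 66125, nat_lit 4325966, nat_lit 66127,
  nat_lit 234947184, nat_lit 262769, nat_lit 4457074, nat_lit 262771, nat_lit 235209340, nat_lit 235209341, nat_lit 239403646, nat_lit 328319,
  nat_lit 260047488, nat_lit 16777857, nat_lit 20972162, nat_lit 16777859, nat_lit 260309644, nat_lit 260309645, nat_lit 256115342, nat_lit 16908943,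
  nat_lit 260178608, nat_lit 25428657, nat_lit 21234354, nat_lit 25428659, nat_lit 260440764, nat_lit 260440765, nat_lit 264635070, nat_lit 25494207,
  nat_lit 234881729, nat_lit 247464642, nat_lit 235143885, nat_lit 239338190, nat_lit 234947313, nat_lit 247595762, nat_lit 235209469, nat_lit 239403774,
  nat_lit 67109636, nat_lit 67175175, nat_lit 71303944, nat_lit 71435019, nat_lit 67371828, nat_lit 67437367, nat_lit 71566136, nat_lit 71697211,
  nat_lit 167772992, nat_lit 168035139, nat_lit 67109700, nat_lit 67175239, nat_lit 71304008, nat_lit 71435083, nat_lit 67109708, nat_lit 67175247,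
  nat_lit 167838576, nat_lit 168100723, nat_lit 167838580, nat_lit 168100727, nat_lit 172032888, nat_lit 172295035, nat_lit 67371900, nat_lit 67437439,
  nat_lit 192938880, nat_lit 193201027, nat_lit 192938884, nat_lit 193201031, nat_lit 184550280, nat_lit 184812427, nat_lit 88081292, nat_lit 88212367,
  nat_lit 193070000, nat_lit 193332147, nat_lit 193070004, nat_lit 193332151, nat_lit 197264312, nat_lit 197526459, nat_lit 92537788, nat_lit 92603327,
  nat_lit 167773124, nat_lit 168035271, nat_lit 171967432, nat_lit 172229579, nat_lit 167838708, nat_lit 168100855, nat_lit 172033016, nat_lit 172295163,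
  nat_lit 33555457, nat_lit 37749762, nat_lit 33621005, nat_lit 37880846, nat_lit 201327632, nat_lit 33555473, nat_lit 37749778, nat_lit 33555475,
  nat_lit 201589788, nat_lit 201589789, nat_lit 205784094, nat_lit 33621023, nat_lit 226493472, nat_lit 41944097, nat_lit 46138402, nat_lit 41944099,
  nat_lit 226755628, nat_lit 226755629, nat_lit 214172718, nat_lit 42075183, nat_lit 201327665, nat_lit 222299186, nat_lit 201589821, nat_lit 205784126,
  nat_lit 33817793, nat_lit 38012098, nat_lit 33883341, nat_lit 38143182, nat_lit 201393360, nat_lit 33817809, nat_lit 38012114, nat_lit 33817811,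
  nat_lit 201655516, nat_lit 201655517, nat_lit 205849822, nat_lit 33883359, nat_lit 226624736, nat_lit 58983649, nat_lit 46400738, nat_lit 58983651,
  nat_lit 226886892, nat_lit 226886893, nat_lit 214238446, nat_lit 59049199, nat_lit 201393393, nat_lit 222430450, nat_lit 201655549, nat_lit 205849854,
  nat_lit 100664580, nat_lit 100730119, nat_lit 104858888, nat_lit 104989963, nat_lit 134219024, nat_lit 134481171, nat_lit 134219028, nat_lit 134481175,
  nat_lit 138413336, nat_lit 138675483, nat_lit 100664604, nat_lit 100730143, nat_lit 159384864, nat_lit 159647011, nat_lit 159384868, nat_lit 159647015,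
  nat_lit 142607656, nat_lit 142869803, nat_lit 113247532, nat_lit 113378607, nat_lit 134219060, nat_lit 134481207, nat_lit 138413368, nat_lit 138675515,
  nat_lit 100926916, nat_lit 100992455, nat_lit 105121224, nat_lit 105252299, nat_lit 134284752, nat_lit 134546899, nat_lit 134284756, nat_lit 134546903,
  nat_lit 138479064, nat_lit 138741211, nat_lit 100926940, nat_lit 100992479, nat_lit 159516128, nat_lit 159778275, nat_lit 159516132, nat_lit 159778279,
  nat_lit 142673384, nat_lit 142935531, nat_lit 126092780, nat_lit 126158319, nat_lit 134284788, nat_lit 134546935, nat_lit 138479096, nat_lit 138741243,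
  nat_lit 134219265, nat_lit 155190786, nat_lit 201328132, nat_lit 134219269, nat_lit 155190790, nat_lit 134219271, nat_lit 218105352, nat_lit 142607881,
  nat_lit 138413578, nat_lit 138413579, nat_lit 201328141, nat_lit 222299662, nat_lit 134235697, nat_lit 155207218, nat_lit 201344564, nat_lit 134235701,
  nat_lit 155207222, nat_lit 134235703, nat_lit 218121784, nat_lit 142624313, nat_lit 138430010, nat_lit 138430011, nat_lit 201344573, nat_lit 222316094,
  nat_lit 167790273, nat_lit 180373186, nat_lit 234899140, nat_lit 167790277, nat_lit 180373190, nat_lit 167790279, nat_lit 243287752, nat_lit 176178889,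
  nat_lit 171984586, nat_lit 171984587, nat_lit 234899149, nat_lit 247482062, nat_lit 167855857, nat_lit 180504306, nat_lit 234964724, nat_lit 167855861,
  nat_lit 180504310, nat_lit 167855863, nat_lit 243418872, nat_lit 176244473, nat_lit 172050170, nat_lit 172050171, nat_lit 234964733, nat_lit 247613182,
  nat_lit 2048, nat_lit 2049, nat_lit 4196354, nat_lit 2051, nat_lit 67110916, nat_lit 2053, nat_lit 2054, nat_lit 2055,
  nat_lit 71305224, nat_lit 4196361, nat_lit 4196362, nat_lit 4196363, nat_lit 67110924, nat_lit 67110925, nat_lit 71305230, nat_lit 2063,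
  nat_lit 264272, nat_lit 264273, nat_lit 4458578, nat_lit 264275, nat_lit 67373140, nat_lit 264277, nat_lit 264278, nat_lit 264279,
  nat_lit 71567448, nat_lit 4458585, nat_lit 4458586, nat_lit 4458587, nat_lit 67373148, nat_lit 67373149, nat_lit 71567454, nat_lit 264287,
  nat_lit 25430176, nat_lit 25430177, nat_lit 29624482, nat_lit 25430179, nat_lit 92539044, nat_lit 25430181, nat_lit 25430182, nat_lit 25430183,
  nat_lit 96733352, nat_lit 29624489, nat_lit 29624490, nat_lit 29624491, nat_lit 92539052, nat_lit 92539053, nat_lit 96733358, nat_lit 25430191,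
  nat_lit 25954544, nat_lit 25954545, nat_lit 30148850, nat_lit 25954547, nat_lit 93063412, nat_lit 25954549, nat_lit 25954550, nat_lit 25954551,
  nat_lit 97257720, nat_lit 30148857, nat_lit 30148858, nat_lit 30148859, nat_lit 93063420, nat_lit 93063421, nat_lit 97257726, nat_lit 25954559,
  nat_lit 2304, nat_lit 18691, nat_lit 67127564, nat_lit 67193103, nat_lit 264528, nat_lit 280915, nat_lit 67389788, nat_lit 67455327,
  nat_lit 25430432, nat_lit 25446819, nat_lit 92555692, nat_lit 92621231, nat_lit 25954800, nat_lit 25971187, nat_lit 93080060, nat_lit 93145599,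
  nat_lit 8392192, nat_lit 8392193, nat_lit 12586498, nat_lit 8392195, nat_lit 79695364, nat_lit 12586501, nat_lit 12586502, nat_lit 12586503,
  nat_lit 75501064, nat_lit 8392201, nat_lit 8392202, nat_lit 8392203, nat_lit 79695372, nat_lit 75501069, nat_lit 79695374, nat_lit 8392207,
  nat_lit 8654432, nat_lit 8654433, nat_lit 12848738, nat_lit 8654435, nat_lit 79957604, nat_lit 12848741, nat_lit 12848742, nat_lit 12848743,
  nat_lit 75763304, nat_lit 8654441, nat_lit 8654442, nat_lit 8654443, nat_lit 75763308, nat_lit 75763309, nat_lit 79957614, nat_lit 8654447,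
  nat_lit 8916624, nat_lit 8916625, nat_lit 21237394, nat_lit 8916627, nat_lit 80219796, nat_lit 21237397, nat_lit 21237398, nat_lit 21237399,
  nat_lit 76025496, nat_lit 8916633, nat_lit 8916634, nat_lit 8916635, nat_lit 80219804, nat_lit 76025501, nat_lit 80219806, nat_lit 8916639,
  nat_lit 17567472, nat_lit 17567473, nat_lit 13373170, nat_lit 17567475, nat_lit 88870644, nat_lit 13373173, nat_lit 13373174, nat_lit 13373175,
  nat_lit 84676344, nat_lit 17567481, nat_lit 17567482, nat_lit 17567483, nat_lit 88870652, nat_lit 84676349, nat_lit 88870654, nat_lit 17567487,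
  nat_lit 8392448, nat_lit 8408835, nat_lit 79712012, nat_lit 79843087, nat_lit 8654688, nat_lit 8671075, nat_lit 75779948, nat_lit 75845487,
  nat_lit 8916880, nat_lit 8933267, nat_lit 80236444, nat_lit 80367519, nat_lit 17567728, nat_lit 17584115, nat_lit 88887292, nat_lit 89018367,
  nat_lit 134221824, nat_lit 134483973, nat_lit 138678282, nat_lit 139202575, nat_lit 134221840, nat_lit 134483989, nat_lit 138678298, nat_lit 139202591,
  nat_lit 159387680, nat_lit 159649829, nat_lit 163844138, nat_lit 164368431, nat_lit 134221872, nat_lit 134484021, nat_lit 138678330, nat_lit 139202623,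
  nat_lit 167776320, nat_lit 168038469, nat_lit 172232778, nat_lit 172757071, nat_lit 134221904, nat_lit 134484053, nat_lit 138678362, nat_lit 139202655,
  nat_lit 134221920, nat_lit 134484069, nat_lit 138678378, nat_lit 139202671, nat_lit 134221936, nat_lit 134484085, nat_lit 138678394, nat_lit 139202687,
  nat_lit 192942208, nat_lit 193204357, nat_lit 197398666, nat_lit 197922959, nat_lit 159387792, nat_lit 159649941, nat_lit 163844250, nat_lit 164368543,
  nat_lit 159387808, nat_lit 159649957, nat_lit 163844266, nat_lit 164368559, nat_lit 159387824, nat_lit 159649973, nat_lit 163844282, nat_lit 164368575,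
  nat_lit 167776448, nat_lit 168038597, nat_lit 172232906, nat_lit 172757199, nat_lit 167776464, nat_lit 168038613, nat_lit 172232922, nat_lit 172757215,
  nat_lit 192942304, nat_lit 193204453, nat_lit 197398762, nat_lit 197923055, nat_lit 134222064, nat_lit 134484213, nat_lit 138678522, nat_lit 139202815,
  nat_lit 155193600, nat_lit 151523590, nat_lit 155717897, nat_lit 151785743, nat_lit 155193616, nat_lit 151523606, nat_lit 155717913, nat_lit 151785759,
  nat_lit 142610720, nat_lit 147067174, nat_lit 142872873, nat_lit 147591471, nat_lit 155193648, nat_lit 151523638, nat_lit 155717945, nat_lit 151785791,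
  nat_lit 180359488, nat_lit 176689478, nat_lit 180883785, nat_lit 176951631, nat_lit 142610768, nat_lit 147067222, nat_lit 142872921, nat_lit 147591519,
  nat_lit 142610784, nat_lit 147067238, nat_lit 142872937, nat_lit 147591535, nat_lit 142610800, nat_lit 147067254, nat_lit 142872953, nat_lit 147591551,
  nat_lit 188748160, nat_lit 185078150, nat_lit 189272457, nat_lit 185340303, nat_lit 155193744, nat_lit 151523734, nat_lit 155718041, nat_lit 151785887,
  nat_lit 155193760, nat_lit 151523750, nat_lit 155718057, nat_lit 151785903, nat_lit 155193776, nat_lit 151523766, nat_lit 155718073, nat_lit 151785919,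
  nat_lit 180359616, nat_lit 176689606, nat_lit 180883913, nat_lit 176951759, nat_lit 188748240, nat_lit 185078230, nat_lit 189272537, nat_lit 185340383,
  nat_lit 180359648, nat_lit 176689638, nat_lit 180883945, nat_lit 176951791, nat_lit 155193840, nat_lit 151523830, nat_lit 155718137, nat_lit 151785983,
  nat_lit 134223360, nat_lit 134485509, nat_lit 138679818, nat_lit 139204111, nat_lit 134239792, nat_lit 134501941, nat_lit 138696250, nat_lit 139220543,
  nat_lit 167794368, nat_lit 168056517, nat_lit 172250826, nat_lit 172775119, nat_lit 167859952, nat_lit 168122101, nat_lit 172316410, nat_lit 172840703,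
  nat_lit 155195136, nat_lit 151525126, nat_lit 155719433, nat_lit 151787279, nat_lit 155211568, nat_lit 151541558, nat_lit 155735865, nat_lit 151803711,
  nat_lit 180377536, nat_lit 176707526, nat_lit 180901833, nat_lit 176969679, nat_lit 180508656, nat_lit 176838646, nat_lit 181032953, nat_lit 177100799,
  nat_lit 6144, nat_lit 22533, nat_lit 4216842, nat_lit 4249615, nat_lit 134240336, nat_lit 134502485, nat_lit 138696794, nat_lit 139221087,
  nat_lit 159406240, nat_lit 159668389, nat_lit 163862698, nat_lit 164386991, nat_lit 159439088, nat_lit 159701237, nat_lit 163895546, nat_lit 164419839,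
  nat_lit 6400, nat_lit 4217094, nat_lit 22793, nat_lit 4249871, nat_lit 155212112, nat_lit 4479318, nat_lit 155736409, nat_lit 4512095,
  nat_lit 142629280, nat_lit 147085734, nat_lit 142891433, nat_lit 147610031, nat_lit 146856432, nat_lit 143186422, nat_lit 147380729, nat_lit 143448575,
  nat_lit 8396288, nat_lit 8412677, nat_lit 12606986, nat_lit 12639759, nat_lit 159407712, nat_lit 159669861, nat_lit 163864170, nat_lit 164388463,
  nat_lit 134241936, nat_lit 134504085, nat_lit 138698394, nat_lit 139222687, nat_lit 159440624, nat_lit 159702773, nat_lit 163897082, nat_lit 164421375,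
  nat_lit 8396544, nat_lit 12607238, nat_lit 8412937, nat_lit 12640015, nat_lit 142630752, nat_lit 147087206, nat_lit 142892905, nat_lit 147611503,
  nat_lit 155213712, nat_lit 151543702, nat_lit 155738009, nat_lit 151805855, nat_lit 146857968, nat_lit 143187958, nat_lit 147382265, nat_lit 143450111,
  nat_lit 8192, nat_lit 24593, nat_lit 12607522, nat_lit 57395, nat_lit 100687940, nat_lit 100753493, nat_lit 12673126, nat_lit 12705911,
  nat_lit 117465224, nat_lit 117530777, nat_lit 12738730, nat_lit 188603, nat_lit 100720844, nat_lit 100786397, nat_lit 100851950, nat_lit 100917503,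
  nat_lit 8960, nat_lit 134243090, nat_lit 25377, nat_lit 134505267, nat_lit 74564, nat_lit 135291734, nat_lit 90981, nat_lit 135553911,
  nat_lit 104883080, nat_lit 104948634, nat_lit 105014185, nat_lit 105079739, nat_lit 104915916, nat_lit 260236254, nat_lit 105047021, nat_lit 261284863,
  nat_lit 4203520, nat_lit 8414225, nat_lit 4219938, nat_lit 4252723, nat_lit 234906696, nat_lit 234972249, nat_lit 4285546, nat_lit 4318331,
  nat_lit 100689028, nat_lit 100754581, nat_lit 4351142, nat_lit 4383927, nat_lit 235168972, nat_lit 235234525, nat_lit 4416750, nat_lit 4449535,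
  nat_lit 4204288, nat_lit 4220690, nat_lit 8415009, nat_lit 4253491, nat_lit 104884040, nat_lit 104949594, nat_lit 105015145, nat_lit 105080699,
  nat_lit 121661316, nat_lit 4351894, nat_lit 121792421, nat_lit 4384695, nat_lit 104916940, nat_lit 4417502, nat_lit 105048045, nat_lit 4450303,
  nat_lit 33568768, nat_lit 67139604, nat_lit 75528232, nat_lit 67172412, nat_lit 33585217, nat_lit 67205205, nat_lit 75593833, nat_lit 67238013,
  nat_lit 54556802, nat_lit 67270806, nat_lit 75659434, nat_lit 67303614, nat_lit 33618115, nat_lit 67336407, nat_lit 75725035, nat_lit 67369215,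
  nat_lit 67123712, nat_lit 201357848, nat_lit 67140132, nat_lit 201620028, nat_lit 67189313, nat_lit 202406489, nat_lit 67205733, nat_lit 202668669,
  nat_lit 37780098, nat_lit 193100442, nat_lit 67271334, nat_lit 67304126, nat_lit 37812931, nat_lit 193133275, nat_lit 67336935, nat_lit 67369727,
  nat_lit 33570048, nat_lit 79723796, nat_lit 71335208, nat_lit 71367996, nat_lit 167804226, nat_lit 167869782, nat_lit 71400810, nat_lit 206863742,
  nat_lit 33586561, nat_lit 79854997, nat_lit 71466409, nat_lit 71499197, nat_lit 168066499, nat_lit 168132055, nat_lit 71532011, nat_lit 208961023,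
  nat_lit 37764864, nat_lit 71335704, nat_lit 79724324, nat_lit 71368508, nat_lit 37781314, nat_lit 71401306, nat_lit 79789926, nat_lit 71434110,
  nat_lit 50364289, nat_lit 71466905, nat_lit 79855525, nat_lit 71499709, nat_lit 37814211, nat_lit 71532507, nat_lit 79921127, nat_lit 71565311]

/-- The representatives. -/
def reps : List ℕ := [nat_lit 272, nat_lit 336, nat_lit 368, nat_lit 513, nat_lit 577, nat_lit 579, nat_lit 2048, nat_lit 2049, nat_lit 2051, nat_lit 2053, nat_lit 2054, nat_lit 2055, nat_lit 2063, nat_lit 2304, nat_lit 6144, nat_lit 6400, nat_lit 8192, nat_lit 8960]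

/-- The scripts. -/
def tb3 : List (ℕ × Tr) := [
  (nat_lit 272, (.cm (nat_lit 272) (.pr (nat_lit 272) (.nb [nat_lit 3, nat_lit 12, nat_lit 16, nat_lit 32, nat_lit 64, nat_lit 128] (.sp (nat_lit 3) [nat_lit 544] (.nb [nat_lit 1, nat_lit 2, nat_lit 12, nat_lit 16, nat_lit 32, nat_lit 64, nat_lit 128] .lb)
    (.sp (nat_lit 12) [nat_lit 544] (.nb [nat_lit 3, nat_lit 4, nat_lit 8, nat_lit 16, nat_lit 32, nat_lit 64, nat_lit 128] .lb)
    (.sp (nat_lit 15) [nat_lit 544] (.nb [nat_lit 3, nat_lit 5, nat_lit 9, nat_lit 16, nat_lit 32, nat_lit 64, nat_lit 128] .lb)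
    (.sp (nat_lit 64) [nat_lit 544] (.pr (nat_lit 64) .lb)
    (.sp (nat_lit 67) [nat_lit 544] (.pr (nat_lit 67) .lb)
    (.sp (nat_lit 76) [nat_lit 544] (.pr (nat_lit 76) .lb)
    (.sp (nat_lit 79) [nat_lit 544] (.pr (nat_lit 79) .lb)
    (.sp (nat_lit 80) [nat_lit 544] (.pr (nat_lit 80) .lb)
    (.sp (nat_lit 83) [nat_lit 544] (.pr (nat_lit 83) .lb)
    (.sp (nat_lit 48) [nat_lit 544] (.pr (nat_lit 48) .lb)
    (.sp (nat_lit 51) [nat_lit 544] (.pr (nat_lit 51) .lb)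
    (.sp (nat_lit 60) [nat_lit 544] (.pr (nat_lit 60) .lb)
    (.sp (nat_lit 63) [nat_lit 544] (.pr (nat_lit 63) .lb)
    (.sp (nat_lit 92) [nat_lit 544] (.pr (nat_lit 92) .lb)
    (.sp (nat_lit 95) [nat_lit 544] (.pr (nat_lit 95) .lb)
    (.sp (nat_lit 96) [nat_lit 544] (.pr (nat_lit 96) .lb)
    (.sp (nat_lit 99) [nat_lit 544] (.pr (nat_lit 99) .lb)
    .lb))))))))))))))))))))),
  (nat_lit 336, (.cm (nat_lit 336) (.pr (nat_lit 336) (.nb [nat_lit 3, nat_lit 12, nat_lit 16, nat_lit 32, nat_lit 64, nat_lit 128] (.sp (nat_lit 3) [nat_lit 672] (.nb [nat_lit 1, nat_lit 2, nat_lit 12, nat_lit 16, nat_lit 32, nat_lit 64, nat_lit 128] .lb)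
    (.sp (nat_lit 12) [nat_lit 672] (.nb [nat_lit 3, nat_lit 4, nat_lit 8, nat_lit 16, nat_lit 32, nat_lit 64, nat_lit 128] .lb)
    (.sp (nat_lit 15) [nat_lit 672] (.nb [nat_lit 3, nat_lit 5, nat_lit 9, nat_lit 16, nat_lit 32, nat_lit 64, nat_lit 128] .lb)
    (.sp (nat_lit 16) [nat_lit 672] (.pr (nat_lit 16) .lb)
    (.sp (nat_lit 19) [nat_lit 672] (.pr (nat_lit 19) .lb)
    (.sp (nat_lit 28) [nat_lit 672] (.pr (nat_lit 28) .lb)
    (.sp (nat_lit 31) [nat_lit 672] (.pr (nat_lit 31) .lb)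
    (.sp (nat_lit 32) [nat_lit 672] (.pr (nat_lit 32) .lb)
    (.sp (nat_lit 35) [nat_lit 672] (.pr (nat_lit 35) .lb)
    (.sp (nat_lit 44) [nat_lit 672] (.pr (nat_lit 44) .lb)
    (.sp (nat_lit 47) [nat_lit 672] (.pr (nat_lit 47) .lb)
    (.sp (nat_lit 64) [nat_lit 672] (.pr (nat_lit 64) .lb)
    (.sp (nat_lit 67) [nat_lit 672] (.pr (nat_lit 67) .lb)
    (.sp (nat_lit 48) [nat_lit 672] (.pr (nat_lit 48) .lb)
    (.sp (nat_lit 51) [nat_lit 672] (.pr (nat_lit 51) .lb)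
    (.sp (nat_lit 60) [nat_lit 672] (.pr (nat_lit 60) .lb)
    (.sp (nat_lit 63) [nat_lit 672] (.pr (nat_lit 63) .lb)
    .lb))))))))))))))))))))),
  (nat_lit 368, (.cm (nat_lit 368) (.pr (nat_lit 368) (.nb [nat_lit 3, nat_lit 12, nat_lit 16, nat_lit 32, nat_lit 64, nat_lit 128] (.sp (nat_lit 3) [nat_lit 736] (.nb [nat_lit 1, nat_lit 2, nat_lit 12, nat_lit 16, nat_lit 32, nat_lit 64, nat_lit 128] .lb)
    (.sp (nat_lit 12) [nat_lit 736] (.nb [nat_lit 3, nat_lit 4, nat_lit 8, nat_lit 16, nat_lit 32, nat_lit 64, nat_lit 128] .lb)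
    (.sp (nat_lit 15) [nat_lit 736] (.nb [nat_lit 3, nat_lit 5, nat_lit 9, nat_lit 16, nat_lit 32, nat_lit 64, nat_lit 128] .lb)
    (.sp (nat_lit 16) [nat_lit 736] (.pr (nat_lit 16) .lb)
    (.sp (nat_lit 19) [nat_lit 736] (.pr (nat_lit 19) .lb)
    (.sp (nat_lit 28) [nat_lit 736] (.pr (nat_lit 28) .lb)
    (.sp (nat_lit 31) [nat_lit 736] (.pr (nat_lit 31) .lb)
    (.sp (nat_lit 32) [nat_lit 736] (.pr (nat_lit 32) .lb)
    (.sp (nat_lit 35) [nat_lit 736] (.pr (nat_lit 35) .lb)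
    (.sp (nat_lit 44) [nat_lit 736] (.pr (nat_lit 44) .lb)
    (.sp (nat_lit 47) [nat_lit 736] (.pr (nat_lit 47) .lb)
    (.sp (nat_lit 80) [nat_lit 736] (.pr (nat_lit 80) .lb)
    (.sp (nat_lit 83) [nat_lit 736] (.pr (nat_lit 83) .lb)
    (.sp (nat_lit 48) [nat_lit 736] (.pr (nat_lit 48) .lb)
    (.sp (nat_lit 51) [nat_lit 736] (.pr (nat_lit 51) .lb)
    (.sp (nat_lit 60) [nat_lit 736] (.pr (nat_lit 60) .lb)
    (.sp (nat_lit 63) [nat_lit 736] (.pr (nat_lit 63) .lb)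
    .lb))))))))))))))))))))),
  (nat_lit 513, (.cm (nat_lit 513) (.pr (nat_lit 513) (.nb [nat_lit 1, nat_lit 2, nat_lit 12, nat_lit 48, nat_lit 64, nat_lit 128] (.sp (nat_lit 12) [nat_lit 1026] (.nb [nat_lit 1, nat_lit 2, nat_lit 4, nat_lit 8, nat_lit 48, nat_lit 64, nat_lit 128] .lb)
    (.sp (nat_lit 48) [nat_lit 1026] (.nb [nat_lit 1, nat_lit 2, nat_lit 12, nat_lit 16, nat_lit 32, nat_lit 64, nat_lit 128] .lb)
    (.sp (nat_lit 60) [nat_lit 1026] (.nb [nat_lit 1, nat_lit 2, nat_lit 12, nat_lit 20, nat_lit 36, nat_lit 64, nat_lit 128] .lb)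
    (.sp (nat_lit 64) [nat_lit 1026] (.pr (nat_lit 64) .lb)
    (.sp (nat_lit 65) [nat_lit 1026] (.pr (nat_lit 65) .lb)
    (.sp (nat_lit 66) [nat_lit 1026] (.pr (nat_lit 66) .lb)
    (.sp (nat_lit 67) [nat_lit 1026] (.pr (nat_lit 67) .lb)
    (.sp (nat_lit 76) [nat_lit 1026] (.pr (nat_lit 76) .lb)
    (.sp (nat_lit 77) [nat_lit 1026] (.pr (nat_lit 77) .lb)
    (.sp (nat_lit 51) [nat_lit 1026] (.pr (nat_lit 51) .lb)
    (.sp (nat_lit 63) [nat_lit 1026] (.pr (nat_lit 63) .lb)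
    (.sp (nat_lit 78) [nat_lit 1026] (.pr (nat_lit 78) .lb)
    (.sp (nat_lit 79) [nat_lit 1026] (.pr (nat_lit 79) .lb)
    (.sp (nat_lit 112) [nat_lit 1026] (.pr (nat_lit 112) .lb)
    (.sp (nat_lit 113) [nat_lit 1026] (.pr (nat_lit 113) .lb)
    (.sp (nat_lit 3) [nat_lit 1026] (.pr (nat_lit 3) .lb)
    (.sp (nat_lit 15) [nat_lit 1026] (.pr (nat_lit 15) .lb)
    .lb))))))))))))))))))))),
  (nat_lit 577, (.cm (nat_lit 577) (.pr (nat_lit 577) (.nb [nat_lit 1, nat_lit 2, nat_lit 12, nat_lit 48, nat_lit 64, nat_lit 128] (.sp (nat_lit 12) [nat_lit 1154] (.nb [nat_lit 1, nat_lit 2, nat_lit 4, nat_lit 8, nat_lit 48, nat_lit 64, nat_lit 128] .lb)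
    (.sp (nat_lit 1) [nat_lit 1154] (.pr (nat_lit 1) .lb)
    (.sp (nat_lit 2) [nat_lit 1154] (.pr (nat_lit 2) .lb)
    (.sp (nat_lit 13) [nat_lit 1154] (.pr (nat_lit 13) .lb)
    (.sp (nat_lit 14) [nat_lit 1154] (.pr (nat_lit 14) .lb)
    (.sp (nat_lit 48) [nat_lit 1154] (.nb [nat_lit 1, nat_lit 2, nat_lit 12, nat_lit 16, nat_lit 32, nat_lit 64, nat_lit 128] .lb)
    (.sp (nat_lit 49) [nat_lit 1154] (.pr (nat_lit 49) .lb)
    (.sp (nat_lit 50) [nat_lit 1154] (.pr (nat_lit 50) .lb)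
    (.sp (nat_lit 60) [nat_lit 1154] (.nb [nat_lit 1, nat_lit 2, nat_lit 12, nat_lit 20, nat_lit 36, nat_lit 64, nat_lit 128] .lb)
    (.sp (nat_lit 61) [nat_lit 1154] (.pr (nat_lit 61) .lb)
    (.sp (nat_lit 62) [nat_lit 1154] (.pr (nat_lit 62) .lb)
    (.sp (nat_lit 64) [nat_lit 1154] (.pr (nat_lit 64) .lb)
    (.sp (nat_lit 67) [nat_lit 1154] (.pr (nat_lit 67) .lb)
    (.sp (nat_lit 15) [nat_lit 1154] (.pr (nat_lit 15) .lb)
    (.sp (nat_lit 51) [nat_lit 1154] (.pr (nat_lit 51) .lb)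
    (.sp (nat_lit 63) [nat_lit 1154] (.pr (nat_lit 63) .lb)
    (.sp (nat_lit 76) [nat_lit 1154] (.pr (nat_lit 76) .lb)
    .lb))))))))))))))))))))),
  (nat_lit 579, (.cm (nat_lit 579) (.pr (nat_lit 579) (.nb [nat_lit 1, nat_lit 2, nat_lit 12, nat_lit 48, nat_lit 64, nat_lit 128] (.sp (nat_lit 12) [nat_lit 1158] (.nb [nat_lit 1, nat_lit 2, nat_lit 4, nat_lit 8, nat_lit 48, nat_lit 64, nat_lit 128] .lb)
    (.sp (nat_lit 1) [nat_lit 1158] (.pr (nat_lit 1) .lb)
    (.sp (nat_lit 2) [nat_lit 1158] (.pr (nat_lit 2) .lb)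
    (.sp (nat_lit 13) [nat_lit 1158] (.pr (nat_lit 13) .lb)
    (.sp (nat_lit 14) [nat_lit 1158] (.pr (nat_lit 14) .lb)
    (.sp (nat_lit 48) [nat_lit 1158] (.nb [nat_lit 1, nat_lit 2, nat_lit 12, nat_lit 16, nat_lit 32, nat_lit 64, nat_lit 128] .lb)
    (.sp (nat_lit 49) [nat_lit 1158] (.pr (nat_lit 49) .lb)
    (.sp (nat_lit 50) [nat_lit 1158] (.pr (nat_lit 50) .lb)
    (.sp (nat_lit 60) [nat_lit 1158] (.nb [nat_lit 1, nat_lit 2, nat_lit 12, nat_lit 20, nat_lit 36, nat_lit 64, nat_lit 128] .lb)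
    (.sp (nat_lit 61) [nat_lit 1158] (.pr (nat_lit 61) .lb)
    (.sp (nat_lit 62) [nat_lit 1158] (.pr (nat_lit 62) .lb)
    (.sp (nat_lit 65) [nat_lit 1158] (.pr (nat_lit 65) .lb)
    (.sp (nat_lit 66) [nat_lit 1158] (.pr (nat_lit 66) .lb)
    (.sp (nat_lit 15) [nat_lit 1158] (.pr (nat_lit 15) .lb)
    (.sp (nat_lit 51) [nat_lit 1158] (.pr (nat_lit 51) .lb)
    (.sp (nat_lit 63) [nat_lit 1158] (.pr (nat_lit 63) .lb)
    (.sp (nat_lit 77) [nat_lit 1158] (.pr (nat_lit 77) .lb)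
    .lb))))))))))))))))))))),
  (nat_lit 2048, (.lc (nat_lit 2048))),
  (nat_lit 2049, (.lc (nat_lit 2049))),
  (nat_lit 2051, (.lc (nat_lit 2051))),
  (nat_lit 2053, (.lc (nat_lit 2053))),
  (nat_lit 2054, (.lc (nat_lit 2054))),
  (nat_lit 2055, (.lc (nat_lit 2055))),
  (nat_lit 2063, (.lc (nat_lit 2063))),
  (nat_lit 2304, (.lc (nat_lit 2304))),
  (nat_lit 6144, (.lc (nat_lit 6144))),
  (nat_lit 6400, (.lc (nat_lit 6400))),
  (nat_lit 8192, (.lc (nat_lit 8192))),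
  (nat_lit 8960, (.lc (nat_lit 8960)))]

/-- The scripts. -/
def tb1 : List (ℕ × Tr) := [
  (nat_lit 272, (.nb [nat_lit 3, nat_lit 12, nat_lit 16, nat_lit 32, nat_lit 64, nat_lit 128] (.cm (nat_lit 272) (.pr (nat_lit 272) (.cc (nat_lit 1024) (.sp (nat_lit 15) [nat_lit 544] (.la (nat_lit 5))
    (.cc (nat_lit 4096) .lb))))))),
  (nat_lit 336, (.nb [nat_lit 3, nat_lit 12, nat_lit 16, nat_lit 32, nat_lit 64, nat_lit 128] (.cm (nat_lit 336) (.pr (nat_lit 336) (.cc (nat_lit 16) (.cc (nat_lit 2048) (.sp (nat_lit 3) [nat_lit 672, nat_lit 8193] (.ad (nat_lit 4096) (nat_lit 3) (.cm (nat_lit 3) .lb))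
    .lb))))))),
  (nat_lit 368, (.nb [nat_lit 3, nat_lit 12, nat_lit 16, nat_lit 32, nat_lit 64, nat_lit 128] (.cm (nat_lit 368) (.pr (nat_lit 368) (.cc (nat_lit 512) (.sp (nat_lit 15) [nat_lit 736] (.la (nat_lit 5))
    (.cc (nat_lit 4096) .lb))))))),
  (nat_lit 513, (.nb [nat_lit 1, nat_lit 2, nat_lit 12, nat_lit 48, nat_lit 64, nat_lit 128] (.cm (nat_lit 513) (.pr (nat_lit 513) (.sp (nat_lit 3) [nat_lit 1026] (.la (nat_lit 256))
    (.sp (nat_lit 64) [nat_lit 1026, nat_lit 2049] (.ad (nat_lit 1024) (nat_lit 64) (.pr (nat_lit 64) .lb))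
    (.sp (nat_lit 65) [nat_lit 1026, nat_lit 2049] (.ad (nat_lit 1024) (nat_lit 65) (.pr (nat_lit 65) .lb))
    (.sp (nat_lit 66) [nat_lit 1026, nat_lit 2049] (.ad (nat_lit 1024) (nat_lit 66) (.pr (nat_lit 66) .lb))
    (.sp (nat_lit 67) [nat_lit 1026, nat_lit 2049] (.ad (nat_lit 1024) (nat_lit 67) (.pr (nat_lit 67) .lb))
    (.sp (nat_lit 76) [nat_lit 1026, nat_lit 2049] (.ad (nat_lit 1024) (nat_lit 76) (.pr (nat_lit 76) .lb))
    (.sp (nat_lit 77) [nat_lit 1026, nat_lit 2049] (.ad (nat_lit 1024) (nat_lit 77) (.pr (nat_lit 77) .lb))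
    (.sp (nat_lit 78) [nat_lit 1026, nat_lit 2049] (.ad (nat_lit 1024) (nat_lit 78) (.pr (nat_lit 78) .lb))
    (.sp (nat_lit 79) [nat_lit 1026, nat_lit 2049] (.ad (nat_lit 1024) (nat_lit 79) (.pr (nat_lit 79) .lb))
    .lb))))))))))))),
  (nat_lit 577, (.nb [nat_lit 1, nat_lit 2, nat_lit 12, nat_lit 48, nat_lit 64, nat_lit 128] (.cm (nat_lit 577) (.pr (nat_lit 577) (.cc (nat_lit 1) (.cc (nat_lit 14336) .lb)))))),
  (nat_lit 579, (.nb [nat_lit 1, nat_lit 2, nat_lit 12, nat_lit 48, nat_lit 64, nat_lit 128] (.cm (nat_lit 579) (.pr (nat_lit 579) (.sp (nat_lit 12) [nat_lit 1158] (.la (nat_lit 4))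
    (.sp (nat_lit 1) [nat_lit 1158, nat_lit 513] (.ad (nat_lit 256) (nat_lit 1) (.pr (nat_lit 1) .lb))
    (.sp (nat_lit 13) [nat_lit 1158, nat_lit 513] (.ad (nat_lit 256) (nat_lit 13) (.pr (nat_lit 13) .lb))
    (.sp (nat_lit 49) [nat_lit 1158, nat_lit 513] (.ad (nat_lit 256) (nat_lit 49) (.pr (nat_lit 49) .lb))
    (.sp (nat_lit 61) [nat_lit 1158, nat_lit 513] (.ad (nat_lit 256) (nat_lit 61) (.pr (nat_lit 61) .lb))
    (.sp (nat_lit 65) [nat_lit 1158, nat_lit 513] (.ad (nat_lit 256) (nat_lit 65) (.pr (nat_lit 65) .lb))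
    (.sp (nat_lit 77) [nat_lit 1158, nat_lit 513] (.ad (nat_lit 256) (nat_lit 77) (.pr (nat_lit 77) .lb))
    (.sp (nat_lit 113) [nat_lit 1158, nat_lit 513] (.ad (nat_lit 256) (nat_lit 113) (.pr (nat_lit 113) .lb))
    (.sp (nat_lit 125) [nat_lit 1158, nat_lit 513] (.ad (nat_lit 256) (nat_lit 125) (.pr (nat_lit 125) .lb))
    .lb))))))))))))),
  (nat_lit 2048, (.nb [nat_lit 1, nat_lit 2, nat_lit 4, nat_lit 8, nat_lit 80, nat_lit 160] (.cm (nat_lit 2048) (.pr (nat_lit 2048) (.sp (nat_lit 240) [nat_lit 4096] (.la (nat_lit 48))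
    (.cc (nat_lit 80) (.cc (nat_lit 1536) (.sp (nat_lit 3) [nat_lit 4096, nat_lit 8193] (.ad (nat_lit 4096) (nat_lit 3) (.cm (nat_lit 3) .lb))
    (.cc (nat_lit 256) .lb))))))))),
  (nat_lit 2049, (.nb [nat_lit 1, nat_lit 2, nat_lit 4, nat_lit 8, nat_lit 80, nat_lit 160] (.cm (nat_lit 2049) (.pr (nat_lit 2049) (.sp (nat_lit 240) [nat_lit 4098] (.la (nat_lit 48))
    (.cc (nat_lit 80) (.cc (nat_lit 1536) .lb))))))),
  (nat_lit 2051, (.nb [nat_lit 1, nat_lit 2, nat_lit 4, nat_lit 8, nat_lit 80, nat_lit 160] (.cm (nat_lit 2051) (.pr (nat_lit 2051) (.sp (nat_lit 240) [nat_lit 4102] (.la (nat_lit 48))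
    (.cc (nat_lit 80) (.cc (nat_lit 1536) .lb))))))),
  (nat_lit 2053, (.nb [nat_lit 1, nat_lit 2, nat_lit 4, nat_lit 8, nat_lit 80, nat_lit 160] (.cm (nat_lit 2053) (.pr (nat_lit 2053) (.sp (nat_lit 240) [nat_lit 4106] (.la (nat_lit 48))
    (.cc (nat_lit 80) (.cc (nat_lit 1536) (.sp (nat_lit 4096) [nat_lit 4106, nat_lit 3, nat_lit 5] (.ad (nat_lit 1) (nat_lit 4096) (.ad (nat_lit 2) (nat_lit 4096) (.cm (nat_lit 4096) .lb)))
    (.sp (nat_lit 4336) [nat_lit 4106, nat_lit 3, nat_lit 5] (.ad (nat_lit 1) (nat_lit 4336) (.ad (nat_lit 2) (nat_lit 4336) (.cm (nat_lit 4336) .lb)))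
    .lb))))))))),
  (nat_lit 2054, (.nb [nat_lit 1, nat_lit 2, nat_lit 4, nat_lit 8, nat_lit 80, nat_lit 160] (.cm (nat_lit 2054) (.pr (nat_lit 2054) (.sp (nat_lit 240) [nat_lit 4108] (.la (nat_lit 48))
    (.cc (nat_lit 80) (.cc (nat_lit 1536) (.sp (nat_lit 4352) [nat_lit 4108, nat_lit 3, nat_lit 5] (.ad (nat_lit 1) (nat_lit 4352) (.ad (nat_lit 2) (nat_lit 4352) (.cm (nat_lit 4352) .lb)))
    (.sp (nat_lit 4592) [nat_lit 4108, nat_lit 3, nat_lit 5] (.ad (nat_lit 1) (nat_lit 4592) (.ad (nat_lit 2) (nat_lit 4592) (.cm (nat_lit 4592) .lb)))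
    .lb))))))))),
  (nat_lit 2055, (.nb [nat_lit 1, nat_lit 2, nat_lit 4, nat_lit 8, nat_lit 80, nat_lit 160] (.cm (nat_lit 2055) (.pr (nat_lit 2055) (.sp (nat_lit 240) [nat_lit 4110] (.la (nat_lit 48))
    (.cc (nat_lit 80) (.cc (nat_lit 1536) .lb))))))),
  (nat_lit 2063, (.nb [nat_lit 1, nat_lit 2, nat_lit 4, nat_lit 8, nat_lit 80, nat_lit 160] (.cm (nat_lit 2063) (.pr (nat_lit 2063) (.sp (nat_lit 240) [nat_lit 4126] (.la (nat_lit 48))
    (.cc (nat_lit 80) (.cc (nat_lit 1536) (.sp (nat_lit 3) [nat_lit 4126, nat_lit 8193] (.ad (nat_lit 4096) (nat_lit 3) (.cm (nat_lit 3) .lb))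
    (.cc (nat_lit 256) .lb))))))))),
  (nat_lit 2304, (.nb [nat_lit 3, nat_lit 12, nat_lit 80, nat_lit 160] (.cm (nat_lit 2304) (.pr (nat_lit 2304) (.sp (nat_lit 15) [nat_lit 4608] (.la (nat_lit 5))
    (.cc (nat_lit 3) (.cc (nat_lit 4096) (.sp (nat_lit 240) [nat_lit 4608] (.pr (nat_lit 240) (.la (nat_lit 48)))
    (.cc (nat_lit 1536) .lb))))))))),
  (nat_lit 6144, (.nb [nat_lit 5, nat_lit 10, nat_lit 80, nat_lit 160] (.cm (nat_lit 6144) (.pr (nat_lit 6144) (.cc (nat_lit 8192) (.cc (nat_lit 256) (.sp (nat_lit 15) [nat_lit 12288, nat_lit 16385] (.ad (nat_lit 8192) (nat_lit 15) (.la (nat_lit 51)))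
    (.cc (nat_lit 5) (.cc (nat_lit 256) (.cc (nat_lit 1536) .lb)))))))))),
  (nat_lit 6400, (.nb [nat_lit 6, nat_lit 9, nat_lit 80, nat_lit 160] (.cm (nat_lit 6400) (.pr (nat_lit 6400) (.cc (nat_lit 8704) (.sp (nat_lit 15) [nat_lit 12800, nat_lit 17409] (.ad (nat_lit 8704) (nat_lit 15) (.la (nat_lit 51)))
    (.cc (nat_lit 6) (.cc (nat_lit 256) (.cc (nat_lit 1536) .lb))))))))),
  (nat_lit 8192, (.nb [nat_lit 17, nat_lit 34, nat_lit 68, nat_lit 136] (.cm (nat_lit 8192) (.pr (nat_lit 8192) (.cc (nat_lit 768) (.cc (nat_lit 6144) (.sp (nat_lit 51) [nat_lit 16384, nat_lit 12289] (.ad (nat_lit 6144) (nat_lit 51) (.la (nat_lit 15)))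
    (.cc (nat_lit 768) .lb)))))))),
  (nat_lit 8960, (.nb [nat_lit 18, nat_lit 33, nat_lit 68, nat_lit 136] (.cm (nat_lit 8960) (.pr (nat_lit 8960) (.cc (nat_lit 768) (.cc (nat_lit 6400) (.sp (nat_lit 51) [nat_lit 17920, nat_lit 12801] (.ad (nat_lit 6400) (nat_lit 51) (.la (nat_lit 15)))
    (.cc (nat_lit 768) .lb))))))))]

/-- The scripts. -/
def tb2 : List (ℕ × Tr) := [
  (nat_lit 272, (.nb [nat_lit 3, nat_lit 12, nat_lit 16, nat_lit 32, nat_lit 64, nat_lit 128] (.cm (nat_lit 272) (.pr (nat_lit 272) (.cc (nat_lit 1024) (.sp (nat_lit 15) [nat_lit 510, nat_lit 544] (.la (nat_lit 5))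
    (.cc (nat_lit 4096) .lb))))))),
  (nat_lit 336, (.nb [nat_lit 3, nat_lit 12, nat_lit 16, nat_lit 32, nat_lit 64, nat_lit 128] (.cm (nat_lit 336) (.pr (nat_lit 336) (.cc (nat_lit 16) (.cc (nat_lit 2048) (.sp (nat_lit 3) [nat_lit 510, nat_lit 672, nat_lit 8193] (.ad (nat_lit 4096) (nat_lit 3) (.cm (nat_lit 3) .lb))
    .lb))))))),
  (nat_lit 368, (.nb [nat_lit 3, nat_lit 12, nat_lit 16, nat_lit 32, nat_lit 64, nat_lit 128] (.cm (nat_lit 368) (.pr (nat_lit 368) (.cc (nat_lit 512) (.sp (nat_lit 15) [nat_lit 510, nat_lit 736] (.la (nat_lit 5))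
    (.cc (nat_lit 4096) .lb))))))),
  (nat_lit 513, (.nb [nat_lit 1, nat_lit 2, nat_lit 12, nat_lit 48, nat_lit 64, nat_lit 128] (.cm (nat_lit 513) (.pr (nat_lit 513) (.sp (nat_lit 64) [nat_lit 510, nat_lit 1026, nat_lit 2049] (.ad (nat_lit 1024) (nat_lit 64) (.pr (nat_lit 64) (.la (nat_lit 276))))
    (.sp (nat_lit 67) [nat_lit 510, nat_lit 1026, nat_lit 2049] (.ad (nat_lit 1024) (nat_lit 67) (.pr (nat_lit 67) .lb))
    (.sp (nat_lit 76) [nat_lit 510, nat_lit 1026, nat_lit 2049] (.ad (nat_lit 1024) (nat_lit 76) (.pr (nat_lit 76) .lb))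
    (.sp (nat_lit 79) [nat_lit 510, nat_lit 1026, nat_lit 2049] (.ad (nat_lit 1024) (nat_lit 79) (.pr (nat_lit 79) .lb))
    (.sp (nat_lit 3) [nat_lit 510, nat_lit 1026] (.la (nat_lit 256))
    .lb))))))))),
  (nat_lit 577, (.nb [nat_lit 1, nat_lit 2, nat_lit 12, nat_lit 48, nat_lit 64, nat_lit 128] (.cm (nat_lit 577) (.pr (nat_lit 577) (.cc (nat_lit 1) (.cc (nat_lit 14336) .lb)))))),
  (nat_lit 579, (.nb [nat_lit 1, nat_lit 2, nat_lit 12, nat_lit 48, nat_lit 64, nat_lit 128] (.cm (nat_lit 579) (.pr (nat_lit 579) (.sp (nat_lit 1) [nat_lit 510, nat_lit 1158, nat_lit 513] (.ad (nat_lit 256) (nat_lit 1) (.pr (nat_lit 1) (.la (nat_lit 1044))))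
    (.sp (nat_lit 13) [nat_lit 510, nat_lit 1158, nat_lit 513] (.ad (nat_lit 256) (nat_lit 13) (.pr (nat_lit 13) .lb))
    (.sp (nat_lit 49) [nat_lit 510, nat_lit 1158, nat_lit 513] (.ad (nat_lit 256) (nat_lit 49) (.pr (nat_lit 49) .lb))
    (.sp (nat_lit 61) [nat_lit 510, nat_lit 1158, nat_lit 513] (.ad (nat_lit 256) (nat_lit 61) (.pr (nat_lit 61) .lb))
    (.sp (nat_lit 12) [nat_lit 510, nat_lit 1158] (.la (nat_lit 4))
    .lb))))))))),
  (nat_lit 2048, (.nb [nat_lit 1, nat_lit 2, nat_lit 4, nat_lit 8, nat_lit 80, nat_lit 160] (.cm (nat_lit 2048) (.pr (nat_lit 2048) (.sp (nat_lit 15) [nat_lit 510, nat_lit 4096] (.la (nat_lit 48))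
    (.cc (nat_lit 83) (.cc (nat_lit 3) (.cc (nat_lit 5) (.cc (nat_lit 1536) .lb))))))))),
  (nat_lit 2049, (.nb [nat_lit 1, nat_lit 2, nat_lit 4, nat_lit 8, nat_lit 80, nat_lit 160] (.cm (nat_lit 2049) (.pr (nat_lit 2049) (.sp (nat_lit 15) [nat_lit 510, nat_lit 4098] (.la (nat_lit 48))
    (.cc (nat_lit 80) (.cc (nat_lit 1536) .lb))))))),
  (nat_lit 2051, (.nb [nat_lit 1, nat_lit 2, nat_lit 4, nat_lit 8, nat_lit 80, nat_lit 160] (.cm (nat_lit 2051) (.pr (nat_lit 2051) (.sp (nat_lit 15) [nat_lit 510, nat_lit 4102] (.la (nat_lit 48))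
    (.cc (nat_lit 85) (.cc (nat_lit 1536) .lb))))))),
  (nat_lit 2053, (.nb [nat_lit 1, nat_lit 2, nat_lit 4, nat_lit 8, nat_lit 80, nat_lit 160] (.cm (nat_lit 2053) (.pr (nat_lit 2053) (.sp (nat_lit 15) [nat_lit 510, nat_lit 4106] (.la (nat_lit 48))
    (.cc (nat_lit 83) (.cc (nat_lit 3) (.cc (nat_lit 1536) .lb)))))))),
  (nat_lit 2054, (.nb [nat_lit 1, nat_lit 2, nat_lit 4, nat_lit 8, nat_lit 80, nat_lit 160] (.cm (nat_lit 2054) (.pr (nat_lit 2054) (.sp (nat_lit 15) [nat_lit 510, nat_lit 4108] (.la (nat_lit 48))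
    (.cc (nat_lit 83) (.cc (nat_lit 3) (.cc (nat_lit 1536) .lb)))))))),
  (nat_lit 2055, (.nb [nat_lit 1, nat_lit 2, nat_lit 4, nat_lit 8, nat_lit 80, nat_lit 160] (.cm (nat_lit 2055) (.pr (nat_lit 2055) (.sp (nat_lit 15) [nat_lit 510, nat_lit 4110] (.la (nat_lit 48))
    (.cc (nat_lit 80) (.cc (nat_lit 1536) .lb))))))),
  (nat_lit 2063, (.nb [nat_lit 1, nat_lit 2, nat_lit 4, nat_lit 8, nat_lit 80, nat_lit 160] (.cm (nat_lit 2063) (.pr (nat_lit 2063) (.sp (nat_lit 15) [nat_lit 510, nat_lit 4126] (.la (nat_lit 48))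
    (.cc (nat_lit 83) (.cc (nat_lit 3) (.cc (nat_lit 5) (.cc (nat_lit 1536) .lb))))))))),
  (nat_lit 2304, (.nb [nat_lit 3, nat_lit 12, nat_lit 53, nat_lit 80, nat_lit 149] (.cm (nat_lit 2304) (.pr (nat_lit 2304) (.sp (nat_lit 15) [nat_lit 510, nat_lit 4608] (.la (nat_lit 5))
    (.cc (nat_lit 3) (.cc (nat_lit 53) .lb))))))),
  (nat_lit 6144, (.nb [nat_lit 5, nat_lit 10, nat_lit 51, nat_lit 80, nat_lit 147] (.cm (nat_lit 6144) (.pr (nat_lit 6144) (.cc (nat_lit 8192) (.cc (nat_lit 256) (.sp (nat_lit 15) [nat_lit 510, nat_lit 12288] (.la (nat_lit 3))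
    (.cc (nat_lit 51) .lb)))))))),
  (nat_lit 6400, (.nb [nat_lit 6, nat_lit 9, nat_lit 51, nat_lit 80, nat_lit 147] (.cm (nat_lit 6400) (.pr (nat_lit 6400) (.cc (nat_lit 8704) (.sp (nat_lit 15) [nat_lit 510, nat_lit 12800] (.la (nat_lit 3))
    (.cc (nat_lit 51) .lb))))))),
  (nat_lit 8192, (.nb [nat_lit 15, nat_lit 17, nat_lit 34, nat_lit 68, nat_lit 135] (.cm (nat_lit 8192) (.pr (nat_lit 8192) (.cc (nat_lit 768) (.cc (nat_lit 6144) (.sp (nat_lit 17) [nat_lit 510, nat_lit 16384, nat_lit 1537, nat_lit 12289] (.ad (nat_lit 768) (nat_lit 17) (.ad (nat_lit 6144) (nat_lit 17) (.la (nat_lit 3))))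
    .lb))))))),
  (nat_lit 8960, (.nb [nat_lit 15, nat_lit 18, nat_lit 33, nat_lit 68, nat_lit 135] (.cm (nat_lit 8960) (.pr (nat_lit 8960) (.cc (nat_lit 768) (.cc (nat_lit 6400) (.sp (nat_lit 18) [nat_lit 510, nat_lit 17920, nat_lit 1537, nat_lit 12801] (.ad (nat_lit 768) (nat_lit 18) (.ad (nat_lit 6400) (nat_lit 18) (.la (nat_lit 3))))
    .lb)))))))]

/-- The scripts. -/
def tb4 : List (ℕ × Tr) := [
  (nat_lit 272, (.nb [nat_lit 3, nat_lit 5, nat_lit 9, nat_lit 16, nat_lit 32, nat_lit 64, nat_lit 128] (.cm (nat_lit 272) (.pr (nat_lit 272) (.cc (nat_lit 1024) .lb))))),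
  (nat_lit 336, (.nb [nat_lit 3, nat_lit 5, nat_lit 9, nat_lit 16, nat_lit 32, nat_lit 64, nat_lit 128] (.cm (nat_lit 336) (.pr (nat_lit 336) (.cc (nat_lit 16) (.cc (nat_lit 2048) .lb)))))),
  (nat_lit 368, (.nb [nat_lit 3, nat_lit 5, nat_lit 9, nat_lit 16, nat_lit 32, nat_lit 64, nat_lit 128] (.cm (nat_lit 368) (.pr (nat_lit 368) (.cc (nat_lit 512) .lb))))),
  (nat_lit 513, (.nb [nat_lit 1, nat_lit 2, nat_lit 12, nat_lit 48, nat_lit 64, nat_lit 128] (.cm (nat_lit 513) (.pr (nat_lit 513) (.sp (nat_lit 3) [nat_lit 30, nat_lit 480, nat_lit 1026] (.la (nat_lit 4))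
    (.cc (nat_lit 260) .lb)))))),
  (nat_lit 577, (.nb [nat_lit 1, nat_lit 2, nat_lit 12, nat_lit 48, nat_lit 64, nat_lit 128] (.cm (nat_lit 577) (.cm (nat_lit 15) (.pr (nat_lit 577) (.cc (nat_lit 14336) .lb)))))),
  (nat_lit 579, (.nb [nat_lit 1, nat_lit 2, nat_lit 12, nat_lit 48, nat_lit 64, nat_lit 128] (.cm (nat_lit 579) (.pr (nat_lit 579) (.sp (nat_lit 3) [nat_lit 30, nat_lit 480, nat_lit 1158] (.la (nat_lit 4))
    (.cc (nat_lit 256) .lb)))))),
  (nat_lit 2048, (.nb [nat_lit 1, nat_lit 2, nat_lit 4, nat_lit 8, nat_lit 48, nat_lit 80, nat_lit 144] (.cm (nat_lit 2048) (.pr (nat_lit 2048) (.sp (nat_lit 1537) [nat_lit 30, nat_lit 480, nat_lit 4096, nat_lit 513, nat_lit 8193] (.ad (nat_lit 256) (nat_lit 1537) (.ad (nat_lit 4096) (nat_lit 1537) (.cm (nat_lit 1537) .lb)))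
    (.sp (nat_lit 336) [nat_lit 30, nat_lit 480, nat_lit 4096, nat_lit 3] (.ad (nat_lit 1) (nat_lit 336) (.cm (nat_lit 336) .lb))
    (.sp (nat_lit 4096) [nat_lit 30, nat_lit 480, nat_lit 4096, nat_lit 3] (.ad (nat_lit 1) (nat_lit 4096) (.cm (nat_lit 4096) .lb))
    (.sp (nat_lit 4176) [nat_lit 30, nat_lit 480, nat_lit 4096, nat_lit 3] (.ad (nat_lit 1) (nat_lit 4176) (.cm (nat_lit 4176) .lb))
    (.sp (nat_lit 4352) [nat_lit 30, nat_lit 480, nat_lit 4096, nat_lit 3] (.ad (nat_lit 1) (nat_lit 4352) (.cm (nat_lit 4352) .lb))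
    (.sp (nat_lit 4432) [nat_lit 30, nat_lit 480, nat_lit 4096, nat_lit 3] (.ad (nat_lit 1) (nat_lit 4432) (.cm (nat_lit 4432) .lb))
    (.sp (nat_lit 5632) [nat_lit 30, nat_lit 480, nat_lit 4096, nat_lit 3] (.ad (nat_lit 1) (nat_lit 5632) (.cm (nat_lit 5632) .lb))
    (.sp (nat_lit 5888) [nat_lit 30, nat_lit 480, nat_lit 4096, nat_lit 3] (.ad (nat_lit 1) (nat_lit 5888) (.cm (nat_lit 5888) .lb))
    (.sp (nat_lit 80) [nat_lit 30, nat_lit 480, nat_lit 4096] (.cm (nat_lit 80) (.la (nat_lit 16)))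
    (.sp (nat_lit 1) [nat_lit 30, nat_lit 480, nat_lit 4096, nat_lit 513, nat_lit 8193] (.ad (nat_lit 256) (nat_lit 1) (.ad (nat_lit 4096) (nat_lit 1) (.pr (nat_lit 1) .lb)))
    .lb)))))))))))))),
  (nat_lit 2049, (.nb [nat_lit 1, nat_lit 2, nat_lit 4, nat_lit 8, nat_lit 48, nat_lit 80, nat_lit 144] (.cm (nat_lit 2049) (.pr (nat_lit 2049) (.sp (nat_lit 3) [nat_lit 30, nat_lit 480, nat_lit 4098] (.la (nat_lit 256))
    (.sp (nat_lit 5) [nat_lit 30, nat_lit 480, nat_lit 4098] (.pr (nat_lit 5) (.la (nat_lit 4096)))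
    (.sp (nat_lit 6) [nat_lit 30, nat_lit 480, nat_lit 4098] (.pr (nat_lit 6) (.la (nat_lit 4352)))
    (.sp (nat_lit 1) [nat_lit 30, nat_lit 480, nat_lit 4098] (.pr (nat_lit 1) .lb)
    (.sp (nat_lit 2) [nat_lit 30, nat_lit 480, nat_lit 4098] (.pr (nat_lit 2) .lb)
    (.sp (nat_lit 4) [nat_lit 30, nat_lit 480, nat_lit 4098] (.pr (nat_lit 4) .lb)
    (.sp (nat_lit 7) [nat_lit 30, nat_lit 480, nat_lit 4098] (.pr (nat_lit 7) .lb)
    .lb))))))))))),
  (nat_lit 2051, (.nb [nat_lit 1, nat_lit 2, nat_lit 4, nat_lit 8, nat_lit 48, nat_lit 80, nat_lit 144] (.cm (nat_lit 2051) (.pr (nat_lit 2051) (.sp (nat_lit 1537) [nat_lit 30, nat_lit 480, nat_lit 4102, nat_lit 513, nat_lit 8193] (.ad (nat_lit 256) (nat_lit 1537) (.ad (nat_lit 4096) (nat_lit 1537) (.cm (nat_lit 1537) .lb)))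
    (.sp (nat_lit 336) [nat_lit 30, nat_lit 480, nat_lit 4102, nat_lit 3] (.ad (nat_lit 1) (nat_lit 336) (.cm (nat_lit 336) .lb))
    (.sp (nat_lit 80) [nat_lit 30, nat_lit 480, nat_lit 4102] (.cm (nat_lit 80) (.la (nat_lit 16)))
    (.sp (nat_lit 1) [nat_lit 30, nat_lit 480, nat_lit 4102, nat_lit 513, nat_lit 8193] (.ad (nat_lit 256) (nat_lit 1) (.ad (nat_lit 4096) (nat_lit 1) (.pr (nat_lit 1) .lb)))
    .lb)))))))),
  (nat_lit 2053, (.nb [nat_lit 1, nat_lit 2, nat_lit 4, nat_lit 8, nat_lit 48, nat_lit 80, nat_lit 144] (.cm (nat_lit 2053) (.pr (nat_lit 2053) (.sp (nat_lit 1537) [nat_lit 30, nat_lit 480, nat_lit 4106, nat_lit 513, nat_lit 8193] (.ad (nat_lit 256) (nat_lit 1537) (.ad (nat_lit 4096) (nat_lit 1537) (.cm (nat_lit 1537) .lb)))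
    (.sp (nat_lit 4096) [nat_lit 30, nat_lit 480, nat_lit 4106, nat_lit 3] (.ad (nat_lit 1) (nat_lit 4096) (.cm (nat_lit 4096) .lb))
    (.sp (nat_lit 4176) [nat_lit 30, nat_lit 480, nat_lit 4106, nat_lit 3] (.ad (nat_lit 1) (nat_lit 4176) (.cm (nat_lit 4176) .lb))
    (.sp (nat_lit 5632) [nat_lit 30, nat_lit 480, nat_lit 4106, nat_lit 3] (.ad (nat_lit 1) (nat_lit 5632) (.cm (nat_lit 5632) .lb))
    (.sp (nat_lit 80) [nat_lit 30, nat_lit 480, nat_lit 4106] (.cm (nat_lit 80) (.la (nat_lit 16)))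
    (.sp (nat_lit 1) [nat_lit 30, nat_lit 480, nat_lit 4106, nat_lit 513, nat_lit 8193] (.ad (nat_lit 256) (nat_lit 1) (.ad (nat_lit 4096) (nat_lit 1) (.pr (nat_lit 1) .lb)))
    .lb)))))))))),
  (nat_lit 2054, (.nb [nat_lit 1, nat_lit 2, nat_lit 4, nat_lit 8, nat_lit 48, nat_lit 80, nat_lit 144] (.cm (nat_lit 2054) (.pr (nat_lit 2054) (.sp (nat_lit 1537) [nat_lit 30, nat_lit 480, nat_lit 4108, nat_lit 513, nat_lit 8193] (.ad (nat_lit 256) (nat_lit 1537) (.ad (nat_lit 4096) (nat_lit 1537) (.cm (nat_lit 1537) .lb)))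
    (.sp (nat_lit 4352) [nat_lit 30, nat_lit 480, nat_lit 4108, nat_lit 3] (.ad (nat_lit 1) (nat_lit 4352) (.cm (nat_lit 4352) .lb))
    (.sp (nat_lit 4432) [nat_lit 30, nat_lit 480, nat_lit 4108, nat_lit 3] (.ad (nat_lit 1) (nat_lit 4432) (.cm (nat_lit 4432) .lb))
    (.sp (nat_lit 5888) [nat_lit 30, nat_lit 480, nat_lit 4108, nat_lit 3] (.ad (nat_lit 1) (nat_lit 5888) (.cm (nat_lit 5888) .lb))
    (.sp (nat_lit 80) [nat_lit 30, nat_lit 480, nat_lit 4108] (.cm (nat_lit 80) (.la (nat_lit 16)))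
    (.sp (nat_lit 1) [nat_lit 30, nat_lit 480, nat_lit 4108, nat_lit 513, nat_lit 8193] (.ad (nat_lit 256) (nat_lit 1) (.ad (nat_lit 4096) (nat_lit 1) (.pr (nat_lit 1) .lb)))
    .lb)))))))))),
  (nat_lit 2055, (.nb [nat_lit 1, nat_lit 2, nat_lit 4, nat_lit 8, nat_lit 48, nat_lit 80, nat_lit 144] (.cm (nat_lit 2055) (.pr (nat_lit 2055) (.sp (nat_lit 3) [nat_lit 30, nat_lit 480, nat_lit 4110] (.la (nat_lit 256))
    (.sp (nat_lit 5) [nat_lit 30, nat_lit 480, nat_lit 4110] (.pr (nat_lit 5) (.la (nat_lit 4096)))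
    (.sp (nat_lit 6) [nat_lit 30, nat_lit 480, nat_lit 4110] (.pr (nat_lit 6) (.la (nat_lit 4352)))
    (.sp (nat_lit 1) [nat_lit 30, nat_lit 480, nat_lit 4110] (.pr (nat_lit 1) .lb)
    (.sp (nat_lit 2) [nat_lit 30, nat_lit 480, nat_lit 4110] (.pr (nat_lit 2) .lb)
    (.sp (nat_lit 4) [nat_lit 30, nat_lit 480, nat_lit 4110] (.pr (nat_lit 4) .lb)
    (.sp (nat_lit 7) [nat_lit 30, nat_lit 480, nat_lit 4110] (.pr (nat_lit 7) .lb)
    .lb))))))))))),
  (nat_lit 2063, (.nb [nat_lit 1, nat_lit 2, nat_lit 4, nat_lit 8, nat_lit 48, nat_lit 80, nat_lit 144] (.cm (nat_lit 2048) (.pr (nat_lit 2048) (.sp (nat_lit 1537) [nat_lit 30, nat_lit 480, nat_lit 4096, nat_lit 513, nat_lit 8193] (.ad (nat_lit 256) (nat_lit 1537) (.ad (nat_lit 4096) (nat_lit 1537) (.cm (nat_lit 1537) .lb)))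
    (.sp (nat_lit 336) [nat_lit 30, nat_lit 480, nat_lit 4096, nat_lit 3] (.ad (nat_lit 1) (nat_lit 336) (.cm (nat_lit 336) .lb))
    (.sp (nat_lit 4096) [nat_lit 30, nat_lit 480, nat_lit 4096, nat_lit 3] (.ad (nat_lit 1) (nat_lit 4096) (.cm (nat_lit 4096) .lb))
    (.sp (nat_lit 4176) [nat_lit 30, nat_lit 480, nat_lit 4096, nat_lit 3] (.ad (nat_lit 1) (nat_lit 4176) (.cm (nat_lit 4176) .lb))
    (.sp (nat_lit 4352) [nat_lit 30, nat_lit 480, nat_lit 4096, nat_lit 3] (.ad (nat_lit 1) (nat_lit 4352) (.cm (nat_lit 4352) .lb))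
    (.sp (nat_lit 4432) [nat_lit 30, nat_lit 480, nat_lit 4096, nat_lit 3] (.ad (nat_lit 1) (nat_lit 4432) (.cm (nat_lit 4432) .lb))
    (.sp (nat_lit 5632) [nat_lit 30, nat_lit 480, nat_lit 4096, nat_lit 3] (.ad (nat_lit 1) (nat_lit 5632) (.cm (nat_lit 5632) .lb))
    (.sp (nat_lit 5888) [nat_lit 30, nat_lit 480, nat_lit 4096, nat_lit 3] (.ad (nat_lit 1) (nat_lit 5888) (.cm (nat_lit 5888) .lb))
    (.sp (nat_lit 80) [nat_lit 30, nat_lit 480, nat_lit 4096] (.cm (nat_lit 80) (.la (nat_lit 16)))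
    (.sp (nat_lit 1) [nat_lit 30, nat_lit 480, nat_lit 4096, nat_lit 513, nat_lit 8193] (.ad (nat_lit 256) (nat_lit 1) (.ad (nat_lit 4096) (nat_lit 1) (.pr (nat_lit 1) .lb)))
    .lb)))))))))))))),
  (nat_lit 2304, (.nb [nat_lit 3, nat_lit 5, nat_lit 9, nat_lit 48, nat_lit 80, nat_lit 144] (.cm (nat_lit 2304) (.pr (nat_lit 2304) (.sp (nat_lit 3) [nat_lit 30, nat_lit 480, nat_lit 4608] (.cm (nat_lit 3) .lb)
    (.sp (nat_lit 80) [nat_lit 30, nat_lit 480, nat_lit 4608] (.cm (nat_lit 80) (.pr (nat_lit 80) .lb))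
    (.sp (nat_lit 83) [nat_lit 30, nat_lit 480, nat_lit 4608] (.cm (nat_lit 83) .lb)
    (.sp (nat_lit 336) [nat_lit 30, nat_lit 480, nat_lit 4608] (.cm (nat_lit 336) .lb)
    (.sp (nat_lit 339) [nat_lit 30, nat_lit 480, nat_lit 4608] (.cm (nat_lit 339) .lb)
    .lb))))))))),
  (nat_lit 6144, (.nb [nat_lit 3, nat_lit 5, nat_lit 9, nat_lit 48, nat_lit 80, nat_lit 144] (.cm (nat_lit 6144) (.cm (nat_lit 15) (.pr (nat_lit 6144) (.cc (nat_lit 8192) (.sp (nat_lit 5) [nat_lit 30, nat_lit 480, nat_lit 12288, nat_lit 16385] (.ad (nat_lit 8192) (nat_lit 5) (.cm (nat_lit 5) (.la (nat_lit 17))))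
    .lb))))))),
  (nat_lit 6400, (.nb [nat_lit 3, nat_lit 5, nat_lit 9, nat_lit 48, nat_lit 80, nat_lit 144] (.cm (nat_lit 6400) (.cm (nat_lit 15) (.pr (nat_lit 6400) (.cc (nat_lit 8704) (.sp (nat_lit 6) [nat_lit 30, nat_lit 480, nat_lit 12800, nat_lit 17409] (.ad (nat_lit 8704) (nat_lit 6) (.cm (nat_lit 6) (.la (nat_lit 17))))
    .lb))))))),
  (nat_lit 8192, (.nb [nat_lit 15, nat_lit 17, nat_lit 34, nat_lit 68, nat_lit 135] (.lc (nat_lit 8207)))),
  (nat_lit 8960, (.nb [nat_lit 15, nat_lit 18, nat_lit 33, nat_lit 68, nat_lit 135] (.lc (nat_lit 8975))))]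

theorem chk_I0 : fB (msk id I0) (fun m => allF (fun y => bimp (band (Nat.beq (mu y y) 0)
    (bimp (isE y) (Nat.blt y 256))) (bit m y)) 16384) = true := by decide +kernel

theorem mem_I0 {a : Y} (h : a * a = 1) (hE : a ∈ EY → a ∈ FY) : a.1 ∈ I0 :=
  bit_id.1 (bimp_iff.2 (allF_iff.2 ((fB_eq _ _).symm.trans chk_I0) a.1 a.2) (band_iff.1 ⟨El.eq_iff.1 h,
    bimp_iff.1 fun h' => mem_FY.1 (hE (mem_EY.2 h'))⟩))

theorem chk_J0 : fB (msk (fun e => Nat.land e 16383) J0)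
    (fun m => allL (fun y => bor (Nat.blt y 256) (bit m y)) I0) = true := by decide +kernel

theorem chk_J1 : allL (fun e => band (Nat.blt (Nat.shiftRight e 14) 16384)
    (fB (cnj (Nat.shiftRight e 14) (Nat.land e 16383)) fun z => memL z reps)) J0 = true := by
  decide +kernel

theorem red {t : Y} (h : t.1 ∈ I0) (hF : t ∉ FY) : ∃ g : Y, (g * t * g⁻¹).1 ∈ reps := by
  rcases bor_iff.2 (allL_iff.2 ((fB_eq _ _).symm.trans chk_J0) _ h) with h1 | h1
  · exact absurd (mem_FY.2 h1) hF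
  · obtain ⟨e, he, e1⟩ := bit_msk.1 h1
    obtain ⟨h2, h3⟩ := band_iff.2 (allL_iff.2 chk_J1 e he)
    rw [fB_eq, memL_iff, e1] at h3
    exact ⟨⟨_, blt.1 h2⟩, h3⟩

/-- The common hypotheses. -/
structure H0 (A : Subgroup Y) : Prop where
  sq : ∀ a ∈ A, a * a = 1
  hE : ∀ a ∈ A, a ∈ EY → a ∈ FY
  hc : Nat.card A = Nat.card ↥(FY ⊓ normalizer (A : Set Y))

theorem H0.conj {A : Subgroup Y} (h : H0 A) (g : Y) : H0 (MulAut.conj g • A) where
  sq a ha := by
    have := h.sq _ (mem_conj_smul.1 ha)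
    rw [show a * a = g * (g⁻¹ * a * g * (g⁻¹ * a * g)) * g⁻¹ by group, this]; group
  hE a ha hE := by
    have := h.hE _ (mem_conj_smul.1 ha) (Normal.conj_mem' inferInstance _ hE g)
    simpa [mul_assoc] using Normal.conj_mem inferInstance _ this g
  hc := by
    have : MulAut.conj g • FY = FY :=
      mem_normalizer_iff_conj_smul_eq.1 (le_normalizer_of_normal (mem_top g))
    rw [card_conj_smul, normalizer_conj_smul, h.hc, ← card_conj_smul _ g, smul_inf, this]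

theorem H0.mem {A : Subgroup Y} (h : H0 A) : ∀ a ∈ A, a.1 ∈ I0 := fun a ha =>
  mem_I0 (h.sq a ha) (h.hE a ha)

/-- The check for one representative. -/
noncomputable def run (l : List ℕ) (p : ℕ × Tr) : Bool :=
  mapK (fun x => mu x p.1) l fun K =>
    chk (fun s => band (Nat.blt s 16384) (fB (cmm s p.1) fun z => memL z l))
      (fun s => bnot (fB (cmm s p.1) fun z => memL z l)) p.2 K I0 0

theorem run1 : allL (run [0]) tb1 = true := by decide +kernel
theorem run2 : allL (run [0, 255]) tb2 = true := by decide +kernel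
theorem run4 : allL (run [0, 15, 240, 255]) tb4 = true := by decide +kernel

theorem fc_rep {l : List ℕ} {tb : List (ℕ × Tr)} (hr : allL (run l) tb = true)
    (hb : tb.map Prod.fst = reps) (hl : ∀ k ∈ l, k < 16384) {A : Subgroup Y} {t : Y} (h : H0 A)
    (ht : t ∈ A) (hU : ∀ y : Y, y.1 ∈ l → y ∈ A)
    (hN : ∀ s : Y, s ∈ normalizer (A : Set Y) ↔ (s * t * s⁻¹ * t⁻¹).1 ∈ l) (hm : t.1 ∈ reps) :
    False := by
  obtain ⟨p, hp, e⟩ := List.mem_map.1 (hb ▸ hm)
  have h1 := allL_iff.2 hr p hp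
  rw [run, e] at h1
  obtain ⟨K, h2, h3⟩ := mapK_sound h1 (q := In A) (fun k hk => ⟨⟨k, hl k hk⟩, rfl, hU _ hk⟩)
    fun x hx => hx.mul ⟨t, rfl, ht⟩
  refine sound h.sq (fun s hs => ?_) (fun s hs ⟨g, e, hg⟩ => ?_) h.hc _ K I0 0 h2 h.mem
    (Nat.zero_le _) h3
  · obtain ⟨h4, h5⟩ := band_iff.2 hs
    exact ⟨⟨s, blt.1 h4⟩, rfl, (hN _).2 (memL_iff.1 h5)⟩
  · subst e
    exact bnot_iff.2 hs (memL_iff.2 ((hN g).1 hg))

theorem fc_aux {l : List ℕ} {tb : List (ℕ × Tr)} (hr : allL (run l) tb = true)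
    (hb : tb.map Prod.fst = reps) (hl : ∀ k ∈ l, k < 256 ∧ ∀ u < 64, ac u k ∈ l)
    {A : Subgroup Y} {t : Y} (h : H0 A) (ht : t ∈ A) (htF : t ∉ FY) (hU : ∀ k ∈ l, c k ∈ A)
    (hN : ∀ s : Y, s ∈ normalizer (A : Set Y) ↔ (s * t * s⁻¹ * t⁻¹).1 ∈ l) : False := by
  have linv : ∀ g y : Y, y.1 ∈ l → (g * y * g⁻¹).1 ∈ l := fun g y hy => by
    rw [conj_F g (mem_FY.2 (blt.2 (hl _ hy).1))]
    exact (hl _ hy).2 _ (hi_lt g.2)
  obtain ⟨g, hg⟩ := red (h.mem t ht) htF
  refine fc_rep hr hb (fun k hk => (hl k hk).1.trans (by decide)) (h.conj g)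
    (conj_mem_conj_smul.2 ht) (fun y hy => ?_) (fun s => ?_) hg
  · have h1 := linv g⁻¹ y hy
    rw [inv_inv] at h1
    have h2 := hU _ h1
    rw [show c (g⁻¹ * y * g).1 = g⁻¹ * y * g from El.ext (Nat.mod_eq_of_lt (g⁻¹ * y * g).2)] at h2
    exact mem_conj_smul.2 h2
  · rw [normalizer_conj_smul, mem_conj_smul, hN]
    refine ⟨fun h1 => ?_, fun h1 => ?_⟩
    · have := linv g _ h1
      rwa [show g * (g⁻¹ * s * g * t * (g⁻¹ * s * g)⁻¹ * t⁻¹) * g⁻¹ =
        s * (g * t * g⁻¹) * s⁻¹ * (g * t * g⁻¹)⁻¹ by group] at this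
    · have := linv g⁻¹ _ h1
      rwa [show g⁻¹ * (s * (g * t * g⁻¹) * s⁻¹ * (g * t * g⁻¹)⁻¹) * g⁻¹⁻¹ =
        g⁻¹ * s * g * t * (g⁻¹ * s * g)⁻¹ * t⁻¹ by group] at this

theorem fc {l : List ℕ} (hl : l = [0] ∨ l = [0,255] ∨ l = [0,15,240,255]) {A : Subgroup Y} {t : Y}
    (sq : ∀ a ∈ A, a * a = 1) (ht : t ∈ A) (htF : t ∉ FY) (hU : ∀ k ∈ l, c k ∈ A)
    (hE : ∀ a ∈ A, a ∈ EY → a ∈ FY)
    (hN : ∀ s : Y, s ∈ Subgroup.normalizer (A : Set Y) ↔ (s * t * s⁻¹ * t⁻¹).1 ∈ l)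
    (hc : Nat.card A = Nat.card ↥(FY ⊓ Subgroup.normalizer (A : Set Y))) : False := by
  rcases hl with rfl | rfl | rfl
  · exact fc_aux run1 rfl (by decide +kernel) ⟨sq, hE, hc⟩ ht htF hU hN
  · exact fc_aux run2 rfl (by decide +kernel) ⟨sq, hE, hc⟩ ht htF hU hN
  · exact fc_aux run4 rfl (by decide +kernel) ⟨sq, hE, hc⟩ ht htF hU hN

instance BY_normal : BY.Normal := ⟨fun y hy g => by
  have k : ∀ a < 64, ∀ a' < 64, mt a a' = 0 → ∀ b < 8, mt (mt a b) a' < 8 := by decide +kernel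
  have h1 : y.1 >>> 8 < 8 := by have := blt.1 (mem_BY.1 hy); rw [hi_eq]; omega
  have h2 := k _ (hi_lt g.2) _ (hi_lt g⁻¹.2) (by rw [← hi_mul, mul_inv_cancel]; rfl) _ h1
  rw [← hi_mul, ← hi_mul, hi_eq] at h2
  exact mem_BY.2 (blt.2 (by omega))⟩

/-- The check for one representative in the stabiliser of the blocks. -/
noncomputable def runB (p : ℕ × Tr) : Bool :=
  filtK (fun y => Nat.blt y 2048) I0 fun L => chk (fun _ => false) (fun _ => false) p.2 [0, p.1] L 0

theorem run3 : allL runB tb3 = true := by decide +kernel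

theorem fc3' {A : Subgroup Y} (sq : ∀ a ∈ A, a * a = 1) (hB : A ≤ BY) (hF : ¬ A ≤ FY)
    (hE : ∀ a ∈ A, a ∈ EY → a ∈ FY)
    (hc : Nat.card A = Nat.card ↥(FY ⊓ Subgroup.normalizer (A : Set Y))) : False := by
  have h : H0 A := ⟨sq, hE, hc⟩
  obtain ⟨t, ht, htF⟩ := SetLike.not_le_iff_exists.1 hF
  obtain ⟨g, hg⟩ := red (h.mem t ht) htF
  have h' := h.conj g
  obtain ⟨p, hp, e⟩ := List.mem_map.1 ((show tb3.map Prod.fst = reps from rfl) ▸ hg)
  obtain ⟨L, h2, h3⟩ := filtK_sound (allL_iff.2 run3 p hp)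
  refine sound h'.sq (fun s hs => by cases hs) (fun s hs => by cases hs) h'.hc _ _ L 0
    (fun k hk => ?_) (fun a ha => h2 _ (h'.mem a ha) (mem_BY.1 ?_)) (Nat.zero_le _) h3
  · rcases List.mem_pair.1 hk with rfl | rfl
    · exact ⟨1, rfl, one_mem _⟩
    · exact ⟨_, e.symm, conj_mem_conj_smul.2 ht⟩
  · simpa [mul_assoc] using Normal.conj_mem inferInstance _ (hB (mem_conj_smul.1 ha)) g

theorem fc3 {A : Subgroup Y} (sq : ∀ a ∈ A, a * a = 1) (hB : A ≤ BY) (hF : ¬ A ≤ FY)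
    (hE : ∀ a ∈ A, a ∈ EY → a ∈ FY) (_hN : ¬ FY ≤ Subgroup.normalizer (A : Set Y))
    (hc : Nat.card A = Nat.card ↥(FY ⊓ Subgroup.normalizer (A : Set Y))) : False :=
  fc3' sq hB hF hE hc

end Cfsg.Agent.H59.YaFC
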